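import Cfsg.Agent.H46.SFY0

/-! STD-F4: the models `E₆(F)` and `²E₆(q)` satisfy the relations `TY` (`JobYE`, `JobYT`). -/

set_option autoImplicit false
set_option linter.unusedSectionVars false

open Cfsg Cfsg.Lie H63 H65 H64 H64.SF
open H64.SG (ET)
open H67.SA (cm)
open H63.TG (Rg)
open H68 (rhoE6)

namespace H46.SF

variable (K : Type) [Field K] [CharP K 2]

theorem stE : St chevE6 (xG chevE6 K) := (H64.SG.ad chevE6 K).toStB.toStN.toSt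

/-- the short root elements of `E₆(K)` over `K × K` -/
noncomputable def yP (r : ℕ) (a : K × K) : chevE6.group K :=
  xG chevE6 K (p1 r) a.1 * xG chevE6 K (p2 r) a.2

variable {K}

theorem yP_eq {r : ℕ} (h : S r) (a b : K) :
    yP K r (a, b) = if sw r then yE K r b a else yE K r a b := by
  cases e : sw r
  · simp [yP, p1, p2, e, yE_short h.2]
  · simp [yP, p1, p2, e, yE_short h.2, o_comm h.1]

theorem iE_S {r : ℕ} (h : S r) (c : K) : iE K (x K r c) = yP K r (c, c) := by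
  rw [iE_x h.1, yP_eq h, ite_self]

theorem iE_L {r : ℕ} (h : L r) (c : K) : iE K (x K r c) = xG chevE6 K (o1 r) c := by
  rw [iE_x h.1, yE_long h.2]

theorem pp {r : ℕ} (h : S r) (a b : K) : Commute (xG chevE6 K (p1 r) a) (xG chevE6 K (p2 r) b) :=
  (t_p r h.1 h.2).1.comm (stE K) a b

theorem yP_add {r : ℕ} (h : S r) (a b : K × K) : yP K r a * yP K r b = yP K r (a + b) := by
  simp only [yP, Prod.fst_add, Prod.snd_add, xE_add]
  rw [mul_assoc, mul_assoc, ← mul_assoc (xG chevE6 K (p2 r) a.2), ← (pp h _ _).eq, mul_assoc]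

theorem t_sg : ∀ r < 48, (∀ s ∈ [p1 r, p2 r], chevE6.IsPosRoot s) ∨ ∀ s ∈ [p1 r, p2 r], chevE6.IsNegRoot s := by
  decide +kernel

theorem yP_inj {r : ℕ} (h : S r) {a : K × K} (e : yP K r a = 1) : a = 0 := by
  have h3 := (H68.mat chevE6 K).wd_inj (w := [(p1 r, a.1), (p2 r, a.2)]) (w' := [(p1 r, 0), (p2 r, 0)])
    [p1 r, p2 r] rfl rfl (by simpa using (t_p r h.1 h.2).2.1) (t_sg r h.1) (by
      have : xU chevE6 K (p1 r) a.1 * xU chevE6 K (p2 r) a.2 = 1 := congrArg Subtype.val e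
      simpa using this)
  simp only [List.cons.injEq, Prod.mk.injEq, true_and, and_true] at h3
  exact Prod.ext h3.1 h3.2

theorem gE_yP {r : ℕ} (h : S r) (a : K × K) : gE K (yP K r a) = yP K r a.swap := by
  obtain ⟨⟨h1, h2, -⟩, -, h4, h5⟩ := t_p r h.1 h.2
  rw [yP, map_mul, gE_x h1, gE_x h2, h4, h5, ← (pp h _ _).eq]; rfl

theorem yP_60 {r s : ℕ} (hr : S r) (hs : S s) (h : 0 < ip r s) (a b : K × K) :
    Commute (yP K r a) (yP K s b) := by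
  obtain ⟨h1, h2, h3, h4⟩ := t_60 r hr.1 s hs.1 hr.2 hs.2 h
  exact ((h1.comm (stE K) _ _).mul_right (h2.comm (stE K) _ _)).mul_left
    ((h3.comm (stE K) _ _).mul_right (h4.comm (stE K) _ _))

theorem yP_l0 {r s : ℕ} (hr : S r) (hs : L s) (h : 0 ≤ ip r s) (a : K × K) (c : K) :
    Commute (yP K r a) (xG chevE6 K (o1 s) c) := by
  obtain ⟨h1, h2⟩ := t_l0 r hr.1 s hs.1 hr.2 hs.2 h
  exact (h1.comm (stE K) _ _).mul_left (h2.comm (stE K) _ _)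

theorem yP_120 {r s : ℕ} (hr : S r) (hs : S s) (h : ip r s = -2) (a b : K × K) :
    cm (yP K r a) (yP K s b) = yP K (ad r s) (a * b).swap := by
  obtain ⟨⟨u1, u2, u3, u4⟩, h1, h2, h3, h4⟩ := t_120 r hr.1 s hs.1 hr.2 hs.2 h
  obtain ⟨a1, a2, a3, a4⟩ := t_60 _ u1 r hr.1 u2 hr.2 u3
  obtain ⟨b1, b2, b3, b4⟩ := t_60 _ u1 s hs.1 u2 hs.2 u4
  have E := stE K
  rw [yP, yP, cm22 (h1.comm E _ _) (h2.comm E _ _) (h3.comm E _ _) (h4.comm E _ _) (a3.comm E _ _)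
    (a4.comm E _ _) (b3.comm E _ _) (b4.comm E _ _) (a1.comm E _ _) (a2.comm E _ _) (b1.comm E _ _)
    (b2.comm E _ _), ← (pp ⟨u1, u2⟩ _ _).eq]
  rfl

theorem yP_90 {r s : ℕ} (hr : S r) (hs : S s) (h : ip r s = 0) (a b : K × K) :
    cm (yP K r a) (yP K s b) = xG chevE6 K (o1 (ad r s)) (a.1 * b.2 + a.2 * b.1) := by
  obtain ⟨⟨u1, u2, u3, u4⟩, h1, h2, h3, h4⟩ := t_90 r hr.1 s hs.1 hr.2 hs.2 h
  obtain ⟨a1, a2⟩ := t_l0 r hr.1 _ u1 hr.2 u2 u3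
  obtain ⟨b1, b2⟩ := t_l0 s hs.1 _ u1 hs.2 u2 u4
  have E := stE K
  rw [yP, yP, (pp hs _ _).eq, cm22 (h1.comm E _ _) (h2.comm E _ _) (h3.comm E _ _) (h4.comm E _ _)
    (a1.comm E _ _).symm (a2.comm E _ _).symm (b2.comm E _ _).symm (b1.comm E _ _).symm
    (a1.comm E _ _).symm (a2.comm E _ _).symm (b2.comm E _ _).symm (b1.comm E _ _).symm, xE_add]

theorem yP_l {r l : ℕ} (hr : S r) (hl : L l) (h : ip r l < 0) (a : K × K) (c : K) :
    cm (yP K r a) (xG chevE6 K (o1 l) c) = yP K (ad r l) (a.1 * c, a.2 * c) *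
      xG chevE6 K (o1 (ad r (ad r l))) (c * (a.1 * a.2)) := by
  obtain ⟨⟨u1, u2, u3, u4⟩, h1, h2, h3⟩ := t_l r hr.1 l hl.1 hr.2 hl.2 h
  obtain ⟨⟨v1, v2, v3, -⟩, k1, -, k3, k4⟩ := t_90 r hr.1 _ u1 hr.2 u2 u3
  obtain ⟨a1, -⟩ := t_l0 r hr.1 _ v1 hr.2 v2 v3
  obtain ⟨b1, b2⟩ := t_l0 _ u1 l hl.1 u2 hl.2 u4
  have E := stE K
  rw [yP, cm21 (h1.comm E _ _) (h2.comm E _ _) (k1.comm E _ _) (k3.comm E _ _) (k4.comm E _ _)
    (a1.comm E _ _) (b1.comm E _ _).symm (b2.comm E _ _).symm (h3.comm E _ _), yP]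
  congr 2; ring

theorem iE_nL {s : ℕ} (h : L s) : iE K (n K s) = nn chevE6 (xG chevE6 K) (o1 s) 1 := by
  obtain ⟨h1, h2, h3, -⟩ := t_neg s h.1
  rw [n, nn_eq, nn_eq, map_mul, map_mul, iE_L h, iE_L ⟨h1, h2.trans h.2⟩, h3 h.2]

theorem iE_nS {s : ℕ} (h : S s) : iE K (n K s) =
    nn chevE6 (xG chevE6 K) (p1 s) 1 * nn chevE6 (xG chevE6 K) (p2 s) 1 := by
  obtain ⟨h1, h2, -, h3⟩ := t_neg s h.1
  obtain ⟨h3, h4, h5, h6⟩ := h3 h.2
  have E := stE K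
  have c1 := h5.comm E 1 (-1⁻¹)
  have c2 := h6.comm E 1 (-1⁻¹)
  have c3 := pp (K := K) h 1 1
  have c4 := pp (K := K) ⟨h1, h2.trans h.2⟩ (-1⁻¹) (-1⁻¹)
  rw [h3, h4] at c4
  rw [n, nn_eq, nn_eq, nn_eq, map_mul, map_mul, iE_S h, iE_S ⟨h1, h2.trans h.2⟩, yP, yP, h3, h4, c4.eq]
  generalize xG chevE6 K (p1 s) 1 = a at *
  generalize xG chevE6 K (p2 s) 1 = b at *
  generalize xG chevE6 K (chevE6.neg (p1 s)) (-1⁻¹) = a' at *
  generalize xG chevE6 K (chevE6.neg (p2 s)) (-1⁻¹) = b' at *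
  calc a * b * (a' * b') * (a * b) = a * (b * a') * (b' * a) * b := by group
    _ = a * a' * (b * a) * b' * b := by rw [c2.eq, ← c1.eq]; group
    _ = _ := by rw [← c3.eq]; group

theorem yP_n {r s : ℕ} (hr : S r) (hs : s < 48) (a : K × K) :
    iE K (n K s) * yP K r a * (iE K (n K s))⁻¹ = yP K (rf s r) (if sh s then a.swap else a) := by
  have E := stE K
  cases e : sh s
  · obtain ⟨-, h1, h2⟩ := t_nl r hr.1 s hs hr.2 e
    rw [iE_nL ⟨hs, e⟩, yP, ← conj_mul, h1.conj E, h2.conj E]; rfl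
  · obtain ⟨h0, h1, h2, h3, h4⟩ := t_ns r hr.1 s hs hr.2 e
    have k : ∀ u v g : chevE6.group K, u * v * g * (u * v)⁻¹ = u * (v * g * v⁻¹) * u⁻¹ := fun _ _ _ => by group
    rw [iE_nS ⟨hs, e⟩, yP, ← conj_mul, k, k, h1.conj E, h2.conj E, h3.conj E, h4.conj E, ← (pp h0 _ _).eq]
    rfl

theorem mem_lY {r s : ℕ} (h : s ∈ lY r) : s < 48 ∧ (0 < ip r s ∨ (ip r s = 0 ∧ sh s ≠ sh r)) := by
  simpa [lY] using h

theorem yP_cp {r s : ℕ} (hr : S r) (hs : s ∈ lY r) (a : K × K) (c : K) :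
    yP K r a * iE K (x K s c) = iE K (x K s c) * yP K r a := by
  obtain ⟨h1, h2⟩ := mem_lY hs
  cases e : sh s
  · rw [iE_L ⟨h1, e⟩]; exact yP_l0 hr ⟨h1, e⟩ (by omega) a c
  · rw [iE_S ⟨h1, e⟩]
    exact yP_60 hr ⟨h1, e⟩ (h2.resolve_right fun k => k.2 (e.trans hr.2.symm)) a _

theorem jobYE : JobYE := by
  intro F _ _ _ _
  refine ⟨(1, 0), yP F, ⟨⟨⟨by rw [Nat.card_prod, sq], fun a b e => congrArg Prod.fst e, fun a => rfl,
    fun a => ⟨fun e => ⟨a.1, Prod.ext rfl (congrArg Prod.snd e :)⟩, by rintro ⟨c, rfl⟩; rfl⟩, ?_⟩,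
    fun r h => yP_add h, fun r h a => yP_inj h, fun r h c => (iE_S h c).symm, gE_iE, fun r h => gE_yP h,
    fun r hr s hs => yP_cp hr hs, fun r hr s hs a => by rw [yP_n hr hs, Bool.and_true]; rfl,
    fun r s hr hs h => yP_60 hr hs (by omega), fun r s hr hs h => yP_120 hr hs h,
    fun r s hr hs h a b c e => ?_⟩, fun r l hr hl h a c m e => ?_⟩, sw, fun r h => yP_eq h⟩
  · exact Prod.ext (by simp [CharTwo.add_self_eq_zero]) (by simp)
  · obtain ⟨⟨u1, u2, -⟩, -⟩ := t_90 r hr.1 s hs.1 hr.2 hs.2 h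
    rw [yP_90 hr hs h, iE_L ⟨u1, u2⟩, if_pos rfl, show c = a.1 * b.2 + a.2 * b.1 from congrArg Prod.fst e]
  · obtain ⟨⟨u1, u2, u3, -⟩, -⟩ := t_l r hr.1 l hl.1 hr.2 hl.2 h
    obtain ⟨⟨v1, v2, -⟩, -⟩ := t_90 r hr.1 _ u1 hr.2 u2 u3
    rw [iE_L hl, yP_l hr hl h, iE_L ⟨v1, v2⟩, show m = a.1 * a.2 from congrArg Prod.fst e]; rfl

section tw

variable {F : Type} [Field F] [Finite F] [CharP F 2] [Fintype K] (X : Qx F K)

theorem ss (a : K) : X.σ (X.σ a) = a := ff X.hK X.hf a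

theorem s_phi (c : F) : X.σ (X.φ c) = X.φ c := f_phi X.hφ c

theorem exists_eta : ∃ η, X.σ η = η + 1 := by
  obtain ⟨a, ha⟩ : ∃ a, X.σ a ≠ a := by
    by_contra h
    push Not at h
    have h1 := Nat.card_eq_of_bijective X.φ ⟨X.φ.injective, fun a => (X.hφ a).1 (h a)⟩
    have h2 := X.hK
    have h3 : 1 < Nat.card F := Finite.one_lt_card
    rw [← Nat.card_eq_fintype_card, ← h1] at h2
    nlinarith
  have hd : a + X.σ a ≠ 0 := fun e => ha (CharTwo.add_eq_zero.1 e).symm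
  refine ⟨a / (a + X.σ a), ?_⟩
  rw [map_div₀, map_add, ss, add_comm (X.σ a) a, div_add_one hd, ← add_assoc, CharTwo.add_self_eq_zero,
    zero_add]

/-- the short root elements of the twisted group -/
noncomputable def yQ (r : ℕ) (a : K) : twistedE6 K (Nat.card F) :=
  yT (q := Nat.card F) (f := (X.σ : K →+* K)) r (if sw r then X.σ a else a)

/-- the inclusion into `E₆(K)` -/
noncomputable abbrev jT : twistedE6 K (Nat.card F) →* chevE6.group K := inc X.hq X.hK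

theorem jT_inj : Function.Injective (jT X) := inc_inj _ _

theorem jT_yQ {r : ℕ} (h : S r) (a : K) : jT X (yQ X r a) = yP K r (a, X.σ a) := by
  rw [yQ, jT, inc_yT X.hq X.hK X.hf h.1 (Or.inl h.2), yP_eq h]
  cases sw r
  · rfl
  · exact congrArg (yE K r _) (ss X a)

theorem jT_x {r : ℕ} (h : r < 48) (c : F) : jT X (X.ιT (x F r c)) = iE K (x K r (X.φ c)) := by
  rw [jT, inc_iT, mapG_xG]

theorem jT_n {r : ℕ} (h : r < 48) : jT X (X.ιT (n F r)) = iE K (n K r) := by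
  have := (t_neg r h).1
  rw [n, n, nn_eq, nn_eq]
  simp only [map_mul, jT_x X h, jT_x X this, map_one, map_neg, map_inv₀]

theorem tyQ {η : K} (hη : X.σ η = η + 1) : TY X.ιT X.τT X.φ X.σ η (yQ X) := by
  refine ⟨⟨⟨by rw [Nat.card_eq_fintype_card, X.hK], X.φ.injective, ss X, X.hφ, hη⟩,
    fun r h a b => jT_inj X ?_, fun r h a e => ?_, fun r h c => jT_inj X ?_,
    fun u => (mem_range_iT X.hq X.hK X.hf X.hφ).1 ⟨u, rfl⟩, fun r h a => jT_inj X ?_,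
    fun r hr s hs a c => jT_inj X ?_, fun r hr s hs a => jT_inj X ?_,
    fun r s hr hs h a b => jT_inj X ?_, fun r s hr hs h a b => jT_inj X ?_,
    fun r s hr hs h a b c e => jT_inj X ?_⟩, fun r l hr hl h a c m e => jT_inj X ?_⟩
  · rw [map_mul, jT_yQ X h, jT_yQ X h, jT_yQ X h, yP_add h, map_add]; rfl
  · exact congrArg Prod.fst (yP_inj h ((jT_yQ X h a).symm.trans (by rw [e, map_one])))
  · rw [jT_yQ X h, jT_x X h.1, iE_S h, s_phi]
  · rw [jT, inc_tT, jT_yQ X h, jT_yQ X h, gE_yP h, ss]; rfl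
  · rw [map_mul, map_mul, jT_yQ X hr, jT_x X (mem_lY hs).1, yP_cp hr hs]
  · have h0 : S (rf s r) := by
      cases e : sh s
      exacts [(t_nl r hr.1 s hs hr.2 e).1, (t_ns r hr.1 s hs hr.2 e).1]
    rw [map_mul, map_mul, map_inv, jT_n X hs, jT_yQ X hr, jT_yQ X h0, yP_n hr hs]
    cases sh s
    · rfl
    · simp [ss]
  · rw [map_mul, map_mul, jT_yQ X hr, jT_yQ X hs, (yP_60 hr hs (by omega) _ _).eq]
  · obtain ⟨⟨u1, u2, -⟩, -⟩ := t_120 r hr.1 s hs.1 hr.2 hs.2 h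
    simp only [cm, map_mul, map_inv, jT_yQ X hr, jT_yQ X hs, jT_yQ X ⟨u1, u2⟩]
    rw [← cm, yP_120 hr hs h]
    simp [ss]
  · obtain ⟨⟨u1, u2, -⟩, -⟩ := t_90 r hr.1 s hs.1 hr.2 hs.2 h
    simp only [cm, map_mul, map_inv, jT_yQ X hr, jT_yQ X hs, jT_x X u1]
    rw [← cm, yP_90 hr hs h, iE_L ⟨u1, u2⟩, if_pos trivial, e]
  · obtain ⟨⟨u1, u2, u3, -⟩, -⟩ := t_l r hr.1 l hl.1 hr.2 hl.2 h
    obtain ⟨⟨v1, v2, -⟩, -⟩ := t_90 r hr.1 _ u1 hr.2 u2 u3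
    simp only [cm, map_mul, map_inv, jT_yQ X hr, jT_yQ X ⟨u1, u2⟩, jT_x X hl.1, jT_x X v1]
    rw [← cm, iE_L hl, yP_l hr hl h, iE_L ⟨v1, v2⟩, s_phi, e]

end tw

theorem jobYT : JobYT := by
  intro F _ _ _ _ K _ _ _ X
  obtain ⟨η, hη⟩ := exists_eta X
  exact ⟨η, yQ X, tyQ X hη, sw, fun r _ a => rfl⟩

end H46.SF
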