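import Cfsg.Agent.H57.DPCSpec

/-! Tower DPC (S3275), jobs B1 and FU. -/

set_option autoImplicit false

open Subgroup Cfsg H98 H48.DP H57.DPC

namespace H46.DPCB1

universe u

theorem c1_ne_top {G : Type u} [Group G] (h : Hyp G) {w : G} (hw : w ≠ 1) : C1 w ≠ ⊤ := by
  intro e
  have := h.simple
  have hc : w ∈ center G := mem_center_iff.mpr fun g =>
    mem_centralizer_singleton_iff.mp (show g ∈ C1 w from e ▸ mem_top g)
  rcases (inferInstance : (center G).Normal).eq_bot_or_eq_top with h1 | h1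
  · exact hw (mem_bot.mp (h1 ▸ hc))
  · exact h.nc ⟨⟨fun a b => mem_center_iff.mp (show b ∈ center G from h1 ▸ mem_top b) a⟩⟩

theorem jobB1 : JobB1.{u} := by
  intro cm rr tr ja G _ _ h N zo B K top x hx hx1 hK
  by_contra hn
  have hcomm : ∀ a ∈ B, ∀ b ∈ B, Commute a b := fun a ha b hb =>
    congrArg Subtype.val (top.el.1.is_comm.comm (⟨a, ha⟩ : B) ⟨b, hb⟩)
  have hx3 : orderOf x = 3 :=
    haveI := Fact.mk Nat.prime_three
    orderOf_eq_prime (top.el.2 x hx) hx1
  refine ja G h.char (B ⊓ Ce K) K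
    ⟨⟨⟨fun a b => Subtype.ext (hcomm a a.2.1 b b.2.1).eq⟩⟩, fun a ha => top.el.2 a ha.1⟩
    (not_lt.mp hn) inf_le_right fun w hw hw1 => ?_
  refine tr G h.nd x w K hx3 (hcomm x hx w hw.1)
    (cm G h.toHyp _ K (c1_ne_top h.toHyp hx1) (zo B top x hx hx1) hK) hw.2 (zo B top w hw.1 hw1)
    fun J hJ => ?_
  have hc := cm G h.toHyp _ J (c1_ne_top h.toHyp hw1) (zo B top w hw.1 hw1) hJ
  exact ⟨hc, rr G N B (C1 w) J top.mx top.el top.big
    (fun b hb => mem_centralizer_singleton_iff.mpr (hcomm b hb w hw.1).eq) hc hx⟩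

theorem card_c1_conj {G : Type*} [Group G] (g t : G) :
    Nat.card (C1 (g * t * g⁻¹)) = Nat.card (C1 t) := by
  refine Nat.card_congr ⟨fun c => ⟨g⁻¹ * c * g, ?_⟩, fun c => ⟨g * c * g⁻¹, ?_⟩, ?_, ?_⟩
  · have := mem_centralizer_singleton_iff.mp c.2
    rw [mem_centralizer_singleton_iff]
    calc g⁻¹ * c * g * t = g⁻¹ * (c * (g * t * g⁻¹)) * g := by group
      _ = _ := by rw [this]; group
  · have := mem_centralizer_singleton_iff.mp c.2
    rw [mem_centralizer_singleton_iff]
    calc g * c * g⁻¹ * (g * t * g⁻¹) = g * (c * t) * g⁻¹ := by group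
      _ = _ := by rw [this]; group
  · intro c; ext; simp [mul_assoc]
  · intro c; ext; simp [mul_assoc]

theorem cyc_invol {U : Type*} [Group U] [Finite U] [IsCyclic U] {s t : U} (hs : orderOf s = 2)
    (ht : orderOf t = 2) : s = t := by
  classical
  have := Fintype.ofFinite U
  by_contra hne
  have h := IsCyclic.card_pow_eq_one_le (α := U) (n := 2) (by norm_num)
  have hs1 : s ≠ 1 := fun e => by rw [e, orderOf_one] at hs; omega
  have ht1 : t ≠ 1 := fun e => by rw [e, orderOf_one] at ht; omega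
  have hsub : ({1, s, t} : Finset U) ⊆ Finset.univ.filter (fun a : U => a ^ 2 = 1) := by
    intro a ha
    simp only [Finset.mem_insert, Finset.mem_singleton] at ha
    rcases ha with rfl | rfl | rfl
    · simp
    · simpa using hs ▸ pow_orderOf_eq_one a
    · simpa using ht ▸ pow_orderOf_eq_one a
  have h3 : ({1, s, t} : Finset U).card = 3 := Finset.card_eq_three.mpr
    ⟨1, s, t, hs1.symm, ht1.symm, hne, rfl⟩
  have := Finset.card_le_card hsub
  omega

theorem jobFU : JobFU.{u} := by
  intro j0 j1 L _ _ hL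
  have hT : IsU33 (⊤ : Subgroup L) := by
    obtain ⟨F, i1, i2, hF, ⟨e⟩⟩ := hL
    exact ⟨F, i1, i2, hF, ⟨topEquiv.trans e⟩⟩
  obtain ⟨a, b, s, x, y, h0⟩ := j0 L ⊤ hT
  have h := j1 L ⊤ a b s x y h0
  refine ⟨⟨zpowers (a * b), y, ?_, ?_, ?_, ?_⟩, ?_, ?_, ?_⟩
  · have hab : Commute a b := h.ab
    have h4 : (a * b) ^ 2 ^ 2 = 1 := by
      rw [hab.mul_pow]; norm_num [h.a4, h.b4]
    rintro ⟨_, k, rfl⟩
    refine ⟨2, Subtype.ext ?_⟩
    show ((a * b) ^ k) ^ 2 ^ 2 = 1
    rw [← zpow_natCast, ← zpow_mul, mul_comm, zpow_mul, zpow_natCast, h4, one_zpow]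
  · rw [Ne, zpowers_eq_bot]
    intro e
    have := (h.ind 1 1 (by simpa using e)).1
    omega
  · haveI := Fact.mk Nat.prime_three
    refine orderOf_eq_prime h.y3 fun e => ?_
    have e1 := h.y1
    rw [e, one_mul, inv_one, mul_one] at e1
    have e2 := h.sa
    rw [← e1] at e2
    have e3 : a = b := by rw [← e2]; group
    have := (h.ind 1 (-1) (by rw [← e3]; group)).1
    omega
  · refine centralizer_le_normalizer _ (mem_centralizer_iff.mpr ?_)
    rintro _ ⟨k, rfl⟩
    exact (h.yc.zpow_right k).symm.eq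
  · intro o s' t' ho hs ht hos hot hst
    set U := closure ({s', t'} : Set L) with hU
    have h1 : ∀ g ∈ U, Commute g s' ∧ Commute g t' ∧ Commute g o := by
      intro g hg
      induction hg using closure_induction with
      | mem g hg =>
        rcases hg with rfl | rfl
        · exact ⟨Commute.refl _, hst, hos.symm⟩
        · exact ⟨hst.symm, Commute.refl _, hot.symm⟩
      | one => exact ⟨Commute.one_left _, Commute.one_left _, Commute.one_left _⟩
      | mul g g' _ _ hg hg' =>
        exact ⟨hg.1.mul_left hg'.1, hg.2.1.mul_left hg'.2.1, hg.2.2.mul_left hg'.2.2⟩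
      | inv g _ hg => exact ⟨hg.1.inv_left, hg.2.1.inv_left, hg.2.2.inv_left⟩
    have h2 : ∀ g ∈ U, ∀ g' ∈ U, Commute g g' := by
      intro g hg g' hg'
      induction hg' using closure_induction with
      | mem g' hg' =>
        rcases hg' with rfl | rfl
        · exact (h1 g hg).1
        · exact (h1 g hg).2.1
      | one => exact Commute.one_right _
      | mul g' g'' _ _ h h' => exact h.mul_right h'
      | inv g' _ h => exact h.inv_right
    have h3 : ∀ g ∈ U, g ^ 2 = 1 := by
      intro g hg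
      induction hg using closure_induction with
      | mem g hg =>
        rcases hg with rfl | rfl
        · exact hs ▸ pow_orderOf_eq_one _
        · exact ht ▸ pow_orderOf_eq_one _
      | one => exact one_pow _
      | mul g g' hg hg' h h' => rw [(h2 g hg g' hg').mul_pow, h, h', one_mul]
      | inv g _ h => rw [inv_pow, h, inv_one]
    have hc := (h.c3 o (mem_top o) ho U le_top
      (fun g => ⟨1, Subtype.ext (by simpa using h3 g g.2)⟩)
      fun g hg => mem_centralizer_singleton_iff.mpr (h1 g hg).2.2.eq).1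
    have hsU : s' ∈ U := subset_closure (by simp)
    have htU : t' ∈ U := subset_closure (by simp)
    exact congrArg Subtype.val (cyc_invol (U := U) (s := ⟨s', hsU⟩) (t := ⟨t', htU⟩)
      (by rw [← orderOf_coe]; exact hs) (by rw [← orderOf_coe]; exact ht))
  · intro t ht
    obtain ⟨g, -, hg⟩ := h.one t (mem_top t) ht
    have hz := h.cz
    rw [top_inf_eq, ← hg, card_c1_conj] at hz
    rw [hz]
    norm_num
  · intro hc
    have := h.card
    rw [card_top, hc] at this
    omega

end H46.DPCB1
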