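import Cfsg.Agent.H78.TEDef

/-! STD-2E6 (row S3327): the certificate lemma `JobCT`. -/

set_option autoImplicit false
set_option linter.unusedSectionVars false

open Cfsg.Lie H63 H65 H64 H64.SG H78.TE H46.SF

namespace H46.TE

section Abs

variable {G : Type*} [Group G] {U N : Subgroup G}

/-- the commutator -/
def cm (g t : G) : G := g * t * g⁻¹ * t⁻¹

variable (hN : ∀ u ∈ U, ∀ v ∈ N, u * v * u⁻¹ ∈ N)
include hN

theorem cm_left {g g' t z z' : G} (hg : g ∈ U) (hz : z ∈ U) (c : cm z'⁻¹ g ∈ N) (h : z⁻¹ * cm g t ∈ N)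
    (h' : z'⁻¹ * cm g' t ∈ N) : (z' * z)⁻¹ * cm (g * g') t ∈ N := by
  have := mul_mem (mul_mem (hN _ (inv_mem hz) _ c) (hN _ (inv_mem hz) _ (hN _ hg _ h'))) h
  convert this using 1
  simp only [cm]; group

theorem cm_right {g t t' z z' : G} (ht : t ∈ U) (hz : z' ∈ U) (c : cm z'⁻¹ t ∈ N) (h : z⁻¹ * cm g t ∈ N)
    (h' : z'⁻¹ * cm g t' ∈ N) : (z * z')⁻¹ * cm g (t * t') ∈ N := by
  have := mul_mem (mul_mem (hN _ (inv_mem hz) _ h) c) (hN _ ht _ h')
  convert this using 1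
  simp only [cm]; group

theorem cm_right' {g t t' : G} (ht : t ∈ U) (h : cm g t ∈ N) (h' : cm g t' ∈ N) : cm g (t * t') ∈ N := by
  have := mul_mem h (hN _ ht _ h')
  convert this using 1
  simp only [cm]; group

/-- the elements of `U` that commute with the tests modulo `N` -/
def cen (P : Set G) : Subgroup G where
  carrier := {g | g ∈ U ∧ ∀ t ∈ P, cm g t ∈ N}
  one_mem' := ⟨one_mem _, fun t _ => by simp [cm]⟩
  mul_mem' {a b} ha hb := ⟨mul_mem ha.1 hb.1, fun t ht => by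
    have := mul_mem (hN _ ha.1 _ (hb.2 t ht)) (ha.2 t ht)
    convert this using 1
    simp only [cm]; group⟩
  inv_mem' {a} ha := ⟨inv_mem ha.1, fun t ht => by
    have := hN _ (inv_mem ha.1) _ (inv_mem (ha.2 t ht))
    convert this using 1
    simp only [cm]; group⟩

end Abs

theorem ip_ge : ∀ r s : Rt E6, 36 ≤ r.1 → 36 ≤ s.1 → -1 ≤ ip r s := by decide +kernel
theorem hN_su : ∀ r s : Rt E6, ip r s = -1 → hN (su r s) = hN r + hN s := by decide +kernel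
theorem hN_pos : ∀ r : Rt E6, 36 ≤ r.1 ↔ 0 < hN r := by decide +kernel
theorem su_inj {r r' s : Rt E6} (h : ip r s = -1) (h' : ip r' s = -1) (e : su r s = su r' s) : r = r' :=
  rt_inj (add_right_cancel ((su_add h).symm.trans (e ▸ su_add h')))

/-- `V` is an ideal of the positive roots -/
abbrev Idl (V : Set (Rt E6)) : Prop := ∀ r ∈ V, 36 ≤ r.1 ∧ ∀ s, 36 ≤ s.1 → ip r s = -1 → su r s ∈ V

variable {K : Type} [Field K] [CharP K 2]

theorem cm_x {r s : Rt E6} (hr : 36 ≤ r.1) (hs : 36 ≤ s.1) (a b : K) :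
    cm (xG E6 K r a) (xG E6 K s b) = if ip r s = -1 then xG E6 K (su r s) (a * b) else 1 := by
  split_ifs with h
  · exact e6.commutator_add (stY K).toStN.toSt (su_add h) a b
  · rw [cm, cY (by have := ip_ge r s hr hs; omega)]; group

theorem cm_x_mem {r s : Rt E6} (hr : 36 ≤ r.1) (hs : 36 ≤ s.1) {V : Set (Rt E6)}
    (h : ip r s = -1 → su r s ∈ V) (a b : K) : cm (xG E6 K r a) (xG E6 K s b) ∈ gY K V := by
  rw [cm_x hr hs]
  split_ifs with e
  exacts [x_mem_gen (h e) _, one_mem _]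

theorem gY_ind {S : Set (Rt E6)} {p : YY K → Prop} (h1 : p 1)
    (h2 : ∀ r ∈ S, ∀ a, ∀ g ∈ gY K S, p g → p (xG E6 K r a * g)) {g : YY K} (hg : g ∈ gY K S) : p g :=
  gen_induction_left h1 (fun r hr y hy g hg h => by
    obtain ⟨a, rfl⟩ := (stY K).toStN.toSt.mem_XR.1 hy
    exact h2 r hr a g hg h) hg

theorem x_conj {S : Set (Rt E6)} (hS : ∀ r ∈ S, 36 ≤ r.1) {s : Rt E6} (hs : 36 ≤ s.1)
    (h : ∀ r ∈ S, ip r s = -1 → su r s ∈ S) (b : K) {v : YY K} (hv : v ∈ gY K S) :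
    xG E6 K s b * v * (xG E6 K s b)⁻¹ ∈ gY K S :=
  conj_mem_of_gen (fun r hr y hy => by
    obtain ⟨a, rfl⟩ := (stY K).toStN.toSt.mem_XR.1 hy
    have := mul_mem (cm_x_mem hs (hS r hr) (V := S) (fun e => su_comm r s ▸ h r hr (ip_comm r s ▸ e)) b a)
      (x_mem_gen hr a)
    rwa [cm, inv_mul_cancel_right] at this) hv

theorem nrm {V : Set (Rt E6)} (hV : Idl V) : ∀ u ∈ gY K SU, ∀ v ∈ gY K V, u * v * u⁻¹ ∈ gY K V :=
  fun u hu v hv => gY_ind (p := fun u => u * v * u⁻¹ ∈ gY K V) (by simpa using hv)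
    (fun s hs b g _ h => by
      have := x_conj (fun r hr => (hV r hr).1) hs (fun r hr => (hV r hr).2 s hs) b h
      convert this using 1
      group) hu

theorem x_eq_zero {V : Set (Rt E6)} (hV : Cl0 V) {u : Rt E6} (h1 : 36 ≤ u.1) (h2 : u ∉ V) {c : K}
    (h : xG E6 K u c ∈ gY K V) : c = 0 :=
  (stY K).eq_zero_of_x_eq_one u (eq_one_of_prod_mem (stY K).rgd (y := fun s => xG E6 K s c) (L := [u])
    (f := fun r => (hN r).toNat) (fun a ha b hb _ y hy z hz => by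
      obtain ⟨c, rfl⟩ := (stY K).toStN.toSt.mem_XR.1 hy
      obtain ⟨d, rfl⟩ := (stY K).toStN.toSt.mem_XR.1 hz
      refine cm_x_mem (hV.1 a ha) (hV.1 b hb) (fun e => And.intro (hV.2 a ha b hb e) ?_) c d
      have := hN_su a b e
      have := (hN_pos a).1 (hV.1 a ha)
      have := (hN_pos b).1 (hV.1 b hb)
      beta_reduce
      omega)
    (fun r hr => pos_iff.2 (hV.1 r hr)) (by simp) (by simpa using pos_iff.2 h1)
    (fun s => x_mem_XR E6 (xG E6 K) s c) (by simpa using h) (by simp) h2)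

theorem gY_le_U {S : Set (Rt E6)} (hS : ∀ r ∈ S, 36 ≤ r.1) : gY K S ≤ gY K SU := gen_mono _ hS

/-- splitting off a root of least height -/
theorem split {S : Set (Rt E6)} (hS : Cl0 S) {r : Rt E6} (hr : r ∈ S) (hm : ∀ s ∈ S, hN r ≤ hN s) :
    Cl0 (S \ {r}) ∧ ∀ g ∈ gY K S, ∃ a, (xG E6 K r a)⁻¹ * g ∈ gY K (S \ {r}) := by
  have h1 : ∀ s ∈ S, ∀ s' ∈ S, ip s s' = -1 → su s s' ∈ S \ {r} := fun s hs s' hs' e =>
    ⟨hS.2 s hs s' hs' e, fun e' => by
      have := hN_su s s' e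
      have := (hN_pos s').1 (hS.1 s' hs')
      have := hm s hs
      rw [Set.mem_singleton_iff.1 e'] at *
      omega⟩
  refine ⟨⟨fun s hs => hS.1 s hs.1, fun s hs s' hs' => h1 s hs.1 s' hs'.1⟩, fun g hg => ?_⟩
  refine gY_ind (p := fun g => ∃ a, (xG E6 K r a)⁻¹ * g ∈ gY K (S \ {r}))
    ⟨0, by rw [xE_zero, inv_one, one_mul]; exact one_mem _⟩ (fun s hs b g _ ⟨a, h⟩ => ?_) hg
  by_cases e : s = r
  · exact ⟨b + a, by rwa [e, xE_add, mul_inv_rev, mul_assoc, inv_mul_cancel_left]⟩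
  · refine ⟨a, ?_⟩
    have := mul_mem (x_conj (fun s hs => hS.1 s hs.1) (hS.1 r hr) (fun s hs => h1 s hs.1 r hr) a
      (x_mem_gen (S := S \ {r}) ⟨hs, e⟩ b)) h
    rw [x_inv (stY K).toStN.toSt] at this ⊢
    rwa [mul_assoc, mul_assoc, ← mul_assoc (xG E6 K r a) (xG E6 K r a), x_sq (stY K).toStN.toSt,
      one_mul] at this

variable {F : Type} [Field F] (T : Qd F K)

theorem pos_gm' {s : Rt E6} (hs : 36 ≤ s.1) : 36 ≤ (gm s).1 := by
  rwa [hN_pos, hN_gm, ← hN_pos]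

/-- the coefficient of a root of least height vanishes -/
theorem kill (hw : ∃ w, w + T.σ w = 1) {S V : Set (Rt E6)} (hV : Idl V) {r s : Rt E6} (hr : 36 ≤ r.1)
    (hS : ∀ r' ∈ S, 36 ≤ r'.1 ∧ hN r ≤ hN r' ∧ r' ≠ r) (hs : 36 ≤ s.1) (e : ip r s = -1)
    (h0 : su r s ∉ V) {c : K} {n : YY K} (hn : n ∈ gY K S)
    (h : ∀ a, cm (xG E6 K r c * n) (T.xs s a) ∈ gY K V) : c = 0 := by
  have hu := hN_su r s e
  have p1 := (hN_pos r).1 hr
  have p2 := (hN_pos s).1 hs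
  have pu : 36 ≤ (su r s).1 := by rw [hN_pos]; omega
  generalize hu0 : su r s = u at hu h0 pu
  let W : Set (Rt E6) := {v | v ∈ V ∨ 36 ≤ v.1 ∧ hN u ≤ hN v ∧ v ≠ u}
  have up : ∀ v s' : Rt E6, 36 ≤ s'.1 → hN u ≤ hN v → ip v s' = -1 → su v s' ∈ W := fun v s' h1 h2 h3 => by
    have := hN_su v s' h3
    have := (hN_pos s').1 h1
    exact Or.inr ⟨by rw [hN_pos]; omega, by omega, fun e => by
      have := congrArg hN e; omega⟩
  have hW : Idl W := by
    rintro v (hv | hv)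
    · exact ⟨(hV v hv).1, fun s' h1 h2 => Or.inl ((hV v hv).2 s' h1 h2)⟩
    · exact ⟨hv.1, fun s' h1 => up v s' h1 hv.2.1⟩
  have N := nrm (K := K) hW
  have mu : ∀ b, xG E6 K u b ∈ gY K SU := x_mem_gen (S := SU) pu
  have ce : ∀ b, ∀ g ∈ gY K SU, cm (xG E6 K u b)⁻¹ g ∈ gY K W := fun b g hg =>
    gY_ind (p := fun g => cm (xG E6 K u b)⁻¹ g ∈ gY K W) (by simp [cm]) (fun s' hs' a g _ h =>
      cm_right' N (x_mem_gen hs' a) (by
        rw [x_inv (stY K).toStN.toSt]; exact cm_x_mem pu hs' (up u s' hs' le_rfl) b a) h) hg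
  have s1 : ∀ r' s' : Rt E6, 36 ≤ r'.1 → hN r ≤ hN r' → 36 ≤ s'.1 → hN s' = hN s → ∀ c a,
      (xG E6 K u ((if ip r' s' = -1 ∧ su r' s' = u then c else 0) * a))⁻¹ *
        cm (xG E6 K r' c) (xG E6 K s' a) ∈ gY K W := fun r' s' h1 h2 h3 h4 c a => by
    split_ifs with h5
    · rw [cm_x h1 h3, if_pos h5.1, h5.2, inv_mul_cancel]; exact one_mem _
    · rw [zero_mul, xE_zero, inv_one, one_mul]
      refine cm_x_mem h1 h3 (fun e' => Or.inr ?_) c a
      have := hN_su r' s' e'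
      exact ⟨by rw [hN_pos]; omega, by omega, fun e'' => h5 ⟨e', e''⟩⟩
  let R : YY K → K → K → Prop := fun g A B =>
    ∀ a, (xG E6 K u (A * a + B * T.σ a))⁻¹ * cm g (T.xs s a) ∈ gY K W
  have s2 : ∀ r' : Rt E6, 36 ≤ r'.1 → hN r ≤ hN r' → ∀ c,
      ∃ B, R (xG E6 K r' c) (if ip r' s = -1 ∧ su r' s = u then c else 0) B := fun r' h1 h2 c =>
    ⟨_, fun a => by
      rw [xE_add]
      exact cm_right N (x_mem_gen (S := SU) hs a) (mu _) (ce _ _ (x_mem_gen (S := SU) hs a))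
        (s1 r' s h1 h2 hs rfl c a) (s1 r' (gm s) h1 h2 (pos_gm' hs) (hN_gm s) c _)⟩
  have s3 : ∀ {g g' A B A' B'}, g ∈ gY K SU → R g A B → R g' A' B' → R (g * g') (A' + A) (B' + B) :=
    fun {g g' A B A' B'} hg h h' a => by
      rw [show (A' + A) * a + (B' + B) * T.σ a = (A' * a + B' * T.σ a) + (A * a + B * T.σ a) by ring,
        xE_add]
      exact cm_left N hg (mu _) (ce _ _ hg) (h a) (h' a)
  obtain ⟨B, h1⟩ := gY_ind (p := fun g => ∃ B, R g 0 B)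
    ⟨0, fun a => by simp [cm, xE_zero]⟩ (fun r' hr' c g _ ⟨B, h⟩ => by
      obtain ⟨k1, k2, k3⟩ := hS r' hr'
      obtain ⟨B', h'⟩ := s2 r' k1 k2 c
      rw [if_neg fun e' => k3 (su_inj e'.1 e (e'.2.trans hu0.symm))] at h'
      exact ⟨_, by simpa using s3 (x_mem_gen (S := SU) k1 c) h' h⟩) hn
  obtain ⟨B', h2⟩ := s2 r hr le_rfl c
  rw [if_pos ⟨e, hu0⟩] at h2
  have h3 := fun a => x_eq_zero (V := W) ⟨fun v hv => (hW v hv).1, fun v hv v' hv' =>
      (hW v hv).2 v' (hW v' hv').1⟩ pu (fun hv => hv.elim h0 fun h => h.2.2 rfl)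
    (inv_mem_iff.1 ((Subgroup.mul_mem_cancel_right _ (gen_mono _ (fun _ => Or.inl) (h a))).1
      (s3 (x_mem_gen (S := SU) hr c) h2 h1 a)))
  obtain ⟨w, hw⟩ := hw
  have h4 := h3 1
  have h5 := h3 w
  rw [map_one] at h4
  have h6 : (2 : K) = 0 := CharTwo.two_eq_zero
  linear_combination h5 - c * hw - T.σ w * h4 + c * T.σ w * h6

theorem jobCT : JobCT := fun F K _ _ _ _ _ _ T k S S' V P hS _ _ hP hV h1 h2 g hg h => by
  have N := nrm (K := K) hV
  let C := cen N {t | ∃ s ∈ P, ∃ a, t = (T.xs s a : YY K)}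
  have key : ∀ (n : ℕ) (M : Set (Rt E6)), M.ncard = n → M ⊆ S → Cl0 M → ∀ g ∈ gY K M, g ∈ C →
      g ∈ gY K S' := fun n => by
    induction n with
    | zero =>
      intro M hM _ _ g hg _
      rw [(Set.ncard_eq_zero M.toFinite).1 hM, gY, gen_empty] at hg
      exact bot_le (a := gY K S') hg
    | succ n ih =>
      intro M hM hMS hC g hg hc
      obtain ⟨r, hr, hm⟩ := Set.exists_min_image M hN M.toFinite
        (Set.nonempty_of_ncard_ne_zero (by omega))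
      obtain ⟨c1, c2⟩ := split (K := K) hC hr hm
      obtain ⟨a, ha⟩ := c2 g hg
      have ih' := ih (M \ {r}) (by rw [Set.ncard_diff_singleton_of_mem hr, hM]; rfl)
        (Set.diff_subset.trans hMS) c1 _ ha
      by_cases e : r ∈ S'
      · refine (Subgroup.mul_mem_cancel_left _ (inv_mem (x_mem_gen e a))).1 (ih' (mul_mem (inv_mem ?_) hc))
        refine ⟨x_mem_gen (S := SU) (hC.1 r hr) a, ?_⟩
        rintro _ ⟨s, hs, b, rfl⟩
        exact cm_right' N (x_mem_gen (S := SU) (hP s hs) b)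
          (cm_x_mem (hC.1 r hr) (hP s hs) (h1 r e s hs).1 a b)
          (cm_x_mem (hC.1 r hr) (pos_gm' (hP s hs)) (h1 r e s hs).2 a _)
      · obtain ⟨s, hs, e1, e2⟩ := h2 r (hMS hr) e
        have := kill T k.half hV (hC.1 r hr) (fun r' h => ⟨hC.1 r' h.1, hm r' h.1, h.2⟩) (hP s hs) e1 e2
          (c := a) ha fun b => by rw [mul_inv_cancel_left]; exact hc.2 _ ⟨s, hs, b, rfl⟩
        rw [this, xE_zero, inv_one, one_mul] at ih'
        exact ih' hc
  refine key _ S rfl le_rfl hS g hg ⟨gY_le_U hS.1 hg, ?_⟩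
  rintro _ ⟨s, hs, a, rfl⟩
  exact h s hs a

end H46.TE
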