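import Cfsg.Agent.H78.TESpec
import Cfsg.Agent.H30.SfC
import Cfsg.Agent.H48.SgTy
import Cfsg.Agent.H48.SgFa
import Cfsg.Agent.H26.SGFR
import Cfsg.Agent.H26.SGFB

/-! STD-2E6 (row S3327), slot F3: elements `y_r(a) t` of order four fix only one point. -/

set_option autoImplicit false
set_option linter.unusedSectionVars false

open H98 Subgroup Cfsg Cfsg.Lie H63 H65 H64 H64.SG H78.TE H30.Sf

namespace H46.TEF3

universe u

/-- An odd order subgroup centralising `d` and normalised by `N(⟨d⟩)` centralises `L`. -/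
theorem odd_cen {X : Type} [Group X] {G : Type u} [Group G] [Finite G] {L : Subgroup G} (c : Cov X L)
    {d : G} (hd : d ∈ Ns L) (d2 : Is2 d) (hz : d * d ∈ L)
    (cta : ∀ α : MulAut X, Odd (orderOf α) → (∀ u ∈ pCoreOf 2 (Cz (c.pi (d * d))), α u = u) → α = 1)
    {O : Subgroup G} (o1 : O ≤ Ns L) (o2 : Odd (Nat.card O)) (o3 : Ns (zpowers d) ⊓ Ns L ≤ Ns O)
    (o4 : O ≤ Cz d) : O ≤ Cs L := by
  have := c.finite_X
  obtain ⟨P, p1, p2, p3, -⟩ := c.exists_up (isO2_pCoreOf (Cz (c.pi (d * d)))).2.2.1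
  have hN : ∀ m ∈ Ns L, m * d = d * m → m ∈ Ns P := fun m hm e => mem_normalizer_of_cj_le (by
    rintro _ ⟨u, hu, rfl⟩
    obtain ⟨u1, u2, u3⟩ := (p2 u).1 hu
    refine (p2 _).2 ⟨conj_mem_of_mem_normalizer hm u1, u2.conj m, ?_⟩
    show c.pi (m * u * m⁻¹) ∈ _
    rw [c.ac_pi m hm u u1]
    have e1 : c.ac m (c.pi (d * d)) = c.pi (d * d) :=
      c.ac_of_comm hm hz (by rw [← mul_assoc, e, mul_assoc, e, mul_assoc])
    have := mem_map_of_mem (c.ac m).toMonoidHom u3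
    rwa [map_pCoreOf_of_injective (c.ac m).injective, map_Cz, e1] at this)
  have hO : O ≤ Ns P := fun o ho => hN o (o1 ho) (mem_Cz.1 (o4 ho)).symm
  have h := thompson_AB (A := zpowers d) (B := O) p1 d2.zpowers
    (res_eq_self_of_coprime o2.coprime_two_right) (zpowers_le.2 (hN d hd rfl)) hO
    (commutator_eq_bot_iff_le_centralizer.2 (zpowers_le.2 fun o ho => (mem_Cz.1 (o4 ho)).symm))
    (fun u hu o ho => by
      have h4 : u * o * u⁻¹ * o⁻¹ = 1 := (isPGroup_iff_is2.1 p1 _ (by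
        simpa only [mul_assoc] using mul_mem (mem_inf.1 hu).1
          (conj_mem_of_mem_normalizer (hO ho) (inv_mem (mem_inf.1 hu).1)))).eq_one
        (odd_orderOf_of_mem o2 (mul_mem (conj_mem_of_mem_normalizer (o3 ⟨Cs_le_Ns _ hu.2,
          le_normalizer ((p2 u).1 hu.1).1⟩) ho) (inv_mem ho)))
      rw [mul_inv_eq_one, mul_inv_eq_iff_eq_mul] at h4
      exact h4.symm)
  intro o ho
  refine c.ac_ker o (o1 ho) (cta _ (odd_orderOf_of_pow (odd_orderOf_of_mem o2 ho) (by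
    rw [← c.ac_pow (o1 ho), pow_orderOf_eq_one, c.ac_one])) fun u hu => ?_)
  rw [← p3] at hu
  obtain ⟨l, l1, l2, rfl⟩ := c.mem_im.1 hu
  exact c.ac_of_comm (o1 ho) l2 (h l1 o ho)

variable {F K : Type} [Field F] [Finite F] [CharP F 2] [Field K] [Finite K] [CharP K 2] {T : Qd F K}

theorem fl_ph (τ : Ty E6 K) (T : Qd F K) : τ.fl T.ph = T.σ := by
  have h : DT E6 K (MulAut.conj 1 * T.ph) gn 1 T.σ := (H48.SgTy.dat_iff e6).2 fun i a => by
    have h1 := T.ph_x (simpleR i) a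
    have h2 := T.ph_x (negR (simpleR i)) a
    rw [← ng_eq, gm_ng, ng_eq, ng_eq] at h2
    rw [gm_simple] at h1 h2
    simpa using ⟨h1, h2⟩
  exact (τ.spec _ _ _ _ _ h).1

theorem cl_SW : Cl SW := by decide +kernel

theorem ip_SW : ∀ r ∈ SW, ∀ s ∈ SW, 0 ≤ ip r s := by decide +kernel

variable {G : Type u} [Group G] [Finite G] {F₀ L : Subgroup G} {t : G} {c : Cov T.X L}
  {y : ℕ → K → G} {C : Comp E6 y}

theorem V_comm (h : St E6 y) {u v : G} (hu : u ∈ gen (XR E6 y) SW) (hv : v ∈ gen (XR E6 y) SW) :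
    u * v = v * u :=
  (gen_le_iff.2 fun r hr a => mem_Cs_gen.2 fun s hs b =>
    e6.comm_of_nonneg h (ip_eq s r ▸ ip_SW s hs r hr) b a :
      gen (XR E6 y) SW ≤ Cs (gen (XR E6 y) SW)) hv u hu

theorem V_le : gen (XR E6 y) SW ≤ UU E6 y := gen_le_UU fun r hr => pos_iff.2 (cl_SW.1.1 r hr)

theorem up_V (kb : T.KB) (P : T.FF F₀ c t C) {v : G} (hv : v ∈ up c T.W) :
    v ∈ gen (XR E6 y) SW ∧ v * v = 1 := by
  obtain ⟨v1, v2, v3⟩ := (mem_up c (kb.isP.to_le (T.gt_mono fun r hr => cl_SW.1.1 r hr))).1 hv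
  refine ⟨C.mem_gen (C.isPGroup_UU.to_le V_le) (P.le v1) v2
    (P.pp v v1 ▸ (kb.gtY _ cl_SW _).1 v3), c.sq_of_pi v1 v2 ?_⟩
  generalize c.pi v = w at v3
  have hc : T.W ≤ Cs T.W := fun a ha b hb => Subtype.ext
    (V_comm (stY K).toStN.toSt ((kb.gtY _ cl_SW _).1 hb) ((kb.gtY _ cl_SW _).1 ha))
  induction v3 using closure_induction with
  | mem g hg => obtain ⟨r, -, u, rfl⟩ := hg; exact T.xs_sq r u
  | one => simp
  | mul g h g1 h1 g2 h2 => rw [mul_assoc, ← mul_assoc h, hc g1 h h1, mul_assoc, h2, mul_one, g2]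
  | inv g _ h => rw [← mul_inv_rev, h, inv_one]

theorem two_cases (τ : Ty E6 K) (P : T.FF F₀ c t C) (H : F2 F₀ t y) {m : G}
    (hm : m ∈ Ns (GG E6 y)) (m2 : Is2 m) : (m ∈ F₀ ∧ τ.fl (C.ac m) = 1) ∨
      τ.fl (C.ac m) = T.σ ∧ ∃ n : G, ∃ v ∈ UU E6 y, n * m * n⁻¹ = v * t := by
  have t2 := P.cfg.inv.1
  have hS := syl_iff.1 H.syl
  have tM : t ∈ Ns (GG E6 y) := hS.le (mem_sup_right (mem_zpowers t))
  obtain ⟨n, n1, n2⟩ := hS.exists_cj_le m2.zpowers (zpowers_le.2 hm)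
  have h3 : τ.fl (C.ac (n * m * n⁻¹)) = τ.fl (C.ac m) := by
    rw [C.ac_conj n1 hm, map_mul, map_mul, map_inv, aut_comm (τ.fl (C.ac n)), mul_inv_cancel_right]
  have h4 : n * m * n⁻¹ ∈ UU E6 y ⊔ zpowers t := n2 (H98.conj_mem_cj (mem_zpowers _))
  have h5 : t ∈ Ns (UU E6 y) := P.tU {r | Pos r} fun r hr => pos_gm.2 hr
  refine ((mem_sup_inv t2 h5).1 h4).imp (fun h => ⟨?_, ?_⟩)
    fun h => ⟨?_, n, _, h, by rw [mul_assoc _ t, t2, mul_one]⟩
  · simpa using P.cfg.normal.mem_comm (H.le (gen_le_GG _ h))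
  · rw [← h3, C.ac_of_mem (gen_le_GG _ h), (lam_conj τ _).1]
  · have := (lam_conj τ (C.pi (n * m * n⁻¹ * t))).1
    rw [← C.ac_of_mem (gen_le_GG _ h), C.ac_mul _ (hS.le h4) _ tM, map_mul, P.ac, fl_ph, h3] at this
    rw [eq_inv_of_mul_eq_one_left this,
      inv_eq_of_mul_eq_one_right (RingEquiv.ext T.ss : T.σ * T.σ = 1)]

theorem inv_conj (τ : Ty E6 K) (P : T.FF F₀ c t C) (H : F2 F₀ t y) {i : G}
    (hi : i ∈ Ns (GG E6 y)) (i2 : i * i = 1) (h : i ∉ F₀) : IsConj t i := by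
  obtain ⟨-, n, v, v1, e⟩ := (two_cases τ P H hi (is2_of_sq i2)).resolve_left fun e => h e.1
  obtain ⟨w, -, e2⟩ := P.cob v v1 (by rw [← e, conj_mul, i2]; simp)
  exact isConj_iff.2 ⟨n⁻¹ * w, by rw [mul_inv_rev, mul_assoc, mul_assoc, ← mul_assoc t,
    ← mul_assoc w, ← mul_assoc w, ← e2, ← e]; group⟩

theorem fl_cases (τ : Ty E6 K) (P : T.FF F₀ c t C) (H : F2 F₀ t y) {m : G}
    (hm : m ∈ Ns (GG E6 y)) :
    ∃ ρ, Odd (orderOf ρ) ∧ (τ.fl (C.ac m) = ρ ∨ τ.fl (C.ac m) = T.σ * ρ) := by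
  obtain ⟨i, j, e, h1, h2⟩ := exists_two_odd m
  refine ⟨τ.fl (C.ac (m ^ j)), odd_orderOf_of_pow h2 (by
    rw [← map_pow, ← C.ac_pow (pow_mem hm j), pow_orderOf_eq_one, C.ac_one, map_one]), ?_⟩
  rw [congrArg C.ac e, C.ac_mul _ (pow_mem hm i) _ (pow_mem hm j), map_mul]
  exact (two_cases τ P H (pow_mem hm i) h1).imp (fun h => by rw [h.2, one_mul]) fun h => by rw [h.1]

theorem key (kb : T.KB) (τ : Ty E6 K) (fb : FB E6 K) (P : T.FF F₀ c t C) (hU : UF (Ns (GG E6 y)) t)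
    (hW : Cs (up c T.W) ≤ Ns (GG E6 y)) (H : F2 F₀ t y) {E : K → G} {v : G}
    (e1 : ∀ a b, E a * E b = E (a + b)) (e2 : ∀ b, E b ∈ gen (XR E6 y) SW) (e3 : E 1 ≠ 1)
    (hv : v ∈ gen (XR E6 y) SW) (d2 : v * t * (v * t) = E 1)
    (ln : ∀ m ∈ Ns (GG E6 y), m * E 1 * m⁻¹ = E 1 → ∀ b, m * E b * m⁻¹ = E (τ.fl (C.ac m) b))
    (g : G) (hg : g * (v * t) * g⁻¹ ∈ Ns (GG E6 y)) : g ∈ Ns (GG E6 y) := by
  obtain ⟨w0, hw⟩ := kb.half
  obtain ⟨β, b1, b2⟩ := exists_beta T.ss ⟨w0, fun e => by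
    rw [e, CharTwo.add_self_eq_zero] at hw; exact zero_ne_one hw⟩
  have b3 : T.σ β = β + 1 := by rw [← b1, ← add_assoc, CharTwo.add_self_eq_zero, zero_add]
  have e0 : E 0 = 1 := mul_left_cancel (a := E 0) (by rw [e1, add_zero, mul_one])
  have es : ∀ b, E b * E b = 1 := fun b => by rw [e1, CharTwo.add_self_eq_zero, e0]
  have eG : ∀ b, E b ∈ GG E6 y := fun b => gen_le_GG _ (e2 b)
  have hN := P.cfg.normal
  have inv : ∀ d ∈ Ns (GG E6 y), d * d = E 1 → d ∉ F₀ → IsConj t (E β * d) ∧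
      E β * d ∈ Ns (GG E6 y) ∧ E β * d * d * (E β * d)⁻¹ = d⁻¹ := fun d hd h2 h3 => by
    have h4 : τ.fl (C.ac d) = T.σ := ((two_cases τ P H hd (Is2.of_pow (k := 1) (by
      rw [pow_one, pow_two, h2]; exact is2_of_sq (es 1)))).resolve_left fun e => h3 e.1).1
    have h5 : d * E β * d⁻¹ = E β * E 1 := by
      rw [ln d hd (by rw [← h2]; group), h4, b3, e1]
    have h6 := mul_mem (le_normalizer (eG β)) hd
    refine ⟨inv_conj τ P H h6 ?_ fun e => h3 ((mul_mem_cancel_left (H.le (eG β))).1 e), h6, ?_⟩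
    · calc _ = E β * (d * E β * d⁻¹) * (d * d) := by group
        _ = _ := by rw [h5, h2, ← mul_assoc, es, one_mul, es]
    · refine eq_inv_of_mul_eq_one_left ?_
      calc _ = E β * (d * (E β)⁻¹ * d⁻¹) * (d * d) := by group
        _ = _ := by rw [inv_eq_of_mul_eq_one_right (es β), h5, h2, ← mul_assoc, es, one_mul, es]
  have dM : v * t ∈ Ns (GG E6 y) := mul_mem (le_normalizer (gen_le_GG _ hv)) hU.mem
  have dF : v * t ∉ F₀ := fun e => H.nt ((mul_mem_cancel_left (H.le (gen_le_GG _ hv))).1 e)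
  obtain ⟨a1, a2, a3⟩ := inv _ dM d2 dF
  have d4 : (v * t) ^ 4 = 1 := by rw [show 4 = 2 * 2 from rfl, pow_mul, pow_two, pow_two, d2, es]
  have nd : Ns (zpowers (v * t)) ≤ Ns (GG E6 y) := by
    refine jobK8 hU a1 a2 a3 d4 (fun m m1 m2 => ?_) (up c T.W) (fun s hs => ?_)
      (by rwa [closure_eq]) fun O o1 o2 o3 o4 s hs o ho => ?_
    · have m3 := conj_four d4 (d2 ▸ e3) m1
      have m4 : m * E 1 * m⁻¹ = E 1 := by
        rw [← d2, ← conj_mul]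
        rcases m3 with e | e <;> rw [e]
        rw [← mul_inv_rev, d2, inv_eq_of_mul_eq_one_right (es 1)]
      obtain ⟨z, z1, z2⟩ : ∃ z ∈ zpowers (E 1), E (τ.fl (C.ac m) β) = E β * z := by
        obtain ⟨ρ, r1, r2 | r2⟩ := fl_cases τ P H m2
        · exact ⟨1, one_mem _, by rw [r2, b2 ρ r1, mul_one]⟩
        · exact ⟨_, mem_zpowers _, by rw [r2, RingAut.mul_apply, b2 ρ r1, b3, e1]⟩
      have z3 : z * (m * (v * t) * m⁻¹ * (v * t)⁻¹) ∈ zpowers (E 1) := by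
        refine mul_mem z1 ?_
        rcases m3 with e | e <;> rw [e]
        · simp
        · rw [← mul_inv_rev, d2]; exact inv_mem (mem_zpowers _)
      rw [← conj_mul, ln m m2 m4, z2, show ∀ w z p d : G, w * z * p * (w * d)⁻¹ =
        w * (z * (p * d⁻¹)) * w⁻¹ from fun _ _ _ _ => by group,
        mem_Cz.1 (zpowers_le.2 (mem_Cz.2 (V_comm P.st (e2 β) (e2 1))) z3), mul_inv_cancel_right]
      exact zpowers_le.2 (d2 ▸ mul_mem (mem_zpowers _) (mem_zpowers _)) z3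
    · obtain ⟨s1, s2⟩ := up_V kb P hs
      have s3 : s * (v * t) = v * t * s := by
        rw [mul_assoc, ← P.cfg.tL _ (up_le c _ hs), ← mul_assoc, ← mul_assoc, V_comm P.st s1 hv]
      have s4 : E β * (v * t) * s = s * (E β * (v * t)) := by
        rw [mul_assoc, ← s3, ← mul_assoc, V_comm P.st (e2 β) s1, mul_assoc]
      have s5 := gen_le_GG _ s1
      refine ⟨s2, le_normalizer s5, s3, s4, inv_conj τ P H (mul_mem a2 (le_normalizer s5)) ?_
        fun e => dF ((mul_mem_cancel_left (H.le (eG β))).1 ((mul_mem_cancel_right (H.le s5)).1 e))⟩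
      rw [mul_assoc, ← mul_assoc s, ← s4, mul_assoc _ s, s2, mul_one,
        (H9.UF.inv2_conj hU.inv a1).1]
    · have z1 : v * t * (v * t) ∈ GG E6 y := d2 ▸ eG 1
      exact mem_Cz.2 (odd_cen C.toCov dM ⟨2, d4⟩ z1 (fb.cta _ _ ⟨by
        rw [← C.pi_mul _ z1 _ z1, d2, es, C.pi_one], fun e => e3 (d2 ▸ C.eq_one_of_is2 z1
          (d2 ▸ is2_of_sq (es 1)) e)⟩ (isO2_pCoreOf _)) o1 o2 o3 o4 ho s
            (gen_le_GG _ (up_V kb P hs).1))
  obtain ⟨m, m1, m2⟩ := H.fus _ (eG 1) (es 1) g (by rw [← d2, ← conj_mul]; exact mul_mem hg hg)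
  refine (mul_mem_cancel_left (inv_mem m1)).1 ?_
  have h1 : m⁻¹ * g * (v * t) * (m⁻¹ * g)⁻¹ ∈ Ns (GG E6 y) := by
    simpa [mul_assoc] using mul_mem (mul_mem (inv_mem m1) hg) m1
  have h2 : m⁻¹ * g * (v * t) * (m⁻¹ * g)⁻¹ * (m⁻¹ * g * (v * t) * (m⁻¹ * g)⁻¹) = E 1 := by
    rw [conj_mul, d2, mul_assoc m⁻¹, mul_inv_rev, ← mul_assoc, mul_assoc m⁻¹, m2]; group
  generalize m⁻¹ * g = k at h1 h2
  obtain ⟨c1, c2, c3⟩ := inv _ h1 h2 fun e => dF (by simpa using hN.mem_comm e)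
  obtain ⟨m, m1, n, n1, rfl⟩ := (H9.UF.jobK2 hU a1 a2).2 (zpowers (v * t)) k _
    (H9.UF.mem_nor_zp a3) c1 c2 (by
      rw [cjs, MonoidHom.map_zpowers]
      exact H9.UF.mem_nor_zp c3)
  exact mul_mem m1 (nd n1)

theorem jobF3 : H78.TE.JobF3.{u} := by
  intro F K _ _ _ _ _ _ T X G _ _ F₀ L t c y C P ho hU hW H r a ha g hg
  obtain ⟨τ⟩ := H48.SgTy.jobTy E6 e6 K
  have t2 := P.cfg.inv.1
  obtain ⟨n, w, n1, n2⟩ := X.kb.tr1 r
  obtain ⟨l, l1, rfl⟩ := c.surj n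
  have l2 := le_normalizer (P.le l1)
  have l3 : y r a * t = l⁻¹ * (y (w.1 r) a * t) * l := by
    rw [← (C.ac_x l2 (r := r) (a := a) (s := w.1 r) (b := a)).1 (by
      rw [C.ac_of_mem (P.le l1), P.pp l l1]; exact n1.2 r a), mul_assoc, mul_assoc _ t,
      ← P.cfg.tL l l1]
    group
  rw [l3] at ha hg
  refine (mul_mem_cancel_right (inv_mem l2)).1 ?_
  have hr : w.1 r ∈ SW := by rcases n2 with e | e <;> rw [e] <;> decide +kernel
  generalize w.1 r = s at ha hg n2 hr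
  have hs := cl_SW.2 s hr
  have d2 : y s a * t * (y s a * t) = y s (a * 1) * y (gm s) (T.σ a * 1) := by
    rw [mul_one, mul_one, ← P.ty, inv_eq_of_mul_eq_one_right t2]; group
  have e3 : y s (a * 1) * y (gm s) (T.σ a * 1) ≠ 1 := fun e => ha (by
    rw [show l⁻¹ * (y s a * t) * l * (l⁻¹ * (y s a * t) * l) = l⁻¹ * (y s a * t * (y s a * t)) * l by
      group, d2, e]; simp)
  have cm := fun b b' => V_comm P.st (x_mem_gen hr b) (x_mem_gen hs b')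
  refine key X.kb τ (H26.SGB.jobFB H48.SgTy.jobTy H48.SgFa.jobFA E6 e6 K) P hU hW H
    (E := fun b => y s (a * b) * y (gm s) (T.σ a * b)) (fun b b' => ?_)
    (fun b => mul_mem (x_mem_gen hr _) (x_mem_gen hs _)) e3 (x_mem_gen hr a) d2 (fun m hm e b => ?_)
    _ (by simpa [mul_assoc] using hg)
  · rw [mul_add, mul_add, ← P.st.add _ s.2, ← P.st.add _ (gm s).2, mul_assoc, mul_assoc,
      ← mul_assoc (y (gm s) _), ← cm, mul_assoc]
  rcases n2 with rfl | rfl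
  · have k : ∀ b, y (R6 71) (a * b) * y (gm (R6 71)) (T.σ a * b) = y (hi E6) ((a + T.σ a) * b) :=
      fun b => by rw [add_mul]; exact P.st.add _ (hi E6).2 _ _
    simp only [k] at e e3 ⊢
    rw [mul_one] at e e3
    exact (C.ac_x hm).1 (act_hi e6 τ (H26.SG.jobFR H48.SgTy.jobTy E6 e6 K)
      (fun e' => e3 (by rw [e', P.st.x_zero])) ((C.ac_x hm).2 e) b)
  · have k1 : ∀ b b', y (R6 68) b * y (gm (R6 68)) b' ∈ GG E6 y := fun b b' =>
      mul_mem (x_mem_GG _ _) (x_mem_GG _ _)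
    have k2 := fun b b' => (is2_x P.st (R6 68) b).mul (is2_x P.st (gm (R6 68)) b') (cm b b')
    have k3 : ∀ b b', C.pi (y (R6 68) b * y (gm (R6 68)) b') = xG E6 K 68 b * xG E6 K 66 b' :=
      fun b b' => by
        rw [C.pi_mul _ (x_mem_GG _ _) _ (x_mem_GG _ _), C.pi_y, C.pi_y,
          show gm (R6 68) = R6 66 by decide +kernel]; rfl
    have a0 : a ≠ 0 := fun e' => e3 (by rw [e', map_zero, zero_mul, P.st.x_zero, P.st.x_zero, mul_one])
    refine C.conj_eq_of_ac hm (k1 _ _) (k1 _ _) (k2 _ _) (k2 _ _) ?_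
    rw [k3, k3]
    refine X.ln τ _ a (T.σ a) a0 ((map_ne_zero _).2 a0) ?_ b
    have := C.ac_pi m hm _ (k1 (a * 1) (T.σ a * 1))
    rw [e, k3, mul_one, mul_one] at this
    exact this.symm

end H46.TEF3
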