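import Cfsg.Agent.H64.SFMod
import Cfsg.Agent.H68.OutE6
import Cfsg.Agent.H56.OutGrp

/-! STD-F4 (row S3328): the automorphisms of `²E₆(q)` (`JobXT`, `JobM3T`). -/

set_option autoImplicit false
set_option linter.unusedSectionVars false

open Cfsg Cfsg.Lie H63 H65 H64 H68 H68.GA
open H64.SG (Is2)
open H64.SF (SdE JobXT JobM3T Outer)

namespace H46.SF

section df

variable {K : Type*} [Field K]

/-- a diagonal times a field automorphism of `E₆(K)` -/
noncomputable def dfE (c : Fin chevE6.rank → Kˣ) (f : RingAut K) : MulAut (chevE6.group K) :=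
  diagAut chevE6 c * fieldAut chevE6 f

theorem dfE_val (c : Fin chevE6.rank → Kˣ) (f : RingAut K) (g : chevE6.group K) :
    (dfE c f g : GL chevE6.Idx K) = dfG c f g := rfl

theorem dfE_x (c : Fin chevE6.rank → Kˣ) (f : RingAut K) (s : ℕ) (a : K) :
    dfE c f (xG chevE6 K s a) = xG chevE6 K s (chr chevE6 c s * f a) := by
  rw [dfE, MulAut.mul_apply, fieldAut_xG, diagAut_xG]

theorem aut_ext_xG {α β : MulAut (chevE6.group K)}
    (h : ∀ s < 72, ∀ a, α (xG chevE6 K s a) = β (xG chevE6 K s a)) : α = β :=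
  MulEquiv.toMonoidHom_injective (hom_ext_xG h)

theorem dfE_mul (c c' : Fin chevE6.rank → Kˣ) (f f' : RingAut K) :
    dfE c f * dfE c' f' = dfE (c * fun i => Units.map (f : K →* K) (c' i)) (f * f') :=
  aut_ext_xG fun s hs a => by
    have h1 : (chr chevE6 (fun i => Units.map (f : K →* K) (c' i)) s : K) = f (chr chevE6 c' s) := by
      unfold chr
      split_ifs <;> simp
    rw [MulAut.mul_apply, dfE_x, dfE_x, dfE_x, chr_mul, Units.val_mul, h1, map_mul, mul_assoc]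
    rfl

theorem dfE_one (f : RingAut K) : dfE 1 f = fieldAut chevE6 f := by rw [dfE, map_one, one_mul]

theorem exists_dfE {g : chevE6.group K} (hg : (g : GL chevE6.Idx K) ∈ (mat chevE6 K).T.H) :
    ∃ c, MulAut.conj g = dfE c 1 := by
  obtain ⟨c, hc⟩ := HH_chr (D := chevE6) (x := xU chevE6 K) stB_xU.toStN hg
  exact ⟨c, aut_ext_xG fun s hs a => by
    rw [dfE_x]; exact Subtype.ext (hc ⟨s, hs⟩ a)⟩

end df

theorem lie_exists_std {G : Type*} [Group G] [Finite G] {p : ℕ} [Fact p.Prime] (L : H54.LieS p G)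
    (θ : MulAut G) : ∃ y : G, MulAut.conj y * θ ∈ StdA L.T := by
  obtain ⟨g, hg⟩ := MulAction.exists_smul_eq G L.sylow (θ • L.sylow)
  obtain ⟨y, hy⟩ := H68.GA.exists_conj_fix (T := L.T) L.top (θ := θ) (g := g)
    (congrArg (fun Q : Sylow p G => (Q : Subgroup G)) hg).symm
  exact ⟨y, hy⟩

section tw

variable {K : Type*} [Field K] [Fintype K] [CharP K 2] {q : ℕ} (hq : IsPrimePow q)
  (hK : Fintype.card K = q ^ 2)

/-- `θ` is the restriction of `dfE c f` -/
def IsDf (θ : MulAut (twistedE6 K q)) (c : Fin chevE6.rank → Kˣ) (f : RingAut K) : Prop :=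
  ∀ y, inc hq hK (θ y) = dfE c f (inc hq hK y)

variable {hq hK}

theorem IsDf.std {θ : MulAut (twistedE6 K q)} {c : Fin chevE6.rank → Kˣ} {f : RingAut K}
    (h : IsDf hq hK θ c f) : θ ∈ StdA (isTw_E6 hq hK).grdK := by
  have hA := isTw_E6 hq hK
  have hα : ∀ g, (θ g : GL chevE6.Idx K) = dfG c f g := fun g => congrArg Subtype.val (h g)
  exact ⟨map_eq_of_mem _ fun g hg => hA.mem_grdK_U.2 (by rw [hα]; exact dfG_gen _ _ (hA.mem_grdK_U.1 hg)),
    map_eq_of_mem _ fun g hg => hA.mem_grdK_V.2 (by rw [hα]; exact dfG_gen _ _ (hA.mem_grdK_V.1 hg))⟩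

theorem IsDf.unique {θ : MulAut (twistedE6 K q)} {c c' : Fin chevE6.rank → Kˣ} {f f' : RingAut K}
    (h : IsDf hq hK θ c f) (h' : IsDf hq hK θ c' f') : f = f' :=
  (dfG_unique (A := twistedE6 K q) (fun i => by
      fin_cases i
      · exact ⟨_, _, nfU_E6 3, wd_mem_E6 (e6Words_two (r := 56) (s := 36) (by decide) 1), .head _⟩
      · exact ⟨_, _, nfU_E6 0, wd_mem_E6 (e6Words_one (r := 46) (by decide) (one_pow _)), .head _⟩
      · exact ⟨_, _, nfU_E6 2, wd_mem_E6 (e6Words_two (r := 42) (s := 37) (by decide) 1), .head _⟩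
      · exact ⟨_, _, nfU_E6 1, wd_mem_E6 (e6Words_one (r := 39) (by decide) (one_pow _)), .head _⟩
      · exact ⟨_, _, nfU_E6 2, wd_mem_E6 (e6Words_two (r := 42) (s := 37) (by decide) 1), by simp; decide⟩
      · exact ⟨_, _, nfU_E6 3, wd_mem_E6 (e6Words_two (r := 56) (s := 36) (by decide) 1), by simp; decide⟩)
    (fun t => ⟨_, _, nfU_E6 3, wd_mem_E6 (e6Words_two (r := 56) (s := 36) (by decide) t), ⟨0, by decide⟩,
      .head _⟩) c c' f f' fun g hg =>
    congrArg Subtype.val ((h ⟨g, hg⟩).symm.trans (h' ⟨g, hg⟩))).2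

theorem IsDf.mul {θ θ' : MulAut (twistedE6 K q)} {c c' : Fin chevE6.rank → Kˣ} {f f' : RingAut K}
    (h : IsDf hq hK θ c f) (h' : IsDf hq hK θ' c' f') :
    IsDf hq hK (θ * θ') (c * fun i => Units.map (f : K →* K) (c' i)) (f * f') := fun y => by
  rw [MulAut.mul_apply, h, h', ← dfE_mul, MulAut.mul_apply]

variable (hq hK)

theorem exists_isDf (f : RingAut K) {c : Fin chevE6.rank → Kˣ} (hc : c ∈ (smE6 hq hK).F) :
    ∃ θ, IsDf hq hK θ c f :=
  (SM.exists_dfA f (twistedE6_eq_Fix hq hK) hc).imp fun _ h y => Subtype.ext (h y)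

theorem isDf_of_std {θ : MulAut (twistedE6 K q)} (hθ : θ ∈ StdA (isTw_E6 hq hK).grdK) :
    ∃ c f, IsDf hq hK θ c f := by
  have hA := isTw_E6 hq hK
  have := (simple_E6 hq hK).1
  obtain ⟨c, hc, f, e⟩ := dat_E6 hq hK hθ
  obtain ⟨α, hα⟩ := exists_isDf hq hK f hc
  obtain rfl : α = θ := Std.ext hA.grdK_Gp hα.std hθ fun o g hg => Subtype.ext
    ((congrArg Subtype.val (hα g)).trans (e o g ⟨hA.mem_grdK_X_p.1 hg, hA.le_fix g.2⟩).2.symm)
  exact ⟨c, f, hα⟩

theorem exists_std_tw (θ : MulAut (twistedE6 K q)) :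
    ∃ y, MulAut.conj y * θ ∈ StdA (isTw_E6 hq hK).grdK :=
  have : Fact (Nat.Prime 2) := ⟨Nat.prime_two⟩
  lie_exists_std ((isTw_E6 hq hK).lieS 2) θ

/-- every automorphism is inner times diagonal times field -/
theorem exists_conj_isDf (α : MulAut (twistedE6 K q)) :
    ∃ g θ c f, IsDf hq hK θ c f ∧ α = MulAut.conj g * θ := by
  obtain ⟨y, hy⟩ := exists_std_tw hq hK α
  obtain ⟨c, f, h⟩ := isDf_of_std hq hK hy
  exact ⟨y⁻¹, _, c, f, h, by rw [map_inv, inv_mul_cancel_left]⟩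

/-- the field part of an outer automorphism -/
theorem exists_fl : ∃ ψ : Out (twistedE6 K q) →* RingAut K, Odd (Nat.card ψ.ker) ∧
    ∀ θ c f, IsDf hq hK θ c f → ψ (QuotientGroup.mk θ) = f := by
  have : Fact (Nat.Prime 2) := ⟨Nat.prime_two⟩
  have hA := isTw_E6 hq hK
  choose c f e using fun θ : StdA hA.grdK => isDf_of_std hq hK θ.2
  let φ : StdA hA.grdK →* RingAut K := MonoidHom.mk' f fun a b => (e (a * b)).unique ((e a).mul (e b))
  have hs : Function.Surjective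
      ((QuotientGroup.mk' (Inn (twistedE6 K q))).comp (StdA hA.grdK).subtype) := fun o => by
    obtain ⟨θ, rfl⟩ := QuotientGroup.mk_surjective o
    obtain ⟨y, hy⟩ := exists_std_tw hq hK θ
    refine ⟨⟨MulAut.conj y * θ, hy⟩, ?_⟩
    change QuotientGroup.mk (MulAut.conj y * θ) = _
    rw [QuotientGroup.mk_mul, (QuotientGroup.eq_one_iff (N := Inn _) (MulAut.conj y)).2 ⟨y, rfl⟩, one_mul]
  have hk : ((QuotientGroup.mk' (Inn (twistedE6 K q))).comp (StdA hA.grdK).subtype).ker ≤ φ.ker := by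
    intro θ hθ
    obtain ⟨g, hg⟩ : θ.1 ∈ Inn _ := (QuotientGroup.eq_one_iff _).1 hθ
    obtain ⟨c', hc'⟩ := exists_dfE (g := inc hq hK g) (hA.mem_grdK_H.1
      ((conj_mem_StdA hA.grdK_Gp).1 (hg ▸ θ.2)))
    refine (e θ).unique (c' := c') fun y => ?_
    rw [← hc', ← hg, MulAut.conj_apply, MulAut.conj_apply, map_mul, map_mul, map_inv]
  let ψ := MonoidHom.liftOfSurjective _ hs ⟨φ, hk⟩
  have h1 : ∀ θ c f, IsDf hq hK θ c f → ψ (QuotientGroup.mk θ) = f := fun θ c f h =>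
    (MonoidHom.liftOfRightInverse_comp_apply _ _ _ _ (⟨θ, h.std⟩ : StdA hA.grdK)).trans
      ((e ⟨θ, h.std⟩).unique h)
  have hψ : Function.Surjective ψ := fun σ =>
    (exists_isDf hq hK σ (one_mem _)).elim fun α hα => ⟨_, h1 _ _ _ hα⟩
  refine ⟨ψ, ?_, h1⟩
  have hd := card_out_E6 hq hK 2
  rw [H56.card_eq_ker_mul ψ hψ, Nat.mul_left_inj Nat.card_pos.ne'] at hd
  exact hd ▸ Odd.of_dvd_nat (by decide) (Nat.gcd_dvd_left 3 _)

end tw

theorem inner_of_odd {Y A : Type*} [Group Y] [Group A] [Finite Y] (ψ : Out Y →* A)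
    (h : Odd (Nat.card ψ.ker)) {β : MulAut Y} (h1 : ψ (QuotientGroup.mk β) = 1) (h2 : Is2 β) :
    ∃ y, β = MulAut.conj y := by
  obtain ⟨k, hk⟩ := h2
  have h3 : orderOf (QuotientGroup.mk β : Out Y) ∣ Nat.gcd (2 ^ k) (Nat.card ψ.ker) :=
    Nat.dvd_gcd (orderOf_dvd_of_pow_eq_one (by rw [← QuotientGroup.mk_pow, hk]; rfl))
      (Subgroup.orderOf_dvd_natCard _ h1)
  rw [Nat.Coprime.gcd_eq_one (Nat.Coprime.pow_left _ (Nat.coprime_two_left.2 h)), Nat.dvd_one,
    orderOf_eq_one_iff] at h3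
  obtain ⟨y, hy⟩ := (QuotientGroup.eq_one_iff _).1 h3
  exact ⟨y, hy.symm⟩

theorem cyc_inv {A : Type*} [Group A] [Finite A] [IsCyclic A] {a b : A} (ha : a * a = 1)
    (hb : b * b = 1) (h1 : a ≠ 1) : b = 1 ∨ b = a := by
  classical
  have := Fintype.ofFinite A
  by_contra! h
  have h2 := IsCyclic.card_pow_eq_one_le (α := A) (n := 2) two_pos
  have h3 : ({1, a, b} : Finset A) ⊆ Finset.univ.filter fun x => x ^ 2 = 1 := fun x hx => by
    simp only [Finset.mem_insert, Finset.mem_singleton] at hx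
    rcases hx with rfl | rfl | rfl <;> simp [pow_two, *]
  have h4 := Finset.card_le_card h3
  rw [Finset.card_eq_three.2 ⟨1, a, b, h1.symm, h.1.symm, h.2.symm, rfl⟩] at h4
  omega

theorem jobXT : JobXT := fun F K _ _ _ _ _ _ x α => by
  obtain ⟨g, θ, c, f, h, rfl⟩ := exists_conj_isDf x.hq x.hK α
  refine ⟨g, dfE c f, f, fun s _ => ⟨chr chevE6 c s, Units.ne_zero _, dfE_x c f s⟩, fun y => ?_⟩
  rw [MulAut.mul_apply, MulAut.conj_apply, map_mul, map_mul, map_inv, h]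

theorem jobM3T : JobM3T := fun F K _ _ _ _ _ _ x => by
  obtain ⟨ψ, h1, h2⟩ := exists_fl x.hq x.hK
  have hc := isCyclic_ringAut K
  let fl := ψ.comp (QuotientGroup.mk' _)
  have hτ : fl x.τT = x.σ := h2 _ 1 _ fun y => by
    rw [dfE_one]; exact inc_tT' x.hq x.hK x.hf y
  have hσ : x.σ ≠ 1 := fun e => by
    have h3 : Function.Surjective x.φ := fun a => (x.hφ a).1 (by rw [e]; rfl)
    have h4 := Nat.card_le_card_of_surjective _ h3
    have h5 := x.hq.one_lt
    rw [Nat.card_eq_fintype_card (α := K), x.hK] at h4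
    nlinarith
  have hσ2 : x.σ * x.σ = 1 := RingEquiv.ext fun a => ff x.hK x.hf a
  have hk : ∀ β ∈ commutator (MulAut (twistedE6 K (Nat.card F))), fl β = 1 := fun β hβ => by
    let _ : CommGroup (RingAut K) := IsCyclic.commGroup
    exact Abelianization.commutator_subset_ker fl hβ
  refine ⟨fun h => hσ (hτ ▸ hk _ h), fun β hβ => inner_of_odd ψ h1 (hk β hβ), fun β e1 e2 e3 e4 => ?_⟩
  rcases cyc_inv hσ2 (b := fl β) (by rw [← map_mul, e1, map_one]) hσ with e | e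
  · obtain ⟨y, hy⟩ := inner_of_odd ψ h1 e ⟨1, by rw [pow_one, pow_two, e1]⟩
    exact (e3 y hy).elim
  · obtain ⟨y, hy⟩ := inner_of_odd ψ h1 (β := β * x.τT)
      (show fl (β * x.τT) = 1 by rw [map_mul, e, hτ, hσ2]) e2
    exact (e4 y hy).elim

end H46.SF
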