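import Cfsg.Agent.H46.SFR0
import Cfsg.Agent.H46.SFY
import Cfsg.Agent.H64.SGAsm

/-! STD-F4: recognition of `E₆(F)` from the relations `TY` over `F × F` (`JobRE`). -/

set_option autoImplicit false
set_option linter.unusedSectionVars false

open Cfsg Cfsg.Lie H63 H65 H64 H64.SF
open H64.SG (ET Ns Cs Cz Cov Inv2)
open H67.SA (cm)
open H63.TG (Rg)
open H68 (rhoE6)
open H86.WR (XF)
open H59.SO (B1)

namespace H46.SF

universe u

section Grp

variable {G : Type*} [Group G]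

theorem comm_of_cm {a b : G} (h : cm a b = 1) : a * b = b * a := by
  rw [cm, mul_inv_eq_one, mul_inv_eq_iff_eq_mul] at h; exact h

theorem cm_symm (a b : G) : cm b a = (cm a b)⁻¹ := by rw [cm, cm]; group

theorem commute_cm {a b c : G} (h1 : Commute a c) (h2 : Commute b c) : Commute (cm a b) c :=
  ((h1.mul_left h2).mul_left h1.inv_left).mul_left h2.inv_left

end Grp

variable {F : Type} [Field F] [CharP F 2] {G : Type u} [Group G] {R : Type} [CommRing R]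
  {e : XF F →* G} {θ : MulAut G} {ι : F →+* R} {σ : RingAut R} {η : R} {y : ℕ → R → G} {kb : Bool}

theorem two_R (ι : F →+* R) (a : R) : a + a = 0 := by
  rw [← two_mul, ← map_ofNat ι 2, CharTwo.two_eq_zero, map_zero, zero_mul]

theorem xF_add {r : ℕ} (h : r < 48) (a b : F) : x F r a * x F r b = x F r (a + b) :=
  (H64.SG.ad chevF4 F).toStB.toStN.toSt.add r h a b

theorem xF_zero {r : ℕ} (h : r < 48) : x F r 0 = 1 :=
  mul_eq_left.1 ((xF_add h 0 0).trans (by rw [add_zero]))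

section SY

variable (h : SY e θ kb ι σ η y)
include h

theorem y_zero {r : ℕ} (hr : S r) : y r 0 = 1 :=
  mul_eq_left.1 ((h.add r hr 0 0).trans (by rw [add_zero]))

theorem y_inv {r : ℕ} (hr : S r) (a : R) : (y r a)⁻¹ = y r a :=
  inv_eq_of_mul_eq_one_right (by rw [h.add r hr, two_R ι, y_zero h hr])

theorem s_i (c : F) : σ (ι c) = ι c := (h.rg.fix _).2 ⟨c, rfl⟩

theorem y_long {r s : ℕ} (hr : S r) (hs : L s) (k : 0 ≤ ip r s) (a : R) (c : F) :
    y r a * e (x F s c) = e (x F s c) * y r a := by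
  refine h.cp r hr s ?_ a c
  have : sh s ≠ sh r := by rw [hs.2, hr.2]; decide
  simp only [lY, List.mem_filter, List.mem_range, decide_eq_true_eq]
  exact ⟨hs.1, k.lt_or_eq.imp id fun k => ⟨k.symm, this⟩⟩

end SY

/-- the two idempotents -/
def ev (ε : R) (i : Bool) : R := if i then ε else ε + 1

/-- the root elements of type `E₆` -/
noncomputable def XE (e : XF F →* G) (ι : F →+* R) (y : ℕ → R → G) (ε : R) (α : ℕ) (c : F) : G :=
  if sh (fr α) then y (fr α) (ev ε (sd α) * ι c) else e (x F (fr α) c)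

variable {ε : R}

theorem XE_S {α : ℕ} (k : sh (fr α) = true) (c : F) : XE e ι y ε α c = y (fr α) (ev ε (sd α) * ι c) :=
  if_pos k

theorem XE_L {α : ℕ} (k : sh (fr α) = false) (c : F) : XE e ι y ε α c = e (x F (fr α) c) :=
  if_neg (by simp [k])

theorem iE_fr {α : ℕ} (ha : α < 72) (k : sh (fr α) = false) (c : F) :
    iE F (x F (fr α) c) = xG chevE6 F α c := by
  rw [iE_L ⟨(t_fr α ha).1, k⟩, ((t_fr α ha).2.1 k).1]

section TY

variable (h : TY e θ ι σ η y) (h1 : ε * ε = ε) (h2 : σ ε = ε + 1)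
include h h1 h2

omit h2 in
theorem ev_sq (i : Bool) : ev ε i * ev ε i = ev ε i := by
  cases i
  · have := two_R ι ε
    simp only [ev, Bool.false_eq_true, if_false]
    linear_combination h1 + this
  · exact h1

omit h2 in
theorem ev_mul (i : Bool) : ev ε i * ev ε (!i) = 0 := by
  have := two_R ι ε
  cases i <;> simp only [ev, Bool.false_eq_true, if_false, if_true, Bool.not_false, Bool.not_true] <;>
    linear_combination h1 + this

omit h1 in
theorem ev_s (i : Bool) : σ (ev ε i) = ev ε (!i) := by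
  cases i
  · have := two_R ι (1 : R)
    simp only [ev, Bool.false_eq_true, if_false, if_true, Bool.not_false, map_add, map_one, h2]
    linear_combination this
  · exact h2

omit h1 h2 in
theorem ev_add (i : Bool) : ev ε i + ev ε (!i) = 1 := by
  have := two_R ι ε
  cases i <;> simp only [ev, Bool.false_eq_true, if_false, if_true, Bool.not_false, Bool.not_true] <;>
    linear_combination this

omit h2 in
theorem c120_zero {r s : ℕ} (hr : S r) (hs : S s) (k : ip r s = -2) (i : Bool) (a b : R) :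
    Commute (y r (ev ε i * a)) (y s (ev ε (!i) * b)) := by
  have u := (t_120 r hr.1 s hs.1 hr.2 hs.2 k).1
  refine comm_of_cm ?_
  rw [h.c120 r s hr hs k, if_pos rfl, mul_mul_mul_comm, ev_mul h h1, zero_mul, map_zero,
    y_zero h.toSY ⟨u.1, u.2.1⟩]

theorem c120_one {r s : ℕ} (hr : S r) (hs : S s) (k : ip r s = -2) (i : Bool) (a b : F) :
    cm (y r (ev ε i * ι a)) (y s (ev ε i * ι b)) = y (ad r s) (ev ε (!i) * ι (a * b)) := by
  rw [h.c120 r s hr hs k, if_pos rfl, mul_mul_mul_comm, ev_sq h h1, ← map_mul ι, map_mul σ, ev_s h h2,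
    s_i h.toSY]

theorem XE_comm {α β : ℕ} (ha : α < 72) (hb : β < 72) (k : 0 ≤ chevE6.pairing α β) (a b : F) :
    XE e ι y ε α a * XE e ι y ε β b = XE e ι y ε β b * XE e ι y ε α a := by
  have fa := (t_fr α ha).1
  have fb := (t_fr β hb).1
  rcases t_A α ha β hb k with ⟨p, q⟩ | ⟨p, q, m⟩ | ⟨p, q, m⟩ | ⟨p, q, m⟩
  · rw [XE_L p, XE_L q, ← map_mul, ← map_mul]
    refine congrArg e (iE_inj ?_)
    rw [map_mul, map_mul, iE_fr ha p, iE_fr hb q]
    exact c0.comm ⟨ha, hb, k⟩ (stE F) a b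
  · rw [XE_S p, XE_L q, y_long h.toSY ⟨fa, p⟩ ⟨fb, q⟩ m]
  · rw [XE_L p, XE_S q, y_long h.toSY ⟨fb, q⟩ ⟨fa, p⟩ m]
  rw [XE_S p, XE_S q]
  rcases m with m | m | ⟨m, j⟩ | ⟨m, j⟩ | ⟨m, j⟩
  · rw [← m, h.add _ ⟨fa, p⟩, h.add _ ⟨fa, p⟩, add_comm]
  · exact h.c60 _ _ ⟨fa, p⟩ ⟨fb, q⟩ m _ _
  · rw [j]; exact c120_zero h h1 ⟨fa, p⟩ ⟨fb, q⟩ m _ _ _
  · refine comm_of_cm ?_
    rw [h.c90 _ _ ⟨fa, p⟩ ⟨fb, q⟩ m _ _ 0, if_pos rfl, xF_zero (t_90 _ fa _ fb p q m).1.1, map_one]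
    have := ev_mul h h1 (sd α)
    rw [j, map_mul, map_mul, ev_s h h2, s_i h.toSY, s_i h.toSY, map_zero]
    linear_combination (-2 * ι a * ι b) * this
  · obtain ⟨n0, u, hu, v, hv, su, sv, n1, n2, n3, n4⟩ := t_C _ fa p
    have := c120_one h h1 h2 ⟨hu, su⟩ ⟨hv, sv⟩ n1 (!sd α) a 1
    rw [n2, Bool.not_not, mul_one] at this
    rw [← this, m, j]
    have k1 := fun c => c120_zero h h1 ⟨hu, su⟩ n0 n3 (!sd α) c (ι b)
    have k2 := fun c => c120_zero h h1 ⟨hv, sv⟩ n0 n4 (!sd α) c (ι b)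
    rw [Bool.not_not] at k1 k2
    exact commute_cm (k1 _) (k2 _)

theorem cl_one {r l : ℕ} (hr : S r) (hl : L l) (k : ip r l < 0) (i : Bool) (a b : F) :
    cm (y r (ev ε i * ι a)) (e (x F l b)) = y (ad r l) (ev ε i * ι (a * b)) := by
  obtain ⟨⟨u1, u2, u3, -⟩, -⟩ := t_l r hr.1 l hl.1 hr.2 hl.2 k
  rw [h.cl r l hr hl k _ b 0, mul_zero, xF_zero (t_90 r hr.1 _ u1 hr.2 u2 u3).1.1, map_one, mul_one, map_mul,
    mul_assoc]
  rw [map_mul, ev_s h h2, mul_mul_mul_comm, ev_mul h h1, zero_mul, map_zero]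

theorem XE_cm {α β : ℕ} (ha : α < 72) (hb : β < 72) (k : chevE6.pairing α β = -1) (a b : F) :
    cm (XE e ι y ε α a) (XE e ι y ε β b) = XE e ι y ε (r6 α β) (a * b) := by
  have fa := (t_fr α ha).1
  have fb := (t_fr β hb).1
  obtain ⟨c, t⟩ := t_B α ha β hb k
  have fc := (t_fr _ c.2.2.1).1
  rcases t with ⟨p, q, w⟩ | ⟨p, q, w, m, n, j⟩ | ⟨p, q, w, m, n, j⟩ | ⟨p, q, w, m, n, j, j'⟩ | ⟨p, q, w, m, n, j⟩
  · rw [XE_L p, XE_L q, XE_L w, cm, ← map_inv, ← map_inv, ← map_mul, ← map_mul, ← map_mul]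
    refine congrArg e (iE_inj ?_)
    rw [map_mul, map_mul, map_mul, map_inv, map_inv, iE_fr ha p, iE_fr hb q, iE_fr c.2.2.1 w]
    exact etE6.commutator_add (stE F) c.rt a b
  · rw [XE_S p, XE_L q, XE_S w, cl_one h h1 h2 ⟨fa, p⟩ ⟨fb, q⟩ m, n, j]
  · rw [XE_L p, XE_S q, XE_S w, cm_symm, cl_one h h1 h2 ⟨fb, q⟩ ⟨fa, p⟩ m, n, j, y_inv h.toSY ⟨fc, w⟩,
      mul_comm b]
  · rw [XE_S p, XE_S q, XE_S w, j, c120_one h h1 h2 ⟨fa, p⟩ ⟨fb, q⟩ m, n, j']
  · rw [XE_S p, XE_S q, XE_L w, h.c90 _ _ ⟨fa, p⟩ ⟨fb, q⟩ m _ _ (a * b), if_pos rfl, n]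
    have e1 := ev_sq h h1 (sd α)
    have e2 := ev_sq h h1 (!sd α)
    have e3 := ev_add (ε := ε) h (sd α)
    rw [j, map_mul, map_mul, map_mul, ev_s h h2, ev_s h h2, s_i h.toSY, s_i h.toSY, Bool.not_not]
    linear_combination (-ι a * ι b) * (e1 + e2 + e3)

theorem XE_st : St chevE6 (XE e ι y ε) := by
  refine etE6.st_of (fun α a b => ?_) (fun α β k => XE_comm h h1 h2 α.2 β.2 k) fun α β γ k a b => ?_
  · have fa := (t_fr α α.2).1
    cases p : sh (fr α)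
    · rw [XE_L p, XE_L p, XE_L p, ← map_mul, xF_add fa]
    · rw [XE_S p, XE_S p, XE_S p, h.add _ ⟨fa, p⟩, map_add, mul_add]
  · have k1 := etE6.pairing_of_add k
    have := congrArg Fin.val (rt_inj (k.trans (t_B α α.2 β β.2 k1).1.rt.symm))
    rw [this]
    exact XE_cm h h1 h2 α.2 β.2 k1 a b

omit h1 in
theorem XE_th {α : ℕ} (ha : α < 72) (c : F) : θ (XE e ι y ε α c) = XE e ι y ε (rhoE6 α) c := by
  obtain ⟨fa, k1, k2, k3⟩ := t_fr α ha
  cases p : sh (fr α)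
  · rw [(k1 p).2, XE_L p, h.te]
  · rw [XE_S p, XE_S (k2 ▸ p), h.ty _ ⟨fa, p⟩, k2, k3 p, map_mul, ev_s h h2, s_i h.toSY]

omit h1 h2 in
theorem e_S {r : ℕ} (hr : S r) (c : F) : e (x F r c) = XE e ι y ε (p1 r) c * XE e ι y ε (p2 r) c := by
  obtain ⟨k1, k2, k3, k4⟩ := (t_fr' r hr.1).2 hr.2
  rw [XE_S (k1.symm ▸ hr.2), XE_S (k3.symm ▸ hr.2), k1, k2, k3, k4, h.add r hr, ← add_mul,
    show ev ε true + ev ε false = 1 from ev_add h true, one_mul, h.yx r hr]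

omit h h1 h2 in
theorem e_L {r : ℕ} (hr : L r) (c : F) : e (x F r c) = XE e ι y ε (o1 r) c := by
  have k := (t_fr' r hr.1).1 hr.2
  rw [XE_L (k.symm ▸ hr.2), k]

end TY

theorem x_ne_one : x F 47 1 ≠ 1 := fun k => by
  have := (H64.SG.ad chevF4 F).toStB.eq_zero_of_x_eq_one ⟨47, by decide⟩ k
  exact one_ne_zero this

theorem jobRE : JobRE.{u} := by
  intro F _ _ _ G _ _ e t R _ ι σ η y B h ε h1 h2
  have hS := XE_st h h1 h2
  have lt : ∀ r < 48, p1 r < 72 ∧ p2 r < 72 ∧ o1 r < 72 := by decide +kernel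
  obtain ⟨C⟩ := H64.SG.jobKit chevE6 etE6 F G _ hS ⟨⟨71, by decide⟩, 1, fun k =>
    x_ne_one (B.inj (((e_L (ι := ι) (y := y) (ε := ε) (r := 47) (by decide) 1).trans k).trans (map_one e).symm))⟩
  have m : ∀ α < 72, ∀ c, XE e ι y ε α c ∈ GG chevE6 (XE e ι y ε) := fun α ha c => x_mem_GG ⟨α, ha⟩ c
  have pm : ∀ α < 72, ∀ c, C.pi (XE e ι y ε α c) = xG chevE6 F α c := fun α ha c => C.pi_y ⟨α, ha⟩ c
  have k1 : ∀ r < 48, ∀ c, e (x F r c) ∈ GG chevE6 (XE e ι y ε) ∧ C.pi (e (x F r c)) = iE F (x F r c) :=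
    fun r hr c => by
      obtain ⟨l1, l2, l3⟩ := lt r hr
      cases p : sh r
      · rw [e_L (ι := ι) (y := y) (ε := ε) ⟨hr, p⟩, iE_L ⟨hr, p⟩]; exact ⟨m _ l3 c, pm _ l3 c⟩
      · rw [e_S (ε := ε) h ⟨hr, p⟩, iE_S ⟨hr, p⟩, C.pi_mul _ (m _ l1 c) _ (m _ l2 c), pm _ l1, pm _ l2]
        exact ⟨mul_mem (m _ l1 c) (m _ l2 c), rfl⟩
  have le : ∀ u, e u ∈ GG chevE6 (XE e ι y ε) := fun u =>
    GG_le (x := xG chevF4 F) (K := (GG chevE6 (XE e ι y ε)).comap e) (fun r c => (k1 r r.2 c).1)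
      (GG_xG (D := chevF4) (F := F) ▸ Subgroup.mem_top u)
  have th : ∀ α < 72, ∀ c, t * XE e ι y ε α c * t⁻¹ = XE e ι y ε (rhoE6 α) c := fun α ha c => XE_th h h2 ha c
  have tn : t ∈ Ns (GG chevE6 (XE e ι y ε)) := by
    refine H98.mem_normalizer_of_cj_le ?_
    rintro _ ⟨g, hg, rfl⟩
    exact GG_le (K := (GG chevE6 (XE e ι y ε)).comap (MulAut.conj t).toMonoidHom) (fun α c => by
      change t * _ * t⁻¹ ∈ GG chevE6 (XE e ι y ε)
      rw [th α α.2]; exact m _ (rho_facts α α.2).1 c) hg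
  refine ⟨_, C.toCov, by rintro _ ⟨u, rfl⟩; exact le u, fun u => ?_, tn, ?_, etE6.perfect hS⟩
  · exact DFunLike.congr_fun (hom_ext_xG (φ := C.piH.comp (e.codRestrict _ le)) (ψ := iE F)
      fun r hr c => (k1 r hr c).2) u
  · have := hom_ext_xG (φ := (C.ac t).toMonoidHom) (ψ := (gE F).toMonoidHom) fun α ha c => by
      change C.ac t _ = gE F _
      rw [gE_x ha, ← pm α ha, ← C.ac_pi t tn _ (m α ha c), th α ha, pm _ (rho_facts α ha).1]
    exact MulEquiv.ext fun g => DFunLike.congr_fun this g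

end H46.SF
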