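import Cfsg.Agent.H46.SFT2
import Cfsg.Agent.H68.TwE6

/-! STD-F4: recognition of `²E₆(q)` (`JobRT`). -/

set_option autoImplicit false
set_option linter.unusedSectionVars false

open Cfsg Cfsg.Lie H63 H65 H64 H64.SF
open H64.SG (Cov Ns)
open H67.SA (cm)
open H86.WR (XF)
open H63.TG (Rg)
open scoped commutatorElement

namespace H46.SF

universe u

variable {F : Type} [Field F] [Finite F] [CharP F 2] {K : Type} [Field K] [Fintype K] [CharP K 2]
  {ι : F →+* K} {σ : RingAut K} {η : K}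

theorem Rg_pow (h : Rg ι σ η) (a : K) : σ a = a ^ Nat.card F := by
  haveI := Fintype.ofFinite F
  obtain ⟨n, -, hn⟩ := FiniteField.card F 2
  have hc := h.card
  rw [Nat.card_eq_fintype_card (α := F)] at hc ⊢
  have k0 : ∀ a b : K, (a + b) ^ Fintype.card F = a ^ Fintype.card F + b ^ Fintype.card F := fun a b => by
    rw [hn, add_pow_char_pow]
  have k1 : ∀ b : K, σ b = b → b ^ Fintype.card F = b := fun b hb => by
    obtain ⟨c, rfl⟩ := (h.fix b).1 hb
    rw [← map_pow, FiniteField.pow_card]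
  have k2 : ∀ b : K, b ^ Fintype.card F = b ∨ b ^ Fintype.card F = σ b := fun b => by
    have e1 := k1 (b + σ b) (by rw [map_add, h.ss, add_comm])
    have e2 := k1 (b * σ b) (by rw [map_mul, h.ss, mul_comm])
    rw [k0] at e1
    rw [mul_pow] at e2
    rw [← sub_eq_zero, ← sub_eq_zero (b := σ b), ← mul_eq_zero]
    linear_combination b ^ Fintype.card F * e1 - e2
  obtain ⟨b, hb⟩ : ∃ b : K, b ^ Fintype.card F ≠ b := by
    by_contra k
    push Not at k
    have h1 : 1 < Fintype.card F := Fintype.one_lt_card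
    have := (FiniteField.forall_pow_eq_one_iff K (Fintype.card F - 1)).1 fun x => Units.ext (by
      have := k x
      rw [← Nat.sub_add_cancel h1.le, pow_succ, mul_eq_right₀ x.ne_zero] at this
      simpa using this)
    have h2 := Nat.le_of_dvd (by omega) this
    rw [← Nat.card_eq_fintype_card (α := K), hc] at h2
    have h3 : Fintype.card F * 2 ≤ Fintype.card F ^ 2 := by nlinarith
    omega
  by_contra k
  have e1 := (k2 a).resolve_right (Ne.symm k)
  have e2 := (k2 b).resolve_left hb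
  rcases k2 (a + b) with e3 | e3 <;> rw [k0, e1] at e3
  · exact hb (add_left_cancel e3)
  · rw [e2, map_add] at e3; exact k ((add_right_cancel e3).symm.trans e1.symm)

/-- The quadratic extension given by `Rg`. -/
def Rg_Qx (h : Rg ι σ η) : Qx F K where
  φ := ι
  σ := σ
  hq := by
    haveI := Fintype.ofFinite F
    rw [Nat.card_eq_fintype_card]; exact FiniteField.isPrimePow_card F
  hK := Nat.card_eq_fintype_card.symm.trans h.card
  hf := Rg_pow h
  hφ := h.fix

theorem TY_prod {R : Type} [CommRing R] {ι : F →+* R} {σ : RingAut R} {η : R} {G : Type*} {G' : Type*}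
    [Group G] [Group G'] {e : XF F →* G} {e' : XF F →* G'} {θ : MulAut G} {θ' : MulAut G'}
    {y : ℕ → R → G} {y' : ℕ → R → G'} (h : TY e θ ι σ η y) (h' : TY e' θ' ι σ η y') :
    TY (e.prod e') (MulEquiv.prodCongr θ θ') ι σ η (fun r a => (y r a, y' r a)) where
  rg := h.rg
  add r k a b := Prod.ext (h.add r k a b) (h'.add r k a b)
  inj r k a p := h.inj r k a (congrArg Prod.fst p)
  yx r k c := Prod.ext (h.yx r k c) (h'.yx r k c)
  te u := Prod.ext (h.te u) (h'.te u)
  ty r k a := Prod.ext (h.ty r k a) (h'.ty r k a)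
  cp r k s m a c := Prod.ext (h.cp r k s m a c) (h'.cp r k s m a c)
  nw r k s m a := Prod.ext (h.nw r k s m a) (h'.nw r k s m a)
  c60 r s k m p a b := Prod.ext (h.c60 r s k m p a b) (h'.c60 r s k m p a b)
  c120 r s k m p a b := Prod.ext (h.c120 r s k m p a b) (h'.c120 r s k m p a b)
  c90 r s k m p a b c q := Prod.ext (h.c90 r s k m p a b c q) (h'.c90 r s k m p a b c q)
  cl r s k m p a b c q := Prod.ext (h.cl r s k m p a b c q) (h'.cl r s k m p a b c q)

theorem map_genY {G G' : Type*} [Group G] [Group G'] (e : XF F →* G) (y : ℕ → K → G) (ψ : G →* G')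
    (S : Set (H63.Rt chevF4)) : (gen (fun s : H63.Rt chevF4 => Yr e y s) S).map ψ =
      gen (fun s : H63.Rt chevF4 => Yr (ψ.comp e) (fun r a => ψ (y r a)) s) S := by
  rw [map_gen]; simp only [map_Yr]

theorem GY_top (X : Qx F K) {η : K} (hη : X.σ η = η + 1) : GY X.ιT (yQ X) = ⊤ := by
  refine yT_gen X.hq X.hK X.hf fun r hr a ha => ?_
  cases p : sh r
  · obtain ⟨c, rfl⟩ := (X.hφ a).1 (ha.resolve_left (by simp [p]))
    rw [← iT_x X.hq X.hK X.hf X.hφ hr]; exact e_mem (tyQ X hη) _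
  · have := Y_le hr (y_mem (tyQ X hη) ⟨hr, p⟩ (if sw r then X.σ a else a))
    rw [yQ] at this
    cases k : sw r <;> rw [k] at this
    · exact this
    · rwa [if_pos rfl, if_pos rfl, ss] at this

theorem ov_Q (X : Qx F K) : Ov X.ιT X.φ X.σ (yQ X) (jT X) :=
  ⟨fun _ hr => jT_x X hr, fun _ hr => jT_yQ X hr⟩

theorem blT {G : Type u} [Group G] [Finite G] {e : XF F →* G} {t : G} (X : Qx F K) {η : K} {y : ℕ → K → G}
    (he : Function.Injective e) (h : TY e (MulAut.conj t) X.φ X.σ η y) :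
    ∃ G₁ c, Bl0 X.ιT X.τT e t G₁ c := by
  have hQ := tyQ X h.rg.eta
  have hJ := TY_prod hQ h
  have oJ : Ov (X.ιT.prod e) X.φ X.σ (fun r a => (yQ X r a, y r a)) ((jT X).comp (MonoidHom.fst _ G)) :=
    ⟨fun _ hr => jT_x X hr, fun _ hr => jT_yQ X hr⟩
  set Γ := GY (X.ιT.prod e) (fun r a => (yQ X r a, y r a)) with hΓ
  have m1 : ∀ S, (gen (fun s : H63.Rt chevF4 => Yr (X.ιT.prod e) (fun r a => (yQ X r a, y r a)) s) S).map
      (MonoidHom.fst _ G) = gen (fun s : H63.Rt chevF4 => Yr X.ιT (yQ X) s) S := fun S => map_genY _ _ _ S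
  have m2 : ∀ S, (gen (fun s : H63.Rt chevF4 => Yr (X.ιT.prod e) (fun r a => (yQ X r a, y r a)) s) S).map
      (MonoidHom.snd _ G) = gen (fun s : H63.Rt chevF4 => Yr e y s) S := fun S => map_genY _ _ _ S
  have hp := GY_perf h
  let θ : Γ →* twistedE6 K (Nat.card F) := (MonoidHom.fst _ G).comp Γ.subtype
  let φ : Γ →* GY e y := ((MonoidHom.snd _ G).comp Γ.subtype).codRestrict _ fun g =>
    (m2 Set.univ).le ⟨g, g.2, rfl⟩
  have hs : Function.Surjective θ := fun g => by
    obtain ⟨a, ha, k⟩ := ((m1 Set.univ).trans (GY_top X h.rg.eta)).ge (Subgroup.mem_top g)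
    exact ⟨⟨a, ha⟩, k⟩
  have φs : Function.Surjective φ := fun g => by
    obtain ⟨a, ha, k⟩ := (m2 Set.univ).ge g.2
    exact ⟨⟨a, ha⟩, Subtype.ext k⟩
  have hk : ∀ g, θ g = 1 → ∀ z, z * g = g * z := fun g k z =>
    Subtype.ext (comm_of_ker hJ oJ g.2 ((congrArg (jT X) k).trans (map_one _)) z.2)
  have hS := H68.simple_E6 X.hq X.hK
  have hle : φ.ker ≤ θ.ker := by
    rcases hS.1.eq_bot_or_eq_top_of_normal _ (Subgroup.Normal.map inferInstance θ hs : (φ.ker.map θ).Normal)
      with h1 | h1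
    · exact (Subgroup.map_eq_bot_iff _).1 h1
    · exfalso
      have h2 : ∀ g a : GY e y, g * a = a * g := fun g a => by
        obtain ⟨a, rfl⟩ := φs a
        obtain ⟨b, hb, k⟩ : θ a ∈ φ.ker.map θ := h1 ▸ Subgroup.mem_top _
        obtain ⟨g, rfl⟩ := φs g
        have h4 : φ a = φ (b⁻¹ * a) := by rw [map_mul, map_inv, hb, inv_one, one_mul]
        rw [h4, ← map_mul, ← map_mul, hk _ (by rw [map_mul, map_inv, k, inv_mul_cancel])]
      exact x_ne_one (he ((congrArg Subtype.val (H64.SG.eq_one_of_perfect hp (MonoidHom.id _) h2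
        ⟨_, e_mem h (x F 47 1)⟩)).trans (map_one e).symm))
  let π : GY e y →* twistedE6 K (Nat.card F) :=
    φ.liftOfRightInverse _ (Function.rightInverse_surjInv φs) ⟨θ, hle⟩
  have πφ : ∀ a, π (φ a) = θ a := fun a => MonoidHom.liftOfRightInverse_comp_apply _ _ _ _ a
  have πs : Function.Surjective π := fun g => by
    obtain ⟨a, rfl⟩ := hs g
    exact ⟨_, πφ a⟩
  have πk : π.ker = Subgroup.center _ := by
    refine le_antisymm (fun g hg => Subgroup.mem_center_iff.2 fun z => ?_) fun g hg => ?_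
    · obtain ⟨g, rfl⟩ := φs g
      obtain ⟨z, rfl⟩ := φs z
      rw [← map_mul, ← map_mul, hk g ((πφ g).symm.trans hg)]
    · rcases hS.1.eq_bot_or_eq_top_of_normal (Subgroup.center _) inferInstance with h1 | h1
      · rw [MonoidHom.mem_ker, ← Subgroup.mem_bot, ← h1, Subgroup.mem_center_iff]
        intro z
        obtain ⟨z, rfl⟩ := πs z
        rw [← map_mul, ← map_mul, Subgroup.mem_center_iff.1 hg]
      · exact absurd ⟨⟨fun a b => Subgroup.mem_center_iff.1 (h1.ge (Subgroup.mem_top b)) a⟩⟩ hS.2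
  have ho : ∀ l, π l = 1 → Odd (orderOf l) := fun l hl => by
    refine H64.SG.odd_of_split π πs πk.le (H64.commutator_eq_top_of_le hp)
      (((gen (fun s : H63.Rt chevF4 => Yr (X.ιT.prod e) (fun r a => (yQ X r a, y r a)) s)
        {r | Pos r}).subgroupOf Γ).map φ) ?_ ?_ hl
    · rintro _ ⟨u, hu, rfl⟩ k
      rw [show u = 1 from Subtype.ext ((ldT hJ oJ).inj_U hu
        ((congrArg (jT X) ((πφ u).symm.trans k)).trans (map_one _))), map_one]
    · rw [Subgroup.map_map, show π.comp φ = (MonoidHom.fst _ G).comp Γ.subtype from MonoidHom.ext πφ,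
        ← Subgroup.map_map, Subgroup.subgroupOf_map_subtype, inf_eq_left.2 (gen_mono _ (Set.subset_univ _)), m1]
      exact odd_index hQ (ov_Q X) (jT_inj X) (GY_top X h.rg.eta)
  have pi : ∀ a : Γ, (Cov.ofHom π πs πk ho hp).pi a.1.2 = a.1.1 := fun a =>
    (Cov.ofHom_pi π πs πk ho hp (φ a)).trans (πφ a)
  have tn : t ∈ Ns (GY e y) := H98.mem_normalizer_of_cj_le (by rintro _ ⟨g, hg, rfl⟩; exact th_mem h hg)
  refine ⟨_, Cov.ofHom π πs πk ho hp, by rintro _ ⟨u, rfl⟩; exact e_mem h u, fun u => pi ⟨_, e_mem hJ u⟩,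
    tn, MulEquiv.ext fun g => ?_, hp⟩
  obtain ⟨a, rfl⟩ := hs g
  exact (congrArg _ (pi a).symm).trans
    (((Cov.ofHom π πs πk ho hp).ac_pi t tn _ (φ a).2).symm.trans (pi ⟨_, th_mem hJ a.2⟩))

theorem jobRT : JobRT.{u} := by
  intro F _ _ _ G _ _ e t R _ ι σ η y B h hR
  letI := hR.toField
  haveI : Finite R := Nat.finite_of_card_ne_zero (h.rg.card ▸ pow_ne_zero 2 Nat.card_pos.ne')
  letI := Fintype.ofFinite R
  haveI : CharP R 2 := charP_of_injective_ringHom h.rg.inj 2
  exact ⟨R, inferInstance, inferInstance, inferInstance, Rg_Qx h.rg, blT (Rg_Qx h.rg) B.inj h⟩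

end H46.SF
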