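import Cfsg.Agent.H46.SFRE
import Cfsg.Agent.H64.SFBasic

/-! STD-F4: the long relation, the mirror image, the good involutions (`JobTL`). -/

set_option autoImplicit false
set_option linter.unusedSectionVars false
set_option synthInstance.maxSize 4000

open Cfsg Cfsg.Lie H63 H65 H64 H64.SF
open H64.SG (Inv2)
open H67.SA (cm)
open H86.WR (XF)
open H59.SO (B1)

namespace H46.SF

universe u

theorem cm_mul_mul {G : Type*} [Group G] {a b c d z1 z2 z3 z4 : G} (h1 : cm a c = z1) (h2 : cm a d = z2)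
    (h3 : cm b c = z3) (h4 : cm b d = z4) (k1 : c * z2 = z2 * c) (k2 : c * z4 = z4 * c)
    (k3 : a * z3 = z3 * a) (k4 : a * z4 = z4 * a) : cm (a * b) (c * d) = z3 * z4 * (z1 * z2) := by
  have e1 : cm (a * b) (c * d) = a * (cm b c * (c * cm b d * c⁻¹)) * a⁻¹ * (cm a c * (c * cm a d * c⁻¹)) := by
    simp only [cm]; group
  rw [e1, h1, h2, h3, h4, k1, k2, mul_inv_cancel_right, mul_inv_cancel_right, ← mul_assoc a, k3, mul_assoc z3,
    k4, mul_assoc z3, mul_inv_cancel_right]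

/-- A long root is a sum of two orthogonal short roots. -/
theorem t_TL : ∀ r < 48, ∀ l < 48, sh r = true → sh l = false → ip r l < 0 → ∃ u < 48, ∃ v < 48,
    (sh u = true ∧ sh v = true ∧ ip u v = 0 ∧ ad u v = l ∧ ip r u = -2 ∧ ip r v = -2) ∧
    S (ad r u) ∧ S (ad r v) ∧ ip (ad r u) (ad r v) = 0 ∧ ad (ad r u) (ad r v) = ad r (ad r l) ∧
    ip (ad r u) v = -2 ∧ ad (ad r u) v = ad r l ∧ ip u (ad r v) = -2 ∧ ad u (ad r v) = ad r l ∧
    ip (ad r v) (ad r l) = 2 ∧ ip (ad r u) (ad r l) = 2 ∧ 0 ≤ ip (ad r v) l ∧ 0 ≤ ip (ad r u) l := by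
  decide +kernel

variable {F : Type} [Field F] [CharP F 2] {G : Type u} [Group G] {R : Type} [CommRing R]
  {e : XF F →* G} {θ : MulAut G} {ι : F →+* R} {σ : RingAut R} {η : R} {y : ℕ → R → G} {kb : Bool} {t : G}

theorem ty_of_sy (h : SY e θ true ι σ η y) : TY e θ ι σ η y := by
  refine ⟨h, fun r l hr hl k a c m hm => ?_⟩
  obtain ⟨u, hu, v, hv, ⟨s1, s2, s3, s4, s5, s6⟩, a1, a2, a3, a4, a5, a6, a7, a8, a9, b1, b2, b3⟩ :=
    t_TL r hr.1 l hl.1 hr.2 hl.2 k
  obtain ⟨k1, k2, k3, k4, -, k6, -, k8, k9, -⟩ := ad_lt2 r hr.1 l hl.1 hr.2 hl.2 k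
  have e0 : ι c * η + σ (ι c * η) = ι c := by
    rw [map_mul, s_i h, h.rg.eta]; linear_combination two_R ι (ι c * η)
  have e1 : cm (y u (ι c * η)) (y v 1) = e (x F l c) := by
    rw [h.c90 u v ⟨hu, s1⟩ ⟨hv, s2⟩ s3 _ _ c (by rw [map_one, mul_one, mul_one, e0]), s4, if_pos rfl]
  have e2 : ∀ w, S w → ip r w = -2 → ∀ b, y r a * y w b * (y r a)⁻¹ = y (ad r w) (σ (a * b)) * y w b :=
    fun w hw k b => by rw [← mul_inv_eq_iff_eq_mul, ← cm, h.c120 r w hr hw k, if_pos rfl]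
  have e3 : y r a * e (x F l c) * (y r a)⁻¹ =
      cm (y r a * y u (ι c * η) * (y r a)⁻¹) (y r a * y v 1 * (y r a)⁻¹) := by
    rw [← e1]; simp only [cm]; group
  have e4 := h.c90 _ _ a1 a2 a3 (σ (a * (ι c * η))) (σ (a * 1)) (c * m) (by
    rw [map_mul ι, hm, h.rg.ss, h.rg.ss, map_mul σ a, mul_one]; linear_combination (-a * σ a) * e0)
  have l1 := y_long h ⟨k1, k3⟩ hl (by rw [ip_comm]; exact k6.le)
  have l2 := y_long h ⟨k1, k3⟩ ⟨k2, k4⟩ k9.le
  rw [cm, e3, e2 u ⟨hu, s1⟩ s5, e2 v ⟨hv, s2⟩ s6, cm_mul_mul e4 (h.c120 _ _ a1 ⟨hv, s2⟩ a5 _ _)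
    (h.c120 _ _ ⟨hu, s1⟩ a2 a7 _ _) e1 (by rw [a6]; exact h.c60 _ _ a2 ⟨k1, k3⟩ a9 _ _) (y_long h a2 hl b2 _ _)
    (by rw [a8]; exact h.c60 _ _ a1 ⟨k1, k3⟩ b1 _ _) (y_long h a1 hl b3 _ _), a4, a6, a8, if_pos rfl, if_pos rfl,
    if_pos rfl, ← l2, mul_assoc (y _ _), ← mul_assoc (e _), ← l1, mul_assoc (y _ _), mul_assoc _ (e _) (e _),
    ← map_mul e, x_c0 hl.1 k2 k8.ge, map_mul e, ← mul_assoc (y _ _) (e _), mul_inv_cancel_right, ← mul_assoc,
    h.add _ ⟨k1, k3⟩]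
  congr 2
  rw [mul_one, mul_one, h.rg.ss, map_mul σ _ (σ a), h.rg.ss]
  linear_combination a * e0

theorem y_eta (h : SY e (MulAut.conj t) kb ι σ η y) (B : B1 e t) {r : ℕ} (hr : S r) :
    y r η * t * (y r η)⁻¹ = t * e (x F r 1) := by
  have k : t * y r η * t⁻¹ = y r (η + 1) := (h.ty r hr η).trans (by rw [h.rg.eta])
  rw [← h.yx r hr, map_one, show (1 : R) = η + 1 + η by linear_combination -two_R ι η, ← h.add r hr, ← k,
    ← mul_assoc, ← mul_assoc, ← mul_assoc, B.inv.1, one_mul, B.inv_eq, y_inv h hr]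

theorem mv_mir [Finite F] {e' : XF F →* G} (m : Mir e e') (B : B1 e t) (h : SY e (MulAut.conj t) false ι σ η y) :
    Mv e' t := by
  obtain ⟨φ, ψ, -, m1, -⟩ := m.ex
  have k : e' (x F 44 1) = e (x F 47 1) := by rw [m1 44 (by decide), map_one]; rfl
  have l1 := y_long h (r := 44) (s := 47) (by decide) (by decide) (by decide) η 1
  have l2 := y_long h (r := 29) (s := 47) (by decide) (by decide) (by decide) η 1
  have l3 : e (x F 6 1) * e (x F 47 1) = e (x F 47 1) * e (x F 6 1) := by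
    rw [← map_mul, c0' 6 47, map_mul]
  have l4 : y 29 η * e (x F 44 1) = e (x F 44 1) * y 29 η := by
    refine comm_of_cm ?_
    rw [← h.yx 44 (by decide), h.c90 29 44 (by decide) (by decide) (by decide) _ _ 1
      (by rw [map_one, map_one, h.rg.eta]; linear_combination -two_R ι η)]
    exact (congrArg e (x_zero (by decide +kernel))).trans (map_one e)
  have l5 : y 29 η * e (x F 29 1) = e (x F 29 1) * y 29 η := by
    rw [← h.yx 29 (by decide), h.add _ (by decide), h.add _ (by decide), add_comm]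
  have l6 : y 44 η * e (x F 44 1) = e (x F 44 1) * y 44 η := by
    rw [← h.yx 44 (by decide), h.add _ (by decide), h.add _ (by decide), add_comm]
  have l7 : x F 6 1 * x F 44 1 * (x F 6 1)⁻¹ = x F 47 1 * x F 29 1 * x F 44 1 := by
    have := c2' 44 6 29 47 (1 : F) 1
    rw [mul_one, one_pow, mul_one, ← inv_inj, ← cm_symm, mul_inv_rev, x_inv (r := 47) (by decide),
      x_inv (r := 29) (by decide)] at this
    rw [← this, cm, inv_mul_cancel_right]
  refine ⟨y 44 η * (y 29 η * (e (x F 6 1) * y 44 η)), 1, one_ne_zero, ?_, ?_⟩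
  · have cj : ∀ a b g : G, a * b * g * (a * b)⁻¹ = a * (b * g * b⁻¹) * a⁻¹ := fun _ _ _ => by group
    have cc : ∀ {a b : G}, a * b = b * a → a * b * a⁻¹ = b := fun k => by rw [k, mul_inv_cancel_right]
    have cd : ∀ a b c : G, a * (b * c) * a⁻¹ = a * b * a⁻¹ * (a * c * a⁻¹) := fun _ _ _ => by group
    rw [k, cj, cj, cj, y_eta h B (by decide), cd (e _), B.conj_t, ← map_inv, ← map_mul, ← map_mul, l7,
      map_mul, map_mul, cd (y 29 η), cd (y 29 η), cd (y 29 η), y_eta h B (by decide), cc l2, cc l5, cc l4,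
      mul_assoc t, ← map_mul, ← map_mul, ← map_mul, c0' 47 29, ← mul_assoc (x F 29 1), ← mul_assoc (x F 29 1),
      x_sq (by decide), one_mul, map_mul, cd (y 44 η), cd (y 44 η), y_eta h B (by decide), cc l1, cc l6,
      mul_assoc t, ← map_mul, ← map_mul, c0' 47 44, ← mul_assoc (x F 44 1), x_sq (by decide), one_mul]
  · rw [k]
    exact (Commute.mul_left l1 (Commute.mul_left l2 (Commute.mul_left l3 l1)) :)

theorem tt_conj (B : B1 e t) {u v : XF F} (k : IsConj u v) (h : TT e t u) : TT e t v := by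
  obtain ⟨g, rfl⟩ := isConj_iff.1 k
  exact h.trans (isConj_iff.2 ⟨e g, by rw [← conj_mul, B.conj_t, map_mul, map_mul, map_inv]⟩)

theorem tt_y (h : SY e (MulAut.conj t) kb ι σ η y) (B : B1 e t) {r l : ℕ} (hr : S r) (hl : L l)
    (k : 0 ≤ ip r l) (T : TT e t (x F r 1 * x F l 1)) : TT e t (x F l 1) :=
  T.trans (isConj_iff.2 ⟨y r η, by
    rw [← conj_mul, y_eta h B hr, y_long h hr hl k, mul_inv_cancel_right, map_mul, mul_assoc]⟩).symm

theorem jobTL (hFI : JobFI) : JobTL.{u} := by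
  intro F _ _ _ G _ _ e t R _ ι σ η y
  refine ⟨fun θ => ty_of_sy, fun e' => mv_mir, fun B h hn u T => ?_⟩
  by_cases h1 : u = 1
  · exact Or.inl h1
  have h2 : u * u = 1 := by
    have := (H9.UF.inv2_conj B.inv T).1
    rw [mul_assoc, ← mul_assoc (e u), ← B.comm, ← mul_assoc, ← mul_assoc, B.inv.1, one_mul, ← map_mul] at this
    exact B.inj (this.trans (map_one e).symm)
  rcases (hFI F).cls u ⟨h2, h1⟩ with k | k | k | k
  · exact Or.inr k
  · exact absurd (tt_conj B ((rt_iff (by decide)).1 k).symm T) (hn 1 one_ne_zero)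
  · exact absurd (tt_y h B (by decide) (by decide) (by decide) (tt_conj B k.symm T)) (hn 1 one_ne_zero)
  · exact absurd (tt_conj B (isConj_x (by decide) (by decide) (by decide) one_ne_zero one_ne_zero)
      (tt_y h B (by decide) (by decide) (by decide) (tt_conj B k.symm T))) (hn 1 one_ne_zero)

end H46.SF
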