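import Cfsg.Agent.H31.O7K

/-! O7, chapter B: the spin kit (`JobSK`). -/

set_option autoImplicit false
set_option linter.unusedSectionVars false

open H56 QuadraticMap Module Cfsg H31.O7

namespace H46.O7

universe u

variable {K : Type u} [Field K] {V : Type u} [AddCommGroup V] [Module K V] {Q : QuadraticForm K V}
  {S : Type u} [AddCommGroup S] [Module K S] {β : QuadraticForm K S} {γ : V →ₗ[K] S →ₗ[K] S}
  {e : V} {v w : Fin 3 → V} {s : S}

/-- A hyperbolic basis exists. -/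
theorem exists_hb [IsAlgClosed K] [FiniteDimensional K V] (h2 : (2 : K) ≠ 0) (hd : finrank K V = 7)
    (hQ : Q.polarBilin.Nondegenerate) : ∃ e v w, Hb Q e v w := by
  letI := invertibleOfNonzero h2
  obtain ⟨b, hb⟩ := LinearMap.BilinForm.exists_orthogonal_basis (B := Q.polarBilin)
    ⟨fun x y => by simp [polar_comm Q x y]⟩
  have h1 := fun i => IsAlgClosed.exists_eq_mul_self (Q.polarBilin (b i) (b i))⁻¹
  choose c hc using h1
  obtain ⟨u, hu⟩ : ∃ u : Fin 7 → V, ∀ i j, polar Q (u i) (u j) = if i = j then 1 else 0 := by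
    refine ⟨fun i => c (i.cast hd.symm) • b (i.cast hd.symm), fun i j => ?_⟩
    rw [polar_smul_left, polar_smul_right, smul_eq_mul, smul_eq_mul, ← mul_assoc]
    split_ifs with k
    · rw [← k, ← hc]; exact inv_mul_cancel₀ (hb.not_isOrtho_basis_self_of_separatingLeft hQ.1 _)
    · exact mul_eq_zero_of_right _ (hb fun e => k (Fin.cast_injective _ e))
  obtain ⟨ι, hι⟩ := IsAlgClosed.exists_eq_mul_self (-1 : K)
  refine ⟨u 6, fun i => (2 : K)⁻¹ • (u (![0, 2, 4] i) + ι • u (![1, 3, 5] i)),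
    fun i => u (![0, 2, 4] i) - ι • u (![1, 3, 5] i), fun k => ?_, fun i => ?_, fun i => ?_, fun i j => ?_,
    fun i j => ?_, fun i j => ?_⟩
  · have := hu 6 6
    rw [polar_self', k] at this
    simp at this
  all_goals simp only [polar_add_left, polar_add_right, polar_sub_left, polar_sub_right, polar_smul_left,
    polar_smul_right, hu, smul_eq_mul]
  all_goals fin_cases i
  all_goals try fin_cases j
  all_goals simp [← hι]
  all_goals field_simp
  all_goals first | linear_combination hι | exact Or.inr (by linear_combination -hι)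

variable (γ w) in
/-- `γ(w_j)` or the identity -/
def xI (I : Finset (Fin 3)) (j : Fin 3) (s : S) : S := if j ∈ I then γ (w j) s else s

variable (γ w) in
/-- the vectors `γ(w_I) s` -/
def bI (s : S) (I : Finset (Fin 3)) : S := xI γ w I 0 (xI γ w I 1 (xI γ w I 2 s))

variable (γ v w) in
/-- the number operators -/
def nI (i : Fin 3) : S →ₗ[K] S := γ (w i) ∘ₗ γ (v i)

variable (h : Spin Q β γ) (b : Hb Q e v w)
include h b

theorem vv (i j : Fin 3) (s : S) : γ (v i) (γ (v j) s) = -γ (v j) (γ (v i) s) :=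
  eq_neg_of_add_eq_zero_left (by rw [h.anti, b.vv, zero_smul])

theorem ww (i j : Fin 3) (s : S) : γ (w i) (γ (w j) s) = -γ (w j) (γ (w i) s) :=
  eq_neg_of_add_eq_zero_left (by rw [h.anti, b.ww, zero_smul])

theorem vw {i j : Fin 3} (k : i ≠ j) (s : S) : γ (v i) (γ (w j) s) = -γ (w j) (γ (v i) s) :=
  eq_neg_of_add_eq_zero_left (by rw [h.anti, b.vw, if_neg k, zero_smul])

theorem vw' (i : Fin 3) (s : S) : γ (v i) (γ (w i) s) = s - γ (w i) (γ (v i) s) :=
  eq_sub_of_add_eq (by rw [h.anti, b.vw, if_pos rfl, one_smul])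

theorem v2 (i : Fin 3) (s : S) : γ (v i) (γ (v i) s) = 0 :=
  (smul_eq_zero.1 (by rw [two_smul, h.anti, b.vv, zero_smul])).resolve_left h.two

theorem w2 (i : Fin 3) (s : S) : γ (w i) (γ (w i) s) = 0 :=
  (smul_eq_zero.1 (by rw [two_smul, h.anti, b.ww, zero_smul])).resolve_left h.two

theorem exists_vac : ∃ s : S, s ≠ 0 ∧ ∀ i, γ (v i) s = 0 := by
  have st : ∀ (j : Fin 3) (s : S), s ≠ 0 → ∃ s', s' ≠ 0 ∧ γ (v j) s' = 0 ∧ ∀ i, γ (v i) s = 0 → γ (v i) s' = 0 :=
    fun j s hs => by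
      by_cases k : γ (v j) s = 0
      · exact ⟨s, hs, k, fun _ => id⟩
      · exact ⟨_, k, v2 h b j s, fun i hi => by rw [vv h b, hi, map_zero, neg_zero]⟩
  have : Nontrivial S := nontrivial_of_finrank_pos (R := K) (by rw [h.dim]; decide)
  obtain ⟨s, hs⟩ := exists_ne (0 : S)
  obtain ⟨s0, a0, a1, -⟩ := st 0 s hs
  obtain ⟨s1, b0, b1, b2⟩ := st 1 s0 a0
  obtain ⟨s2, c0, c1, c2⟩ := st 2 s1 b0
  exact ⟨s2, c0, fun i => by fin_cases i; exacts [c2 _ (b2 _ a1), c2 _ b1, c1]⟩

theorem xI_ker (I : Finset (Fin 3)) {i j : Fin 3} (k : i ≠ j) (hs : γ (v i) s = 0) :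
    γ (v i) (xI γ w I j s) = 0 := by
  unfold xI; split_ifs
  · rw [vw h b k, hs, map_zero, neg_zero]
  · exact hs

theorem xI_ne (I : Finset (Fin 3)) {j : Fin 3} (hs : γ (v j) s = 0) (h0 : s ≠ 0) : xI γ w I j s ≠ 0 := by
  unfold xI; split_ifs
  · exact fun k => h0 (by simpa [k, hs] using (vw' h b j s).symm)
  · exact h0

theorem bI_ne (hs : ∀ i, γ (v i) s = 0) (h0 : s ≠ 0) (I : Finset (Fin 3)) : bI γ w s I ≠ 0 :=
  xI_ne h b I (xI_ker h b I (by decide) (xI_ker h b I (by decide) (hs 0)))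
    (xI_ne h b I (xI_ker h b I (by decide) (hs 1)) (xI_ne h b I (hs 2) h0))

theorem nI_xI (I : Finset (Fin 3)) {i j : Fin 3} (k : i ≠ j) (s : S) :
    nI γ v w i (xI γ w I j s) = xI γ w I j (nI γ v w i s) := by
  unfold xI; split_ifs
  · simp only [nI, LinearMap.comp_apply]; rw [vw h b k, map_neg, ww h b i, neg_neg]
  · rfl

theorem nI_self (I : Finset (Fin 3)) (i : Fin 3) (s : S) :
    nI γ v w i (xI γ w I i s) = if i ∈ I then xI γ w I i s else nI γ v w i s := by
  unfold xI; split_ifs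
  · simp only [nI, LinearMap.comp_apply]; rw [vw' h b, map_sub, w2 h b, sub_zero]
  · rfl

omit h b in
theorem xI_zero (I : Finset (Fin 3)) (j : Fin 3) : xI γ w I j 0 = 0 := by simp [xI]

theorem nI_bI (hs : ∀ i, γ (v i) s = 0) (I : Finset (Fin 3)) (i : Fin 3) :
    nI γ v w i (bI γ w s I) = if i ∈ I then bI γ w s I else 0 := by
  have z : ∀ i, nI γ v w i s = 0 := fun i => by simp [nI, hs]
  have k : i = 0 ∨ i = 1 ∨ i = 2 := by revert i; decide
  rcases k with rfl | rfl | rfl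
  · rw [bI, nI_self h b, nI_xI h b I (by decide), nI_xI h b I (by decide), z, xI_zero, xI_zero]
  · rw [bI, nI_xI h b I (by decide), nI_self h b, nI_xI h b I (by decide), z, xI_zero]
    split_ifs; exacts [rfl, xI_zero ..]
  · rw [bI, nI_xI h b I (by decide), nI_xI h b I (by decide), nI_self h b, z]
    split_ifs; exacts [rfl, by rw [xI_zero, xI_zero]]

variable (γ v w) in
omit h b in
/-- the projections -/
def pI (I : Finset (Fin 3)) (i : Fin 3) : S →ₗ[K] S := if i ∈ I then nI γ v w i else LinearMap.id - nI γ v w i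

theorem pI_bI (hs : ∀ i, γ (v i) s = 0) (I J : Finset (Fin 3)) :
    (pI γ v w I 0 ∘ₗ pI γ v w I 1 ∘ₗ pI γ v w I 2) (bI γ w s J) = if I = J then bI γ w s J else 0 := by
  have k : ∀ i, pI γ v w I i (bI γ w s J) = if (i ∈ I ↔ i ∈ J) then bI γ w s J else 0 := fun i => by
    by_cases a : i ∈ I <;> by_cases c : i ∈ J <;> simp [pI, nI_bI h b hs, a, c]
  have e : I = J ↔ (0 ∈ I ↔ 0 ∈ J) ∧ (1 ∈ I ↔ 1 ∈ J) ∧ (2 ∈ I ↔ 2 ∈ J) := by
    rw [Finset.ext_iff, Fin.forall_fin_succ, Fin.forall_fin_two]; rfl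
  rw [LinearMap.comp_apply, LinearMap.comp_apply, k]
  by_cases a2 : 2 ∈ I ↔ 2 ∈ J
  swap
  · rw [if_neg a2, map_zero, map_zero, if_neg fun z => a2 (e.1 z).2.2]
  rw [if_pos a2, k]
  by_cases a1 : 1 ∈ I ↔ 1 ∈ J
  swap
  · rw [if_neg a1, map_zero, if_neg fun z => a1 (e.1 z).2.1]
  rw [if_pos a1, k]
  exact if_congr ⟨fun a0 => e.2 ⟨a0, a1, a2⟩, fun z => (e.1 z).1⟩ rfl rfl

theorem bI_li (hs : ∀ i, γ (v i) s = 0) (h0 : s ≠ 0) : LinearIndependent K (bI γ w s) :=
  Fintype.linearIndependent_iff.2 fun c hc I => by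
    have := congrArg (pI γ v w I 0 ∘ₗ pI γ v w I 1 ∘ₗ pI γ v w I 2) hc
    simp only [map_sum, map_smul, pI_bI h b hs, map_zero, smul_ite, smul_zero, Finset.sum_ite_eq,
      Finset.mem_univ, if_true] at this
    exact (smul_eq_zero.1 this).resolve_right (bI_ne h b hs h0 I)

/-- the basis -/
noncomputable def bas (hs : ∀ i, γ (v i) s = 0) (h0 : s ≠ 0) : Basis (Finset (Fin 3)) K S :=
  basisOfLinearIndependentOfCardEqFinrank (bI_li h b hs h0) (by rw [h.dim]; rfl)

theorem bas_apply (hs : ∀ i, γ (v i) s = 0) (h0 : s ≠ 0) (I : Finset (Fin 3)) :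
    bas h b hs h0 I = bI γ w s I := by simp [bas]

/-- The common kernel is a line. -/
theorem vac_uniq (hs : ∀ i, γ (v i) s = 0) (h0 : s ≠ 0) {t : S} (ht : ∀ i, γ (v i) t = 0) :
    ∃ c : K, t = c • s := by
  have := congrArg (pI γ v w ∅ 0 ∘ₗ pI γ v w ∅ 1 ∘ₗ pI γ v w ∅ 2) ((bas h b hs h0).sum_repr t)
  simp only [map_sum, map_smul, bas_apply, pI_bI h b hs, smul_ite, smul_zero, Finset.sum_ite_eq,
    Finset.mem_univ, if_true] at this
  exact ⟨_, by simpa [pI, nI, ht, bI, xI] using this.symm⟩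

theorem pol (hs : ∀ i, γ (v i) s = 0) (h0 : s ≠ 0) (I J : Finset (Fin 3)) :
    polar β (bI γ w s I) (bI γ w s J) ≠ 0 ↔ J = Iᶜ := by
  have k : ∀ J, polar β (bI γ w s I) (bI γ w s J) ≠ 0 → J = Iᶜ := fun J hJ => Finset.ext fun i => by
    have e : polar β (nI γ v w i (bI γ w s I)) (bI γ w s J) = polar β (bI γ w s I) (bI γ w s J) -
        polar β (bI γ w s I) (nI γ v w i (bI γ w s J)) := by
      simp only [nI, LinearMap.comp_apply]
      rw [h.skew, h.skew, neg_neg, vw' h b, polar_sub_right]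
    rw [nI_bI h b hs, nI_bI h b hs] at e
    by_cases a : i ∈ I <;> by_cases c : i ∈ J <;> simp_all
  refine ⟨k J, fun e z => bI_ne h b hs h0 I (eq_zero_of_polar h.nd fun y => ?_)⟩
  rw [← (bas h b hs h0).sum_repr y, ← polarBilin_apply_apply, map_sum]
  refine Finset.sum_eq_zero fun J' _ => ?_
  rw [map_smul, bas_apply, polarBilin_apply_apply]
  by_cases c : J' = J
  · rw [c, z, smul_zero]
  · rw [not_not.1 fun a => c ((k J' a).trans e.symm), smul_zero]

omit h b in
theorem lf_bI {g : O Q} {G : S ≃ₗ[K] S} (a : Lf γ g G) {m : Fin 3 → K} (hw : ∀ i, g (w i) = m i • w i)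
    {μ : K} (hs : G s = μ • s) (I : Finset (Fin 3)) :
    G (bI γ w s I) = (μ * ∏ i ∈ I, m i) • bI γ w s I := by
  have k : ∀ (j : Fin 3) (t : S) (c : K), G t = c • t →
      G (xI γ w I j t) = ((if j ∈ I then m j else 1) * c) • xI γ w I j t := fun j t c ht => by
    unfold xI; split_ifs
    · rw [a, hw, ht, map_smul, map_smul, LinearMap.smul_apply, smul_smul, mul_comm]
    · rw [one_mul, ht]
  rw [bI, k _ _ _ (k _ _ _ (k _ _ _ hs)), ← Finset.univ_inter I, ← Finset.prod_ite_mem, Fin.prod_univ_three,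
    Finset.univ_inter]
  congr 1; ring

theorem sb : ∃ c, SB (Q := Q) β γ e v w c := by
  obtain ⟨s, h0, hs⟩ := exists_vac h b
  refine ⟨bas h b hs h0, fun I J => ?_, fun g l hg G a => ?_, fun g hg G a => ?_⟩
  · rw [bas_apply, bas_apply]; exact pol h b hs h0 I J
  · obtain ⟨μ, hμ⟩ := vac_uniq h b hs h0 (t := G s) fun i => by
      have := a (v i) s
      rw [hs, map_zero, (hg.2 i).2.1, map_smul, LinearMap.smul_apply] at this
      exact (smul_eq_zero.1 this.symm).resolve_left (hg.2 i).1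
    have k := lf_bI a (fun i => (hg.2 i).2.2) hμ
    refine ⟨μ, ?_, fun I => by rw [bas_apply]; exact k I⟩
    have e1 := G.map_polar (bI γ w s ∅) (bI γ w s Finset.univ)
    rw [show G (bI γ w s ∅) = _ from k _, show G (bI γ w s Finset.univ) = _ from k _, polar_smul_left,
      polar_smul_right, smul_eq_mul, smul_eq_mul, ← mul_assoc,
      mul_eq_right₀ ((pol h b hs h0 _ _).2 (by simp)), Finset.prod_empty, Fin.prod_univ_three] at e1
    have l0 := (hg.2 0).1
    have l1 := (hg.2 1).1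
    have l2 := (hg.2 2).1
    field_simp at e1
    linear_combination e1
  · obtain ⟨c, hc⟩ := vac_uniq h b hs h0 (t := G s) fun i => by
      have := a (v (i - 1)) s
      rw [hs, map_zero, (hg.2 _).1, sub_add_cancel] at this
      exact this.symm
    refine ⟨c, by rw [bas_apply]; exact hc, ?_⟩
    rw [bas_apply]
    change G.1 (γ (w 0) (γ (w 1) (γ (w 2) s))) = c • γ (w 0) (γ (w 1) (γ (w 2) s))
    rw [a, a, a, (hg.2 0).2, (hg.2 1).2, (hg.2 2).2, show G.1 s = _ from hc]
    change γ (w 1) (γ (w 2) (γ (w 0) _)) = _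
    rw [ww h b 2 0, map_neg, ww h b 1 0, neg_neg, map_smul, map_smul, map_smul]

theorem uniq {g : O Q} {G G' : S ≃ₗ[K] S} (a : Lf γ g G) (a' : Lf γ g G') : ∃ c : K, ∀ s, G' s = c • G s := by
  obtain ⟨s, h0, hs⟩ := exists_vac h b
  have a1 := a.inv.mul a'
  rw [inv_mul_cancel] at a1
  obtain ⟨c, hc⟩ := vac_uniq h b hs h0 (t := (G⁻¹ * G') s) fun i => by
    have := a1 (v i) s
    rw [hs, map_zero] at this
    exact this.symm
  have k : (G⁻¹ * G' : S ≃ₗ[K] S).toLinearMap = c • LinearMap.id := (bas h b hs h0).ext fun I => by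
    simpa [bas_apply] using lf_bI a1 (m := fun _ => 1) (fun i => (one_smul K _).symm) hc I
  refine ⟨c, fun t => ?_⟩
  have := congrArg G (LinearMap.congr_fun k t)
  rw [LinearMap.smul_apply, map_smul] at this
  exact (G.apply_symm_apply _).symm.trans this

theorem pm {g : O Q} {G G' : O β} (a : Lf γ g G.1) (a' : Lf γ g G'.1) : G' = G ∨ G' = O.negOne β * G := by
  obtain ⟨c, hc⟩ := uniq h b a a'
  obtain ⟨s, h0, -⟩ := exists_vac h b
  obtain ⟨y, hy⟩ := exists_Q_ne_zero h.nd h0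
  have e1 := G'.map_Q y
  rw [show G' y = c • G y from hc y, Q_smul, G.map_Q, mul_eq_right₀ hy, mul_self_eq_one_iff] at e1
  refine e1.imp (fun k => O.ext fun t => ?_) fun k => O.ext fun t => ?_
  · rw [show G' t = c • G t from hc t, k, one_smul]
  · rw [show G' t = c • G t from hc t, k, neg_one_smul]; rfl

omit b

theorem refl_tw {u : V} (hu : Q u ≠ 0) (x : V) (s : S) : γ u (γ x s) = -γ (refl Q u x) (γ u s) := by
  rw [refl_apply, map_sub, map_smul, LinearMap.sub_apply, LinearMap.smul_apply, h.sq, smul_smul,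
    mul_right_comm, inv_mul_cancel₀ hu, one_mul, ← h.anti]
  abel

theorem det_neg (f : S →ₗ[K] S) [FiniteDimensional K S] : LinearMap.det (-f) = LinearMap.det f := by
  rw [← neg_one_smul K f, LinearMap.det_smul, h.dim]; norm_num

theorem det_sq (u : V) [FiniteDimensional K S] : LinearMap.det (γ u) * LinearMap.det (γ u) = Q u ^ 8 := by
  rw [← LinearMap.det_comp, show γ u ∘ₗ γ u = Q u • LinearMap.id from LinearMap.ext (h.sq u),
    LinearMap.det_smul, h.dim, LinearMap.det_id, mul_one]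

theorem det_same [FiniteDimensional K S] {u u' : V} (hu : Q u = -1) (hu' : Q u' = -1) :
    LinearMap.det (γ u) = LinearMap.det (γ u') := by
  have k : ∀ u', Q u' = -1 → Q (u - u') ≠ 0 → LinearMap.det (γ u) = LinearMap.det (γ u') := fun u' a c => by
    have e1 : γ (u - u') ∘ₗ γ u = -(γ u' ∘ₗ γ (u - u')) := LinearMap.ext fun s => by
      rw [LinearMap.comp_apply, refl_tw h c, refl_sub_apply (hu.trans a.symm) c]; rfl
    have e2 := congrArg LinearMap.det e1
    rw [det_neg h, LinearMap.det_comp, LinearMap.det_comp, mul_comm] at e2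
    exact mul_right_cancel₀ (fun z => pow_ne_zero 8 c (by rw [← det_sq h, z, mul_zero])) e2
  by_cases c : Q (u - u') = 0
  · rw [k (-u') (by rw [QuadraticMap.map_neg, hu']) fun c' => ?_, map_neg, det_neg h]
    rw [Q_sub, QuadraticMap.map_neg, polar_neg_right, hu, hu'] at c'
    rw [Q_sub, hu, hu'] at c
    exact mul_ne_zero h.two h.two (by linear_combination -c - c')
  · exact k u' hu' c

theorem lift [IsAlgClosed K] [FiniteDimensional K V] [FiniteDimensional K S] (g : O Q)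
    (hg : LinearMap.det g.lin = 1) : ∃ G : O β, Lf γ g G.1 ∧ LinearMap.det G.lin = 1 := by
  have key : ∀ g : O Q, ∃ (G : O β) (k : ℕ), LinearMap.det g.lin = (-1) ^ k ∧
      (∀ u, Q u = -1 → LinearMap.det G.lin = LinearMap.det (γ u) ^ k) ∧ (k = 0 → G = 1) ∧
      (k ≠ 0 → ∃ u, Q u = -1) ∧ ∀ x s, G (γ x s) = (-1 : K) ^ k • γ (g x) (G s) := fun g => by
    induction g using O.refl_induction h.ndV (not_isExc_of_two_ne h.two) with
    | h1 => exact ⟨1, 0, by simp, by simp, fun _ => rfl, fun k => absurd rfl k, by simp⟩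
    | hmul u hu g ih =>
      obtain ⟨G, k, a1, a2, -, -, a3⟩ := ih
      obtain ⟨c, hc⟩ := IsAlgClosed.exists_eq_mul_self (-(Q u)⁻¹)
      have c0 : c ≠ 0 := fun z => hu (by simpa [z] using hc)
      have q : Q (c • u) = -1 := by rw [Q_smul, ← hc, neg_mul, inv_mul_cancel₀ hu]
      let U : O β := O.ofInv (γ (c • u)) (-γ (c • u)) (fun s => by rw [h.norm, q, neg_neg, one_mul])
        (fun s => by rw [LinearMap.neg_apply, map_neg, h.sq, q, neg_one_smul, neg_neg])
        fun s => by rw [LinearMap.neg_apply, h.sq, q, neg_one_smul, neg_neg]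
      refine ⟨U * G, k + 1, ?_, fun u' hu' => ?_, fun z => absurd z k.succ_ne_zero, fun _ => ⟨_, q⟩,
        fun x s => ?_⟩
      · rw [O.lin_mul, LinearMap.det_comp, det_refl hu, a1, pow_succ']
      · rw [O.lin_mul, LinearMap.det_comp, a2 u' hu', pow_succ', ← det_same h q hu']; rfl
      · change γ (c • u) (G (γ x s)) = _ • γ (refl Q u (g x)) (γ (c • u) (G s))
        rw [a3, map_smul, refl_tw h (by rw [q]; simp), refl_smul c0, pow_succ, mul_neg_one, neg_smul, smul_neg]
  obtain ⟨G, k, a1, a2, a3, a4, a5⟩ := key g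
  rw [hg] at a1
  have ev : Even k := (neg_one_pow_eq_one_iff_even fun z => h.two (by linear_combination -z)).1 a1.symm
  refine ⟨G, fun x s => by simpa [← a1] using a5 x s, ?_⟩
  by_cases z : k = 0
  · rw [a3 z, O.lin_one, LinearMap.det_id]
  · obtain ⟨u, hu⟩ := a4 z
    obtain ⟨m, rfl⟩ := ev
    rw [a2 u hu, pow_add, ← mul_pow, det_sq h, hu]; norm_num

omit h in
theorem neg_mul_pow (G : O β) {n : ℕ} (hn : Odd n) : (O.negOne β * G) ^ n = O.negOne β * G ^ n := by
  obtain ⟨m, rfl⟩ := hn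
  rw [(show Commute (O.negOne β) G from (Subgroup.mem_center_iff.1 O.negOne_mem_center G).symm).mul_pow,
    pow_succ' (O.negOne β), pow_mul, pow_two, O.negOne_mul_self, one_pow, mul_one]

omit h

theorem jobSK : JobSK.{u} := by
  intro K _ _ V _ _ _ Q S _ _ _ β γ h
  obtain ⟨e, v, w, b⟩ := exists_hb h.two h.dimV h.ndV
  refine ⟨fun g hg => (lift h g hg).imp fun _ => And.left, fun g G hg a => ?_, fun _ _ _ => uniq h b,
    fun _ _ _ => pm h b, fun g n hn e => ?_, fun g G G' n m hn hm e e' a a' => ?_, fun _ _ _ b => sb h b⟩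
  · obtain ⟨G', a', d⟩ := lift h g hg
    rcases pm h b a' a with rfl | rfl
    · exact d
    · rw [← d, ← det_neg h G'.lin]; rfl
  · obtain ⟨G, a, -⟩ := lift h g (det_of_odd h.ndV hn e)
    have a1 := a.pow n
    rw [e] at a1
    rcases pm h b (G := 1) (G' := G ^ n) (Lf.one γ) a1 with k | k
    · exact ⟨G, a, k⟩
    · exact ⟨_, a.neg, by rw [neg_mul_pow G hn, k, mul_one, O.negOne_mul_self]⟩
  · refine (pm h b a a').resolve_right fun k => ?_
    have e1 : G' ^ (n * m) = 1 := by rw [mul_comm, pow_mul, e', one_pow]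
    rw [k, neg_mul_pow G (hn.mul hm), pow_mul, e, one_pow, mul_one] at e1
    have := O.rk_negOne (Q := β) h.two
    rw [e1, O.rk_one, h.dim] at this
    omega

end H46.O7
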