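import Cfsg.Agent.H46.FSNon

/-! Tower FS, slot Z2: the case `|⁅X, X⁆ : ⁅X, X⁆ ⊓ Z(G)| = 2`. -/

set_option autoImplicit false
set_option linter.unusedSectionVars false

open Cfsg H82.FS Subgroup H46.FSNon
open scoped commutatorElement

namespace H46.FSZ2

export H82.FS (cj cj_mul conj_mem_cj cj_eq_iff mem_cj cj_one cj_mono cj_cj cj_inv_cj cj_cj_inv
  card_cj cj_norm cj_sup cj_inf cj_cen cj_inj)

universe u

variable {G : Type u} [Group G] [Finite G] {p : ℕ} {A X : Subgroup G}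

/-- the preimage of the kernel of `c - 1` -/
def Kr (h : Cls 2 A X) {c : G} (hc : c ∈ normalizer (X : Set G)) : Subgroup G where
  carrier := {w | w ∈ X ∧ ⁅w, c⁆ ∈ ⁅X, X⁆}
  one_mem' := ⟨one_mem _, by simp⟩
  mul_mem' := fun {a b} ha hb => ⟨mul_mem ha.1 hb.1, by
    have : ⁅a * b, c⁆ = a * ⁅b, c⁆ * a⁻¹ * ⁅a, c⁆ := by simp only [commutatorElement_def]; group
    rw [this]
    exact mul_mem (cjm (nZ (le_normalizer ha.1)) hb.2) ha.2⟩
  inv_mem' := fun {a} ha => ⟨inv_mem ha.1, by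
    have : ⁅a⁻¹, c⁆ = a⁻¹ * ⁅a, c⁆⁻¹ * a⁻¹⁻¹ := by simp only [commutatorElement_def]; group
    rw [this]
    exact cjm (nZ (le_normalizer (inv_mem ha.1))) (inv_mem ha.2)⟩

/-- the preimage of the image of `c - 1` -/
def Im (h : Cls 2 A X) {c : G} (hc : c ∈ normalizer (X : Set G)) : Subgroup G where
  carrier := {w | ∃ v ∈ X, ∃ η ∈ ⁅X, X⁆, w = v * (c * v * c⁻¹) * η}
  one_mem' := ⟨1, one_mem _, 1, one_mem _, by simp⟩
  mul_mem' := by
    rintro _ _ ⟨v, hv, η, hη, rfl⟩ ⟨v', hv', η', hη', rfl⟩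
    have m := cjm hc hv
    have m' := cjm hc hv'
    have k := commutator_mem_commutator (inv_mem m) (inv_mem hv')
    refine ⟨v * v', mul_mem hv hv', _, mul_mem (mul_mem k hη) hη', ?_⟩
    have e := zc h (mul_mem k hη) m'
    have e' := zc h hη hv'
    rw [show c * (v * v') * c⁻¹ = c * v * c⁻¹ * (c * v' * c⁻¹) by group]
    generalize c * v * c⁻¹ = u at *
    generalize c * v' * c⁻¹ = u' at *
    calc v * u * η * (v' * u' * η') = v * u * (η * v') * u' * η' := by group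
      _ = v * v' * u * (⁅u⁻¹, v'⁻¹⁆ * η * u') * η' := by rw [← e', commutatorElement_def]; group
      _ = _ := by rw [← e]; group
  inv_mem' := by
    rintro _ ⟨v, hv, η, hη, rfl⟩
    exact ⟨v, hv, _, mul_mem hη (inv_mem (sqZ h (mul_mem (mul_mem hv (cjm hc hv)) (ZX hη)))),
      by group⟩

theorem irr (h : Two p A X) {u w : G} (hu : u ∈ X) (hw : w ∈ orb A u ⊔ ⁅X, X⁆)
    (w0 : w ∉ centralizer (A : Set G)) : u ∈ orb A w ⊔ ⁅X, X⁆ := by
  have hC := h.sol X h.sp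
  have hL := h.uni.lin
  obtain ⟨k, hk, e⟩ := hL.exists_kl u
  have h1 : kl A u ≤ X := hL.kl_le' h.sp.2.1 hu
  have h2 : k⁻¹ * u ∈ ⁅X, X⁆ := toZ hC (mul_mem (inv_mem (h1 hk)) hu)
    (h.iso (by rw [← cj_eq_iff, cj_mul, e, cj_inv_cj]))
  have h3 : (⁅X, X⁆ : Subgroup G) ≤ normalizer (kl A u : Set G) := fun z hz =>
    centralizer_le_normalizer _ fun y hy => zc hC hz (h1 hy)
  have h4 : orb A u ⊔ ⁅X, X⁆ ≤ kl A u ⊔ ⁅X, X⁆ := sup_le (orb_le
    (le_norm_sup (A_le_norm_kl A u) fun a ha => nZ (h.sp.2.1 ha))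
    (by simpa using mul_mem_sup hk h2)) le_sup_right
  obtain ⟨k', hk', η, hη, rfl⟩ := mem_sup_norm h3 (h4 hw)
  have h5 : cj (k' * η) A ≤ ln A u := by
    rw [cj_mul, cj_eq_of_cen (zA hC hη)]
    exact cj_le_of le_sup_left (kl_le_ln A u hk')
  have h6 : cj (k' * η) A ≠ A := fun e => w0 (h.iso (cj_eq_iff.1 e))
  have h7 : cj u A ≠ A := fun e => w0 (by
    rw [hL.kl_bot e, mem_bot] at hk'
    rw [hk', one_mul]; exact zA hC hη)
  have h8 : ln A (k' * η) = ln A u :=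
    eq_of_le_of_card_ge (sup_le le_sup_left h5) (h.uni.eq _ _ h7 h6).le
  have h9 : k ∈ orb A (k' * η) := hL.kl_le' (orb_norm A _) (self_orb A _) (by rwa [kl, h8])
  simpa using mul_mem_sup h9 h2

theorem tw (hT : JobTw.{u}) (h : Two p A X)
    (h2 : ∀ z ∈ ⁅X, X⁆, ∀ z' ∈ ⁅X, X⁆, z ∉ center G → z' ∉ center G → z * z' ∈ center G)
    {z s s' : G} (hz : z ∈ ⁅X, X⁆) (zc' : z ∉ center G) (s2 : s * s = 1) (s2' : s' * s' = 1)
    (c1 : ⁅s, z⁆ ∈ center G) (c2 : ⁅s', z⁆ ∈ center G) (c3 : ⁅s, s'⁆ ∈ center G)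
    (n1 : ⁅s, z⁆ ≠ 1) (n2 : ⁅s', z⁆ ≠ 1) : ⁅s, z⁆ = ⁅s', z⁆ := by
  have hC := h.sol X h.sp
  have k : ∀ s : G, s * s = 1 → ⁅s, z⁆ ∈ center G → ∃ σ ∈ X, σ⁻¹ * s ∈ centralizer (A : Set G) ∧
      σ⁻¹ * s ∈ normalizer (X : Set G) ∧ (∀ y ∈ X, ⁅(σ⁻¹ * s) ^ 2, y⁆ ∈ ⁅X, X⁆) ∧
      ⁅σ⁻¹ * s, z⁆ = ⁅s, z⁆ := fun s s2 c1 => by
    have hs := h.f1 z hz zc' s c1
    obtain ⟨σ, hσ, he⟩ := h.dec s hs
    have hN := mul_mem (inv_mem (le_normalizer hσ)) hs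
    refine ⟨σ, hσ, he, hN, fun y hy => commutator_mem_commutator
      (by rw [pow_two]; exact sq_mem hσ hN (by simpa using s2)) hy, ?_⟩
    have := zc hC (cjm (nZ hs) hz) (inv_mem hσ)
    calc ⁅σ⁻¹ * s, z⁆ = σ⁻¹ * (s * z * s⁻¹) * σ * z⁻¹ := by rw [commutatorElement_def]; group
      _ = _ := by rw [this, commutatorElement_def]; group
  obtain ⟨σ, hσ, a1, a2, a3, a4⟩ := k s s2 c1
  obtain ⟨σ', hσ', b1, b2, b3, b4⟩ := k s' s2' c2
  have hs := h.f1 z hz zc' s c1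
  have hs' := h.f1 z hz zc' s' c2
  rw [← a4] at c1 n1
  rw [← b4] at c2 n2
  rw [← a4, ← b4]
  refine hT G p A X h.uni h.an h.sp hC h2 z hz _ a1 _ b1 a2 b2 a3 b3 (fun y hy => ?_) c1 c2 n1 n2
  have e : ⁅σ⁻¹ * s, σ'⁻¹ * s'⁆ = σ⁻¹ * (s * σ'⁻¹ * s⁻¹) * ((s * s' * s⁻¹) * σ * (s * s' * s⁻¹)⁻¹) *
      (⁅s, s'⁆ * σ' * ⁅s, s'⁆⁻¹) * ⁅s, s'⁆ := by simp only [commutatorElement_def]; group
  have hx := mul_mem (mul_mem (mul_mem (inv_mem hσ) (cjm hs (inv_mem hσ')))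
    (cjm (mul_mem (mul_mem hs hs') (inv_mem hs)) hσ))
    (cjm (mul_mem (mul_mem (mul_mem hs hs') (inv_mem hs)) (inv_mem hs')) hσ')
  rw [e]
  change ⁅_ * (⁅s, s'⁆ * σ' * ⁅s, s'⁆⁻¹) * _, _⁆ ∈ _
  have e' : ∀ x κ : G, κ ∈ center G → ⁅x * κ, y⁆ = ⁅x, y⁆ := fun x κ hκ => by
    calc ⁅x * κ, y⁆ = x * (κ * y * κ⁻¹) * x⁻¹ * y⁻¹ := by rw [commutatorElement_def]; group
      _ = _ := by rw [← mem_center_iff.1 hκ y, mul_inv_cancel_right, commutatorElement_def]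
  rw [e' _ _ c3]
  exact commutator_mem_commutator hx hy

theorem cm_c {σ ρ c : G} (e5 : σ * c = c * σ) (e6 : ρ * c = c * ρ) : ⁅σ * c, ρ * c⁆ = ⁅σ, ρ⁆ := by
  calc ⁅σ * c, ρ * c⁆ = σ * (c * ρ) * (c * (σ * c)⁻¹) * (ρ * c)⁻¹ := by
        simp only [commutatorElement_def]; group
    _ = σ * ρ * (c * σ⁻¹ * c⁻¹) * ρ⁻¹ := by rw [← e6]; group
    _ = _ := by rw [← (show Commute σ c from e5).inv_left.eq, commutatorElement_def]; group

theorem jobZ2 : JobZ2.{u} := by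
  rintro hT hW G _ _ p A X h h2 ⟨g, hg, hnb, z, hz, z', hz', hne⟩
  have hC := h.sol X h.sp
  have hL := h.uni.lin
  have hζ := h.full g hg hnb z hz z' hz'
  have ζ1 : ⁅g * z * g⁻¹, z'⁆ ≠ 1 := fun e => hne (commutatorElement_eq_one_iff_commute.1 e)
  have zc1 : z ∉ center G := fun k => hne (by rw [cen_conj k]; exact (mem_center_iff.1 k z').symm)
  have zc2 : z' ∉ center G := fun k => hne (mem_center_iff.1 k _)
  have hy := h.f1 z' hz' zc2 _ hζ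
  have y2 := conj_sq (zsq hC hz) g
  set y := g * z * g⁻¹ with hy'
  set ζ := ⁅y, z'⁆ with hζ'
  have yz : y * z' * y⁻¹ = ζ * z' := by rw [hζ', commutatorElement_def]; group
  have ζ2 : ζ * ζ = 1 := zsq hC (mul_mem (cjm (nZ hy) hz') (inv_mem hz'))
  -- the normal form `y = ρ c`
  obtain ⟨ρ, c, hρ, hc, e, hcW⟩ : ∃ ρ c, ρ ∈ X ∧ c ∈ centralizer (A : Set G) ∧ y = ρ * c ∧
      ∀ a ∈ A, a * ρ * a⁻¹ * c = c * (a * ρ * a⁻¹) := by
    obtain ⟨ρ, hρ, c, hc, hN, e⟩ : ∃ ρ ∈ X, ∃ c ∈ centralizer (A : Set G),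
        c ∈ normalizer (X : Set G) ∧ y = ρ * c := by
      obtain ⟨ρ, hρ, hc⟩ := h.dec _ hy
      exact ⟨ρ, hρ, _, hc, mul_mem (inv_mem (le_normalizer hρ)) hy, by simp⟩
    have hA : A ≤ normalizer (Kr hC hN : Set G) := fun a ha => norm_of_cj_le (by
      rintro _ ⟨w, hw, rfl⟩
      refine ⟨cjm (h.sp.2.1 ha) hw.1, ?_⟩
      have := cjm (nZ (h.sp.2.1 ha)) hw.2
      rwa [conj_cm, hc a ha, mul_inv_cancel_right] at this)
    have h3 := cen_comm (W := Kr hC hN) hc (fun w hw => hw.2) (fun z hz => zA hC hz)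
      fun z hz w hw => zc hC hz hw.1
    obtain ⟨ρ', h4, η, h5, e'⟩ := dec hL (W := Kr hC hN) (h.sp.1.to_le fun w hw => hw.1) hA (w := ρ)
      ⟨hρ, by
        have k := toZ hC (sq_mem hρ hN (e ▸ y2)) (mul_mem hc hc)
        have : ⁅ρ, c⁆ = ρ * c * (ρ * c) * (c * c)⁻¹ * (c * ρ * c⁻¹ * (c * ρ * c⁻¹))⁻¹ := by
          rw [commutatorElement_def]; group
        rw [this, ← e, y2, one_mul]
        exact mul_mem (inv_mem k) (inv_mem (sqZ hC (cjm hN hρ)))⟩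
    have h6 := toZ hC h5.1.1 h5.2
    refine ⟨ρ', η * c, (comm_le_left hA h4).1, mul_mem h5.2 hc, by rw [e, e', mul_assoc],
      fun a ha => ?_⟩
    have h7 := cjm (right_le_norm_comm _ A ha) h4
    rw [← mul_assoc, zc hC h6 (comm_le_left hA h7).1, mul_assoc,
      mem_centralizer_singleton_iff.1 (h3 h7), mul_assoc η c]
  have hN : c ∈ normalizer (X : Set G) := by
    have := mul_mem (inv_mem (le_normalizer hρ)) hy
    rwa [e, inv_mul_cancel_left] at this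
  have c2 := toZ hC (sq_mem hρ hN (e ▸ y2)) (mul_mem hc hc)
  have ρc : ρ * c = c * ρ := by simpa using hcW 1 A.one_mem
  have cz' : c * z' * c⁻¹ = ζ * z' := by
    rw [← yz, e, ρc, mul_assoc c ρ, zc hC hz' hρ]; group
  have cZ : ∀ w ∈ ⁅X, X⁆, c * w * c⁻¹ = w ∨ w ∉ center G ∧ c * w * c⁻¹ = ζ * w := fun w hw => by
    by_cases k : w ∈ center G
    · exact Or.inl (cen_conj k c)
    refine Or.inr ⟨k, ?_⟩
    have k1 := h2 w hw z' hz' k zc2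
    calc c * w * c⁻¹ = c * (w * z') * c⁻¹ * (c * z' * c⁻¹)⁻¹ := by group
      _ = w * ζ⁻¹ := by
        rw [cen_conj k1, cz', mul_inv_rev]; group
      _ = _ := by rw [inv_eq_of_mul_eq_one_right ζ2, mem_center_iff.1 hζ w]
  -- the commutators
  have k1 : ∀ a ∈ A, ⁅a * ρ * a⁻¹, ρ⁆ ∈ zpowers ζ := fun a ha => by
    have m := commutator_mem_commutator (cjm (h.sp.2.1 ha) hρ) hρ
    have k2 : ⁅a * ρ * a⁻¹, ρ⁆ ∈ center G := by
      by_contra k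
      have k3 : c * ⁅a * ρ * a⁻¹, ρ⁆ * c⁻¹ = ⁅a * ρ * a⁻¹, ρ⁆ := by
        rw [conj_cm, ← hcW a ha, ← ρc, mul_inv_cancel_right, mul_inv_cancel_right]
      have k4 := h2 _ m z' hz' k zc2
      refine ζ1 (mul_right_cancel (b := z') ?_)
      rw [← cz', one_mul]
      refine mul_left_cancel (a := ⁅a * ρ * a⁻¹, ρ⁆) ?_
      conv_lhs => rw [← k3]
      conv_rhs => rw [← cen_conj k4 c]
      group
    have k5 : ⁅a * y * a⁻¹, y⁆ = ⁅a * ρ * a⁻¹, ρ⁆ := by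
      rw [e, ← cm_c (hcW a ha) ρc, mul_assoc (a * ρ), hc a⁻¹ (A.inv_mem ha)]
      congr 1; group
    by_cases k6 : ⁅a * ρ * a⁻¹, ρ⁆ = 1
    · rw [k6]; exact one_mem _
    have q1 : ⁅g⁻¹ * z' * g⁻¹⁻¹, z⁆ = ζ⁻¹ := by
      rw [← cen_conj (inv_mem hζ) g⁻¹, hζ', hy']; simp only [commutatorElement_def]; group
    have q2 : ⁅g⁻¹ * (a * y * a⁻¹) * g⁻¹⁻¹, z⁆ = ⁅a * ρ * a⁻¹, ρ⁆ := by
      rw [← cen_conj k2 g⁻¹, ← k5, hy']; simp only [commutatorElement_def]; group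
    have q3 : ⁅g⁻¹ * z' * g⁻¹⁻¹, g⁻¹ * (a * y * a⁻¹) * g⁻¹⁻¹⁆ = ζ⁻¹ := by
      have : z' = a * z' * a⁻¹ := by rw [zA hC hz' a ha, mul_inv_cancel_right]
      rw [← conj_cm, this, ← conj_cm, ← commutatorElement_inv, cen_conj (inv_mem hζ),
        cen_conj (inv_mem hζ)]
    rw [← q2, ← tw hT h h2 hz zc1 (conj_sq (zsq hC hz') g⁻¹) (conj_sq (conj_sq y2 a) g⁻¹)
      (q1 ▸ inv_mem hζ) (q2 ▸ k2) (q3 ▸ inv_mem hζ) (q1 ▸ inv_ne_one.2 ζ1) (q2 ▸ k6), q1]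
    exact inv_mem (mem_zpowers ζ)
  have k2 : ∀ w ∈ X, w * c = c * w → ∀ t ∈ Im hC hN, ⁅w, t⁆ ∈ zpowers ζ := by
    rintro w hw wc _ ⟨v, hv, η, hη, rfl⟩
    have k3 : ⁅w, c * v * c⁻¹⁆ = c * ⁅w, v⁆ * c⁻¹ := by rw [conj_cm, ← wc, mul_inv_cancel_right]
    rw [br hC hw (mul_mem hv (cjm hN hv)) (ZX hη), br hC hw hv (cjm hN hv), k3,
      ← commutatorElement_inv η, bz hC hη hw, inv_one, mul_one]
    rcases cZ _ (commutator_mem_commutator hw hv) with k | ⟨-, k⟩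
    · rw [k, bsq hC hw hv]; exact one_mem _
    · rw [k, ← mul_assoc, mem_center_iff.1 hζ, mul_assoc, bsq hC hw hv, mul_one]
      exact mem_zpowers ζ
  have IX : Im hC hN ≤ X := by
    rintro _ ⟨v, hv, η, hη, rfl⟩
    exact mul_mem (mul_mem hv (cjm hN hv)) (ZX hη)
  have ZI : (⁅X, X⁆ : Subgroup G) ≤ Im hC hN := fun η hη => ⟨1, one_mem _, η, hη, by simp⟩
  have IA : A ≤ normalizer (Im hC hN : Set G) := fun a ha => norm_of_cj_le (by
    rintro _ ⟨_, ⟨v, hv, η, hη, rfl⟩, rfl⟩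
    refine ⟨_, cjm (h.sp.2.1 ha) hv, _, cjm (nZ (h.sp.2.1 ha)) hη, ?_⟩
    have := hc a ha
    change a * (v * (c * v * c⁻¹) * η) * a⁻¹ = _
    calc _ = a * v * a⁻¹ * (a * c * v * (a * c)⁻¹) * (a * η * a⁻¹) := by group
      _ = _ := by rw [this]; group)
  have k3 : ∀ s ∈ Im hC hN, ∀ t ∈ Im hC hN, ⁅s, t⁆ ∈ zpowers ζ := by
    intro s hs t ht
    have hA : A ≤ normalizer (Kr hC hN : Set G) := fun a ha => norm_of_cj_le (by
      rintro _ ⟨w, hw, rfl⟩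
      refine ⟨cjm (h.sp.2.1 ha) hw.1, ?_⟩
      have := cjm (nZ (h.sp.2.1 ha)) hw.2
      rwa [conj_cm, hc a ha, mul_inv_cancel_right] at this)
    have h3 := cen_comm (W := Kr hC hN) hc (fun w hw => hw.2) (fun z hz => zA hC hz)
      fun z hz w hw => zc hC hz hw.1
    obtain ⟨w, h4, η, h5, rfl⟩ := dec hL (W := Kr hC hN) (h.sp.1.to_le fun w hw => hw.1) hA (w := s)
      (by
        obtain ⟨v, hv, η, hη, rfl⟩ := hs
        refine mul_mem ⟨mul_mem hv (cjm hN hv), ?_⟩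
          ⟨ZX hη, by
            simpa [commutatorElement_def, mul_assoc] using mul_mem hη (cjm (nZ hN) (inv_mem hη))⟩
        have : ⁅v * (c * v * c⁻¹), c⁆ = v * (c * v * c⁻¹) * (c * c * v⁻¹) * (c * c)⁻¹ *
          (c * v * c⁻¹)⁻¹ := by rw [commutatorElement_def]; group
        rw [this, ← zc hC c2 (inv_mem hv)]
        simpa [commutatorElement_def, mul_assoc] using commutator_mem_commutator hv (cjm hN hv))
    have wX := (comm_le_left hA h4).1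
    have h6 := toZ hC h5.1.1 h5.2
    rw [bl hC wX (ZX h6) (IX ht), bz hC h6 (IX ht), mul_one]
    exact k2 w wX (mem_centralizer_singleton_iff.1 (h3 h4)) t ht
  haveI : (zpowers ζ).Normal := ⟨fun n hn g => by rwa [cen_conj (zpowers_le.2 hζ hn)]⟩
  have cm : ∀ (P : Subgroup G) (v : G), P ≤ (centralizer {QuotientGroup.mk' (zpowers ζ) v}).comap
      (QuotientGroup.mk' (zpowers ζ)) ↔ ∀ w ∈ P, ⁅w, v⁆ ∈ zpowers ζ := fun P v =>
    forall₂_congr fun w _ => by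
      rw [mem_comap, mem_centralizer_singleton_iff, ← commutatorElement_eq_one_iff_mul_comm,
        ← map_commutatorElement]
      exact QuotientGroup.eq_one_iff _
  have sy : ∀ a b : G, ⁅a, b⁆ ∈ zpowers ζ → ⁅b, a⁆ ∈ zpowers ζ := fun a b k => by
    rw [← commutatorElement_inv]; exact inv_mem k
  have oc : ∀ v, (∀ a ∈ A, ⁅a * ρ * a⁻¹, v⁆ ∈ zpowers ζ) → (∀ t ∈ Im hC hN, ⁅t, v⁆ ∈ zpowers ζ) →
      ∀ w ∈ orb A ρ ⊔ Im hC hN, ⁅w, v⁆ ∈ zpowers ζ := fun v a1 a2 =>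
    (cm _ v).1 (sup_le ((closure_le _).2 (by
      rintro _ ⟨a, ha, rfl⟩
      exact (cm (zpowers _) v).2 (fun w hw => (cm _ v).1 (zpowers_le.2 (by
        rw [mem_comap, mem_centralizer_singleton_iff, ← commutatorElement_eq_one_iff_mul_comm,
          ← map_commutatorElement]
        exact (QuotientGroup.eq_one_iff _).2 (a1 a ha))) w hw) (mem_zpowers _))) ((cm _ v).2 a2))
  have k4 : ⁅orb A ρ ⊔ Im hC hN, orb A ρ ⊔ Im hC hN⁆ ≤ zpowers ζ := by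
    refine commutator_le.2 fun w hw v hv => oc v (fun a ha => sy _ _ (oc _ (fun b hb => ?_)
      (fun t ht => sy _ _ (k2 _ (cjm (h.sp.2.1 ha) hρ) (hcW a ha) t ht)) v hv))
      (fun t ht => sy _ _ (oc t (fun b hb => k2 _ (cjm (h.sp.2.1 hb) hρ) (hcW b hb) t ht)
        (fun s hs => k3 s hs t ht) v hv)) w hw
    have := k1 (a⁻¹ * b) (mul_mem (inv_mem ha) hb)
    rw [← bA hC ha (cjm (h.sp.2.1 (mul_mem (inv_mem ha) hb)) hρ) hρ] at this
    convert this using 2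
    group
  have PX : orb A ρ ⊔ Im hC hN ≤ X := sup_le (orb_le h.sp.2.1 hρ) IX
  have PZ : (orb A ρ ⊔ Im hC hN) ⊓ centralizer (A : Set G) = ⁅X, X⁆ :=
    le_antisymm (fun w hw => toZ hC (PX hw.1) hw.2)
      (le_inf (ZI.trans le_sup_right) fun w hw => zA hC hw)
  obtain ⟨v, hv, v0⟩ : ∃ v ∈ X, v * (c * v * c⁻¹) ∉ centralizer (A : Set G) := by
    by_contra k
    push Not at k
    have h3 := h.sp.2.2.ge.trans (cen_comm (W := X) hc (fun w hw => by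
      have := mul_mem (toZ hC (mul_mem hw (cjm hN hw)) (k w hw)) (inv_mem (sqZ hC (cjm hN hw)))
      simpa [commutatorElement_def, mul_assoc] using this) (fun z hz => zA hC hz) hC.2.1)
    refine hne ?_
    rw [e]
    exact Commute.mul_left (zc hC hz' hρ) (mem_centralizer_singleton_iff.1 (h3 (ZX hz'))).symm
  have vI : v * (c * v * c⁻¹) ∈ Im hC hN := ⟨v, hv, 1, one_mem _, by simp⟩
  obtain ⟨u, -, u0, hu⟩ := hW G A (orb A ρ ⊔ Im hC hN) ζ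
    (by haveI := Fact.mk hL.hp; exact isCyclic_of_prime_card hL.card)
    (le_norm_sup (orb_norm A ρ) IA) (by rw [pow_two, ζ2]) k4
    (by rw [PZ]; exact fun w hw y hy => zc hC hw (PX hy))
    ((commutator_mono PX PX).trans fun w hw => zA hC hw)
    (fun y hy => by rw [pow_two]; exact zA hC (sqZ hC (PX hy)))
    (fun u hu w hw w0 => by rw [PZ] at hw ⊢; exact irr h (PX hu) hw w0)
    ⟨_, mem_sup_right vI, ρ, mem_sup_left (self_orb A ρ), v0, fun k => by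
      rw [PZ] at k
      obtain ⟨t, ht, η, hη, e'⟩ := sup_le (orb_le IA vI) ZI k
      refine h.fpf g hg z hz zc1 hy t ht ?_
      have m := mul_mem (sqZ hC ht) (cjm (nZ (inv_mem hN)) hη)
      have e2 : y = t * (c * (t * t * (c⁻¹ * η * c⁻¹⁻¹))) * t⁻¹ := by
        rw [e, e', mul_assoc t (c * (t * t * _)), mul_assoc c (t * t * _),
          ← zc hC m (inv_mem ht)]
        group
      rw [← cj_cen, ← hy', e2]
      exact conj_mem_cj (mul_mem hc (zA hC m))⟩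
  exact u0 (orb_ab hL h.an h.iso hu)

end H46.FSZ2
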