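import Cfsg.Agent.H82.FSSpec3
import Cfsg.Agent.H49.ElemAbRep

/-! Tower FS, slot CW: an isotropic cyclic submodule by Chevalley-Warning. -/

set_option autoImplicit false
set_option linter.unusedSectionVars false

open Cfsg H82.FS Subgroup Polynomial
open scoped commutatorElement

namespace H46.FSCW

universe u

section Lin

variable {V : Type u} [AddCommGroup V] [Module (ZMod 2) V] [Finite V] (T : Module.End (ZMod 2) V)

/-- `g ↦ g(T) v` -/
noncomputable def ev (v : V) : (ZMod 2)[X] →ₗ[ZMod 2] V :=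
  LinearMap.applyₗ v ∘ₗ (aeval T).toLinearMap

theorem ev_apply (v : V) (g : (ZMod 2)[X]) : ev T v g = aeval T g v := rfl

theorem ev_inv (v : V) : ∀ y ∈ LinearMap.range (ev T v), T y ∈ LinearMap.range (ev T v) := by
  rintro _ ⟨g, rfl⟩
  exact ⟨X * g, by simp [ev_apply]⟩

theorem ev_self (v : V) : v ∈ LinearMap.range (ev T v) := ⟨1, by simp [ev_apply]⟩

/-- Cyclic submodules are irreducible. -/
def Irr : Prop := ∀ W : Submodule (ZMod 2) V, (∀ y ∈ W, T y ∈ W) → ∀ (v : V) (g : (ZMod 2)[X]),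
  aeval T g v ∈ W → aeval T g v ≠ 0 → v ∈ W

variable {T}

theorem inv_aeval {W : Submodule (ZMod 2) V} (hW : ∀ y ∈ W, T y ∈ W) {v : V} (hv : v ∈ W)
    (g : (ZMod 2)[X]) : aeval T g v ∈ W := by
  have k : ∀ n : ℕ, (T ^ n) v ∈ W := fun n => by
    induction n with
    | zero => simpa
    | succ n ih => rw [pow_succ']; exact hW _ ih
  rw [aeval_eq_sum_range, LinearMap.sum_apply]
  exact W.sum_mem fun i _ => W.smul_mem _ (k i)

theorem ann (h : Irr T) {u : V} (hu : u ≠ 0) {g : (ZMod 2)[X]} (e : aeval T g u = 0) :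
    aeval T g = 0 := by
  ext w
  by_contra k
  have k : aeval T g w ≠ 0 := k
  have h1 : w ∈ LinearMap.range (ev T (u + w)) :=
    h _ (ev_inv T _) w g ⟨g, by rw [ev_apply, map_add, e, zero_add]⟩ k
  obtain ⟨f, hf⟩ : u ∈ LinearMap.range (ev T (u + w)) := by
    simpa using Submodule.sub_mem _ (ev_self T (u + w)) h1
  rw [ev_apply] at hf
  obtain ⟨f', hf'⟩ : w ∈ LinearMap.range (ev T u) := by
    have := h _ (ev_inv T u) (u + w) f (hf.symm ▸ ev_self T u) (hf.symm ▸ hu)
    simpa using Submodule.sub_mem _ this (ev_self T u)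
  refine k ?_
  rw [← hf', ev_apply, ← Module.End.mul_apply, ← map_mul, mul_comm, map_mul, Module.End.mul_apply,
    e, map_zero]

theorem cw (h : Irr T) (β : V →ₗ[ZMod 2] V →ₗ[ZMod 2] ZMod 2) (alt : ∀ v, β v v = 0)
    {W : Submodule (ZMod 2) V} (hW : ∀ y ∈ W, T y ∈ W) {u w : V} (hu : u ∈ W) (u0 : u ≠ 0)
    (hw : w ∉ W) : ∃ v, v ≠ 0 ∧ ∀ j : ℕ, β v ((T ^ j) v) = 0 := by
  classical
  haveI : Module.Finite (ZMod 2) V := Module.Finite.of_finite
  haveI : Nontrivial V := ⟨u, 0, u0⟩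
  have hi : IsIntegral (ZMod 2) T := Algebra.IsIntegral.isIntegral T
  set μ := minpoly (ZMod 2) T
  have m0 : 0 < μ.natDegree := minpoly.natDegree_pos hi
  have w0 : w ≠ 0 := fun e => hw (e ▸ W.zero_mem)
  have k0 : ∀ g ∈ degreeLT (ZMod 2) μ.natDegree, aeval T g = 0 → g = 0 := fun g hg e => by
    by_contra k
    have := minpoly.degree_le_of_ne_zero (ZMod 2) T k e
    rw [mem_degreeLT, ← degree_eq_natDegree (minpoly.ne_zero hi)] at hg
    exact absurd hg (not_lt.2 this)
  have h1 : 2 * μ.natDegree ≤ Module.finrank (ZMod 2) V := by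
    let L := ((ev T u) ∘ₗ (degreeLT (ZMod 2) μ.natDegree).subtype).coprod
      ((ev T w) ∘ₗ (degreeLT (ZMod 2) μ.natDegree).subtype)
    have hL : Function.Injective L := by
      rw [injective_iff_map_eq_zero]
      rintro ⟨a, b⟩ e
      have e : aeval T a.1 u + aeval T b.1 w = 0 := e
      have e1 : aeval T b.1 w = 0 := by
        by_contra k
        exact hw (h W hW w b.1 (by
          rw [eq_neg_of_add_eq_zero_right e]; exact W.neg_mem (inv_aeval hW hu _)) k)
      rw [e1, add_zero] at e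
      exact Prod.ext (Subtype.ext (k0 _ a.2 (ann h u0 e))) (Subtype.ext (k0 _ b.2 (ann h w0 e1)))
    haveI := Module.Finite.equiv (degreeLTEquiv (ZMod 2) μ.natDegree).symm
    have := LinearMap.finrank_le_finrank_of_injective hL
    rw [Module.finrank_prod, (degreeLTEquiv (ZMod 2) μ.natDegree).finrank_eq] at this
    simpa [two_mul] using this
  let b := Module.finBasis (ZMod 2) V
  let f : Fin (μ.natDegree - 1) → MvPolynomial (Fin (Module.finrank (ZMod 2) V)) (ZMod 2) :=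
    fun i => ∑ k, ∑ l, MvPolynomial.C (β (b k) ((T ^ (i.1 + 1)) (b l))) *
      (MvPolynomial.X k * MvPolynomial.X l)
  have hf : ∀ i, (f i).totalDegree ≤ 2 := fun i =>
    MvPolynomial.totalDegree_finsetSum_le fun k _ => MvPolynomial.totalDegree_finsetSum_le fun l _ =>
      (MvPolynomial.totalDegree_mul _ _).trans (by
        rw [MvPolynomial.totalDegree_C, zero_add]
        exact (MvPolynomial.totalDegree_mul _ _).trans (by simp))
  have he : ∀ i x, MvPolynomial.eval x (f i) =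
      β (b.equivFun.symm x) ((T ^ (i.1 + 1)) (b.equivFun.symm x)) := fun i x => by
    simp only [f, map_sum, map_mul, MvPolynomial.eval_C, MvPolynomial.eval_X,
      Module.Basis.equivFun_symm_apply, map_smul, LinearMap.sum_apply, LinearMap.smul_apply,
      smul_eq_mul, Finset.mul_sum]
    rw [Finset.sum_comm]
    exact Finset.sum_congr rfl fun _ _ => Finset.sum_congr rfl fun _ _ => by ring
  have h2 := char_dvd_card_solutions_of_fintype_sum_lt 2 (f := f) (by
    refine lt_of_le_of_lt (Finset.sum_le_sum fun i _ => hf i) ?_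
    simp only [Finset.sum_const, Finset.card_univ, Fintype.card_fin, smul_eq_mul]
    omega)
  rw [Fintype.card_eq_nat_card] at h2
  have z0 : ∀ i, MvPolynomial.eval 0 (f i) = 0 := fun i => by rw [he, map_zero, map_zero]; rfl
  haveI : Nonempty {x // ∀ i, MvPolynomial.eval x (f i) = 0} := ⟨⟨0, z0⟩⟩
  haveI := Finite.one_lt_card_iff_nontrivial.1
    (lt_of_lt_of_le one_lt_two (Nat.le_of_dvd Nat.card_pos h2))
  obtain ⟨x, hx⟩ := exists_ne (⟨0, z0⟩ : {x // ∀ i, MvPolynomial.eval x (f i) = 0})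
  refine ⟨b.equivFun.symm x.1, fun e => hx (Subtype.ext
    ((map_eq_zero_iff _ b.equivFun.symm.injective).1 e)), fun j => ?_⟩
  have h3 : T ^ j = aeval T (X ^ j %ₘ μ) := by
    rw [aeval_modByMonic_eq_self_of_root (minpoly.aeval _ _), map_pow, aeval_X]
  rw [h3, aeval_eq_sum_range' (natDegree_modByMonic_lt _ (minpoly.monic hi)
    (minpoly.ne_one _ _)), LinearMap.sum_apply, map_sum]
  refine Finset.sum_eq_zero fun i hi => ?_
  rw [LinearMap.smul_apply, map_smul]
  rcases i with _ | i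
  · rw [pow_zero, Module.End.one_apply, alt, smul_zero]
  · rw [← he ⟨i, by have : i + 1 < μ.natDegree := Finset.mem_range.1 hi; omega⟩, x.2, smul_zero]

end Lin

section Grp

variable {G : Type u} [Group G]

theorem mem_zp {t a : G} (h : t ^ 2 = 1) (ha : a ∈ zpowers t) : a = 1 ∨ a = t := by
  obtain ⟨i, rfl⟩ := ha
  have h3 : t ^ (2 : ℤ) = 1 := by rw [zpow_two, ← pow_two, h]
  obtain ⟨j, rfl | rfl⟩ := Int.even_or_odd' i
  · left; simp only; rw [zpow_mul, h3, one_zpow]
  · right; simp only; rw [zpow_add, zpow_mul, h3]; simp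

open Classical in
/-- the commutator form -/
noncomputable def cf (a b : G) : ZMod 2 := if ⁅a, b⁆ = 1 then 0 else 1

theorem cf_symm (a b : G) : cf a b = cf b a := by
  unfold cf
  rw [← commutatorElement_inv a b, inv_eq_one]

theorem cf_mul {P : Subgroup G} {ζ : G} (h2 : ζ ^ 2 = 1) (hz : ⁅P, P⁆ ≤ zpowers ζ)
    (hc : ⁅P, P⁆ ≤ centralizer (P : Set G)) {a b c : G} (ha : a ∈ P) (hb : b ∈ P) (hc' : c ∈ P) :
    cf (a * b) c = cf a c + cf b c := by
  have e : ⁅a * b, c⁆ = ⁅b, c⁆ * ⁅a, c⁆ := by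
    have : ⁅a * b, c⁆ = a * ⁅b, c⁆ * a⁻¹ * ⁅a, c⁆ := by simp only [commutatorElement_def]; group
    rw [this, hc (commutator_mem_commutator hb hc') a ha, mul_inv_cancel_right]
  unfold cf
  rw [e]
  by_cases k : ⁅a, c⁆ = 1
  · rw [k, mul_one, if_pos rfl, zero_add]
  by_cases k' : ⁅b, c⁆ = 1
  · rw [k', one_mul, if_pos rfl, add_zero]
  have e1 := (mem_zp h2 (hz (commutator_mem_commutator ha hc'))).resolve_left k
  have e2 := (mem_zp h2 (hz (commutator_mem_commutator hb hc'))).resolve_left k'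
  rw [if_neg k, if_neg k', e1, e2, ← pow_two, if_pos h2]
  rfl

theorem jobCW : JobCW.{u} := by
  intro G _ _ A P ζ hA hn h2 hz hZ hPA hsq irr ⟨u, hu, w, hw, u0, hwu⟩
  obtain ⟨⟨x, hx⟩, hgen⟩ := hA.exists_monoid_generator
  have hPP : ⁅P, P⁆ ≤ P := comm_le_left le_normalizer
  have hc : ⁅P, P⁆ ≤ centralizer (P : Set G) := (le_inf hPP hPA).trans hZ
  let Z := (centralizer (A : Set G)).subgroupOf P
  haveI : Z.Normal := ⟨fun z hz g => by
    have : g * z * g⁻¹ = z := Subtype.ext (by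
      change (g : G) * z * (g : G)⁻¹ = z
      rw [hZ ⟨z.2, hz⟩ g g.2, mul_inv_cancel_right])
    rwa [this]⟩
  let π := QuotientGroup.mk' Z
  have hπ : Function.Surjective π := QuotientGroup.mk'_surjective Z
  have π1 : ∀ y : P, π y = 1 ↔ (y : G) ∈ centralizer (A : Set G) := fun y =>
    QuotientGroup.eq_one_iff y
  have h : H49.IsEA 2 (P ⧸ Z) := ⟨fun a b => by
    obtain ⟨a, rfl⟩ := hπ a
    obtain ⟨b, rfl⟩ := hπ b
    rw [← commutatorElement_eq_one_iff_mul_comm, ← map_commutatorElement, π1]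
    exact hPA (commutator_mem_commutator a.2 b.2), fun a => by
    obtain ⟨a, rfl⟩ := hπ a
    rw [← map_pow, π1]
    exact hsq a a.2⟩
  let φ : P →* P := (P.normalizerMonoidHom ⟨x, hn hx⟩).toMonoidHom
  have hφ : ∀ y : P, (φ y : G) = x * y * x⁻¹ := fun _ => rfl
  let T := h.lin (QuotientGroup.map Z Z φ fun z hz => by
    change (φ z : G) ∈ centralizer (A : Set G)
    rw [hφ, show x * z = z * x from hz x hx, mul_inv_cancel_right]
    exact hz)
  have hT : ∀ y : P, T (h.of (π y)) = h.of (π (φ y)) := fun _ => rfl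
  have cm : ∀ a ∈ A, ∀ y ∈ P, a * y * a⁻¹ ∈ P := fun a ha y hy =>
    (mem_normalizer_iff.1 (hn ha) y).1 hy
  have hTj : ∀ (j : ℕ) (y : P), (T ^ j) (h.of (π y)) =
      h.of (π ⟨x ^ j * y * (x ^ j)⁻¹, cm _ (A.pow_mem hx j) _ y.2⟩) := fun j y => by
    induction j with
    | zero => simp
    | succ j ih =>
      rw [pow_succ', Module.End.mul_apply, ih, hT]
      congr 2
      refine Subtype.ext ?_
      change x * (x ^ j * y * (x ^ j)⁻¹) * x⁻¹ = x ^ (j + 1) * y * (x ^ (j + 1))⁻¹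
      group
  have sur : ∀ v : h.V, ∃ y : P, h.of (π y) = v := fun v => by
    obtain ⟨y, rfl⟩ := h.of.surjective v
    obtain ⟨y, rfl⟩ := hπ y
    exact ⟨y, rfl⟩
  choose s hs using sur
  have cz : ∀ y y' : P, π y = π y' → ∀ c ∈ P, cf (y : G) c = cf (y' : G) c := fun y y' e c hc' => by
    have h1 : ((y'⁻¹ * y : P) : G) ∈ centralizer (A : Set G) := by
      rw [← π1, map_mul, map_inv, e, inv_mul_cancel]
    have h3 : cf ((y'⁻¹ * y : P) : G) c = 0 := if_pos (commutatorElement_eq_one_iff_mul_comm.2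
      (hZ ⟨(y'⁻¹ * y).2, h1⟩ c hc').symm)
    have := cf_mul h2 hz hc y'.2 (y'⁻¹ * y).2 hc'
    rw [h3, add_zero] at this
    rw [← this]; simp
  have b0 : ∀ y y' : P, cf (s (h.of (π y)) : G) (s (h.of (π y'))) = cf (y : G) y' := fun y y' => by
    rw [cz _ y (h.of.injective (hs _)) _ (s _).2, cf_symm, cz _ y' (h.of.injective (hs _)) _ y.2,
      cf_symm]
  have b1 : ∀ v v' c : h.V, cf (s (v + v') : G) (s c) = cf (s v : G) (s c) + cf (s v' : G) (s c) :=
    fun v v' c => by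
      rw [← cf_mul h2 hz hc (s v).2 (s v').2 (s c).2]
      exact cz _ (s v * s v') (h.of.injective (by rw [hs, map_mul, H49.IsEA.of_mul, hs, hs])) _
        (s c).2
  let β : h.V →ₗ[ZMod 2] h.V →ₗ[ZMod 2] ZMod 2 := AddMonoidHom.toZModLinearMap 2
    (AddMonoidHom.mk' (fun v => AddMonoidHom.toZModLinearMap 2 (AddMonoidHom.mk'
      (fun c => cf (s v : G) (s c)) fun c c' => by rw [cf_symm, b1, cf_symm, cf_symm (s c' : G)]))
      fun v v' => LinearMap.ext fun c => b1 v v' c)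
  have hβ : ∀ y y' : P, β (h.of (π y)) (h.of (π y')) = cf (y : G) y' := b0
  -- invariant subgroups and subspaces
  let sub : Subgroup G → Submodule (ZMod 2) h.V := fun K => h.sub ((K.subgroupOf P).map π)
  have ms : ∀ K : Subgroup G, P ⊓ centralizer (A : Set G) ≤ K → ∀ y : P,
      h.of (π y) ∈ sub K ↔ (y : G) ∈ K := fun K hK y => by
    refine ⟨fun ⟨y', h1, e⟩ => ?_, fun h1 => ⟨y, h1, rfl⟩⟩
    have h3 : ((y'⁻¹ * y : P) : G) ∈ centralizer (A : Set G) := by
      rw [← π1, map_mul, map_inv, e]; exact inv_mul_cancel _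
    simpa using K.mul_mem h1 (hK ⟨(y'⁻¹ * y).2, h3⟩)
  have oi : ∀ y : G, A ≤ normalizer ((orb A y ⊔ P ⊓ centralizer (A : Set G) : Subgroup G) : Set G) :=
    fun y => le_norm_sup (fun a ha => norm_of_cj_le (by
      rw [orb, H82.FS.cj, MonoidHom.map_closure]
      refine closure_mono ?_
      rintro _ ⟨_, ⟨b, hb, rfl⟩, rfl⟩
      exact ⟨a * b, A.mul_mem ha hb, by simp [mul_assoc]⟩))
      (le_norm_inf hn (le_norm_cen le_normalizer))
  have si : ∀ y : G, ∀ v ∈ sub (orb A y ⊔ P ⊓ centralizer (A : Set G)),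
      T v ∈ sub (orb A y ⊔ P ⊓ centralizer (A : Set G)) := fun y v hv => by
    rw [← hs v] at hv ⊢
    rw [hT, ms _ le_sup_right, hφ]
    exact (mem_normalizer_iff.1 (oi y hx) _).1 ((ms _ le_sup_right _).1 hv)
  have os : ∀ y : G, y ∈ orb A y ⊔ P ⊓ centralizer (A : Set G) := fun y =>
    mem_sup_left (subset_closure ⟨1, A.one_mem, by simp⟩)
  have hI : Irr T := by
    intro W hW v g h1 h3
    have h4 := inv_aeval (si (s v)) (v := v) (by
      conv_rhs => rw [← hs v]
      exact (ms _ le_sup_right _).2 (os _)) g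
    generalize aeval T g v = v' at h1 h3 h4
    rw [← hs v', ms _ le_sup_right] at h4
    have h5 := irr _ (s v).2 _ h4 fun k => h3 (by rw [← hs v', (π1 _).2 k]; rfl)
    have h6 : orb A (s v' : G) ⊔ P ⊓ centralizer (A : Set G) ≤ ((h.grp W).comap π).map P.subtype := by
      refine sup_le ((closure_le _).2 ?_) fun z hz => ⟨⟨z, hz.1⟩, ?_, rfl⟩
      · rintro _ ⟨a, ha, rfl⟩
        obtain ⟨j, e⟩ := hgen ⟨a, ha⟩
        obtain rfl : x ^ j = a := congrArg Subtype.val e
        refine ⟨⟨_, cm _ ha _ (s v').2⟩, ?_, rfl⟩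
        change h.of (π _) ∈ W
        rw [← hTj, hs]
        simpa using inv_aeval hW h1 (X ^ j)
      · change h.of (π _) ∈ W
        rw [(π1 _).2 hz.2]
        exact W.zero_mem
    obtain ⟨y, h7, e⟩ := h6 h5
    rw [← hs v, ← show y = s v from Subtype.ext e]
    exact h7
  obtain ⟨v, v0, hv⟩ := cw hI β (fun v => if_pos (by simp)) (si u) (u := h.of (π ⟨u, hu⟩))
    (w := h.of (π ⟨w, hw⟩)) ((ms _ le_sup_right _).2 (os u)) (fun e => u0 ((π1 ⟨u, hu⟩).1 e))
    fun e => hwu ((ms _ le_sup_right _).1 e)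
  refine ⟨s v, (s v).2, fun k => v0 (by rw [← hs v, (π1 _).2 k]; rfl), fun a ha => ?_⟩
  obtain ⟨j, e⟩ := hgen ⟨a, ha⟩
  obtain rfl : x ^ j = a := congrArg Subtype.val e
  have h8 := hv j
  rw [← hs v, hTj, hβ] at h8
  by_contra k
  rw [cf, if_neg fun e => k (commutatorElement_eq_one_iff_commute.1 e)] at h8
  exact one_ne_zero h8

end Grp

end H46.FSCW
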