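import Cfsg.Agent.H82.FSSpec3

/-! Tower FS, slot Non: a neighbour that does not commute with `⁅X, X⁆`. -/

set_option autoImplicit false
set_option linter.unusedSectionVars false

open Cfsg H82.FS Subgroup
open scoped commutatorElement

namespace H46.FSNon

export H82.FS (cj cj_mul conj_mem_cj cj_eq_iff mem_cj cj_one cj_mono cj_cj cj_inv_cj cj_cj_inv
  card_cj cj_norm cj_sup cj_inf cj_cen cj_inj)

universe u

variable {G : Type u} [Group G] [Finite G] {p : ℕ} {A X : Subgroup G}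

theorem cjm {H : Subgroup G} {g x : G} (hg : g ∈ normalizer (H : Set G)) (hx : x ∈ H) :
    g * x * g⁻¹ ∈ H := (mem_normalizer_iff.1 hg x).1 hx

theorem nZ {g : G} (hg : g ∈ normalizer (X : Set G)) :
    g ∈ normalizer ((⁅X, X⁆ : Subgroup G) : Set G) := le_norm_comm le_rfl le_rfl hg

theorem conj_cm (g a b : G) : g * ⁅a, b⁆ * g⁻¹ = ⁅g * a * g⁻¹, g * b * g⁻¹⁆ := by
  simp only [commutatorElement_def]; group

theorem cen_conj {z : G} (h : z ∈ center G) (g : G) : g * z * g⁻¹ = z := by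
  rw [mem_center_iff.1 h g, mul_inv_cancel_right]

theorem ZX : (⁅X, X⁆ : Subgroup G) ≤ X := comm_le_left le_normalizer

section Cls

variable (h : Cls 2 A X)
include h

theorem zc {z x : G} (hz : z ∈ ⁅X, X⁆) (hx : x ∈ X) : x * z = z * x := h.2.1 hz x hx

theorem zA {z : G} (hz : z ∈ ⁅X, X⁆) : z ∈ centralizer (A : Set G) := (h.1.le hz).2

theorem toZ {z : G} (hx : z ∈ X) (hz : z ∈ centralizer (A : Set G)) : z ∈ ⁅X, X⁆ := h.1.ge ⟨hx, hz⟩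

theorem sqZ {x : G} (hx : x ∈ X) : x * x ∈ ⁅X, X⁆ := by rw [← pow_two]; exact h.2.2 x hx

theorem bl {a b c : G} (ha : a ∈ X) (hb : b ∈ X) (hc : c ∈ X) :
    ⁅a * b, c⁆ = ⁅a, c⁆ * ⁅b, c⁆ := by
  have : ⁅a * b, c⁆ = a * ⁅b, c⁆ * a⁻¹ * ⁅a, c⁆ := by simp only [commutatorElement_def]; group
  rw [this, zc h (commutator_mem_commutator hb hc) ha, mul_inv_cancel_right,
    zc h (commutator_mem_commutator ha hc) (ZX (commutator_mem_commutator hb hc))]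

theorem br {a b c : G} (ha : a ∈ X) (hb : b ∈ X) (hc : c ∈ X) :
    ⁅a, b * c⁆ = ⁅a, b⁆ * ⁅a, c⁆ := by
  have : ⁅a, b * c⁆ = ⁅a, b⁆ * (b * ⁅a, c⁆ * b⁻¹) := by simp only [commutatorElement_def]; group
  rw [this, zc h (commutator_mem_commutator ha hc) hb, mul_inv_cancel_right]

theorem bz {z c : G} (hz : z ∈ ⁅X, X⁆) (hc : c ∈ X) : ⁅z, c⁆ = 1 :=
  commutatorElement_eq_one_iff_mul_comm.2 (zc h hz hc).symm

theorem bsq {a b : G} (ha : a ∈ X) (hb : b ∈ X) : ⁅a, b⁆ * ⁅a, b⁆ = 1 := by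
  rw [← bl h ha ha hb, bz h (sqZ h ha) hb]

theorem zsq {z : G} (hz : z ∈ ⁅X, X⁆) : z * z = 1 := by
  rw [Subgroup.commutator_def] at hz
  induction hz using closure_induction with
  | mem x hx => obtain ⟨a, ha, b, hb, rfl⟩ := hx; exact bsq h ha hb
  | one => simp
  | mul x y hx hy ix iy =>
    rw [mul_assoc, ← mul_assoc y, zc h hx (ZX hy), mul_assoc, iy, mul_one, ix]
  | inv x _ ix => rw [← mul_inv_rev, ix, inv_one]

theorem bA {a u v : G} (ha : a ∈ A) (hu : u ∈ X) (hv : v ∈ X) :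
    ⁅a * u * a⁻¹, a * v * a⁻¹⁆ = ⁅u, v⁆ := by
  rw [← conj_cm, zA h (commutator_mem_commutator hu hv) a ha, mul_inv_cancel_right]

end Cls

theorem self_orb (A : Subgroup G) (y : G) : y ∈ orb A y := subset_closure ⟨1, A.one_mem, by simp⟩

theorem orb_norm (A : Subgroup G) (y : G) : A ≤ normalizer (orb A y : Set G) :=
  fun a ha => norm_of_cj_le (by
    rw [orb, cj, MonoidHom.map_closure]
    refine closure_mono ?_
    rintro _ ⟨_, ⟨b, hb, rfl⟩, rfl⟩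
    exact ⟨a * b, A.mul_mem ha hb, by simp [mul_assoc]⟩)

theorem orb_le {W : Subgroup G} (hW : A ≤ normalizer (W : Set G)) {y : G} (hy : y ∈ W) :
    orb A y ≤ W := (closure_le _).2 (by rintro _ ⟨a, ha, rfl⟩; exact cjm (hW ha) hy)

theorem orb_ab {r : ℕ} (hL : Lin p r A) (hn : An A) (hi : Iso A) {u : G}
    (h : ∀ a ∈ A, Commute u (a * u * a⁻¹)) : u ∈ centralizer (A : Set G) := by
  refine hi (cj_eq_iff.1 (by_contra fun k => hn u k ?_))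
  have h1 : orb A u ≤ centralizer (orb A u : Set G) := by
    rw [orb, centralizer_closure, closure_le]
    rintro _ ⟨a, ha, rfl⟩ _ ⟨b, hb, rfl⟩
    have := (h (b⁻¹ * a) (A.mul_mem (A.inv_mem hb) ha)).eq
    calc b * u * b⁻¹ * (a * u * a⁻¹) = b * (u * (b⁻¹ * a * u * (b⁻¹ * a)⁻¹)) * b⁻¹ := by group
      _ = _ := by rw [this]; group
  have h2 := hL.kl_le' (orb_norm A u) (self_orb A u)
  exact ⟨⟨fun a b => Subtype.ext (h1 (h2 b.2) a (h2 a.2))⟩⟩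

/-- `c * c ∈ X` for an involution `ρ * c`. -/
theorem sq_mem {ρ c : G} (hρ : ρ ∈ X) (hc : c ∈ normalizer (X : Set G))
    (e : ρ * c * (ρ * c) = 1) : c * c ∈ X := by
  have : c * c = (ρ * (c * ρ * c⁻¹))⁻¹ * (ρ * c * (ρ * c)) := by group
  rw [this, e, mul_one]
  exact inv_mem (mul_mem hρ (cjm hc hρ))

theorem conj_sq {z : G} (h : z * z = 1) (g : G) : g * z * g⁻¹ * (g * z * g⁻¹) = 1 := by
  calc _ = g * (z * z) * g⁻¹ := by group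
    _ = 1 := by rw [h]; group

/-- A neighbour. -/
def Nb (X : Subgroup G) (g : G) : Prop := g ∉ normalizer (X : Set G) ∧
  ∃ z ∈ ⁅X, X⁆, z ∉ center G ∧ g * z * g⁻¹ ∈ normalizer (X : Set G)

theorem inner (hAN : JobAN.{u}) (h : Two p A X) (hn : ¬ Non X) {g z ρ c : G} (hg : Nb X g)
    (hz : z ∈ ⁅X, X⁆) (hρ : ρ ∈ X) (hc : c ∈ centralizer (A : Set G)) (e : g * z * g⁻¹ = ρ * c) :
    c ∈ centralizer (X : Set G) ∧ (z ∉ center G → ∃ a ∈ A, ⁅a * ρ * a⁻¹, ρ⁆ ∉ center G) := by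
  have hC := h.sol X h.sp
  have k : ∀ z' ∈ ⁅X, X⁆, Commute (g * z * g⁻¹) z' := fun z' hz' =>
    by_contra fun k => hn ⟨g, hg.1, hg.2, z, hz, z', hz', k⟩
  obtain ⟨z0, hz0, z0c⟩ := SetLike.not_le_iff_exists.1 h.nz
  have hy : g * z * g⁻¹ ∈ normalizer (X : Set G) := h.f1 z0 hz0 z0c _ (by
    rw [(k z0 hz0).commutator_eq]; exact one_mem _)
  have hcN : c ∈ normalizer (X : Set G) := by
    have := mul_mem (inv_mem (le_normalizer hρ)) hy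
    rwa [e, inv_mul_cancel_left] at this
  have h1 : c * c ∈ ⁅X, X⁆ := toZ hC (sq_mem hρ hcN (e ▸ conj_sq (zsq hC hz) g)) (mul_mem hc hc)
  have h2 : c ∈ centralizer (X : Set G) := hAN G p A X h.uni h.an h.sp hC c hc hcN (fun w hw => by
    have := (k w hw).eq
    rw [e, mul_assoc, ← mul_assoc w, ← zc hC hw hρ, mul_assoc] at this
    exact (mul_left_cancel this).symm) 2 (by
    rw [show c ^ 2 ^ 2 = c * c * (c * c) by rw [pow_two, pow_mul, pow_two, pow_two], zsq hC h1])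
  refine ⟨h2, fun zc' => ?_⟩
  by_contra k1
  push Not at k1
  refine h.fpf g hg.1 z hz zc' hy 1 (one_mem _) ?_
  rw [cj_one, e]
  refine mul_mem (orb_ab h.uni.lin h.an h.iso fun a ha => by_contra fun k2 => ?_) hc
  have hρa := cjm (h.sp.2.1 ha) hρ
  have e1 : ⁅(g⁻¹ * a * g) * z * (g⁻¹ * a * g)⁻¹, z⁆ = ⁅a * ρ * a⁻¹, ρ⁆ := by
    have e2 : ⁅(g⁻¹ * a * g) * z * (g⁻¹ * a * g)⁻¹, z⁆ =
        g⁻¹ * ⁅a * (g * z * g⁻¹) * a⁻¹, g * z * g⁻¹⁆ * g⁻¹⁻¹ := by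
      simp only [commutatorElement_def]; group
    have e3 : a * (ρ * c) * a⁻¹ = a * ρ * a⁻¹ * c := by
      rw [mul_assoc (a * ρ), hc a⁻¹ (A.inv_mem ha)]; group
    have e4 : ⁅a * ρ * a⁻¹ * c, ρ * c⁆ = ⁅a * ρ * a⁻¹, ρ⁆ := by
      have e5 := h2 _ hρa
      have e6 := h2 _ hρ
      generalize a * ρ * a⁻¹ = σ at e5
      calc ⁅σ * c, ρ * c⁆ = σ * (c * ρ) * (c * (σ * c)⁻¹) * (ρ * c)⁻¹ := by
            simp only [commutatorElement_def]; group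
        _ = σ * ρ * (c * σ⁻¹ * c⁻¹) * ρ⁻¹ := by rw [← e6]; group
        _ = _ := by rw [← (show Commute σ c from e5).inv_left.eq, commutatorElement_def]; group
    rw [e2, e, e3, e4, cen_conj (k1 a ha)]
  have e7 : ¬ Commute ((g⁻¹ * a * g) * z * (g⁻¹ * a * g)⁻¹) z := fun k3 =>
    k2 (commutatorElement_eq_one_iff_commute.1 (by rw [← e1, k3.commutator_eq])).symm
  exact hn ⟨g⁻¹ * a * g, fun k3 => e7 (zc hC hz (ZX (cjm (nZ k3) hz))),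
    ⟨z, hz, zc', h.f1 z hz zc' _ (e1 ▸ k1 a ha)⟩, z, hz, z, hz, e7⟩

theorem exists_sqrt {r : ℕ} (hL : Lin p r A) {a : G} (ha : a ∈ A) : ∃ b ∈ A, b * b = a := by
  obtain ⟨k, hk⟩ := hL.hp.odd_of_ne_two hL.p2
  have h1 : a ^ p = 1 := by
    have := pow_card_eq_one' (x := (⟨a, ha⟩ : A))
    rw [hL.card] at this
    exact congrArg Subtype.val this
  refine ⟨a ^ (k + 1), A.pow_mem ha _, ?_⟩
  rw [← pow_add, show k + 1 + (k + 1) = p + 1 by omega, pow_succ, h1, one_mul]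

theorem jobNon : JobNon.{u} := by
  intro hAN G _ _ p A X h
  by_contra hn
  have hC := h.sol X h.sp
  obtain ⟨g, hg, z, hz, zc', hy⟩ := h.nb
  have hN : Nb X g := ⟨hg, z, hz, zc', hy⟩
  obtain ⟨ρ, hρ, hc⟩ := h.dec _ hy
  set c := ρ⁻¹ * (g * z * g⁻¹)
  have e : g * z * g⁻¹ = ρ * c := by simp [c]
  obtain ⟨h1, h2⟩ := inner hAN h hn hN hz hρ hc e
  obtain ⟨a, ha, h3⟩ := h2 zc'
  obtain ⟨b, hb, rfl⟩ := exists_sqrt h.uni.lin ha
  have m1 := cjm (h.sp.2.1 hb) hρ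
  have m2 := cjm (h.sp.2.1 (A.inv_mem hb)) hρ
  have e1 : ⁅b * ρ * b⁻¹ * (b⁻¹ * ρ * b⁻¹⁻¹), ρ⁆ = 1 := by
    rw [bl hC m1 m2 hρ, ← bA hC hb m2 hρ, show b * (b⁻¹ * ρ * b⁻¹⁻¹) * b⁻¹ = ρ by group,
      ← commutatorElement_inv ρ, inv_mul_cancel]
  have e2 : b * ρ * b⁻¹ * (b⁻¹ * ρ * b⁻¹⁻¹) * (b * ρ * b⁻¹ * (b⁻¹ * ρ * b⁻¹⁻¹)) =
      ⁅b * b * ρ * (b * b)⁻¹, ρ⁆ := by
    have s1 : b * ρ * b⁻¹ * (b * ρ * b⁻¹) = ρ * ρ := by
      rw [show b * ρ * b⁻¹ * (b * ρ * b⁻¹) = b * (ρ * ρ) * b⁻¹ by group,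
        zA hC (sqZ hC hρ) b hb, mul_inv_cancel_right]
    have s2 : b⁻¹ * ρ * b⁻¹⁻¹ * (b⁻¹ * ρ * b⁻¹⁻¹) = ρ * ρ := by
      rw [show b⁻¹ * ρ * b⁻¹⁻¹ * (b⁻¹ * ρ * b⁻¹⁻¹) = b⁻¹ * (ρ * ρ) * b⁻¹⁻¹ by group,
        zA hC (sqZ hC hρ) b⁻¹ (A.inv_mem hb), mul_inv_cancel_right]
    have s3 : ⁅b * b * ρ * (b * b)⁻¹, ρ⁆ = ⁅b * ρ * b⁻¹, b⁻¹ * ρ * b⁻¹⁻¹⁆ := by
      rw [← bA hC hb m1 m2]; congr 1 <;> group
    rw [s3]
    generalize b * ρ * b⁻¹ = u at *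
    generalize b⁻¹ * ρ * b⁻¹⁻¹ = v at *
    calc u * v * (u * v) = ⁅u, v⁆ * (v * (u * u) * v) := by rw [commutatorElement_def]; group
      _ = _ := by rw [s1, zc hC (sqZ hC hρ) m2, mul_assoc (ρ * ρ), s2, zsq hC (sqZ hC hρ), mul_one]
  set τ := b * ρ * b⁻¹ * (b⁻¹ * ρ * b⁻¹⁻¹)
  have hτ : τ ∈ X := mul_mem m1 m2
  have hz1 : τ * τ ∈ ⁅X, X⁆ := sqZ hC hτ
  have ht : g⁻¹ * τ * g ∈ normalizer (X : Set G) := h.f1 z hz zc' _ (by
    have k : Commute τ (g * z * g⁻¹) := by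
      rw [e]
      exact (commutatorElement_eq_one_iff_commute.1 e1).mul_right (h1 τ hτ)
    have : ⁅g⁻¹ * τ * g, z⁆ = g⁻¹ * ⁅τ, g * z * g⁻¹⁆ * g := by
      simp only [commutatorElement_def]; group
    rw [this, k.commutator_eq]
    simp)
  have e3 : g⁻¹ * (τ * τ) * g⁻¹⁻¹ = g⁻¹ * τ * g * (g⁻¹ * τ * g) := by group
  have hN' : Nb X g⁻¹ := ⟨fun k => hg (inv_mem_iff.1 k), τ * τ, hz1, e2 ▸ h3, e3 ▸ mul_mem ht ht⟩
  obtain ⟨σ, hσ, hd⟩ := h.dec _ ht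
  set d := σ⁻¹ * (g⁻¹ * τ * g) with hd'
  have hdN : d ∈ normalizer (X : Set G) := mul_mem (inv_mem (le_normalizer hσ)) ht
  obtain ⟨h4, h5⟩ := inner hAN h hn hN' hz1 (mul_mem hσ (cjm hdN hσ)) (mul_mem hd hd) (by
    rw [e3, hd']; group)
  obtain ⟨a, ha, h6⟩ := h5 (e2 ▸ h3)
  have h7 : ∀ w ∈ ⁅X, X⁆, ⁅d, w⁆ ∈ center G := fun w hw => by
    by_contra k
    have k1 : ⁅d, w⁆ ∈ ⁅X, X⁆ := mul_mem (cjm (nZ hdN) hw) (inv_mem hw)
    have wc : w ∉ center G := fun k2 => k (by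
      rw [commutatorElement_def, cen_conj k2, mul_inv_cancel]; exact one_mem _)
    have k2 : g * w * g⁻¹ ∈ normalizer (X : Set G) := h.f1 z hz zc' _ (h.full g hg hN.2 w hw z hz)
    obtain ⟨ρ', hρ', hc'⟩ := h.dec _ k2
    have k3 := (inner hAN h hn hN hw hρ' hc' (by group)).1 τ hτ
    refine hg (h.ti g _ k1 k (mem_sup_left ?_))
    have k4 : ⁅d, w⁆ = ⁅g⁻¹ * τ * g, w⁆ := by
      have := zc hC (cjm (nZ ht) hw) (inv_mem hσ)
      calc ⁅d, w⁆ = σ⁻¹ * (g⁻¹ * τ * g * w * (g⁻¹ * τ * g)⁻¹) * σ * w⁻¹ := by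
            rw [hd', commutatorElement_def]; group
        _ = _ := by rw [this, commutatorElement_def]; group
    have k5 : g * ⁅g⁻¹ * τ * g, w⁆ * g⁻¹ = τ * ρ' * (ρ'⁻¹ * (g * w * g⁻¹) * τ⁻¹ *
        (ρ'⁻¹ * (g * w * g⁻¹))⁻¹) * ρ'⁻¹ := by rw [commutatorElement_def]; group
    rw [k4, k5, ← (show Commute τ _ from k3).inv_left.eq, mul_inv_cancel_right]
    exact commutator_mem_commutator hτ hρ'
  let π := QuotientGroup.mk' (center G)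
  have h8 : ∀ u ∈ X, ∀ v ∈ X, π ⁅d * u * d⁻¹, d * v * d⁻¹⁆ = π ⁅u, v⁆ := fun u hu v hv => by
    rw [← conj_cm, ← mul_inv_eq_one, ← map_inv, ← map_mul]
    exact (QuotientGroup.eq_one_iff _).2 (h7 _ (commutator_mem_commutator hu hv))
  have m3 := cjm (h.sp.2.1 ha) hσ
  have e4 : a * (σ * (d * σ * d⁻¹)) * a⁻¹ = a * σ * a⁻¹ * (d * (a * σ * a⁻¹) * d⁻¹) := by
    have := hd a ha
    calc _ = a * σ * a⁻¹ * (a * d * σ * (a * d)⁻¹) := by group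
      _ = _ := by rw [this]; group
  have e5 : d * (d * σ * d⁻¹) * d⁻¹ = σ := by
    rw [show d * (d * σ * d⁻¹) * d⁻¹ = d * d * σ * (d * d)⁻¹ by group, ← h4 σ hσ,
      mul_inv_cancel_right]
  refine h6 ((QuotientGroup.eq_one_iff _).1 ?_)
  change π _ = 1
  have e6 := h8 _ m3 _ (cjm hdN hσ)
  rw [e5] at e6
  rw [e4, bl hC m3 (cjm hdN m3) (mul_mem hσ (cjm hdN hσ)), br hC m3 hσ (cjm hdN hσ),
    br hC (cjm hdN m3) hσ (cjm hdN hσ), map_mul, map_mul, map_mul, h8 _ m3 _ hσ, e6, mul_assoc,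
    ← mul_assoc (π ⁅_, d * σ * d⁻¹⁆), ← map_mul, bsq hC m3 (cjm hdN hσ), map_one, one_mul,
    ← map_mul, bsq hC m3 hσ, map_one]

end H46.FSNon
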