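import Cfsg.Agent.H46.E6BK0

/-! The kit of `blueprints/E6B.md`. -/

set_option autoImplicit false
set_option linter.unusedSectionVars false
set_option maxRecDepth 100000
set_option synthInstance.maxSize 2048

open Cfsg Subgroup H98 H42.L3 H7.PS H39.F22 H78.F22
open H56.L3 (Ce Nz)
open H28.PS (SL3)
open H84.PS (V2)
open scoped Matrix

namespace H46.E6B

universe u

abbrev V3 := Fin 3 → ZMod 3

theorem chi_tr : ∀ (v w : V2), v 0 * w 1 - v 1 * w 0 = 1 → ∀ M N : SL3,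
    N.1 *ᵥ v = M.1 0 0 • v + M.1 1 0 • w → N.1 *ᵥ w = M.1 0 1 • v + M.1 1 1 • w → chi N = chi M := by
  decide +kernel

variable {G : Type*} [Group G] [Finite G] {D : D3 G} {a b c g v : G} {i j : Fin 3} {T X : Subgroup G}

theorem idx_le {Γ : Type*} [Group Γ] (φ : T →* Γ) (hk : ∀ t : T, φ t = 1 ↔ t.1 ∈ X) (p : Γ → Prop)
    [Finite {x // p x}] (hp : ∀ t, p (φ t)) : X.relIndex T ≤ Nat.card {x // p x} := by
  rw [relIndex, show X.subgroupOf T = φ.ker from Subgroup.ext fun t => (hk t).symm, index_ker]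
  exact Nat.card_le_card_of_injective (fun x => ⟨x.1, x.2.elim fun t e => e ▸ hp t⟩)
    fun x y e => Subtype.ext (congrArg (fun x : {x // p x} => x.1) e)

variable (h : H3 D)
include h

theorem bt_mul (ha : a ∈ D.B) (hb : b ∈ D.B) : bt D (a * b) = bt D a + bt D b :=
  funext fun i => by rw [Pi.add_apply, bt, m_mul h ha hb, chi_mul]; rfl

theorem bt_inv (ha : a ∈ D.B) : bt D a⁻¹ = -bt D a :=
  funext fun i => by rw [Pi.neg_apply, bt, m_inv h ha, chi_inv]; rfl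

theorem bt_pow (ha : a ∈ D.B) (n : ℕ) : bt D (a ^ n) = (n : ZMod 3) • bt D a :=
  funext fun i => by rw [Pi.smul_apply, bt, m_pow h ha, chi_pow]; rfl

theorem bt_zp (ha : a ∈ D.B) (n : ZMod 3) : bt D (zp a n) = n • bt D a := by
  rw [zp, bt_pow h ha, ZMod.natCast_zmod_val]

theorem bt_P (ha : a ∈ D.B) : D.P a ↔ bt D a = 0 := (P_iff h ha).trans funext_iff.symm

theorem bt_Q (ha : a ∈ D.QQ) : bt D a = 0 := (bt_P h (QB h ha)).1 (Q_P h ha)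

theorem Q_bt (ha : a ∈ D.B) (e : a ^ 3 = 1) (e' : bt D a = 0) : a ∈ D.QQ :=
  P_Q h ((bt_P h ha).2 e') e

theorem bt_cnj (hg : g ∈ Ce D.z) (ha : a ∈ D.B) (i : Fin 3) :
    bt D (g * a * g⁻¹) (sg D g i) = bt D a i := by
  obtain ⟨p, hp, q, hq, e1, e2⟩ := (co h i).basis
  have m : ∀ {u}, u ∈ D.Q i → g * u * g⁻¹ ∈ D.Q (sg D g i) := fun e =>
    sg_spec h (CeN hg) i ▸ H98.conj_mem_cj e
  have k : ∀ u ∈ D.Q i, D.l _ (g * a * g⁻¹ * (g * u * g⁻¹) * (g * a * g⁻¹)⁻¹) =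
      ((D.m i a).1 *ᵥ D.l i u) 0 • D.l (sg D g i) (g * p * g⁻¹) +
        ((D.m i a).1 *ᵥ D.l i u) 1 • D.l (sg D g i) (g * q * g⁻¹) := fun u hu => by
    rw [← (co h i).act a (BN ha i) u hu,
      show g * a * g⁻¹ * (g * u * g⁻¹) * (g * a * g⁻¹)⁻¹ = g * (a * u * a⁻¹) * g⁻¹ by group]
    have h1 := (co h i).conj_mem (BN ha i) hu
    generalize a * u * a⁻¹ = w at h1
    obtain ⟨n, e⟩ := (co h i).eq_zp h1 (mul_mem (pow_mem hp (D.l i w 0).val) (pow_mem hq (D.l i w 1).val))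
      (by
        rw [(co h i).l_mul _ (pow_mem hp _) _ (pow_mem hq _), (co h i).l_pow hp, (co h i).l_pow hq, e1, e2]
        ext j; fin_cases j <;> simp)
    conv_lhs => rw [e, ← conj_mul, ← conj_mul, zp_conj hg, ← conj_pow, ← conj_pow]
    rw [(co h _).l_mul _ ((co h _).zp_mem n) _ (mul_mem (pow_mem (m hp) _) (pow_mem (m hq) _)),
      (co h _).l_zp, zero_add, (co h _).l_mul _ (pow_mem (m hp) _) _ (pow_mem (m hq) _),
      (co h _).l_pow (m hp), (co h _).l_pow (m hq), ZMod.natCast_zmod_val, ZMod.natCast_zmod_val]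
  have k1 := k p hp
  have k2 := k q hq
  rw [(co h _).act _ (BN (conj_B h hg ha) _) _ (m ‹_›)] at k1 k2
  refine chi_tr (D.l _ (g * p * g⁻¹)) (D.l _ (g * q * g⁻¹)) ?_ _ _ (by simpa [e1] using k1)
    (by simpa [e2] using k2)
  have h1 := (co h i).conj_eq hp hq
  have h2 := (co h _).conj_eq (m hp) (m hq)
  rw [show g * p * g⁻¹ * (g * q * g⁻¹) * (g * p * g⁻¹)⁻¹ = g * (p * q * p⁻¹) * g⁻¹ by group, h1,
    ← conj_mul, zp_conj hg, mul_left_inj] at h2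
  rw [← zp_inj h.ord h2, e1, e2]; rfl

theorem cyc_ne (hv : v ∈ Ce D.z) (n : v ∉ D.B) : sg D v ≠ 1 := mt (B_of h hv) n

theorem bt_diag (hv : v ∈ Ce D.z) (v3 : v ^ 3 = 1) (n : v ∉ D.B) (hb : b ∈ D.B)
    (e : v * b * v⁻¹ * b⁻¹ ∈ D.QQ) (i : Fin 3) : bt D b i = bt D b 0 := by
  have h1 := bt_Q h e
  rw [bt_mul h (conj_B h hv hb) (inv_mem hb), bt_inv h hb, add_neg_eq_zero] at h1
  exact (by decide : ∀ σ : Equiv.Perm (Fin 3), σ ≠ 1 → σ ^ 3 = 1 → ∀ u : V3, (∀ i, u (σ i) = u i) →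
    ∀ i, u i = u 0) _ (cyc_ne h hv n) (sg3 h hv v3) _ (fun i => h1 ▸ bt_cnj h hv hb i) i

theorem bt_sum (hv : v ∈ Ce D.z) (v3 : v ^ 3 = 1) (n : v ∉ D.B) (hb : b ∈ D.B)
    (e : (b * v) ^ 3 = 1) : bt D b 0 + bt D b 1 + bt D b 2 = 0 := by
  have h1 := conj_B h hv hb
  have h2 := conj_B h hv h1
  have h3 : b * (v * b * v⁻¹) * (v * (v * b * v⁻¹) * v⁻¹) = 1 := by
    rw [← e, ← mul_one (_ * _ * _), ← v3]; simp only [pow_three]; group
  have h4 := congrFun (congrArg (bt D) h3) (sg D v (sg D v 0))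
  rw [bt_mul h (mul_mem hb h1) h2, bt_mul h hb h1, bt_Q h (one_mem _), Pi.add_apply, Pi.add_apply,
    bt_cnj h hv hb, bt_cnj h hv h1, bt_cnj h hv hb] at h4
  exact (by decide : ∀ σ : Equiv.Perm (Fin 3), σ ≠ 1 → σ ^ 3 = 1 → ∀ u : V3,
    u (σ (σ 0)) + u (σ 0) + u 0 = 0 → u 0 + u 1 + u 2 = 0) _ (cyc_ne h hv n) (sg3 h hv v3) _ h4

theorem idxQ (hT : T ≤ D.B) (T3 : ∀ a ∈ T, a ^ 3 = 1) (p : V3 → Prop) (hp : ∀ t ∈ T, p (bt D t)) :
    D.QQ.relIndex T ≤ Nat.card {x // p x} :=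
  idx_le (Γ := Multiplicative V3) (MonoidHom.mk' (fun t : T => .ofAdd (bt D t)) fun a b =>
    congrArg Multiplicative.ofAdd (bt_mul h (hT a.2) (hT b.2)))
    (fun t => ⟨Q_bt h (hT t.2) (T3 _ t.2), bt_Q h⟩) (fun x => p x.toAdd) fun t => hp _ t.2

theorem idxT (hT : T ≤ Ce D.z) (T3 : ∀ a ∈ T, a ^ 3 = 1) (p : V3 → Prop)
    (hp : ∀ t ∈ T, t ∈ D.B → p (bt D t)) : D.QQ.relIndex T ≤ Nat.card {x // p x} * 3 := by
  have h1 := idx_le (X := D.B) (MonoidHom.mk' (fun t : T => sg D t) fun a b =>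
    sg_mul h (CeN (hT a.2)) (CeN (hT b.2))) (fun t => ⟨B_of h (hT t.2), sg_B h⟩) (· ^ 3 = 1)
    fun t => sg3 h (hT t.2) (T3 _ t.2)
  rw [show Nat.card {x : Equiv.Perm (Fin 3) // x ^ 3 = 1} = 3 by
    rw [Nat.card_eq_fintype_card]; decide, ← inf_relIndex_right] at h1
  have h2 := idxQ h (T := D.B ⊓ T) inf_le_left (fun a e => T3 a e.2) p fun t e => hp t e.2 e.1
  rw [← inf_relIndex_right, inf_left_comm, ← inf_assoc, inf_comm D.B, inf_eq_left.2 (QB h)] at h2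
  rw [← inf_relIndex_right, ← relIndex_mul_relIndex _ (D.B ⊓ T) T (inf_le_inf_right _ (QB h))
    inf_le_right]
  exact Nat.mul_le_mul h2 h1

theorem r27 (hT : T ≤ Ce D.z) (T3 : ∀ a ∈ T, a ^ 3 = 1) : D.QQ.relIndex T ≤ 27 := by
  by_cases e : T ≤ D.B
  · simpa using idxQ h e T3 (fun _ => True) fun _ _ => trivial
  obtain ⟨v, hv, n⟩ := SetLike.not_le_iff_exists.1 e
  have := idxT h hT T3 (fun u => u 0 + u 1 + u 2 = 0) fun b hb e =>
    bt_sum h (hT hv) (T3 v hv) n e (T3 _ (mul_mem hb hv))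
  rwa [show Nat.card {u : V3 // u 0 + u 1 + u 2 = 0} = 9 by
    rw [Nat.card_eq_fintype_card]; decide +kernel] at this

theorem r9 (hT : T ≤ Ce D.z) (T3 : ∀ a ∈ T, a ^ 3 = 1)
    (ab : ∀ a ∈ T, ∀ b ∈ T, a * b * a⁻¹ * b⁻¹ ∈ D.QQ) (e : ¬ T ≤ D.B) : D.QQ.relIndex T ≤ 9 := by
  obtain ⟨v, hv, n⟩ := SetLike.not_le_iff_exists.1 e
  have := idxT h hT T3 (fun u => ∀ i, u i = u 0) fun b hb e =>
    bt_diag h (hT hv) (T3 v hv) n e (ab v hv b hb)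
  rwa [show Nat.card {u : V3 // ∀ i, u i = u 0} = 3 by
    rw [Nat.card_eq_fintype_card]; decide +kernel] at this

theorem cov (ha : a ∈ Ce D.z) (hb : b ∈ Ce D.z) (hc : c ∈ Ce D.z) (a3 : a ^ 3 = 1) (b3 : b ^ 3 = 1)
    (c3 : c ^ 3 = 1) (ab : a * b = b * a) (ac : a * c = c * a) (bc : b * c = c * b) :
    (∃ i j k : ZMod 3, ¬ (i = 0 ∧ j = 0 ∧ k = 0) ∧ zp a i * zp b j * zp c k ∈ D.QQ) ∨
    (a ∈ D.B ∧ b ∈ D.B ∧ c ∈ D.B ∧
      ∀ v : Fin 3 → ZMod 3, ∃ i j k : ZMod 3, bt D (zp a i * zp b j * zp c k) = v) := by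
  refine or_iff_not_imp_left.2 fun n => ?_
  let φ : Multiplicative V3 →* G := MonoidHom.mk'
    (fun x => zp a (x.toAdd 0) * zp b (x.toAdd 1) * zp c (x.toAdd 2)) fun x y => by
      have k : ∀ {a b : G}, a * b = b * a → ∀ i j, Commute (zp a i) (zp b j) := fun e i j =>
        Commute.pow_pow e _ _
      simp only [toAdd_mul, Pi.add_apply, zp_add' a3, zp_add' b3, zp_add' c3]
      rw [(k ab _ _).mul_mul_mul_comm, ((k ac _ _).mul_left (k bc _ _)).mul_mul_mul_comm]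
  have k : ∀ x, φ x ∈ D.QQ → x = 1 := fun x e => by_contra fun e' => n ⟨_, _, _, fun e1 => e' (by
    ext i; fin_cases i
    exacts [e1.1, e1.2.1, e1.2.2]), e⟩
  have x3 : ∀ x, φ x ^ 3 = 1 := fun x => by
    rw [← map_pow, (by decide : ∀ x : Multiplicative V3, x ^ 3 = 1), map_one]
  have hT : φ.range ≤ Ce D.z := by
    rintro _ ⟨x, rfl⟩
    exact mul_mem (mul_mem (zp_mem' ha _) (zp_mem' hb _)) (zp_mem' hc _)
  have hB : φ.range ≤ D.B := by_contra fun e => by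
    have h1 := r9 h hT (by rintro _ ⟨x, rfl⟩; exact x3 x) (by
      rintro _ ⟨x, rfl⟩ _ ⟨y, rfl⟩
      rw [← map_mul, mul_comm x, map_mul, mul_inv_cancel_right, mul_inv_cancel]
      exact one_mem _) e
    have h2 := Nat.card_le_card_of_injective
      (fun x => (QuotientGroup.mk ⟨φ x, x, rfl⟩ : φ.range ⧸ D.QQ.subgroupOf φ.range)) fun x y e =>
        inv_mul_eq_one.1 (k _ (by simpa [mem_subgroupOf] using QuotientGroup.eq.1 e))
    have h3 := h2.trans h1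
    simp at h3
  refine ⟨hB ⟨.ofAdd ![1, 0, 0], by simp [φ, zp_one, zp_zero]⟩,
    hB ⟨.ofAdd ![0, 1, 0], by simp [φ, zp_one, zp_zero]⟩,
    hB ⟨.ofAdd ![0, 0, 1], by simp [φ, zp_one, zp_zero]⟩, fun v => ?_⟩
  obtain ⟨x, e⟩ := Finite.injective_iff_surjective.1 (show Function.Injective
    fun x : V3 => bt D (φ (.ofAdd x)) from fun x y e => neg_add_eq_zero.1 (k ((Multiplicative.ofAdd x)⁻¹ *
      .ofAdd y) (Q_bt h (hB ⟨_, rfl⟩) (x3 _) (by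
        rw [map_mul, map_inv, bt_mul h (inv_mem (hB ⟨_, rfl⟩)) (hB ⟨_, rfl⟩), bt_inv h (hB ⟨_, rfl⟩),
          neg_add_eq_zero]
        exact e)))) v
  exact ⟨_, _, _, e⟩

theorem relR (ha : a ∈ Ce D.z) (hb : b ∈ Ce D.z) (hc : c ∈ Ce D.z) (a3 : a ^ 3 = 1) (b3 : b ^ 3 = 1)
    (c3 : c ^ 3 = 1) (ab : a * b = b * a) (ac : a * c = c * a) (bc : b * c = c * b) (hg : g ∈ Ce D.z)
    (e1 : g * a * g⁻¹ * a ∈ zpowers c) (e2 : g * b * g⁻¹ * b ∈ zpowers c) (e3 : g * c = c * g) :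
    ∃ i j k : ZMod 3, ¬ (i = 0 ∧ j = 0 ∧ k = 0) ∧ zp a i * zp b j * zp c k ∈ D.QQ := by
  refine (cov h ha hb hc a3 b3 c3 ab ac bc).resolve_right fun ⟨aB, bB, cB, s⟩ => ?_
  have k : ∀ a ∈ D.B, g * a * g⁻¹ * a ∈ zpowers c → ∃ n : ZMod 3, ∀ i,
      bt D a i + bt D a (sg D g i) = n * bt D c (sg D g i) := fun a aB e => by
    obtain ⟨n, e⟩ := (mem_powers_iff_mem_zpowers.2 e :)
    refine ⟨n, fun i => ?_⟩
    have := congrFun (congrArg (bt D) e) (sg D g i)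
    simpa [bt_pow h cB, bt_mul h (conj_B h hg aB) aB, bt_cnj h hg aB] using this.symm
  obtain ⟨n1, k1⟩ := k a aB e1
  obtain ⟨n2, k2⟩ := k b bB e2
  obtain ⟨n3, k3⟩ := k c cB (by
    rw [e3, mul_inv_cancel_right]; exact mul_mem (mem_zpowers c) (mem_zpowers c))
  refine (by decide +kernel : ∀ (σ : Equiv.Perm (Fin 3)) (γ : V3), ¬ ∀ v : V3, ∃ n : ZMod 3, ∀ i,
    v i + v (σ i) = n * γ (σ i)) (sg D g) (bt D c) fun v => ?_
  obtain ⟨i, j, l, rfl⟩ := s v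
  refine ⟨i * n1 + j * n2 + l * n3, fun m => ?_⟩
  rw [bt_mul h (mul_mem (zp_mem' aB _) (zp_mem' bB _)) (zp_mem' cB _), bt_mul h (zp_mem' aB _)
    (zp_mem' bB _), bt_zp h aB, bt_zp h bB, bt_zp h cB]
  simp only [Pi.add_apply, Pi.smul_apply, smul_eq_mul]
  linear_combination i * k1 m + j * k2 m + l * k3 m

theorem kit : Kit D :=
  ⟨fun _ hg _ ha i _ e => sg_of h (CeN hg) e ▸ bt_cnj h hg ha i, fun _ => r27 h, fun _ => r9 h,
    fun _ ha _ hb _ hc => cov h ha hb hc, fun _ ha _ hb _ hc a3 b3 c3 ab ac bc _ =>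
      relR h ha hb hc a3 b3 c3 ab ac bc⟩

omit h in
theorem jobKit : JobKit.{u} := fun _ _ _ _ h => kit h

end H46.E6B
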