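import Cfsg.Agent.H39.E6Spec
import Cfsg.Agent.H78.F22J

/-! Interface of `blueprints/E6B.md` (row S3337): `²E₆(2)` from `3^{1+6}` when the Sylow
`3`-subgroups may have order `3¹⁰`. -/

set_option autoImplicit false

open Cfsg Subgroup H98 H42.L3 H56.L3 H39.F22 H39.E6
open H28.PS (SL3 Zt HD HA WCQ AA)
open H78.F22 (chi JJ)
open H46.BM (GM U M)
open H39.SE (Nor dl)

namespace H46.E6B

universe u

section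

variable {G : Type*} [Group G]

/-- the image of an element of the base group in `(SL₂(3) / Q₈)³` -/
def bt (D : D3 G) (g : G) (i : Fin 3) : ZMod 3 := chi (D.m i g)

/-- `HV0` with the weaker clause `sum` in place of `base` -/
structure HV1 (D : D3 G) : Prop where
  ex : NW D.z D.QQ
  sym : ∀ g : G, g * D.z * g⁻¹ ∈ D.QQ → g⁻¹ * D.z * g ∈ D.QQ
  wt : ∀ y ∈ D.QQ, Zt D.z y → y ∈ zpowers D.z ∨ D.W3 y
  pair : ∀ g : G, g * D.z * g⁻¹ ∈ D.QQ → g * D.z * g⁻¹ ∉ zpowers D.z →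
    Nat.card ↥(D.QQ ⊓ cj g D.QQ) = 81 ∧ Nat.card ↥(cj g D.QQ ⊓ Ce D.z) = 729 ∧
      ∃ w ∈ cj g D.QQ ⊓ Ce D.z, ∀ i, cj w (D.Q i) = D.Q (i + 1)
  sum : ∀ g ∈ D.B, bt D g 0 + bt D g 1 + bt D g 2 = 0

/-- `HJ3` with `J = 3⁵` of index one or three in `JJ D c = C(z, c 0, c 1, c 2)` -/
structure HJ4 (D : D3 G) (t : G) (c r x : Fin 3 → G) (π h : G) (ε : ZMod 3) (J : Subgroup G) :
    Prop where
  eps : ε = 1 ∨ ε = -1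
  rB : ∀ i, r i ∈ D.B
  rsq : ∀ i, r i * r i = 1
  rm : ∀ i, D.m i (r i) = -1
  rm' : ∀ i j, j ≠ i → D.m j (r i) = 1
  rc : ∀ i j, j ≠ i → r i ∈ cn (D.Q j)
  rr : ∀ i j, r i * r j = r j * r i
  πz : π ∈ Ce D.z
  πr : ∀ i, π * r i * π⁻¹ = r (i + 1)
  cQ : ∀ i, c i ∈ D.Q i
  cz : ∀ i, c i ∉ zpowers D.z
  rcr : ∀ i, r i * c i * (r i)⁻¹ = (c i)⁻¹
  tB : t ∈ D.B
  t3 : t ^ 3 = 1
  tm : ∀ i, D.m i t ^ 4 ≠ 1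
  tc : ∀ i, t * c i = c i * t
  tr : ∀ i, t * r i = r i * t
  xQ : ∀ i, x i ∈ D.Q i
  xt : ∀ i, x i * t * (x i)⁻¹ = t * c i * D.z ^ (-ε).val
  xc : ∀ i, x i * c i * (x i)⁻¹ = c i * D.z ^ ε.val
  Jd : ∀ g, g ∈ J ↔ g ∈ JJ D c ∧ ∀ i, bt D g i = bt D g 0
  Jab : JJ D c ≤ cn (JJ D c)
  J3 : ∀ g ∈ JJ D c, g ^ 3 = 1
  nJ : nr (JJ D c) ≤ nr J
  memJ : ∀ g, g ∈ J ↔ ∃ α β a, g = el D.z t c α β a
  el_inj : ∀ α β a, el D.z t c α β a = 1 → α = 0 ∧ β = 0 ∧ a = 0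
  zset : ∀ α β a, Zt D.z (el D.z t c α β a) ↔
    el D.z t c α β a ≠ 1 ∧ a 0 * a 0 + a 1 * a 1 + a 2 * a 2 + ε * α * β = 0
  hJ : h ∈ nr J
  hz : h * D.z * h⁻¹ = t
  At : J ⊓ cj h D.QQ = closure {t, c 0, c 1, c 2}

/-- `HR` without the clause `ext` -/
structure HR0 (C : Subgroup G) (z r c : G) (R J : Subgroup G) : Prop where
  com : ∀ Θ Θ', Inv C z c Θ → Inv C z c Θ' → ∀ a ∈ Θ, ∀ b ∈ Θ', a * b * a⁻¹ * b⁻¹ ∈ zpowers r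
  le : ∀ Θ N, Inv C z c Θ → R ≤ N → C ⊓ nr J ≤ nr N → Θ ≤ N
  gen : ∀ M, C ⊓ Nz z ≤ M → C ⊓ nr J ≤ M → C ≤ M

/-- `C(z, c 0, c 1, c 2)`, of order `3⁵` or `3⁶` -/
abbrev Jb (E : Dat G) : Subgroup G := JJ E.D E.c

/-- `U₆(2)`, the second derived group of `Y` -/
def X2 (E : Dat G) : Subgroup G := ⁅⁅E.Y, E.Y⁆, ⁅E.Y, E.Y⁆⁆

/-- the hypotheses, as `E0` -/
structure E1 (E : Dat G) : Prop where
  h3 : H3 E.D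
  full : Full E.D
  hv : HV1 E.D
  hj : HJ4 E.D E.t E.c E.r E.x E.π E.h 1 E.J
  πt : E.π * E.t = E.t * E.π
  πc : ∀ i, E.π * E.c i * E.π⁻¹ = E.c (i + 1)

/-- `NJ` without the clause `cJ` -/
structure NJ1 (E : Dat G) : Prop where
  add : ∀ u v, E.φ (u + v) = E.φ u * E.φ v
  inj : ∀ v, E.φ v = 1 → v = 0
  memJ : ∀ g, g ∈ E.J ↔ ∃ v, E.φ v = g
  memI : ∀ g, g ∈ E.I ↔ ∃ v, v 2 = 0 ∧ E.φ v = g
  zset : ∀ v, Zt E.z (E.φ v) ↔ v ≠ 0 ∧ q5 v = 0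
  iso : ∀ g ∈ nr E.J, ∃ f, E.Act g f ∧ (∀ u v, f (u + v) = f u + f v) ∧ ∀ v, q5 (f v) = q5 v
  refl : ∀ u, q5 u = 1 → ∃ g ∈ nr E.J, E.Act g (rf u)
  reflY : ∀ u, q5 u = 1 → u 2 = 0 → ∃ g ∈ E.Y ⊓ nr E.I, E.Act g (rf u)
  typ : ∀ a ∈ E.I, a ≠ 1 → ∃ g ∈ E.Y ⊓ nr E.I,
    g * a * g⁻¹ = E.z ∨ g * a * g⁻¹ = E.c 1 ∨ g * a * g⁻¹ = E.b
  sw : ∃ m ∈ E.Y ⊓ nr E.I, m * E.r 2 * m⁻¹ = E.r 1

/-- `J` has index three in its centralizer -/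
def Big (E : Dat G) : Prop := ∃ x ∈ Jb E, x ∉ E.J

/-- weak closure of `3⁶` -/
structure BG (E : Dat G) : Prop where
  card : Nat.card (Jb E) = 729
  syl : ∃ S, IsSyl 3 S ⊤ ∧ S ≤ Ce E.z ∧ Jb E ≤ S ∧
    ∀ T ≤ S, T ≤ cn T → (∀ a ∈ T, a ^ 3 = 1) → Nat.card T = 729 → T = Jb E
  ctl : ∀ a ∈ Jb E, ∀ g : G, g * a * g⁻¹ ∈ Jb E → ∃ n ∈ nr (Jb E), n * a * n⁻¹ = g * a * g⁻¹
  ord : ∀ y ∈ E.D.B, y ^ 3 = 1 → (∀ i, bt E.D y i = bt E.D y 0) → ∃ g : G, g * y * g⁻¹ ∈ E.J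

/-- a normal subgroup to which the configuration restricts -/
structure Res (D : D3 G) (N : Subgroup G) : Prop where
  nor : N.Normal
  P : ∀ p, D.P p → p ∈ N
  nw : ∃ g ∈ N, g * D.z * g⁻¹ ∈ Ce D.z ∧ g * D.z * g⁻¹ ∉ zpowers D.z

/-- no element of `Y \ X` that lies in a subgroup `3⁵` of `Y` has a conjugate in `C(w)` -/
def Key (Y X : Subgroup G) (w : G) : Prop := ∀ T ≤ Y, T ≤ cn T → (∀ a ∈ T, a ^ 3 = 1) →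
  Nat.card T = 243 → ∀ d ∈ T, d ∉ X → ∀ g : G, g * d * g⁻¹ ∉ Ce w

/-- the hypotheses of the transfer step -/
structure TS (Sg Y X : Subgroup G) (r w : G) : Prop where
  r2 : orderOf r = 2
  rm : r ∈ Sg
  card : Nat.card Sg = 2 ^ 21
  sq : ∀ s ∈ Sg, s * s ∈ zpowers r
  cm : ∀ s ∈ Sg, ∀ s' ∈ Sg, s * s' * s⁻¹ * s'⁻¹ ∈ zpowers r
  zc : Sg ⊓ cn Sg ≤ zpowers r
  SK : Sg ≤ Ce r
  YK : Y ≤ Ce r
  YS : Y ≤ nr Sg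
  XY : X ≤ Y
  nX : Y ≤ nr X
  iso : ∃ (F : Type) (_ : Field F) (_ : Fintype F), Fintype.card F = 4 ∧
    Nonempty (X ≃* PSU 6 F 2)
  cen : Y ⊓ cn X = ⊥
  fz : ∃ x ∈ X, ∃ s ∈ Sg, x * s * x⁻¹ * s⁻¹ ∉ zpowers r
  nor : Ce r ⊓ nr Sg ≤ Sg ⊔ Y
  big : ∃ y ∈ Y, y ∉ X ∧ y ^ 3 = 1
  wY : w ∈ Y
  w2 : w * w = 1
  key : Key Y X w

/-- the conclusion -/
def Fin7 (G : Type*) [Group G] : Prop := ∃ N : Subgroup G, N.Normal ∧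
  (∃ (F : Type) (_ : Field F) (_ : Fintype F), Fintype.card F = 4 ∧
    Nonempty (N ≃* Lie.twistedE6 F 2)) ∧ cn N = ⊥

end

/-- the group `Y = C(c 0, r 0)`, as `YF` -/
structure YF1 {G : Type u} [Group G] (E : Dat G) : Prop where
  iso : ∃ (F : Type) (_ : Field F) (_ : Fintype F), Fintype.card F = 4 ∧
    Nonempty (X2 E ≃* PSU 6 F 2)
  cen : E.Y ⊓ cn (X2 E) = ⊥
  idx : (X2 E).relIndex E.Y ∣ 6
  SX : E.S0 ≤ X2 E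
  rX : E.r 2 ∈ X2 E
  x3 : ∀ y ∈ X2 E, y ^ 3 = 1 → ∃ k ∈ E.Y, k * y * k⁻¹ ∈ E.I
  frat : ∀ g ∈ E.Y, ∃ k ∈ X2 E, k⁻¹ * g ∈ Nz E.z
  cc : ∀ g ∈ Ce (E.c 0), ∃ k : ℕ, g * E.c 0 ^ k ∈ E.K
  hr : HR0 (E.Y ⊓ Ce (E.r 2)) E.z (E.r 2) (E.c 1) (E.R 2) E.I
  rig : ∀ (Γ : Type u) [Group Γ] [Finite Γ] (ψ : E.Y →* Γ) (z : E.Y), (z : G) = E.z →
    Function.Injective ψ → Nz (ψ z) ≤ ψ.range →
    (∀ (g : Γ) (y : E.Y), (y : G) ∈ E.Q 1 ⊔ E.Q 2 → g * ψ z * g⁻¹ = ψ y →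
      (y : G) ∈ zpowers E.z) → ψ.range = ⊤

/-! ### Tools -/

/-- `Rig` without the bound on the Sylow `3`-subgroups -/
def Rig0 : Prop := ∀ (Y Γ : Type u) [Group Y] [Finite Y] [Group Γ] [Finite Γ] (D : HD Y)
  (ψ : Y →* Γ), HA D → WCQ D → NW D.z (Ce D.z) → Function.Injective ψ →
  Nz (ψ D.z) ≤ ψ.range → (∀ g : Γ, ∀ y ∈ D.Q, g * ψ D.z * g⁻¹ = ψ y → y ∈ zpowers D.z) →
  ψ.range = ⊤

/-- `HubR` without the bound on the Sylow `3`-subgroups -/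
def HubR0 : Prop := ∀ (G : Type u) [Group G] [Finite G] (D : HD G), HA D → WCQ D →
  NW D.z (Ce D.z) → ∀ r ∈ D.R1, D.m1 r = -1 →
  ∀ c1 ∈ D.Q1, c1 ∉ zpowers D.z → ∀ c2 ∈ D.Q2, c2 ∉ zpowers D.z →
  HR0 (Ce r) D.z r c2 D.R1 (cn (AA D.z c1 c2))

/-- `U₆(2).3` in the model -/
noncomputable def U3 : Subgroup GM := U ⊔ zpowers dl

/-- Facts on the elements of order three outside `U`. -/
structure MF1 : Prop where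
  two : ∀ γ γ', Nor γ → Nor γ' → γ ∉ U3 → γ' ∉ U3 → γ * γ' ∈ U3
  inv : ∀ γ ∈ U3, γ * γ = 1 → γ ∈ U
  thr : ∀ γ, Nor γ → γ ^ 3 = 1 → γ ∉ U → dl ∈ U ⊔ zpowers γ ∧ dl ∉ U
  cen : ∀ γ ∈ U, γ * γ = 1 → ∀ a : M, γ • a = a → ∃ g ∈ U, ∃ m,
    g * dl * g⁻¹ * γ = γ * (g * dl * g⁻¹) ∧ (g * dl * g⁻¹) • a = a + (m + γ • m)
  tor : ∃ T ≤ U3, dl ∈ T ∧ T ≤ cn T ∧ (∀ a ∈ T, a ^ 3 = 1) ∧ Nat.card T = 243

/-- `M` is not a failure of factorization module. -/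
def MF2 : Prop := ∀ (B : Subgroup GM) (F : AddSubgroup M),
  (∀ b ∈ B, Nor b ∧ b * b = 1 ∧ ∀ v ∈ F, b • v = v) → 2 ^ 20 ≤ Nat.card B * Nat.card F → B = ⊥

/-! ### The jobs -/

/-- **A**: from the hypotheses of the row. -/
def JobA : Prop := ∀ (G : Type u) [Group G] [Finite G] (H : Subgroup G) (Q : Subgroup H),
  Q = generalizedFittingSubgroup H → ∀ [Q.Normal], IsExtraspecial 3 Q → Nat.card Q = 3 ^ 7 →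
  (center Q).map Q.subtype = center H →
  Nonempty (pCore 2 (H ⧸ Q) ≃* QuaternionGroup 2 × QuaternionGroup 2 × QuaternionGroup 2) →
  ∀ (Z : Subgroup G), Z = (center H).map H.subtype → H = centralizer (Z : Set G) →
  ∀ (S : Sylow 3 G), Z ≤ S → ¬ IsWeaklyClosed Z S →
  ∃ D : D3 G, H3 D ∧ Full D ∧ zpowers D.z = Z ∧ D.QQ = (pCore 3 H).map H.subtype ∧
    NW D.z (Ce D.z)

def JobW : Prop := ∀ (G : Type u) [Group G] [Finite G] (D : D3 G), H3 D →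
  NW D.z (Ce D.z) → NW D.z D.QQ

def JobV : Prop := ∀ (G : Type u) [Group G] [Finite G] (D : D3 G), H3 D → Full D →
  NW D.z D.QQ → HV1 D

def JobJ : Prop := ∀ (G : Type u) [Group G] [Finite G] (D : D3 G), H3 D → HV1 D →
  ∃ t c r x π h ε J, HJ4 D t c r x π h ε J

def JobN2 : Prop := ∀ (G : Type u) [Group G] [Finite G] (D : D3 G) (t : G) (c r x : Fin 3 → G)
  (π h : G) (ε : ZMod 3) (J : Subgroup G), H3 D → Full D → HV1 D →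
  HJ4 D t c r x π h ε J → ∃ E : Dat G, E.D = D ∧ E1 E ∧ NJ1 E

def JobN1 : Prop := ∀ (G : Type u) [Group G] [Finite G] (E : Dat G), E1 E → NJ1 E → RF E

def JobRig : Prop := Hub.{u} → Rig0.{u}

def JobY : Prop := Hub.{u} → Rig0.{u} → HubR0.{u} → ∀ (G : Type u) [Group G] [Finite G]
  (E : Dat G), E1 E → NJ1 E → RF E → YF1 E

def JobS : Prop := ∀ (G : Type u) [Group G] [Finite G] (E : Dat G), E1 E → NJ1 E → RF E →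
  YF1 E → SF E

def JobL : Prop := G6.{u} → ∀ (G : Type u) [Group G] [Finite G] (E : Dat G), E1 E → NJ1 E →
  RF E → YF1 E → SF E → E.Y ≤ nr E.Sg ∧ E.K ⊓ nr E.Sg ≤ E.Sg ⊔ E.Y

def JobC : Prop := ∀ (G : Type u) [Group G] [Finite G] (E : Dat G), E1 E → NJ1 E → RF E →
  Big E → BG E

def JobTR : Prop := ∀ (G : Type u) [Group G] [Finite G] (E : Dat G), E1 E → NJ1 E → Big E →
  BG E → ¬ Swap E.D → ∃ N, Res E.D N ∧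
    ∀ T ≤ Ce E.z ⊓ N, IsPGroup 3 T → E.D.QQ.relIndex T ∣ 9

def JobK : Prop := ∀ (G : Type u) [Group G] [Finite G] (E : Dat G), E1 E → NJ1 E → RF E →
  YF1 E → Big E → BG E → Swap E.D → (∃ y ∈ E.Y, y ∉ X2 E ∧ y ^ 3 = 1) ∧
    ∃ w ∈ E.Y ⊓ Ce E.z, w * w = 1 ∧ cj w (E.Q 0) = E.Q 0 ∧ cj w (E.Q 1) = E.Q 2 ∧
      Key E.Y (X2 E) w

def JobTH : Prop := MF1 → MF2 → ∀ (G : Type u) [Group G] [Finite G] (Sg Y X : Subgroup G)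
  (r w : G), TS Sg Y X r w → ∃ N : Subgroup G, N.Normal ∧ N.index = 2 ∧ w ∉ N

end H46.E6B
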