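import Cfsg.Agent.H46.BWT1

/-! S3270, slot T, part 2. -/

set_option autoImplicit false
set_option linter.unusedSectionVars false

open Cfsg Subgroup H28 H29 H31 H85.Nine H87 H41.Alx
open scoped Classical

namespace H46.BW

universe u

variable {G : Type u} [Group G] [Fintype G]

theorem cc_three (h3 : 3 ∣ Nat.card G) (h9 : ¬ 9 ∣ Nat.card G) {u v : G} (hu : orderOf u = 3)
    (hv : orderOf v = 3) : cc u = cc v := by
  have := Fact.mk Nat.prime_three
  obtain ⟨P⟩ : Nonempty (Sylow 3 G) := inferInstance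
  have hP := card_syl3 h3 h9 P
  have k : ∀ w : G, orderOf w = 3 → cc w = Nat.card (centralizer ((P : Subgroup G) : Set G)) := by
    intro w hw
    obtain ⟨Q, hQ⟩ := (IsPGroup.of_card (p := 3) (n := 1) (G := zpowers w)
      (by rw [Nat.card_zpowers, hw, pow_one])).exists_le_sylow
    obtain ⟨c, rfl⟩ := MulAction.exists_smul_eq G P Q
    have m : c⁻¹ * w * c ∈ (P : Subgroup G) := by
      have := hQ (mem_zpowers w)
      rw [Sylow.coe_subgroup_smul, mem_pointwise_smul_iff_inv_smul_mem] at this
      simpa using this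
    rw [← centralizer_singleton_eq_prime hP m fun e => by
      have : w = 1 := by
        calc w = c * (c⁻¹ * w * c) * c⁻¹ := by group
          _ = 1 := by rw [e]; group
      simp [this] at hw]
    exact H30.card_centralizer_eq_of_isConj (isConj_iff.2 ⟨c⁻¹, by simp⟩)
  rw [k u hu, k v hv]

theorem cc_dvd (h3 : 3 ∣ Nat.card G) (h9 : ¬ 9 ∣ Nat.card G) {u v : G} (hu : orderOf u = 3)
    (hv : 3 ∣ orderOf v) : cc v ∣ cc u := by
  rw [cc_three h3 h9 hu (orderOf_pow_orderOf_div (orderOf_pos v).ne' hv)]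
  exact card_dvd_of_le fun g hg => mem_centralizer_singleton_iff.2
    (Commute.pow_right (mem_centralizer_singleton_iff.1 hg) _)

theorem pair_of (h3 : 3 ∣ Nat.card G) (h9 : ¬ 9 ∣ Nat.card G) {A B : G → ℂ} {d : ℕ}
    (T : Tri (f3 G) A B d) {u g h : G} (hu : orderOf u = 3) (hg : ¬ 3 ∣ orderOf g)
    (hh : ¬ 3 ∣ orderOf h) {a b : ℤ} (ha : A g = a) (hb : A h = b) :
    (3 * (d * (d + 1)) * (cc g * cc h) : ℤ) ∣ Nat.card G * cc u * ((d - a) * (d - b)) := by
  have k := H41.Alx.pair T (g := g) (h := h) (by simp [f3, sg_of_not hg]) (by simp [f3, sg_of_not hh])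
  let W : ConjClasses G → ℕ := fun C =>
    if 3 ∣ orderOf C.out then cc u / cc C.out * nf g h C.out else 0
  have s := H30.sum_mk_mul_card_centralizer (G := G) fun C => (W C : ℂ)
  rw [Finset.sum_congr rfl (g := fun v => (cc u : ℂ) * (sg 3 v * nf g h v)) fun v _ => by
    have e : IsConj (ConjClasses.mk v).out v :=
      ConjClasses.mk_eq_mk_iff_isConj.1 (Quotient.out_eq _)
    have e1 := H30.card_centralizer_eq_of_isConj e
    obtain ⟨x, hx⟩ := isConj_iff.1 e
    have e2 : orderOf (ConjClasses.mk v).out = orderOf v := by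
      conv_rhs => rw [← hx]
      exact (H83.orderOf_conj _ _).symm
    have e3 : nf g h (ConjClasses.mk v).out = nf g h v := by
      conv_rhs => rw [← hx]
      exact (nf_conj _ _ _ _).symm
    simp only [W, e2, e3, cc, e1, sg]
    split_ifs with hv
    · obtain ⟨m, hm⟩ := cc_dvd h3 h9 hu hv
      rw [cc, cc] at hm
      rw [hm, Nat.mul_div_cancel_left _ Nat.card_pos]
      push_cast; ring
    · simp, ← Finset.mul_sum] at s
  have g0 : (Nat.card G : ℂ) ≠ 0 := Nat.cast_ne_zero.2 Nat.card_pos.ne'
  simp only [f3, mul_assoc (3 : ℂ), ← Finset.mul_sum] at k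
  rw [ha, hb] at k
  refine ⟨(∑ C, W C : ℕ), Int.cast_injective (α := ℂ) (mul_left_cancel₀ g0 ?_)⟩
  push_cast
  linear_combination -(cc u : ℂ) * k + 3 * (d * (d + 1)) * (cc g * cc h) * s

theorem sec {r : ℕ} {M : Ideal AlgInt} (hM : IsPModular r M) (r3 : r ≠ 3) {A B : G → ℂ} {d : ℕ}
    (T : Tri (f3 G) A B d) {g : G} (hg : El r g) :
    1 + (if (⟨A, T.irA⟩ : IrrCharacter G) ∈ principalBlock M G then A g else 0) -
      (if (⟨B, T.irB⟩ : IrrCharacter G) ∈ principalBlock M G then B g else 0) =
      blockPart (principalBlock M (centralizer ({g} : Set G))) (f3 (centralizer ({g} : Set G))) 1 := by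
  have := hM.2.1
  have hs := H41.isSec_centralizer hg
  have y1 : ¬ r ∣ orderOf (1 : centralizer ({g} : Set G)) := by
    rw [orderOf_one]; exact hM.1.not_dvd_one
  have k : ∀ χ : IrrCharacter G, (if χ ∈ principalBlock M G then χ.1 g else 0) =
      blockPart (principalBlock M (centralizer ({g} : Set G)))
        (fun c : centralizer ({g} : Set G) => χ.1 (g * c)) 1 := fun χ => by
    split_ifs with h
    · simpa using H34.prin_apply_eq hM hs h y1
    · exact (H34.prin_part_eq_zero hM hs h y1).symm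
  have k1 := k (one G)
  rw [if_pos H34.one_mem_principalBlock] at k1
  have e : f3 (centralizer ({g} : Set G)) =
      (fun c : centralizer ({g} : Set G) => (one G).1 (g * c)) +
      (fun c : centralizer ({g} : Set G) => A (g * c)) -
      fun c : centralizer ({g} : Set G) => B (g * c) := funext fun c => by
    have h1 := T.eq (g * c)
    have h2 : 3 ∣ orderOf (g * c) ↔ 3 ∣ orderOf c := by
      obtain ⟨n, hn⟩ := hg
      have n3 : Nat.Coprime 3 (orderOf g) :=
        hn ▸ ((Nat.coprime_primes Nat.prime_three hM.1).2 r3.symm).pow_right _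
      have hc : Commute g c := hs.comm c
      rw [← orderOf_coe]
      refine ⟨fun h => n3.dvd_of_dvd_mul_left (h.trans hc.orderOf_mul_dvd_mul_orderOf), fun h => ?_⟩
      have := ((Commute.refl g).mul_right hc).inv_left.orderOf_mul_dvd_mul_orderOf
      rw [inv_mul_cancel_left, orderOf_inv] at this
      exact n3.dvd_of_dvd_mul_left (h.trans this)
    simp only [f3, sg, h2] at h1
    simpa [f3, sg] using h1
  rw [e, H41.blockPart_sub, H41.blockPart_add, Pi.sub_apply, Pi.add_apply, ← k1, k ⟨A, T.irA⟩,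
    k ⟨B, T.irB⟩]

theorem jobT : JobT.{u} := by
  intro G _ _ _ hG h3 h9
  have := Fintype.ofFinite G
  have := Fact.mk Nat.prime_three
  obtain ⟨P⟩ : Nonempty (Sylow 3 G) := inferInstance
  obtain ⟨t, X, Y, δ, ε, h⟩ := exists_br H37.cycK P (card_syl3 h3 h9 P)
  rw [(e_cases h.te).resolve_left fun e =>
    not_normalizer_le_centralizer hG h3 P (relIndex_eq_one.1 e)] at h
  obtain ⟨A, B, d, D⟩ := d2_of_br h
  have T := D.tri
  choose c hc using D.int
  have hB : ∀ g, ∃ z : ℤ, B g = z := fun g => by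
    by_cases hg : 3 ∣ orderOf g
    · exact ⟨-1, by simpa using (D.sing g hg).2⟩
    · refine ⟨c g + 1, ?_⟩
      have := T.eq g
      rw [f3, sg_of_not hg, hc] at this
      push_cast; linear_combination this
  choose e he using hB
  have c1 : c 1 = d := Int.cast_injective (α := ℂ) (by rw [← hc, T.dA]; simp)
  have sing : ∀ g, 3 ∣ orderOf g → c g = 1 ∧ e g = -1 := fun g hg =>
    ⟨Int.cast_injective (α := ℂ) (by rw [← hc, (D.sing g hg).1]; simp),
      Int.cast_injective (α := ℂ) (by rw [← he, (D.sing g hg).2]; simp)⟩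
  have reg : ∀ g, ¬ 3 ∣ orderOf g → e g = c g + 1 := fun g hg => Int.cast_injective (α := ℂ) (by
    have := T.eq g
    rw [f3, sg_of_not hg, hc, he] at this
    push_cast; linear_combination this)
  have le : ∀ g, |c g| ≤ d := fun g => by
    have := T.irA.isCharacter.norm_le g
    rw [hc, T.dA, Complex.norm_intCast, Complex.natCast_re] at this
    exact_mod_cast this
  have cong : ∀ (r : ℕ) (g h : G), r.Prime → El r h → g * h = h * g → (r : ℤ) ∣ c (g * h) - c g :=
    fun r g h hr hh e => cong_of T.irA.isCharacter hc hr hh e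
  refine ⟨c, e, d, T.two_le hG, c1, Nat.Coprime.mul_dvd_of_dvd_of_dvd (by simp) T.dvd.1 T.dvd.2,
    sing, reg, fun g g1 => (le g).lt_of_ne fun k => g1 (H43.eq_one_of_norm_eq hG T.irA T.nA ?_), cong,
    fun H l hl => c1 ▸ roots_of T.irA.isCharacter hc H l hl,
    fun r g hr hg g1 => low_of T.irA.isCharacter hc (fun g => (le_abs_self _).trans (le g)) hr hg g1,
    fun g => ⟨om_of T.irA T.dA (hc g), by exact_mod_cast om_of T.irB T.dB (he g)⟩, fun g hg => ?_,
    fun u g h hu hg hh => pair_of h3 h9 T hu hg hh (hc g) (hc h), fun r g hr hg =>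
      ⟨fun k => Int.cast_injective (α := ℂ) (by rw [← hc, def0_of T.irA T.dA hr k hg]; simp),
       fun k => Int.cast_injective (α := ℂ) (by rw [← he, def0_of T.irB T.dB hr k hg]; simp)⟩,
    fun r hr r3 => ?_⟩
  · rw [hc, T.dA, Complex.norm_intCast, Complex.natCast_re]
    exact_mod_cast k
  · obtain ⟨k, hk⟩ := H43.char_inv_mod_four (perfect hG) T.irA.isCharacter hg
    rw [hc, T.dA] at hk
    have : c g = d - 4 * k := by exact_mod_cast hk
    exact ⟨-k, by linear_combination this⟩
  obtain ⟨M, hM⟩ := H35.exists_isPModular r hr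
  have := hM.2.1
  refine ⟨if (⟨A, T.irA⟩ : IrrCharacter G) ∈ principalBlock M G then 1 else 0,
    if (⟨B, T.irB⟩ : IrrCharacter G) ∈ principalBlock M G then 1 else 0,
    by split_ifs <;> simp, by split_ifs <;> simp, fun k g => ?_, fun k g => ?_, fun g hg g1 => ?_⟩
  · exact om_prin hM T.irA (by by_contra n; simp [n] at k) T.dA (hc g)
  · exact_mod_cast om_prin hM T.irB (by by_contra n; simp [n] at k) T.dB (he g)
  have k := sec hM r3 T hg
  have g3 : ¬ 3 ∣ orderOf g := fun k => by
    obtain ⟨n, hn⟩ := hg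
    exact r3 ((Nat.prime_dvd_prime_iff_eq Nat.prime_three hr).1
      (Nat.prime_three.dvd_of_dvd_pow (hn ▸ k))).symm
  refine ⟨fun n => ?_, fun n k1 => ?_⟩
  · rw [show f3 (centralizer ({g} : Set G)) = 0 from funext fun x => by
      simp [f3, sg_of_not fun e => n (e.trans (orderOf_dvd_natCard x))], H41.blockPart_zero,
      Pi.zero_apply, hc, he] at k
    refine Int.cast_injective (α := ℂ) ?_
    split_ifs at k ⊢ <;> simpa using k
  · obtain ⟨V, hV, hv⟩ := part3 (G := centralizer ({g} : Set G)) n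
      (fun e => h9 (e.trans (card_subgroup_dvd_card _))) _ (H34.one_mem_principalBlock (M := M))
    obtain ⟨u, hu⟩ := exists_prime_orderOf_dvd_card' (G := centralizer ({g} : Set G)) 3 n
    have uc : g * u = u * g := (mem_centralizer_singleton_iff.1 u.2).symm
    have c3 := cong 3 g u Nat.prime_three ⟨1, by simpa using hu⟩ uc
    rw [(sing (g * u) (by
      rw [(show Commute g u from uc).orderOf_mul_eq_mul_orderOf_of_coprime (by
        rw [orderOf_coe, hu]; exact ((Nat.Prime.coprime_iff_not_dvd Nat.prime_three).2 g3).symm),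
        orderOf_coe, hu]
      exact dvd_mul_left _ _)).1] at c3
    rw [hV, hc, he, reg g g3] at k
    split_ifs at k k1
    · omega
    · have k2 : 1 + c g - 0 = V := by exact_mod_cast k
      rcases hv with rfl | rfl | ⟨s, s1, s2, s3⟩
      · omega
      · omega
      · exact ⟨s, s1, s2, by omega⟩
    · have k2 : 1 + 0 - (c g + 1) = V := by exact_mod_cast k
      rcases hv with rfl | rfl | ⟨s, s1, s2, s3⟩
      · omega
      · omega
      · exact ⟨s, s1, s2, by omega⟩
    · omega

end H46.BW
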