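import Cfsg.Agent.H46.E6BJ1

/-! Job J of `blueprints/E6B.md`. -/

set_option autoImplicit false
set_option linter.unusedSectionVars false
set_option maxRecDepth 100000
set_option synthInstance.maxSize 2048

open Cfsg Subgroup H98 H42.L3 H7.PS H39.F22 H46.E6B
open H78.F22 hiding Pr Z0 nz
open H56.L3 (Ce Nz)
open H28.PS (SL3 Zt)
open H84.PS (V2)
open scoped Matrix

namespace H46.EJ

universe u

variable {G : Type*} [Group G] [Finite G] {D D' : D3 G} {a b g k q r s t u w x y : G}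
  {i j l : Fin 3} {c c' ρ : Fin 3 → G} {α β : Fin 3 → ZMod 3} {X : Subgroup G}

theorem Zt_of (h : H3 D) (w : WT D) (hq : q ∈ zpowers D.z) (ha : a ∈ D.QQ) (e : Zt D.z (q * a)) :
    a ∈ zpowers D.z ∨ Zt D.z a := by
  refine (w _ (mul_mem (zQ h hq) ha) e).imp (mul_mem_cancel_left hq).1 fun e1 => ?_
  obtain ⟨b, rfl⟩ := exists_zp h.ord hq
  have := Zt_z h (mul_mem (zQ h hq) ha) (e1 0) e (-b)
  rwa [zp_neg h.ord, inv_mul_cancel_left] at this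

theorem Ty_ne (h : H3 D) (hr : r ∈ D.B) (e : D.m i r = -1) : r ≠ 1 := fun e1 =>
  neg_ne (e.symm.trans (e1 ▸ (co h i).m_one))

section

variable (h : H3 D) (v : HV1 D) (cQ : ∀ i, c i ∈ D.Q i) (cz : ∀ i, c i ∉ zpowers D.z)
include h v cQ cz

theorem zJ0 (hq : g * D.z * g⁻¹ ∈ JJ D c) (n : g * D.z * g⁻¹ ∉ D.QQ) (ij : i ≠ j) (il : i ≠ l)
    (jl : j ≠ l) (m0 : D.m l (g * D.z * g⁻¹) = 1) (m1 : D.m i (g * D.z * g⁻¹) ≠ 1)
    (m2 : D.m j (g * D.z * g⁻¹) ≠ 1) : False := by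
  have n' := sym' v n
  have h' := H3.dc h g
  have w' := (wt_of h v).dc g
  have zt : ∀ y, Zt (dc D g).z y ↔ Zt D.z y := fun _ => dc_Zt
  rw [← dc_z] at hq n m0 m1 m2
  generalize dc D g = D' at *
  have p3 := z_cube h'.ord
  have pB := JB h cQ cz hq
  have cp := fun i => Ce_symm ((mem_JJ.1 hq).2 i)
  have zp' := Ce_symm (Bz pB)
  obtain ⟨r, -, -, -, hr, r1, -⟩ := frame h pB p3 m1 (cQ i) (cz i) (cp i)
  obtain ⟨s, -, -, -, hs, s1, -⟩ := frame h pB p3 m2 (cQ j) (cz j) (cp j)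
  replace r1 : r ∈ Ce D'.z := mem_Ce.2 r1.symm
  replace s1 : s ∈ Ce D'.z := mem_Ce.2 s1.symm
  by_cases e : D.Q l ≤ Ce D'.z
  · obtain ⟨u, hu, nu⟩ := SetLike.not_le_iff_exists.1 fun k : D.Q l ≤ D'.B => by
      obtain ⟨a, ha, b, hb, e1, e2⟩ := (co h l).basis
      have h1 := (co h l).conj_eq ha hb
      rw [e1, e2, show zp D.z (![1, 0] 0 * ![0, 1] 1 - ![1, 0] 1 * ![0, 1] 0) = D.z from zp_one,
        ← mul_inv_eq_iff_eq_mul] at h1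
      refine n' (Q_bt h' (k (h.sd l).zmem) (z_cube h.ord) ?_)
      rw [← h1, bt_mul h' (conj_B h' (Bz (k ha)) (k hb)) (inv_mem (k hb)), bt_mul h' (mul_mem (k ha)
        (k hb)) (inv_mem (k ha)), bt_mul h' (k ha) (k hb), bt_inv h' (k ha), bt_inv h' (k hb)]
      abel
    have u3 := (h.sd l).cube u hu
    have ru : r ∈ Ce u := mem_Ce.2 (hr.cn h il.symm u hu).symm
    have su : s ∈ Ce u := mem_Ce.2 (hs.cn h jl.symm u hu).symm
    have rB := cycB h' (e hu) u3 nu r1 hr.sq ru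
    have sB := cycB h' (e hu) u3 nu s1 hs.sq su
    have k : ∀ a ∈ D'.B, a * a = 1 → a ∈ Ce u → D'.m 0 a = 1 → a = 1 := fun a aB a2 au m => by
      have := cube_of_mem h'.ord (cycL h' (e hu) u3 nu (Ce_symm au) ((co h' 0).cn_of_four (BN aB 0) m
        (by rw [pow_succ, pow_succ, pow_two, a2, one_mul, a2])))
      rwa [pow_three', a2, one_mul] at this
    rcases m_sq h' rB hr.sq 0 with e1 | e1
    · exact Ty_ne h hr.B hr.neg (k r rB hr.sq ru e1)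
    rcases m_sq h' sB hs.sq 0 with e2 | e2
    · exact Ty_ne h hs.B hs.neg (k s sB hs.sq su e2)
    refine Ty_ne (i := i) h (mul_mem hr.B hs.B) (by rw [m_mul h hr.B hs.B, hr.neg, hs.one i ij, mul_one])
      (k _ (mul_mem rB sB) ?_ (mul_mem ru su) (by rw [m_mul h' rB sB, e1, e2, neg_mul_neg, one_mul]))
    rw [mul_assoc, ← mul_assoc s, ← hr.comm h hs ij, mul_assoc, hs.sq, mul_one, hr.sq]
  obtain ⟨u, hu, nu⟩ := SetLike.not_le_iff_exists.1 e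
  obtain ⟨m, hm⟩ := (co h l).conj_of_m (BN pB l) hu (by simp [m0])
  have uz := (co h l).le_Ce hu
  have m' : m ≠ 0 := fun e => nu (mem_Ce.2 (by
    rw [e, zp_zero, one_mul] at hm; exact (mul_inv_eq_iff_eq_mul.1 hm).symm))
  have c3 := fun i => (h.sd i).cube _ (cQ i)
  have cz' := fun i => (co h i).le_Ce (cQ i)
  have rc : ∀ {i j r s}, Ty D i r → Ty D j s → i ≠ j → r * s * c i * (r * s)⁻¹ * c i ∈ zpowers D.z :=
    fun {i j r s} hr hs e => by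
      obtain ⟨k, e1⟩ := hr.inv h (cQ i)
      rw [mul_assoc r, ← hs.cn h e _ (cQ i), mul_inv_rev, ← mul_assoc, ← mul_assoc, mul_inv_cancel_right,
        e1, inv_mul_cancel_right]
      exact zp_mem k
  obtain ⟨a, b, d, n0, hQ⟩ := relR h' (cp i) (cp j) zp' (c3 i) (c3 j) (z_cube h.ord)
    (QQc h ij (cQ i) (cQ j)) (mem_Ce.1 (cz' i)) (mem_Ce.1 (cz' j)) (mul_mem r1 s1) (rc hr hs ij)
    (hr.comm h hs ij ▸ rc hs hr ij.symm) (mem_Ce.1 (Bz (mul_mem hr.B hs.B)))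
  have ai := zp_mem' (cQ i) a
  have bj := zp_mem' (cQ j) b
  have eQ := mul_mem (mul_mem (Qle i ai) (Qle j bj)) (zQ h (zp_mem d))
  have ecn := mul_mem (mul_mem (h.QQ i l il ai) (h.QQ j l jl bj)) (z_cn h (zp_mem d) l)
  have cv := fun i m a => H84.PS.cov (co h i) (BN pB i) (m3 h pB p3 i) m (zp_mem' (cQ i) a)
    (H84.PS.fix_of_comm (co h i) (BN pB i) (zp_mem' (cQ i) a) (mem_Ce.1 (zp_mem' (cp i) a)))
  obtain ⟨q1, hq1, n1, e1⟩ := cv i m1 a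
  obtain ⟨q2, hq2, n2, e2⟩ := cv j m2 b
  have e0 := H84.PS.zfus (x := zp (c i) a * zp (c j) b * D'.z) h.ord (inv_mem uz)
    (k := m) (by
      rw [← conj_mul, H84.PS.flip uz hm, mem_Ce'.1 (inv_mem (mem_Ce.2 (mul_mem (h.QQ i l il ai)
        (h.QQ j l jl bj) u hu))), ← mul_assoc, zp_comm (mul_mem ((co h i).le_Ce ai) ((co h j).le_Ce bj)),
        mul_assoc]) m'
  have h1 : q2 * q1 * D'.z * (q2 * q1)⁻¹ = zp D.z (n1 + n2) * (zp (c i) a * zp (c j) b * D'.z) := by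
    calc _ = q2 * (q1 * D'.z * q1⁻¹) * q2⁻¹ := by group
      _ = _ := by
        rw [e1, ← conj_mul, ← conj_mul, e2, zp_conj ((co h j).le_Ce hq2), QQc h ij.symm hq2 ai,
          mul_inv_cancel_right, zp_add h.ord, mul_assoc (zp D.z n1), ← mul_assoc (zp (c i) a),
          ← mul_assoc (zp (c i) a), zp_comm ((co h i).le_Ce ai)]
        group
  obtain ⟨q0, e0⟩ := isConj_iff.1 (((isConj_iff.2 ⟨_, h1⟩).trans (e0 _).symm).trans (e0 d))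
  have ep := mul_mem (mul_mem (zp_mem' (cp i) a) (zp_mem' (cp j) b)) (zp_mem' zp' d)
  rw [← mul_assoc, ← zp_comm (mul_mem ((co h i).le_Ce ai) ((co h j).le_Ce bj)), mem_Ce.1 ep] at e0
  have h2 : zp (c i) a * zp (c j) b * zp D.z d = 1 :=
    (Zt_of h' w' (mem_zpowers _) hQ ⟨q0, .inl e0⟩).elim (fun k => zpow_inf h'.ord n k eQ) fun k =>
      zpow_inf h.ord n' ((wt_of h v _ eQ ((zt _).1 k)).resolve_right fun k => k l ecn) hQ
  have h3 : zp (c i) a ∈ zpowers D.z := infQ h ij ai ((mul_mem_cancel_right (mul_mem bj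
    ((co h j).zp_mem d))).1 (by rw [← mul_assoc, h2]; exact one_mem _))
  obtain rfl := zp_of (c3 i) h3 (cz i)
  rw [zp_zero, one_mul] at h2
  obtain rfl := zp_of (c3 j) ((mul_mem_cancel_right (zp_mem d)).1 (h2 ▸ one_mem _)) (cz j)
  rw [zp_zero, one_mul] at h2
  exact n0 ⟨rfl, rfl, zp_eq_one h.ord h2⟩

theorem zJ1 (hq : q ∈ JJ D c) (e : Zt D.z q) (i : Fin 3) : bt D q i = bt D q 0 := by
  have k : ∀ g, g * D.z * g⁻¹ ∈ JJ D c → ∀ i, bt D (g * D.z * g⁻¹) i = bt D (g * D.z * g⁻¹) 0 :=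
    fun g hq => by_contra fun n => by
      have qB := JB h cQ cz hq
      obtain ⟨i, j, l, ij, il, jl, m0, m1, m2⟩ := (by decide +kernel : ∀ u : V3, u 0 + u 1 + u 2 = 0 →
        ¬ (∀ i, u i = u 0) → ∃ i j l, i ≠ j ∧ i ≠ l ∧ j ≠ l ∧ u l = 0 ∧ u i ≠ 0 ∧ u j ≠ 0) _ (v.sum _ qB) n
      have k : ∀ i, bt D (g * D.z * g⁻¹) i ≠ 0 → D.m i (g * D.z * g⁻¹) ≠ 1 := fun i e e1 =>
        e ((chi_eq _).2 (by rw [e1, one_pow]))
      exact zJ0 h v cQ cz hq (fun e => m1 (by rw [bt_Q h e]; rfl)) ij il jl ((sl_q8 _ ((chi_eq _).1 m0)).1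
        (m3 h qB (z_cube (H3.dc h g).ord) l)) (k i m1) (k j m2)
  obtain ⟨g, rfl | e⟩ := e
  · exact k g hq i
  · have := k g (e ▸ inv_mem hq) i
    rwa [e, bt_inv h (JB h cQ cz hq), Pi.neg_apply, Pi.neg_apply, neg_inj] at this

end

/-- at most one `c i` lies outside `Q'` -/
theorem most (h : H3 D) (h' : H3 D') (w' : SM D') (f : Fr D c ρ) (n : D'.z ∉ D.QQ)
    (hc : ∀ i, c i ∈ Ce D'.z) (hr : ∀ i, ρ i ∈ Ce D'.z) (ij : i ≠ j) :
    c i ∈ D'.QQ ∨ c j ∈ D'.QQ := by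
  have c3 := f.c3 h
  have np : ∀ i, c i ∉ zpowers D'.z := fun i e =>
    f.cz i (zpow_inf h'.ord n e (Qle i (f.cQ i)) ▸ one_mem _)
  have X : ∀ v ∈ Ce D'.z, v ^ 3 = 1 → ∀ i j, i ≠ j → (∀ l, l = i ∨ l = j → ρ l ∈ Ce v ∧ v ∈ Ce (c l) ∧
      c l ∈ D'.B) → v ∈ D'.B := fun v hv v3 i j e H => by_contra fun nv => by
    have h1 := fun l e => cycB h' hv v3 nv (hr l) (f.ty l).sq (H l e).1
    have h2 := fun l e => realQ h' (h1 l e) (H l e).2.2 (c3 l) (f.rcr l)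
    have h3 : ∀ l, l = i ∨ l = j → c l ∉ cn (D'.Q 0) := fun l e e1 =>
      np l (cycL h' hv v3 nv (H l e).2.1 e1)
    exact neg_ne ((sgn_neg h' (h1 i (.inl rfl)) (f.ty i).sq (h2 i (.inl rfl)) (f.rcr i)
      (h3 i (.inl rfl))).symm.trans (sgn_one h' (h1 i (.inl rfl)) (f.ty i).sq (h2 j (.inr rfl))
      (f.rc h e) (h3 j (.inr rfl))))
  have cB : ∀ i, c i ∈ D'.B := fun i => by_contra fun nv => by
    obtain ⟨j, l, e1, e2, e3⟩ := (by decide : ∀ i : Fin 3, ∃ j l, j ≠ i ∧ l ≠ i ∧ j ≠ l) i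
    have H : ∀ l, l ≠ i → ρ l ∈ Ce (c i) ∧ c i ∈ Ce (c l) ∧ c l ∈ D'.B := fun l e =>
      ⟨f.rc h e, f.cc h i l, B_of h' (hc l) ((s3_a _ (sg D' (ρ i)) (sg3 h' (hc i) (c3 i))
        (mt (B_of h' (hc i)) nv)).2.2 _ (sg3 h' (hc l) (c3 l)) (by
          rw [← sg_inv h' (CeN (hr i)), ← sg_mul h' (CeN (hr i)) (CeN (hc i)), ← sg_mul h'
            (CeN (mul_mem (hr i) (hc i))) (CeN (inv_mem (hr i))), f.rcr, sg_inv h' (CeN (hc i))])
        (sg_comm h' (hr i) (hc l) (f.rc h e.symm)))⟩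
    exact nv (X _ (hc i) (c3 i) j l e3 (by rintro _ (rfl | rfl); exacts [H _ e1, H _ e2]))
  refine or_iff_not_imp_left.2 fun ni => by_contra fun nj => ?_
  have k : ∀ i, c i ∉ D'.QQ → sg D' (ρ i) ≠ 1 ∧ sg D' (ρ i) * sg D' (ρ i) = 1 := fun i n =>
    ⟨fun e => n (realQ h' (B_of h' (hr i) e) (cB i) (c3 i) (f.rcr i)), by
      rw [← sg_mul h' (CeN (hr i)) (CeN (hr i)), (f.ty i).sq, sg_B h' (one_mem _)]⟩
  refine nj (Q_bt h' (cB j) (c3 j) ((by decide +kernel : ∀ σ τ : Equiv.Perm (Fin 3),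
    σ ≠ 1 ∧ σ * σ = 1 → τ ≠ 1 ∧ τ * τ = 1 → ∀ u : V3, (∀ l, u (σ l) = u l) → (∀ l, -u (τ l) = u l) →
    u 0 + u 1 + u 2 = 0 → u = 0) _ _ (k i ni) (k j nj) _ (fun l => ?_) (fun l => ?_) (w' _ (cB j))))
  · rw [← bt_cnj h' (hr i) (cB j) l, mem_Ce'.1 (f.rc h ij)]
  · rw [← bt_cnj h' (hr j) (cB j) l, f.rcr, bt_inv h' (cB j)]; rfl

theorem nz (h : H3 D) (w : WT D) (f : Fr D c ρ) (n : g * D.z * g⁻¹ ∉ D.QQ)
    (hq : q ∈ zpowers (g * D.z * g⁻¹)) (cq : ∀ i, α i ≠ 0 → c i ∈ (dc D g).QQ)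
    (e : Zt D.z (q * cc c α)) (e0 : α i = 0) : α = 0 := by
  have k : ∀ i, zp (c i) (α i) ∈ (dc D g).QQ := fun i => by
    by_cases e : α i = 0
    exacts [by rw [e, zp_zero]; exact one_mem _, zp_mem' (cq i e) _]
  rcases Zt_of (H3.dc h g) (w.dc g) hq (mul_mem (mul_mem (k 0) (k 1)) (k 2)) (dc_Zt.2 e) with e | e
  · exact cc_z (τ := 1) h f.cQ f.cz (one_mem _) (by
      rw [one_mul, show cc c α = 1 from zpow_inf (H3.dc h g).ord n e (cc_mem fun i => Qle i (f.cQ i))]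
      exact one_mem _)
  · exact Z0 h f.cQ f.cz w (one_mem _) (by rw [one_mul]; exact dc_Zt.1 e) e0

/-- the subgroup `J` -/
def J5 (h : H3 D) (cQ : ∀ i, c i ∈ D.Q i) (cz : ∀ i, c i ∉ zpowers D.z) : Subgroup G where
  carrier := {g | g ∈ JJ D c ∧ ∀ i, bt D g i = bt D g 0}
  one_mem' := ⟨one_mem _, fun i => by rw [bt_Q h (one_mem _)]; rfl⟩
  mul_mem' a b := ⟨mul_mem a.1 b.1, fun i => by
    rw [bt_mul h (JB h cQ cz a.1) (JB h cQ cz b.1), Pi.add_apply, Pi.add_apply, a.2, b.2]⟩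
  inv_mem' a := ⟨inv_mem a.1, fun i => by
    rw [bt_inv h (JB h cQ cz a.1), Pi.neg_apply, Pi.neg_apply, a.2]⟩

section

variable (h : H3 D)
include h

theorem part30 (v : HV1 D) (f : Fr D c ρ) (hk : k ∈ nr (JJ D c)) (hz : k * D.z * k⁻¹ = t)
    (n : t ∉ D.QQ) (tr : ∀ i, t * ρ i = ρ i * t) {x : Fin 3 → G} {e : Fin 3 → ZMod 3}
    (e0 : ∀ i, e i ≠ 0) (xQ : ∀ i, x i ∈ D.Q i) (xt : ∀ i, x i * t * (x i)⁻¹ = t * c i * zp D.z (-e i))
    (xc : ∀ i, x i * c i * (x i)⁻¹ = c i * zp D.z (e i)) (hw : w ∈ Ce D.z)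
    (cyc : ∀ i, H98.cj w (D.Q i) = D.Q (i + 1)) (cq : ∀ i, c i ∈ (dc D k).QQ)
    (ab : JJ D c ≤ cn (JJ D c)) (J3 : ∀ g ∈ JJ D c, g ^ 3 = 1) :
    ∃ π, HJ4 D t c ρ x π k (e 0) (J5 h f.cQ f.cz) := by
  have W := wt_of h v
  have ZJ : ∀ g ∈ JJ D c, Zt D.z g → g ∈ J5 h f.cQ f.cz := fun g hg e =>
    ⟨hg, zJ1 h v f.cQ f.cz hg e⟩
  have AJ : ∀ g ∈ JJ D c, g ∈ D.QQ → g ∈ J5 h f.cQ f.cz := fun g hg e =>
    ⟨hg, fun i => by rw [bt_Q h e]; rfl⟩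
  have tJ : t ∈ JJ D c := hz ▸ conj_mem_of_mem_normalizer hk (zJ h f.cQ)
  have tZ : Zt D.z t := hz ▸ Zt_conj k
  have ot : orderOf t = 3 := hz ▸ (H3.dc h k).ord
  have tB := JB h f.cQ f.cz tJ
  have T : Tf D t c := ⟨f.cQ, Bz tB, z_cube ot, fun i => mem_Ce.1 ((mem_JJ.1 tJ).2 i)⟩
  have E1 : ∀ b α, el D.z t c 1 b α = t * zp D.z b * cc c α := fun b α => by rw [el_eq, zp_one]
  have E0 : el D.z t c 1 0 0 = t := by rw [E1, zp_zero, cc_zero, mul_one, mul_one]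
  have ee : ∀ i, e i = e 0 := fun i => by_contra fun ne => by
    have i0 : i ≠ 0 := fun e1 => ne (e1 ▸ rfl)
    have h1 := Zt_cj (Zt_cj (show Zt D.z (el D.z t c 1 0 0) by rwa [E0]) (x 0)) (x i)
    rw [xel h T (xQ 0) (xt 0) (xc 0), xel h T (xQ i) (xt i) (xc i), E1] at h1
    obtain ⟨l, l1, l2, -⟩ := other i 0 i0
    have h2 := (by decide : ∀ a b : ZMod 3, a ≠ 0 → b ≠ 0 → a ≠ b → -b - a = 0) _ _ (e0 i) (e0 0) ne
    simp only [Pi.zero_apply, mul_zero, add_zero, zero_add, one_smul, mul_one, zero_sub,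
      Pi.single_eq_of_ne i0, h2, zp_zero] at h1
    have h3 := congrFun (nz (i := l) h W f (hz ▸ n) (hz ▸ mem_zpowers t) (fun i _ => cq i) h1
      (by simp [l1, l2])) i
    simp [i0] at h3
  simp only [ee] at xt xc
  have e1 := e0 0
  generalize e 0 = ε at xt xc e1
  have O : ∀ b α, Zt D.z (el D.z t c 1 b α) ↔
      Zt D.z (el D.z t c 1 (b + ε * 1 * (α 0 * α 0 + α 1 * α 1 + α 2 * α 2)) 0) := fun b α => by
    obtain ⟨k, -, e⟩ := orb (X := ⊤) (α := α) h T xQ xt xc one_ne_zero b fun _ _ => mem_top _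
    rw [← e]
    exact ⟨fun e1 => Zt_cj e1 k, fun e1 => by simpa [mul_assoc] using Zt_cj e1 k⁻¹⟩
  have N : ∀ s, Zt D.z (el D.z t c 1 s 0) → s = 0 := fun s e => by_contra fun s0 => by
    rw [E1, cc_zero, mul_one] at e
    have zs := fun X (e : D.z ∈ X) => zp_mem' (X := X) e s
    have qJ := mul_mem tJ (zs _ (zJ h f.cQ))
    obtain ⟨g, h1, h2⟩ : ∃ g, t * zp D.z s ∈ zpowers (g * D.z * g⁻¹) ∧
        g * D.z * g⁻¹ ∈ zpowers (t * zp D.z s) := by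
      obtain ⟨g, e | e⟩ := e
      · exact ⟨g, e ▸ ⟨mem_zpowers _, mem_zpowers _⟩⟩
      · exact ⟨g, e ▸ ⟨inv_mem_iff.1 (mem_zpowers _), inv_mem (mem_zpowers _)⟩⟩
    have h3 : ∀ x, t * zp D.z s ∈ Ce x → x ∈ Ce (g * D.z * g⁻¹) := fun x e => Ce_symm (zpowers_le.2 e h2)
    have n1 : g * D.z * g⁻¹ ∉ D.QQ := fun e => n ((mul_mem_cancel_right (zs _ (zQ h (mem_zpowers _)))).1
      (zpowers_le.2 e h1))
    obtain ⟨l, hl⟩ : ∃ l, ∀ i, i ≠ l → c i ∈ (dc D g).QQ := by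
      by_contra! k
      obtain ⟨i, -, ni⟩ := k 0
      obtain ⟨j, ji, nj⟩ := k i
      exact (most h (H3.dc h g) (SM.dc v.sum g) f n1 (fun i => h3 _ ((mem_JJ.1 qJ).2 i)) (fun i => h3 _
        (mul_mem (mem_Ce.2 (tr i)) (zs _ (Ce_symm (Bz (f.ty i).B))))) ji).elim nj ni
    obtain ⟨α, a0, a1, a2⟩ := (by decide +kernel : ∀ s ε : ZMod 3, s ≠ 0 → ε ≠ 0 → ∀ l,
      ∃ α : Fin 3 → ZMod 3, α l = 0 ∧ α ≠ 0 ∧
        s + ε * 1 * (α 0 * α 0 + α 1 * α 1 + α 2 * α 2) = 0) s ε s0 e1 l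
    exact a1 (nz h W f n1 h1 (fun i e => hl i fun e1 => e (e1 ▸ a0))
      (E1 s α ▸ (O s α).2 (by rw [a2, E0]; exact tZ)) a0)
  have zQ' := zQ h (mem_zpowers D.z)
  have cQ' := fun i => Qle i (f.cQ i)
  have I : ∀ a b α, el D.z t c a b α = 1 → a = 0 ∧ b = 0 ∧ α = 0 := fun a b α e => by
    have h1 : a = 0 := zp_of T.t3 ((mul_mem_cancel_right (mul_mem (zp_mem' zQ' b)
      (cc_mem (α := α) cQ'))).1 (by rw [← mul_assoc, ← el_eq, e]; exact one_mem _)) n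
    rw [h1, el_eq, zp_zero, one_mul] at e
    have h2 := cc_z (τ := 1) h f.cQ f.cz (zp_mem b) (e ▸ one_mem _)
    rw [h2, cc_zero, mul_one] at e
    exact ⟨h1, zp_eq_one h.ord e, h2⟩
  have Z1 : ∀ b α, Zt D.z (el D.z t c 1 b α) ↔
      α 0 * α 0 + α 1 * α 1 + α 2 * α 2 + ε * 1 * b = 0 := fun b α => by
    rw [O, (by decide : ∀ ε b s : ZMod 3, ε ≠ 0 → (s + ε * 1 * b = 0 ↔ b + ε * 1 * s = 0)) _ _ _ e1]
    exact ⟨N _, fun e => by rw [e, E0]; exact tZ⟩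
  have t5 := ZJ t tJ tZ
  have z5 := AJ _ (zJ h f.cQ) zQ'
  have c5 := fun i => AJ _ (cJ h f.cQ i) (cQ' i)
  have t0 : bt D t 0 ≠ 0 := fun e => n (Q_bt h tB T.t3 (funext fun i => (t5.2 i).trans e))
  have M : ∀ g, g ∈ J5 h f.cQ f.cz ↔ ∃ a b α, g = el D.z t c a b α := fun g => by
    refine ⟨fun hg => ?_, fun ⟨a, b, α, e⟩ => e ▸ el_mem t5 z5 c5 a b⟩
    obtain ⟨l, e⟩ := (by decide : ∀ a b : ZMod 3, b ≠ 0 → ∃ l, l * b + a = 0) (bt D g 0) _ t0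
    have h1 := mul_mem (zp_mem' tJ l) hg.1
    obtain ⟨b, α, e⟩ := JQ h f.cQ f.cz h1 (Q_bt h (JB h f.cQ f.cz h1) (J3 _ h1) (funext fun i => by
      rw [bt_mul h (zp_mem' tB l) (JB h f.cQ f.cz hg.1), bt_zp h tB, Pi.add_apply, Pi.smul_apply, t5.2,
        hg.2]
      exact e))
    exact ⟨-l, b, α, by rw [el_eq, mul_assoc, ← e, zp_neg ot, inv_mul_cancel_left]⟩
  have nJ : nr (JJ D c) ≤ nr (J5 h f.cQ f.cz) := fun u hu => H98.mem_normalizer_of_cj_le (H98.cj_le_iff.2 (by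
    have k : ∀ g ∈ JJ D c, Zt D.z g → g ∈ H98.cj u⁻¹ (J5 h f.cQ f.cz) := fun g hg e => H98.mem_cj.2 (by
      rw [inv_inv]; exact ZJ _ (conj_mem_of_mem_normalizer hu hg) (Zt_cj e u))
    have kz := k _ (zJ h f.cQ) ⟨1, .inl (by simp)⟩
    intro g hg
    obtain ⟨a, b, α, rfl⟩ := (M g).1 hg
    refine el_mem (k t tJ tZ) kz (fun i => (mul_mem_cancel_left (k t tJ tZ)).1
      ((mul_mem_cancel_right (zp_mem' kz (-ε))).1 (k _ (mul_mem (mul_mem tJ (cJ h f.cQ i))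
        (zp_mem' (zJ h f.cQ) _)) (xt i ▸ Zt_cj tZ _)))) a b))
  obtain ⟨u, hu, pu⟩ := corr h f.ty hw
  have k1 := sym' v (hz ▸ n)
  rw [dc_QQ] at k1 cq
  have tq : t ∈ H98.cj k D.QQ := hz ▸ H98.conj_mem_cj zQ'
  refine ⟨u * w, (z3 ε).resolve_left e1, fun i => (f.ty i).B, fun i => (f.ty i).sq,
    fun i => (f.ty i).neg, fun i => (f.ty i).one, fun i j e => (f.ty i).cn h e, fun i j => ?_,
    mul_mem (Bz (QB h hu)) hw, fun i => by rw [pu, sg_of h (CeN hw) (cyc i)], f.cQ, f.cz, f.rcr, tB,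
    T.t3, fun i e => t0 ((t5.2 i).symm.trans ((chi_eq _).2 e)), T.tc, tr, xQ, xt, xc, fun _ => .rfl, ab,
    J3, nJ, M, I, fun a b α => ?_, nJ hk, hz, le_antisymm ?_ ((closure_le _).2 ?_)⟩
  · by_cases e : i = j
    exacts [by rw [e], (f.ty i).comm h (f.ty j) e]
  · rcases z3 a with rfl | rfl | rfl
    · rw [mul_zero, zero_mul, add_zero, (by decide +kernel : ∀ α : Fin 3 → ZMod 3,
        α 0 * α 0 + α 1 * α 1 + α 2 * α 2 = 0 ↔ α = 0 ∨ ∀ i, α i ≠ 0), el_eq, zp_zero, one_mul]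
      refine ⟨fun e => ⟨Zt_ne h e, or_iff_not_imp_right.2 fun e1 => ?_⟩, ?_⟩
      · obtain ⟨i, e1⟩ := not_forall.1 e1
        exact Z0 h f.cQ f.cz W (zp_mem b) e (not_not.1 e1)
      · rintro ⟨e, rfl | e'⟩
        · rw [cc_zero, mul_one] at e ⊢
          rcases mem_cases h.ord (zp_mem b) with e1 | e1 | e1
          exacts [(e e1).elim, ⟨1, .inl (by simp [e1])⟩, ⟨1, .inr (by simp [e1])⟩]
        · refine Zt_z h (cc_mem cQ') (fun e1 => ?_) (f.zt α e') b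
          have := L_cc' (α := α) (τ := 1) h f.cQ (one_mem _) 0
          rw [one_mul, Equiv.Perm.one_apply, L_cn h e1, eq_comm, smul_eq_zero] at this
          exact this.elim (e' 0) (H84.PS.lne (co h 0) (f.cQ 0) (f.cz 0))
    · exact (Z1 b α).trans (and_iff_right fun e => one_ne_zero (I _ _ _ e).1).symm
    · rw [and_iff_right fun e => one_ne_zero (neg_eq_zero.1 (I _ _ _ e).1)]
      have h1 := Z1 (-b) (-α)
      rw [← neg_neg (1 : ZMod 3), el_neg h T, neg_neg] at h1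
      simp only [Pi.neg_apply, mul_neg, neg_mul, neg_neg] at h1 ⊢
      exact ⟨fun e => h1.1 (Zt_inv e), fun e => by simpa using Zt_inv (h1.2 e)⟩
  · rintro g ⟨hg, hq⟩
    obtain ⟨a, b, α, rfl⟩ := (M g).1 hg
    have h1 := (mul_mem_cancel_left (zp_mem' tq a)).1 ((mul_mem_cancel_right (cc_mem cq)).1 hq)
    rw [zp_of (z_cube h.ord) h1 k1, el_eq, zp_zero, mul_one]
    exact mul_mem (zp_mem' (subset_closure (by simp)) _) (cc_mem fun i => subset_closure (by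
      rcases f3 i with rfl | rfl | rfl <;> simp))
  · rintro _ (rfl | rfl | rfl | rfl)
    exacts [⟨t5, tq⟩, ⟨c5 0, cq 0⟩, ⟨c5 1, cq 1⟩, ⟨c5 2, cq 2⟩]

end

theorem jobJ : H46.E6B.JobJ.{u} := fun G _ _ D h v => by
  obtain ⟨c, k, w, cQ, cz, zt, hk, n, hw, cyc, ky, ab, J3⟩ := part10 h v
  have tJ := conj_mem_of_mem_normalizer hk (zJ h cQ)
  have t3 := Zt_cube h (Zt_conj (D := D) k)
  have tB := JB h cQ cz tJ
  have tm : ∀ i, D.m i (k * D.z * k⁻¹) ^ 4 ≠ 1 := fun i e => n (Q_bt h tB t3 (funext fun j =>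
    ((zJ1 h v cQ cz tJ (Zt_conj k) j).trans (zJ1 h v cQ cz tJ (Zt_conj k) i).symm).trans
      ((chi_eq _).2 e)))
  choose r l x e ty tr rcr xQ _ e0 xt xc using fun i => frame h tB t3
    (fun e => tm i (by rw [e, one_pow])) (cQ i) (cz i) (Ce_symm ((mem_JJ.1 tJ).2 i))
  have zc := fun i => zp_comm ((co h i).le_Ce (cQ i))
  have h1 : JJ D (fun i => c i * zp D.z (l i)) = JJ D c := by
    ext y
    rw [mem_JJ, mem_JJ]
    exact and_congr_right fun e => forall_congr' fun i => ⟨fun e1 => Ce_symm ((mul_mem_cancel_right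
      (zp_mem' (Ce_symm e) _)).1 (Ce_symm e1)), fun e1 => Ce_symm (mul_mem (Ce_symm e1)
      (zp_mem' (Ce_symm e) _))⟩
  have f := mk_fr (c := fun i => c i * zp D.z (l i)) h ty (fun i => mul_mem (cQ i) ((co h i).zp_mem _))
    (fun i e => cz i ((mul_mem_cancel_right (zp_mem _)).1 e)) rcr (by
      have := Zt_z h ((memQ h).2 ⟨c, cQ, rfl⟩) (W3_cn h ⟨c, fun i => ⟨cQ i, cz i⟩, rfl⟩ 0) zt
        (l 0 + l 1 + l 2)
      rw [← zp_comm (mul_mem (mul_mem ((co h 0).le_Ce (cQ 0)) ((co h 1).le_Ce (cQ 1)))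
        ((co h 2).le_Ce (cQ 2))), zp_add h.ord, zp_add h.ord] at this
      rwa [(show Commute _ _ from (zc 1 _).symm).mul_mul_mul_comm, ← zp_add h.ord,
        (show Commute _ _ from (zc 2 _).symm).mul_mul_mul_comm, zp_add h.ord])
  have yQ : c 0 * c 1 * c 2 ∈ (dc D k).QQ := by
    rw [dc_QQ, ← mem_Ce'.1 ky]; exact H98.conj_mem_cj ((memQ h).2 ⟨c, cQ, rfl⟩)
  obtain ⟨π, hj⟩ := part30 h v f (h1 ▸ hk) rfl n tr e0 xQ xt xc hw cyc (fun i => by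
    have h2 := mul_mem yQ (inv_mem (conj_mem_of_mem_normalizer (HQ (H3.dc h k) (mem_Ce.2 (tr i).symm)) yQ))
    have h3 : (c i * zp D.z (l i))⁻¹ * (c 0 * c 1 * c 2) ∈ Ce (r i) := by
      rw [mul_inv_rev, mul_assoc]
      exact mul_mem (inv_mem (zp_mem' (Ce_symm (Bz (ty i).B)) _)) (comp' h cQ i fun j e =>
        mem_Ce.2 ((ty i).cn h e _ (cQ j)))
    rw [← mul_inv_cancel_left (c i * zp D.z (l i)) (c 0 * c 1 * c 2), ← @conj_mul _ _ _ (r i), rcr,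
      mem_Ce'.1 (Ce_symm h3)] at h2
    exact sq_mem (f.c3 h i) (by simpa [mul_assoc] using h2)) (h1 ▸ ab) (h1 ▸ J3)
  exact ⟨_, _, _, _, _, _, _, _, hj⟩

end H46.EJ
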