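import Cfsg.Agent.H46.E6BKit

/-! Job J of `blueprints/E6B.md`, first part: the group `C(z, c 0, c 1, c 2)`. -/

set_option autoImplicit false
set_option linter.unusedSectionVars false
set_option maxRecDepth 100000
set_option synthInstance.maxSize 2048

open Cfsg Subgroup H98 H42.L3 H7.PS H39.F22 H46.E6B
open H78.F22 hiding Pr Z0
open H56.L3 (Ce Nz)
open H28.PS (SL3 Zt)
open H84.PS (V2)
open scoped Matrix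

namespace H46.EJ

universe u

variable {G : Type*} [Group G] {D D' : D3 G} {a b g k q r s t u v w x y : G} {i j : Fin 3}
  {c c' ρ : Fin 3 → G} {α β : Fin 3 → ZMod 3} {X : Subgroup G}

/-- elements of type `Z` in `Q` have weight three -/
def WT (D : D3 G) : Prop := ∀ y ∈ D.QQ, Zt D.z y → y ∈ zpowers D.z ∨ ∀ i, y ∉ cn (D.Q i)

/-- the image of the base group lies in the plane -/
def SM (D : D3 G) : Prop := ∀ g ∈ D.B, bt D g 0 + bt D g 1 + bt D g 2 = 0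

variable [Finite G]

theorem WT.dc (w : WT D) (k : G) : WT (dc D k) := fun y hy e => by
  rw [dc_QQ, H98.mem_cj] at hy
  have := Zt_cj (dc_Zt.1 e) k⁻¹
  rw [inv_inv] at this
  refine (w _ hy this).imp (fun e => by rwa [dc_z, ← cj_zp, H98.mem_cj]) fun e i e1 => e i ?_
  rwa [dc_Q, cn, ← H98.cj_centralizer, H98.mem_cj] at e1

theorem SM.dc (w : SM D) (k : G) : SM (dc D k) := fun y hy => w _ (by rwa [dc_B, H98.mem_cj] at hy)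

theorem wt_of (h : H3 D) (v : HV1 D) : WT D := fun y hy e => (v.wt y hy e).imp_right (W3_cn h)

theorem sym' (v : HV1 D) (n : k * D.z * k⁻¹ ∉ D.QQ) : D.z ∉ (dc D k).QQ := fun e => n (by
  rw [dc_QQ, H98.mem_cj] at e
  simpa using v.sym k⁻¹ (by simpa using e))

section

variable (h : H3 D) (cQ : ∀ i, c i ∈ D.Q i) (cz : ∀ i, c i ∉ zpowers D.z)
include h cQ cz

theorem Z0 (w : WT D) (hu : u ∈ zpowers D.z) (e : Zt D.z (u * cc c α)) (e0 : α i = 0) : α = 0 := by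
  have hQ := mul_mem (zQ h hu) (cc_mem (α := α) fun i => Qle _ (cQ i))
  refine (w _ hQ e).elim (cc_z (τ := 1) h cQ cz hu) fun e1 => (e1 i (L_zero h hQ ?_)).elim
  exact (L_cc' (τ := 1) h cQ hu i).trans (by rw [e0, zero_smul])

theorem Jr (hr : Ty D i r) (hx : x ∈ JJ D c) :
    ∃ a ∈ cn (JJ D c), a ^ 3 = 1 ∧ r * x * r⁻¹ = a * x ∧ a ∈ JJ D c := by
  have h1 : r ∈ nr (JJ D c) := nrJ ((mem_Ce'.1 (Bz hr.B)).symm ▸ z_cnJ) fun j => by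
    by_cases e : j = i
    · obtain ⟨k, e1⟩ := hr.inv h (cQ i)
      rw [e, e1]; exact mul_mem (zp_mem' z_cnJ _) (inv_mem (c_cnJ i))
    · rw [← hr.cn h e _ (cQ j), mul_inv_cancel_right]; exact c_cnJ j
  have h2 := Qle i (hr.comQ h (JB h cQ cz hx))
  have h3 := mul_mem (conj_mem_of_mem_normalizer h1 hx) (inv_mem hx)
  exact ⟨_, JQ_le h cQ cz z_cnJ c_cnJ h3 h2, cubeQ h h2, by group, h3⟩

theorem Jz (ha : a ∈ JJ D c) (e : bt D a = 0) (f : ∀ i r, Ty D i r → r * a * r⁻¹ = a) :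
    a ∈ zpowers D.z := cnQ h fun i =>
  let ⟨r, hr⟩ := ex_ty h i
  hr.fix h (JP h cQ cz ha ((bt_P h (JB h cQ cz ha)).2 e)) (Ce_symm (mem_Ce'.2 (f i r hr)))

theorem comJ (hx : x ∈ JJ D c) (hy : y ∈ JJ D c) : x * y * x⁻¹ * y⁻¹ ∈ zpowers D.z := by
  have xB := JB h cQ cz hx
  have yB := JB h cQ cz hy
  refine Jz h cQ cz (mul_mem (mul_mem (mul_mem hx hy) (inv_mem hx)) (inv_mem hy)) (by
    rw [bt_mul h (mul_mem (mul_mem xB yB) (inv_mem xB)) (inv_mem yB), bt_mul h (mul_mem xB yB)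
      (inv_mem xB), bt_mul h xB yB, bt_inv h xB, bt_inv h yB]; abel) fun i r hr => ?_
  obtain ⟨a, ha, -, e, -⟩ := Jr h cQ cz hr hx
  obtain ⟨b, hb, -, e', bJ⟩ := Jr h cQ cz hr hy
  have h1 := ha _ (mul_mem (mul_mem hx (mul_mem bJ hy)) (inv_mem hx))
  have h2 := hb _ (mul_mem (mul_mem (mul_mem hx hy) (inv_mem hx)) (inv_mem hy))
  calc _ = r * x * r⁻¹ * (r * y * r⁻¹) * (r * x * r⁻¹)⁻¹ * (r * y * r⁻¹)⁻¹ := by group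
    _ = a * (x * (b * y) * x⁻¹) * a⁻¹ * y⁻¹ * b⁻¹ := by rw [e, e']; group
    _ = x * b * y * x⁻¹ * y⁻¹ * b⁻¹ := by rw [← h1]; group
    _ = b * (x * y * x⁻¹ * y⁻¹) * b⁻¹ := by rw [hb x hx]; group
    _ = _ := by rw [← h2]; group

theorem cubJ (hx : x ∈ JJ D c) : x ^ 3 ∈ zpowers D.z :=
  Jz h cQ cz (pow_mem hx 3) (by rw [bt_pow h (JB h cQ cz hx)]; exact zero_smul _ _) fun i r hr => by
    obtain ⟨a, ha, a3, e, -⟩ := Jr h cQ cz hr hx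
    rw [← conj_pow, e, (show Commute a x from (ha x hx).symm).mul_pow, a3, one_mul]

end

omit [Finite G] in
/-- a conjugate of `z` in `Q` -/
structure Pr (D D' : D3 G) (c : Fin 3 → G) : Prop where
  h : H3 D
  cQ : ∀ i, c i ∈ D.Q i
  cz : ∀ i, c i ∉ zpowers D.z
  y : D'.z = c 0 * c 1 * c 2
  cyc : ∃ w ∈ D'.QQ ⊓ Ce D.z, ∀ i, H98.cj w (D.Q i) = D.Q (i + 1)

theorem Pr.ncn (p : Pr D D' c) (i : Fin 3) : D'.z ∉ cn (D.Q i) :=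
  W3_cn p.h ⟨c, fun i => ⟨p.cQ i, p.cz i⟩, p.y⟩ i

theorem Pr.Jy (p : Pr D D' c) (hx : x ∈ JJ D c) : x ∈ Ce D'.z := Ce_symm (p.y ▸ mul_mem (mul_mem
  (Ce_symm ((mem_JJ.1 hx).2 0)) (Ce_symm ((mem_JJ.1 hx).2 1))) (Ce_symm ((mem_JJ.1 hx).2 2)))

theorem Pr.mv (p : Pr D D' c) (hu : u ∈ Ce D.z) (hu' : u ∈ Ce D'.z) (i : Fin 3) :
    (c (sg D u i))⁻¹ * (u * c i * u⁻¹) ∈ zpowers D.z := by
  have h1 := fun i => p.y ▸ comp p.h p.cQ i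
  refine uniq p.h (p.cQ _) (sg_spec p.h (CeN hu) i ▸ H98.conj_mem_cj (p.cQ i)) (h1 _) ?_
  have := sg_cn p.h (CeN hu) (h1 i)
  rwa [← conj_mul, mem_Ce'.1 hu', ← conj_inv] at this

theorem Pr.nr (p : Pr D D' c) (hu : u ∈ Ce D.z) (hu' : u ∈ Ce D'.z) : u ∈ nr (JJ D c) :=
  nrJ ((mem_Ce'.1 hu).symm ▸ z_cnJ) fun i => (mul_mem_cancel_left (inv_mem (c_cnJ _))).1
    (zpowers_le.2 z_cnJ (p.mv hu hu' i))

section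

variable (p : Pr D D' c) (p' : Pr D' D c')
include p p'

theorem Pr.AB (ha : a ∈ JJ D c) (hQ : a ∈ D.QQ) : a ∈ D'.B := by_contra fun n => by
  have h1 := p'.Jy (cJ p'.h p'.cQ 0)
  have h2 := (co p'.h 0).le_Ce (p'.cQ 0)
  have h3 : a * c' 0 * a⁻¹ * (c' 0)⁻¹ ∈ Ce a := by
    rw [mul_assoc, mul_assoc, ← mul_assoc (c' 0)]
    exact mul_mem (mem_Ce.2 rfl) (mem_Ce.2 (JQ_le p.h p.cQ p.cz z_cnJ c_cnJ ha hQ _
      (conj_mem_of_mem_normalizer (p.nr h1 h2) (inv_mem ha))))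
  have ay := p.Jy ha
  obtain ⟨e0, e1, e2⟩ := (by decide +kernel : ∀ σ : Equiv.Perm (Fin 3), σ ^ 3 = 1 → σ ≠ 1 →
    σ 0 ≠ σ (σ 0) ∧ 0 ≠ σ (σ 0) ∧ σ 0 ≠ 0) _ (sg3 p'.h ay (cubeQ p.h hQ)) (mt (B_of p'.h ay) n)
  have h4 : a * c' 0 * a⁻¹ ∈ D'.Q (sg D' a 0) := sg_spec p'.h (CeN ay) 0 ▸ H98.conj_mem_cj (p'.cQ 0)
  have h5 := cycL p'.h ay (cubeQ p.h hQ) n (Ce_symm h3)
    (mul_mem (p'.h.QQ _ _ e0 h4) (inv_mem (p'.h.QQ _ _ e1 (p'.cQ 0))))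
  exact e2 (sg_eq p'.h (CeN ay) (p'.cQ 0) (p'.cz 0)
    ((mul_mem_cancel_right (inv_mem (p'.cQ 0))).1 ((co p'.h 0).zle h5)))

theorem Pr.mv' (i j : Fin 3) : (c' j)⁻¹ * (c i * c' j * (c i)⁻¹) ∈ zpowers D'.z := by
  have h1 := p.AB p' (cJ p.h p.cQ i) (Qle i (p.cQ i))
  have := p'.mv (Bz h1) ((co p.h i).le_Ce (p.cQ i)) j
  rwa [sg_B p'.h h1] at this

theorem Pr.cJ (j : Fin 3) : c' j ∈ JJ D c := mem_JJ.2 ⟨p'.Jy (H78.F22.cJ p'.h p'.cQ j), fun i => by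
  have h1 := p.mv' p' i j
  have h2 := p'.mv' p j i
  have h3 := comm_of_mem ((co p.h i).le_Ce (p.cQ i)) h2
  have h4 := comm_of_mem ((co p'.h j).le_Ce (p'.cQ j)) h1
  have h5 : (c' j)⁻¹ * (c i * c' j * (c i)⁻¹) = ((c i)⁻¹ * (c' j * c i * (c' j)⁻¹))⁻¹ := by
    calc _ = c' j * ((c' j)⁻¹ * (c i * c' j * (c i)⁻¹)) * (c' j)⁻¹ := by rw [h4]; group
      _ = (c i * ((c i)⁻¹ * (c' j * c i * (c' j)⁻¹)) * (c i)⁻¹)⁻¹ := by group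
      _ = _ := by rw [h3]; group
  have h6 := zpow_inf p'.h.ord (fun e => p.ncn 0 (z_cn p.h e 0)) h1 (h5 ▸ inv_mem h2)
  rw [inv_mul_eq_one, eq_mul_inv_iff_mul_eq] at h6
  exact mem_Ce.2 h6⟩

theorem Pr.nQ (i : Fin 3) : c i ∉ D'.QQ := fun e => by
  obtain ⟨w, ⟨hw, hw'⟩, cyc⟩ := p.cyc
  have h1 : w * c i * w⁻¹ ∈ D.Q (i + 1) := cyc i ▸ H98.conj_mem_cj (p.cQ i)
  obtain ⟨e0, e1, e2⟩ := (by decide : ∀ i : Fin 3, i + 1 ≠ i + 2 ∧ i ≠ i + 2 ∧ i ≠ i + 1) i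
  have h2 := zpow_inf p'.h.ord (p.ncn (i + 2)) (comQ p'.h hw e)
    (mul_mem (p.h.QQ _ _ e0 h1) (inv_mem (p.h.QQ _ _ e1 (p.cQ i))))
  exact p.cz i (infQ p.h e2 (p.cQ i) (mul_inv_eq_one.1 h2 ▸ h1))

theorem Pr.le : JJ D c ≤ JJ D' c' := fun x hx => mem_JJ.2 ⟨p.Jy hx, fun j => by
  obtain ⟨l, l1, l2⟩ := (by decide : ∀ i j : Fin 3, ∃ l, i ≠ l ∧ j ≠ l) (sg D' x j) j
  have h1 : x * c' j * x⁻¹ ∈ D'.Q (sg D' x j) :=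
    sg_spec p'.h (CeN (p.Jy hx)) j ▸ H98.conj_mem_cj (p'.cQ j)
  have := zpow_inf p.h.ord (p'.ncn l) (comJ p.h p.cQ p.cz hx (p.cJ p' j))
    (mul_mem (p'.h.QQ _ _ l1 h1) (inv_mem (p'.h.QQ _ _ l2 (p'.cQ j))))
  exact mem_Ce'.2 (mul_inv_eq_one.1 this)⟩

theorem Pr.ab : JJ D c ≤ cn (JJ D c) := fun x hx y hy =>
  mul_inv_eq_iff_eq_mul.1 (mul_inv_eq_one.1 (zpow_inf p'.h.ord (p.ncn 0)
    (comJ p'.h p'.cQ p'.cz (p.le p' hy) (p.le p' hx)) (z_cn p.h (comJ p.h p.cQ p.cz hy hx) 0)))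

theorem Pr.cube (hx : x ∈ JJ D c) : x ^ 3 = 1 := zpow_inf p'.h.ord (p.ncn 0)
  (cubJ p'.h p'.cQ p'.cz (p.le p' hx)) (z_cn p.h (cubJ p.h p.cQ p.cz hx) 0)

theorem Pr.ex : ∃ k ∈ H42.L3.nr (JJ D c), k * D.z * k⁻¹ ∉ D.QQ ∧ k ∈ Ce D'.z := by
  obtain ⟨r, hr⟩ := ex_ty p'.h 0
  obtain ⟨l, e⟩ := hr.inv p'.h (p'.cQ 0)
  have h1 : ∀ j, j ≠ 0 → r * c' j * r⁻¹ = c' j := fun j e => by
    rw [← hr.cn p'.h e _ (p'.cQ j), mul_inv_cancel_right]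
  refine ⟨r, le_antisymm (p.le p') (p'.le p) ▸ nrJ ((mem_Ce'.1 (Bz hr.B)).symm ▸ z_cnJ) fun j => ?_,
    fun n => p'.nQ p 0 (sq_mem ((p'.h.sd 0).cube _ (p'.cQ 0)) ?_), Bz hr.B⟩
  · by_cases e1 : j = 0
    · rw [e1, e]; exact mul_mem (zp_mem' z_cnJ _) (inv_mem (c_cnJ 0))
    · rw [h1 j e1]; exact c_cnJ j
  · have h2 : D'.z ∈ D.QQ := (memQ p.h).2 ⟨c, p.cQ, p.y⟩
    have h3 := mul_mem (zQ p.h (mem_zpowers _)) (inv_mem (mul_mem (inv_mem (zp_mem' h2 l)) n))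
    rw [p'.y, ← conj_mul, ← conj_mul, e, h1 1 (by decide), h1 2 (by decide)] at h3
    simpa [mul_assoc] using h3

end

theorem ex_pr0 (h : H3 D) (v : HV1 D) (hg : g * D.z * g⁻¹ ∈ D.QQ) (n : g * D.z * g⁻¹ ∉ zpowers D.z) :
    ∃ c, Pr D (dc D g) c :=
  let ⟨c, hc, e⟩ := (v.wt _ hg (Zt_conj g)).resolve_left n
  ⟨c, h, fun i => (hc i).1, fun i => (hc i).2, e, dc_QQ (D := D) ▸ (v.pair g hg n).2.2⟩

theorem part10 (h : H3 D) (v : HV1 D) : ∃ c k w, (∀ i, c i ∈ D.Q i) ∧ (∀ i, c i ∉ zpowers D.z) ∧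
    Zt D.z (c 0 * c 1 * c 2) ∧ k ∈ nr (JJ D c) ∧ k * D.z * k⁻¹ ∉ D.QQ ∧ w ∈ Ce D.z ∧
    (∀ i, H98.cj w (D.Q i) = D.Q (i + 1)) ∧ k ∈ Ce (c 0 * c 1 * c 2) ∧ JJ D c ≤ cn (JJ D c) ∧
    ∀ x ∈ JJ D c, x ^ 3 = 1 := by
  obtain ⟨g, hg, n⟩ : ∃ g, g * D.z * g⁻¹ ∈ D.QQ ∧ g * D.z * g⁻¹ ∉ zpowers D.z := by
    obtain ⟨y, hy, ⟨g, e | e⟩, n⟩ := v.ex
    exacts [⟨g, e ▸ hy, e ▸ n⟩, ⟨g, e ▸ inv_mem hy, e ▸ mt inv_mem_iff.1 n⟩]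
  obtain ⟨c, p⟩ := ex_pr0 h v hg n
  obtain ⟨c', p'⟩ := ex_pr0 (g := g⁻¹) h v (by simpa using v.sym g hg)
    fun e => n (mem_Nz.1 (inv_mem_iff.1 (mem_Nz.2 e)))
  have p2 : Pr (dc D g) D fun i => g * c' i * g⁻¹ := by
    obtain ⟨w, ⟨hw, hw'⟩, e⟩ := p'.cyc
    refine ⟨H3.dc h g, fun i => H98.conj_mem_cj (p'.cQ i), fun i e => p'.cz i ?_, ?_,
      g * w * g⁻¹, ⟨?_, conj_mem_Ce hw' g⟩, fun i => ?_⟩
    · rwa [dc_z, ← cj_zp, H98.conj_mem_cj_iff] at e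
    · rw [conj_mul, conj_mul, ← p'.y, dc_z]; group
    · rw [dc_QQ] at hw
      simpa using H98.mem_cj.1 hw
    · rw [dc_Q, dc_Q, ← e, H98.cj_cj, H98.cj_cj, inv_mul_cancel_right]
  obtain ⟨k, hk, n, ky⟩ := p.ex p2
  obtain ⟨w, hw, e⟩ := p.cyc
  exact ⟨c, k, w, p.cQ, p.cz, p.y ▸ Zt_conj g, hk, n, hw.2, e, p.y ▸ ky, p.ab p2,
    fun _ => p.cube p2⟩

end H46.EJ
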