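import Cfsg.Agent.H46.E6BSpec

/-! The kit of `blueprints/E6B.md`: `3`-subgroups of `C(z) / Q` without a bound on their order. -/

set_option autoImplicit false

open Cfsg Subgroup H98 H42.L3 H56.L3 H39.F22
open H7.PS (zp)

namespace H46.E6B

universe u

/-- facts on the `3`-subgroups of `C(z)` -/
structure Kit {G : Type*} [Group G] (D : D3 G) : Prop where
  cnj : ∀ g ∈ Ce D.z, ∀ a ∈ D.B, ∀ i j, cj g (D.Q i) = D.Q j → bt D (g * a * g⁻¹) j = bt D a i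
  r27 : ∀ T ≤ Ce D.z, (∀ a ∈ T, a ^ 3 = 1) → D.QQ.relIndex T ≤ 27
  r9 : ∀ T ≤ Ce D.z, (∀ a ∈ T, a ^ 3 = 1) → (∀ a ∈ T, ∀ b ∈ T, a * b * a⁻¹ * b⁻¹ ∈ D.QQ) →
    ¬ T ≤ D.B → D.QQ.relIndex T ≤ 9
  cov : ∀ a ∈ Ce D.z, ∀ b ∈ Ce D.z, ∀ c ∈ Ce D.z, a ^ 3 = 1 → b ^ 3 = 1 → c ^ 3 = 1 →
    a * b = b * a → a * c = c * a → b * c = c * b →
    (∃ i j k : ZMod 3, ¬ (i = 0 ∧ j = 0 ∧ k = 0) ∧ zp a i * zp b j * zp c k ∈ D.QQ) ∨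
    (a ∈ D.B ∧ b ∈ D.B ∧ c ∈ D.B ∧
      ∀ v : Fin 3 → ZMod 3, ∃ i j k : ZMod 3, bt D (zp a i * zp b j * zp c k) = v)
  relR : ∀ a ∈ Ce D.z, ∀ b ∈ Ce D.z, ∀ c ∈ Ce D.z, a ^ 3 = 1 → b ^ 3 = 1 → c ^ 3 = 1 →
    a * b = b * a → a * c = c * a → b * c = c * b → ∀ ρ ∈ Ce D.z,
    ρ * a * ρ⁻¹ * a ∈ zpowers c → ρ * b * ρ⁻¹ * b ∈ zpowers c → ρ * c = c * ρ →
    ∃ i j k : ZMod 3, ¬ (i = 0 ∧ j = 0 ∧ k = 0) ∧ zp a i * zp b j * zp c k ∈ D.QQ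

def JobKit : Prop := ∀ (G : Type u) [Group G] [Finite G] (D : D3 G), H3 D → Kit D

end H46.E6B
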