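import Cfsg.Agent.H46.E6BKit
import Cfsg.Agent.H21.F22V

/-! Job V of `blueprints/E6B.md`: conjugates of `z` in `Q`. -/

set_option autoImplicit false
set_option linter.unusedSectionVars false
set_option maxRecDepth 100000
set_option synthInstance.maxSize 2048

open Cfsg Subgroup H98 H42.L3 H56.L3 H7.PS H39.F22 H39.E6 H46.E6B
open H21.F22 hiding Pr chi chi_mul
open H28.PS (SL3 Zt)
open scoped Matrix

namespace H46.EV

universe u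

variable {G : Type*} [Group G] [Finite G] {D E : D3 G} {a b d f g r u w x y : G} {i j k : Fin 3}

/-- a conjugate of `z` in `Q` -/
structure Pr (D E : D3 G) : Prop where
  h : H3 D
  h' : H3 E
  yQ : E.z ∈ D.QQ
  ne : E.z ∉ zpowers D.z

namespace Pr

variable (p : Pr D E)
include p

theorem idx : E.QQ.relIndex (D.QQ ⊓ Ce E.z) * Nat.card ↥(D.QQ ⊓ E.QQ) = 729 := by
  have h3 := relIndex_mul_card (inf_le_right : E.QQ ⊓ (D.QQ ⊓ Ce E.z) ≤ _)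
  rwa [inf_relIndex_right, cardU p.h p.yQ p.ne, show E.QQ ⊓ (D.QQ ⊓ Ce E.z) = D.QQ ⊓ E.QQ from
    le_antisymm (fun x hx => ⟨hx.2.1, hx.1⟩) fun x hx => ⟨hx.2, hx.1, Qz p.h' hx.2⟩] at h3

theorem symm : Pr E D := by
  refine ⟨p.h', p.h, by_contra fun n => ?_, fun e => p.ne
    (of_ne_one p.h'.ord e (fun k => by simpa [k] using p.h.ord) (mem_zpowers _))⟩
  have h1 : D.QQ ⊓ E.QQ ≤ D.QQ ⊓ cn (D.QQ ⊓ Ce E.z) := fun f hf => ⟨hf.1, fun u hu =>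
    mul_inv_eq_iff_eq_mul.1 (mul_inv_eq_one.1 (H78.F22.zpow_inf p.h.ord n (comz p.h hu.1 hf.1)
      (mul_mem (cjQ p.h' hu.2 hf.2) (inv_mem hf.2))))⟩
  have h2 := (Nat.mul_le_mul_left _ (card_le_of_le h1)).trans (iso p.h inf_le_left)
  have h3 := r27 p.h' (T := D.QQ ⊓ Ce E.z) inf_le_right fun _ e => cubeQ p.h e.1
  have h4 := p.idx
  rw [cardU p.h p.yQ p.ne] at h2
  nlinarith

theorem abF : D.QQ ⊓ E.QQ ≤ cn (D.QQ ⊓ E.QQ) := fun _ ha _ hb =>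
  mul_inv_eq_iff_eq_mul.1 (mul_inv_eq_one.1 (H78.F22.zpow_inf p.h'.ord p.ne (comz p.h' hb.2 ha.2)
    (comz p.h hb.1 ha.1)))

theorem cardU' : Nat.card ↥(E.QQ ⊓ Ce D.z) = 729 := cardU p.h' p.symm.yQ p.symm.ne

theorem cen (hu : u ∈ E.QQ) (uB : u ∈ D.B) (hf : f ∈ D.QQ ⊓ E.QQ) (n : L D E.z i ≠ 0)
    (e : (D.m i u).1 *ᵥ L D f i = L D f i) : f * u = u * f := by
  have h := p.h
  have k := conjQ p.h' hu hf.2
  rw [← act h uB hf.1, k, L_mul h (x := zp _ _) (pow_mem p.yQ _) hf.1, Pi.add_apply, add_eq_right,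
    L_zp h p.yQ, Pi.smul_apply, smul_eq_zero, or_iff_left n] at e
  rw [e, zp_zero, one_mul] at k
  exact (mul_inv_eq_iff_eq_mul.1 k).symm

theorem notB : ¬ E.QQ ⊓ Ce D.z ≤ D.B := fun UB => by
  have h := p.h
  obtain ⟨i, n⟩ := Function.ne_iff.1 (mt (L_ker h p.yQ) p.ne)
  have fy := fun u (hu : u ∈ E.QQ ⊓ Ce D.z) => fixL h (UB hu) p.yQ (Qz p.h' hu.1)
  have I := iso p.h' (inf_le_right : D.QQ ⊓ E.QQ ≤ _)
  have h1 : Nat.card ↥(D.QQ ⊓ E.QQ) ≤ 27 := by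
    let φ : ↥(E.QQ ⊓ Ce D.z) →* SL3 := MonoidHom.mk' (fun u => D.m i u) fun a b =>
      m_mul h (UB a.2) (UB b.2) i
    have k1 := card_ker_mul φ
    have k2 : Nat.card φ.range ≤ Nat.card {A : SL3 // A.1 *ᵥ L D E.z i = L D E.z i} :=
      Nat.card_le_card_of_injective (fun x => ⟨x.1, x.2.elim fun t e => e ▸ fy _ t.2 i⟩)
        fun x y e => Subtype.ext (Subtype.mk.inj e)
    replace k2 := k2.trans_eq (Nat.card_eq_fintype_card.trans ((by decide +kernel : ∀ v : W2, v ≠ 0 →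
      Fintype.card {A : SL3 // A.1 *ᵥ v = v} = 3) _ n))
    have k3 : Nat.card φ.ker ≤ Nat.card ↥(E.QQ ⊓ cn (D.QQ ⊓ E.QQ)) :=
      Nat.card_le_card_of_injective (fun x => ⟨x.1.1, x.1.2.1, fun f hf => p.cen x.1.2.1 (UB x.1.2) hf n
        (by rw [show D.m i x.1.1 = 1 from x.2]; simp)⟩)
        fun x y e => Subtype.ext (Subtype.ext (Subtype.mk.inj e))
    rw [p.cardU'] at k1
    nlinarith
  have h2 : ∀ v : V3, ∃ u ∈ E.QQ ⊓ Ce D.z, bt D u = v := fun v => by_contra fun k => by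
    have k1 := idxQ h UB (fun _ e => cubeQ p.h' e.1) (· ≠ v) fun t ht e => k ⟨t, ht, e⟩
    have k2 := p.symm.idx
    rw [Nat.card_eq_fintype_card, Fintype.card_subtype_compl, Fintype.card_subtype_eq] at k1
    rw [inf_comm E.QQ D.QQ] at k2
    simp at k1
    nlinarith
  have h3 : E.QQ ⊓ Ce D.z ≤ E.QQ ⊓ cn (D.QQ ⊓ E.QQ) := fun u hu => ⟨hu.1, fun f hf => by
    have k : ∀ u ∈ E.QQ ⊓ Ce D.z, ∀ i, L D E.z i ≠ 0 → bt D u i = 0 → f * u = u * f := fun u hu i n e =>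
      p.cen hu.1 (UB hu) hf n (by
        rw [of_three h (UB hu) (cubeQ p.h' hu.1) ((H78.F22.chi_eq _).1 e)]; simp)
    by_cases e : ∃ j, j ≠ i ∧ L D E.z j ≠ 0
    · obtain ⟨j, ji, n'⟩ := e
      obtain ⟨v, hv, e⟩ := h2 (Pi.single j (bt D u j))
      have k1 := k v hv i n (by rw [e, Pi.single_eq_of_ne ji.symm])
      have k2 := k _ (mul_mem (inv_mem hv) hu) j n' (by
        rw [bt_mul h (inv_mem (UB hv)) (UB hu), bt_inv h (UB hv), e]; simp)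
      rw [← mul_inv_cancel_left v u, ← mul_assoc, k1, mul_assoc, k2, mul_assoc v _ f]
    · have k1 : L D E.z = Pi.single i (L D E.z i) := funext fun j => by
        by_cases e' : j = i
        · rw [e', Pi.single_eq_same]
        · rw [Pi.single_eq_of_ne e']; exact by_contra fun n => e ⟨j, e', n⟩
      have k2 := (comm_iff h hf.1 p.yQ).1 (Qz p.h' hf.2)
      rw [k1, om_single] at k2
      exact p.cen hu.1 (UB hu) hf n ((by decide +kernel : ∀ (A : SL3) (v w : W2), v ≠ 0 →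
        A.1 *ᵥ v = v → om2 w v = 0 → A.1 *ᵥ w = w) _ _ _ n (fy u hu i) k2)⟩
  have h4 := card_le_of_le h3
  have h5 := p.symm.idx
  have h6 := r27 h (T := E.QQ ⊓ Ce D.z) inf_le_right fun _ e => cubeQ p.h' e.1
  rw [inf_comm E.QQ D.QQ] at h5
  rw [p.cardU'] at h4
  nlinarith

theorem comU (ha : a ∈ E.QQ) (hb : b ∈ E.QQ) : a * b * a⁻¹ * b⁻¹ ∈ D.QQ :=
  zpowers_le.2 p.yQ (comz p.h' ha hb)

theorem cardF : Nat.card ↥(D.QQ ⊓ E.QQ) = 81 := by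
  have h1 := (Nat.mul_le_mul_left _ (card_le_of_le (le_inf inf_le_left p.abF))).trans
    (iso p.h inf_le_left)
  have h2 := r9 p.h (T := E.QQ ⊓ Ce D.z) inf_le_right (fun _ e => cubeQ p.h' e.1)
    (fun _ a _ b => p.comU a.1 b.1) p.notB
  have h3 := p.symm.idx
  rw [inf_comm E.QQ D.QQ] at h3
  nlinarith

theorem exw : ∃ w ∈ E.QQ ⊓ Ce D.z, w ∉ D.B ∧ ∀ i, sg D w i = i + 1 := by
  have h := p.h
  obtain ⟨w, hw, nw⟩ := SetLike.not_le_iff_exists.1 p.notB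
  rcases (by decide : ∀ σ : Equiv.Perm (Fin 3), σ ≠ 1 → σ ^ 3 = 1 → (∀ i, σ i = i + 1) ∨
    ∀ i, σ⁻¹ i = i + 1) _ (mt (B_iff h hw.2).2 nw) (sg_cube h hw.2 (cubeQ p.h' hw.1)) with e | e
  · exact ⟨w, hw, nw, e⟩
  · exact ⟨w⁻¹, inv_mem hw, mt inv_mem_iff.1 nw, sg_inv h hw.2 ▸ e⟩

theorem sum0 (hg : g ∈ D.B) (e : g ∈ Ce E.z) : bt D g 0 + bt D g 1 + bt D g 2 = 0 := by
  have h := p.h
  obtain ⟨w, hw, nw, ew⟩ := p.exw
  have h1 := cjB h hw.2 (inv_mem hg)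
  have h2 : w * g⁻¹ * w⁻¹ * g ∈ E.QQ := by
    have k : w * (g⁻¹ * w⁻¹ * g⁻¹⁻¹) ∈ E.QQ := mul_mem hw.1 (cjQ p.h' (inv_mem e) (inv_mem hw.1))
    simpa only [mul_assoc, inv_inv] using k
  have h3 := bt_diag h hw.2 (cubeQ p.h' hw.1) nw (mul_mem h1 hg) (p.comU hw.1 h2)
  have h4 := fun i => ew i ▸ bt_cnj h hw.2 (inv_mem hg) i
  rw [bt_mul h h1 hg] at h3
  rw [bt_inv h hg] at h4
  have h5 := h3 1
  have h6 := h3 2
  have k0 := h4 0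
  have k1 := h4 1
  have k2 := h4 2
  simp only [Pi.add_apply, Pi.neg_apply] at h5 h6 k0 k1 k2
  rw [show (0 : Fin 3) + 1 = 1 from rfl] at k0
  rw [show (2 : Fin 3) + 1 = 0 from rfl] at k2
  rw [k0, k2] at h5
  exact (by decide : ∀ a b c : ZMod 3, -a + b = -c + a → a + b + c = 0) _ _ _ h5

theorem sum (fu : Full D) (hg : g ∈ D.B) : bt D g 0 + bt D g 1 + bt D g 2 = 0 := by
  have h := p.h
  obtain ⟨w, hw, nw, -⟩ := p.exw
  have n : ∀ i, L D E.z i ≠ 0 := fun i e => p.ne (cycz h hw.2 nw (cubeQ p.h' hw.1) (Qz p.h' hw.1)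
    (cn_of_L h p.yQ e))
  choose A hA e using fun i => (by decide +kernel : ∀ v : W2, v ≠ 0 → ∀ M : SL3, ∃ A : SL3,
    A ^ 4 = 1 ∧ (A * M).1 *ᵥ v = v) _ (n i) (D.m i g)
  obtain ⟨a, ha, e1⟩ := fu A hA
  have aB := mul_mem ha.1 hg
  obtain ⟨s, hs⟩ := conj_of_fix h aB p.yQ fun i => by rw [m_mul h ha.1 hg, e1, e]
  obtain ⟨v, hv⟩ := (by decide +kernel : ∀ u : W2, u ≠ 0 → ∀ s, ∃ v, om2 u v = s) _ (n 0) s
  obtain ⟨q, hq, rfl⟩ := (co h 0).l_surj v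
  have h1 := H84.PS.flip ((co h 0).le_Ce hq) (conj1 h p.yQ hq)
  have qQ := Q_le 0 hq
  have h2 := p.sum0 (mul_mem (QB h qQ) aB) (mem_Ce'.2 (by
    rw [show q * (a * g) * E.z * (q * (a * g))⁻¹ = q * (a * g * E.z * (a * g)⁻¹) * q⁻¹ by group, hs,
      ← hv, ← h1]
    group))
  rwa [bt_mul h (QB h qQ) aB, bt_Q h qQ, zero_add, bt_mul h ha.1 hg, (bt_P h ha.1).1 ha, zero_add] at h2

end Pr

theorem jobV : H46.E6B.JobV.{u} := fun _ _ _ D h fu ex => by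
  have pr : ∀ g, g * D.z * g⁻¹ ∈ D.QQ → g * D.z * g⁻¹ ∉ zpowers D.z → Pr D (cjD g D) :=
    fun g h1 h2 => ⟨h, H3_cj h g, h1, h2⟩
  have zt : ∀ y ∈ D.QQ, Zt D.z y → y ∉ zpowers D.z → ∃ g, g * D.z * g⁻¹ ∈ D.QQ ∧
      g * D.z * g⁻¹ ∉ zpowers D.z ∧ Ce (g * D.z * g⁻¹) ≤ Ce y := fun y hy ⟨g, hg⟩ ny =>
    ⟨g, hg.elim (· ▸ hy) (· ▸ inv_mem hy), hg.elim (· ▸ ny) (· ▸ mt inv_mem_iff.1 ny),
      hg.elim (· ▸ le_rfl) fun e => e ▸ fun _ k => mem_Ce.2 (Commute.inv_right_iff.1 (mem_Ce.1 k))⟩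
  obtain ⟨y, hy, y1, y2⟩ := id ex
  obtain ⟨g, g1, g2, -⟩ := zt y hy y1 y2
  refine ⟨ex, fun g hg => ?_, fun y hy y1 => or_iff_not_imp_left.2 fun y2 => ?_, fun g h1 h2 => ?_,
    fun _ => (pr g g1 g2).sum fu⟩
  · by_cases e : g * D.z * g⁻¹ ∈ zpowers D.z
    · exact zQ h (conj_mem_of_mem_normalizer' (mem_Nz.2 e) (mem_zpowers _))
    · exact H98.mem_cj.1 (cjD_QQ.le (pr g hg e).symm.yQ)
  · obtain ⟨g, g1, g2, g3⟩ := zt y hy y1 y2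
    obtain ⟨w, hw, nw, -⟩ := (pr g g1 g2).exw
    exact (W3_of h hw.2 nw (cubeQ (pr g g1 g2).h' hw.1) hy (g3 (Qz (pr g g1 g2).h' hw.1))).resolve_left y2
  · obtain ⟨w, hw, -, e⟩ := (pr g h1 h2).exw
    rw [show H46.cj g D.QQ = (cjD g D).QQ from cjD_QQ.symm]
    exact ⟨(pr g h1 h2).cardF, (pr g h1 h2).cardU', w, hw, fun i => e i ▸ sg_spec h hw.2 i⟩

end H46.EV
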