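import Cfsg.Agent.H46.E6BKit
import Cfsg.Agent.H33.E6Rig0
import Cfsg.Agent.H68.OutE6

/-! Assembly of `blueprints/E6B.md`. -/

set_option autoImplicit false
set_option linter.unusedSectionVars false
set_option maxRecDepth 100000

open Cfsg Subgroup H98 H42.L3 H7.PS H39.F22 H39.E6 H78.F22 H33.E6
open H56.L3 (Ce Nz)
open H28.PS (SL3 Zt)
open scoped Matrix

namespace H46.E6B

universe u

section

variable {G : Type*} [Group G] [Finite G] {D : D3 G} {N : Subgroup G} {E : Dat G} {g : G}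

/-- the data restricted to a subgroup -/
def rs (D : D3 G) (N : Subgroup G) (hz : D.z ∈ N) : D3 N :=
  ⟨⟨D.z, hz⟩, fun i => (D.Q i).subgroupOf N, fun i a => D.l i a, fun i a => D.m i a⟩

section

variable (h : H3 D) (r : Res D N)
include h r

theorem Res.Q : D.QQ ≤ N := fun _ e => r.P _ (Q_P h e)

theorem Res.z : D.z ∈ N := r.Q h (zQ h (mem_zpowers _))

theorem Res.eQ (i : Fin 3) : ((rs D N (r.z h)).Q i).map N.subtype = D.Q i :=
  map_subgroupOf_eq_of_le ((Qle i).trans (r.Q h))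

theorem Res.eQQ : (rs D N (r.z h)).QQ.map N.subtype = D.QQ := by
  rw [Subgroup.map_sup, Subgroup.map_sup, r.eQ h, r.eQ h, r.eQ h]

theorem Res.CN {a : N} (i : Fin 3) : a ∈ Ce (rs D N (r.z h)).z ⊓ nr ((rs D N (r.z h)).Q i) ↔
    a.1 ∈ Ce D.z ⊓ nr (D.Q i) := by
  rw [← CN_map N.subtype_injective, r.eQ h]; rfl

theorem Res.Ce {a : N} : a ∈ Ce (rs D N (r.z h)).z ↔ a.1 ∈ Ce D.z := (Ce_map N.subtype_injective).symm

theorem Res.zp {a : N} : a ∈ zpowers (rs D N (r.z h)).z ↔ a.1 ∈ zpowers D.z :=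
  (zp_map N.subtype_injective).symm

theorem Res.B {a : N} : a ∈ (rs D N (r.z h)).B ↔ a.1 ∈ D.B :=
  ⟨fun e => mem_B.2 ⟨(r.Ce h).1 (Bz e), fun i => ((r.CN h i).1 (BN e i)).2⟩,
    fun e => mem_B.2 ⟨(r.Ce h).2 (Bz e), fun i => ((r.CN h i).2 (BN e i)).2⟩⟩

theorem Res.cj {a : N} {i j : Fin 3} : cj a ((rs D N (r.z h)).Q i) = (rs D N (r.z h)).Q j ↔
    cj a.1 (D.Q i) = D.Q j := by
  rw [← (map_injective N.subtype_injective).eq_iff, map_cj, r.eQ h, r.eQ h]; rfl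

theorem Res.h3 : H3 (rs D N (r.z h)) := by
  have ι := N.subtype_injective
  refine ⟨(orderOf_injective _ ι _).symm.trans h.ord, fun i => ⟨(h.sd i).zmem,
    fun a e => Subtype.ext ((h.sd i).cube a e), fun a e b e' => (h.sd i).l_mul a e b e',
    fun a e => ((h.sd i).l_ker a e).trans (r.zp h).symm, fun v => ?_,
    fun a e b e' => Subtype.ext ((h.sd i).comm a e b e'),
    fun c e a e' => (h.sd i).act c ((r.CN h i).1 e) a e',
    fun c e d e' => (h.sd i).m_mul c ((r.CN h i).1 e) d ((r.CN h i).1 e')⟩,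
    fun i j e a ha => (cn_map ι).1 (r.eQ h j ▸ h.QQ i j e ha), fun c e e' => ?_,
    fun c e => (r.zp h).2 (h.cen (r.eQQ h ▸ (cn_map ι).2 e)), fun g e => ?_, fun i => ?_,
    fun g e e' => ⟨e, (h.faith g ((r.B h).1 e) fun p hp =>
      e' ⟨p, r.P p hp⟩ ⟨(r.B h).2 hp.1, hp.2⟩).2⟩⟩
  · obtain ⟨a, ha, e⟩ := (h.sd i).l_surj v
    exact ⟨⟨a, r.Q h (Qle i ha)⟩, ha, e⟩
  · exact (mem_map_iff_mem ι).1 ((r.eQQ h).ge (h.ker c ((r.B h).1 e) e'))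
  · exact (h.perm g ((Nz_map ι).2 e)).imp fun σ e i => (r.cj h).2 (e i)
  · obtain ⟨s, hs, e⟩ := ex_ty h i
    refine ⟨⟨s, r.P s ⟨hs, fun j => ?_⟩⟩, (r.B h).2 hs, ‹_›, ‹_›⟩
    rcases m_sq h hs e j with e | e <;> rw [e] <;> decide +kernel

theorem Res.full (f : Full D) : Full (rs D N (r.z h)) := fun A e =>
  let ⟨p, hp, e'⟩ := f A e; ⟨⟨p, r.P p hp⟩, ⟨(r.B h).2 hp.1, hp.2⟩, e'⟩

theorem Res.nw' : NW (rs D N (r.z h)).z (H56.L3.Ce (rs D N (r.z h)).z) :=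
  let ⟨g, hg, e, n⟩ := r.nw
  ⟨⟨g, hg⟩ * _ * ⟨g, hg⟩⁻¹, (r.Ce h).2 e, ⟨_, .inl rfl⟩, mt (r.zp h).1 n⟩

theorem Res.nine (e : ∀ T ≤ H56.L3.Ce D.z ⊓ N, IsPGroup 3 T → D.QQ.relIndex T ∣ 9) :
    Nine (rs D N (r.z h)) := fun T hT hp => by
  have := e (T.map N.subtype) (le_inf (map_le_iff_le_comap.2 fun _ k => (r.Ce h).1 (hT k))
    (map_subtype_le T)) (hp.map _)
  rwa [← relIndex_comap, ← r.eQQ h, comap_map_eq_self_of_injective N.subtype_injective] at this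

theorem Res.lift (f : Fin7 N) : Fin7 G := by
  obtain ⟨M, nM, ⟨F, _, _, hF, ⟨e⟩⟩, cM⟩ := f
  have ι := N.subtype_injective
  have nN := r.nor
  have hs := (H68.simple_E6 (K := F) (q := 2) Nat.prime_two.isPrimePow hF).1
  have s : IsSimpleGroup M := e.isSimpleGroup
  have c : ∀ a ∈ N, a ∈ cn (M.map N.subtype) → a = 1 := fun a ha k =>
    congrArg Subtype.val (cM.le ((cn_map ι (a := ⟨a, ha⟩)).1 k))
  have n : ∀ a ∈ N, ∀ x ∈ M.map N.subtype, a * x * a⁻¹ ∈ M.map N.subtype := by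
    rintro a ha _ ⟨x, hx, rfl⟩
    exact ⟨_, nM.conj_mem x hx ⟨a, ha⟩, rfl⟩
  have s' : IsSimpleGroup (M.map N.subtype) := (M.equivMapOfInjective _ ι).symm.isSimpleGroup
  have e' := (M.equivMapOfInjective _ ι).symm.trans e
  have le := map_subtype_le M
  generalize M.map N.subtype = U at c n s' e' le
  have nU : U.Normal := ⟨fun x hx g => by
    have k : ∀ a ∈ N, ∀ y ∈ H98.cj g⁻¹ U, a * y * a⁻¹ ∈ H98.cj g⁻¹ U := fun a ha y hy => by
      rw [mem_cj] at hy ⊢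
      simpa [mul_assoc] using n _ (nN.conj_mem a ha g) _ hy
    rcases (show ((H98.cj g⁻¹ U).subgroupOf U).Normal from
      ⟨fun y hy a => k a (le a.2) y hy⟩).eq_bot_or_eq_top with e1 | e1
    · obtain ⟨y, hy⟩ := exists_ne (1 : U)
      have hy' : g⁻¹ * y * g⁻¹⁻¹ ∈ H98.cj g⁻¹ U := H98.conj_mem_cj y.2
      have := c _ (nN.conj_mem _ (le y.2) g⁻¹) fun a ha => by
        have h1 : a * (g⁻¹ * y * g⁻¹⁻¹) * a⁻¹ * (g⁻¹ * y * g⁻¹⁻¹)⁻¹ ∈ U := by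
          simpa only [mul_assoc] using
            mul_mem ha (n _ (nN.conj_mem _ (le y.2) g⁻¹) _ (inv_mem ha))
        have := congrArg Subtype.val (e1.le (x := ⟨_, h1⟩) (mul_mem (k a (le ha) _ hy') (inv_mem hy')))
        exact mul_inv_eq_iff_eq_mul.1 (mul_inv_eq_one.1 this)
      exact absurd (Subtype.ext (conj_eq_one_iff.1 this)) hy
    · simpa using mem_cj.1 (subgroupOf_eq_top.1 e1 hx)⟩
  refine ⟨U, nU, ⟨F, _, _, hF, ⟨e'⟩⟩, eq_bot_iff.2 fun a ha => c a (zpowers_le.2 (r.z h)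
    (h.cen fun q hq => ?_)) ha⟩
  have h1 : q * a * q⁻¹ * a⁻¹ ∈ N := by
    simpa only [mul_assoc] using mul_mem (r.Q h hq) (nN.conj_mem _ (inv_mem (r.Q h hq)) a)
  exact mul_inv_eq_iff_eq_mul.1 (mul_inv_eq_one.1 (c _ h1
    (mul_mem (conj_cn' (le_normalizer_of_normal (mem_top q)) ha) (inv_mem ha))))

end

theorem BPJ (e : E1 E) (hg : g ∈ E.D.B) : ∃ p, E.D.P p ∧ p * g ∈ Jb E := by
  have h := e.h3
  have n := fun i => H84.PS.lne (co h i) (e.hj.cQ i) (e.hj.cz i)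
  have h1 := fun i => (co h i).conj_mem (BN hg i) (e.hj.cQ i)
  choose A hA k using fun i => H84.PS.sl_tr _ _ (H84.PS.lne (co h i) (h1 i) fun k => e.hj.cz i (by
    rwa [← cj_eq_self (CeN (Bz hg)), conj_mem_cj_iff] at k)) (n i)
  obtain ⟨p, hp, e1⟩ := e.full A hA
  choose l hl using fun i => (co h i).eq_zp ((co h i).conj_mem (BN hp.1 i) (h1 i)) (e.hj.cQ i) (by
    rw [(co h i).act _ (BN hp.1 i) _ (h1 i), e1, k])
  choose q hq e2 using fun i => H84.PS.mov (co h i) (e.hj.cQ i) (e.hj.cz i) (-l i)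
  have hu := (memQ h).2 ⟨q, hq, rfl⟩
  refine ⟨_ * p, P_mul h (Q_P h hu) hp, mem_JJ.2 ⟨Bz (mul_mem (mul_mem (QB h hu) hp.1) hg),
    fun i => mem_Ce'.2 ?_⟩⟩
  have h2 := comp h hq i _ (e.hj.cQ i)
  calc _ = q i * ((q i)⁻¹ * (q 0 * q 1 * q 2) * (p * (g * E.c i * g⁻¹) * p⁻¹) *
        ((q i)⁻¹ * (q 0 * q 1 * q 2))⁻¹) * (q i)⁻¹ := by group
    _ = _ := by
      rw [hl, ← @conj_mul _ _ (zp _ _) (_⁻¹ * _), ← h2, mul_inv_cancel_right, zp_conj (mul_mem (inv_mem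
        ((co h i).le_Ce (hq i))) (Bz (QB h hu))), ← conj_mul, e2, zp_conj ((co h i).le_Ce (hq i)), ← mul_assoc,
        ← zp_add h.ord, add_neg_cancel, zp_zero, one_mul]

theorem nine_of (e : E1 E) (n : ¬ Big E) : Nine E.D := fun T hT hp => by
  have h := e.h3
  have T3 := isPGroup_iff_forall.1 hp
  have h0 : ∀ g ∈ E.D.B, ∀ i, bt E.D g i = bt E.D g 0 := fun g hg => by
    obtain ⟨p, hp, k⟩ := BPJ e hg
    have := ((e.hj.Jd _).1 (by_contra fun k' => n ⟨_, k, k'⟩)).2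
    rwa [bt_mul h hp.1 hg, (bt_P h hp.1).1 hp, zero_add] at this
  have h1 := idx_le (X := E.D.B) (MonoidHom.mk' (fun t : T => sg E.D t) fun a b =>
    sg_mul h (CeN (hT a.2)) (CeN (hT b.2))) (fun t => ⟨B_of h (hT t.2), sg_B h⟩) (· ^ 3 = 1) fun t => by
      obtain ⟨k, e⟩ := T3 _ t.2
      have e1 : sg E.D t ^ 3 ^ k = 1 := by rw [← sg_pow h (CeN (hT t.2)), e, sg_B h (one_mem _)]
      refine (by decide : ∀ σ : Equiv.Perm (Fin 3), σ ^ 3 = 1 ∨ σ ^ 2 = 1) _ |>.elim id fun e2 => ?_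
      have := pow_gcd_eq_one.2 ⟨e1, e2⟩
      rw [Nat.Coprime.pow_left k (by decide), pow_one] at this
      exact (congrArg (· ^ 3) this).trans (one_pow 3)
  have h2 := idx_le (X := E.D.QQ) (Γ := Multiplicative V3) (MonoidHom.mk'
    (fun t : ↥(E.D.B ⊓ T) => .ofAdd (bt E.D t)) fun a b =>
      congrArg Multiplicative.ofAdd (bt_mul h a.2.1 b.2.1)) (fun t => ⟨fun e => h.ker _ t.2.1 fun i =>
      let ⟨_, k⟩ := T3 _ t.2.2
      (sl_q8 _ (((bt_P h t.2.1).2 e).2 i)).1 (H84.PS.m3 (co h i) (BN t.2.1 i) k), bt_Q h⟩)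
    (fun x => ∀ i, x.toAdd i = x.toAdd 0) fun t => h0 _ t.2.1
  rw [show Nat.card {x : Equiv.Perm (Fin 3) // x ^ 3 = 1} = 3 by
    rw [Nat.card_eq_fintype_card]; decide, ← inf_relIndex_right] at h1
  rw [show Nat.card {u : Multiplicative V3 // ∀ i, u.toAdd i = u.toAdd 0} = 3 by
    rw [Nat.card_eq_fintype_card]; decide +kernel, ← inf_relIndex_right, inf_left_comm, ← inf_assoc,
    inf_comm E.D.B, inf_eq_left.2 (QB h)] at h2
  have h3 := Nat.mul_le_mul h2 h1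
  rw [relIndex_mul_relIndex _ (E.D.B ⊓ T) T (inf_le_inf_right _ (QB h)) inf_le_right,
    inf_relIndex_right] at h3
  obtain ⟨k, hk⟩ := IsPGroup.iff_card.1 hp
  obtain ⟨j, -, e1⟩ := (Nat.dvd_prime_pow Nat.prime_three).1 (hk ▸ relIndex_dvd_card E.D.QQ T)
  rw [e1] at h3 ⊢
  exact pow_dvd_pow 3 ((Nat.pow_le_pow_iff_right (by decide)).1 (show 3 ^ j ≤ 3 ^ 2 from h3))

theorem res_two (e : E1 E) [nN : N.Normal] (i2 : N.index = 2) {w : G} (hw : w ∈ Ce E.z) (n : w ∉ N) :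
    Res E.D N ∧ E.D.B ≤ N := by
  have h := e.h3
  have sq : ∀ a, a * a ∈ N := mul_self_mem_of_index_two i2
  have cu : ∀ a, a ^ 3 = 1 → a ∈ N := fun a e => by
    simpa [mul_assoc a, ← pow_three, e] using sq (a * a)
  have hP : ∀ p, E.D.P p → p ∈ N := fun p hp => by
    have uB := mul_mem hp.1 e.hj.tB
    choose A hA k using fun i => (by decide +kernel : ∀ M : SL3, ∃ A : SL3, A ^ 4 = 1 ∧
      (chi M ≠ 0 → M ^ 3 * (A * A) = 1)) (E.D.m i (p * E.t))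
    obtain ⟨a, ha, e1⟩ := e.full A hA
    have h1 := cu _ (cubeQ h (h.ker _ (mul_mem (pow_mem uB 3) (mul_mem ha.1 ha.1)) fun i => by
      rw [m_mul h (pow_mem uB 3) (mul_mem ha.1 ha.1), m_pow h uB, m_mul h ha.1 ha.1, e1]
      refine k i ?_
      rw [m_mul h hp.1 e.hj.tB, chi_mul, (P_iff h hp.1).1 hp, zero_add]
      exact mt (chi_eq _).1 (e.hj.tm i)))
    have h2 := sq (p * E.t * (p * E.t))
    rw [mul_assoc, ← pow_three, mul_mem_cancel_right ((mul_mem_cancel_right (sq a)).1 h1)] at h2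
    exact (mul_mem_cancel_right (cu _ e.hj.t3)).1 h2
  have tz : E.t ∉ zpowers E.z := fun k => e.hj.tm 0 (by rw [mQ h (zQ h k), one_pow])
  refine ⟨⟨nN, hP, ?_⟩, fun g hg => ?_⟩
  · by_cases k : E.h ∈ N
    · exact ⟨_, k, e.hj.hz ▸ Bz e.hj.tB, e.hj.hz ▸ tz⟩
    · have : E.h * w * E.D.z * (E.h * w)⁻¹ = E.t := by
        rw [← e.hj.hz, mul_assoc E.h, mem_Ce.1 hw]; group
      exact ⟨_, (mul_mem_iff_of_index_two i2).2 (iff_of_false k n), this ▸ Bz e.hj.tB, this ▸ tz⟩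
  · obtain ⟨p, hp, k⟩ := BPJ e hg
    exact (mul_mem_cancel_left (hP p hp)).1 (cu _ (e.hj.J3 _ k))

end

/-- all the jobs -/
structure Jobs : Prop where
  hub : Hub.{u}
  g6 : G6.{u}
  hr : HubR0.{u}
  main : Main6.{u}
  w : JobW.{u}
  v : JobV.{u}
  j : JobJ.{u}
  n2 : JobN2.{u}
  n1 : JobN1.{u}
  y : JobY.{u}
  s : JobS.{u}
  l : JobL.{u}
  c : JobC.{u}
  tr : JobTR.{u}
  k : JobK.{u}
  th : JobTH.{u}
  mf1 : MF1
  mf2 : MF2

variable (J : Jobs.{u}) {G : Type u} [Group G] [Finite G] {D : D3 G} (h : H3 D) (f : Full D)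
  (w : NW D.z (Ce D.z))
include J h f w

theorem dat : ∃ E : Dat G, E.D = D ∧ E1 E ∧ NJ1 E ∧ RF E := by
  have hv := J.v G D h f (J.w G D h w)
  obtain ⟨t, c, r, x, π, k, ε, X, hj⟩ := J.j G D h hv
  obtain ⟨E, e, e1, nj⟩ := J.n2 G D t c r x π k ε X h f hv hj
  exact ⟨E, e, e1, nj, J.n1 G E e1 nj⟩

theorem fin9 (n : Nine D) : Fin7 G :=
  let ⟨N, h1, h2, h3, _⟩ := J.main G D h f n w; ⟨N, h1, h2, h3⟩

theorem noSwap (n : ¬ Swap D) : Fin7 G := by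
  obtain ⟨E, rfl, e1, nj, rf⟩ := dat J h f w
  by_cases b : Big E
  · obtain ⟨N, r, e⟩ := J.tr G E e1 nj b (J.c G E e1 nj rf b) n
    exact r.lift h (fin9 J (r.h3 h) (r.full h f) (r.nw' h) (r.nine h e))
  · exact fin9 J h f w (nine_of e1 b)

theorem main7 : Fin7 G := by
  by_cases s : Swap D
  swap
  · exact noSwap J h f w s
  obtain ⟨E, rfl, e1, nj, rf⟩ := dat J h f w
  by_cases b : Big E
  swap
  · exact fin9 J h f w (nine_of e1 b)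
  have yf := J.y J.hub (rig0 J.hub) J.hr G E e1 nj rf
  have sf := J.s G E e1 nj rf yf
  obtain ⟨l1, l2⟩ := J.l J.g6 G E e1 nj rf yf sf
  obtain ⟨k1, a, ha, a2, a0, a1, k2⟩ := J.k G E e1 nj rf yf b (J.c G E e1 nj rf b) s
  have c1 : ∀ X : Subgroup G, E.Y ≤ nr X → E.Y ≤ nr ⁅X, X⁆ := fun X e g hg =>
    cj_eq_self_iff.1 (by rw [H98.cj_commutator, cj_eq_self (e hg)])
  obtain ⟨N, nN, i2, n⟩ := J.th J.mf1 J.mf2 G E.Sg E.Y (X2 E) (E.r 0) a ⟨orderOf_eq_prime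
    (by rw [pow_two, e1.hj.rsq]) fun e => neg_ne ((e1.hj.rm 0).symm.trans (e ▸ (co h 0).m_one)),
    sf.rm, sf.card, sf.sq, sf.cm, sf.zc, sf.le, inf_le_right, l1,
    (comm_le _).trans (comm_le _), c1 _ (c1 _ le_normalizer), yf.iso, yf.cen,
    ⟨_, yf.SX (mem_sup_left (mem_sup_left (h.sd 1).zmem)), sf.fz⟩, l2, k1, ha.1, a2, k2⟩
  obtain ⟨r, e⟩ := res_two e1 i2 ha.2 n
  refine r.lift h (noSwap J (r.h3 h) (r.full h f) (r.nw' h) fun ⟨g, hg, g0, g1⟩ => n ?_)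
  rw [r.Ce h] at hg
  rw [r.cj h] at g0 g1
  refine (mul_mem_cancel_left (inv_mem g.2)).1 (e (B_of h (mul_mem (inv_mem hg) ha.2) ?_))
  rw [sg_mul h (CeN (inv_mem hg)) (CeN ha.2), sg_inv h (CeN hg), inv_mul_eq_one]
  have k : ∀ σ : Equiv.Perm (Fin 3), σ 0 = 0 → σ 1 = 2 → σ = Equiv.swap 1 2 := by decide
  exact (k _ (sg_of h (CeN hg) g0) (sg_of h (CeN hg) g1)).trans
    (k _ (sg_of h (CeN ha.2) a0) (sg_of h (CeN ha.2) a1)).symm

theorem s3337 : ¬ IsWeaklyClosed (zpowers D.z) D.QQ ∧ ∃ N : Subgroup G, N.Normal ∧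
    (∃ (K : Type) (_ : Field K) (_ : Fintype K), Fintype.card K = 4 ∧
      Nonempty (N ≃* Lie.twistedE6 K 2)) ∧ centralizer (N : Set G) = ⊥ ∧ N.index ∣ 6 := by
  refine ⟨fun e => ?_, ?_⟩
  · obtain ⟨y, hy, ⟨g, k⟩, n⟩ := J.w G D h w
    have := e.2 g ((cj_zp g _).le.trans (zpowers_le.2 (k.elim (· ▸ hy) (· ▸ inv_mem hy))))
    have h1 : g * D.z * g⁻¹ ∈ zpowers D.z := this.le (mem_map_of_mem _ (mem_zpowers _))
    exact n (k.elim (· ▸ h1) fun k => inv_mem_iff.1 (k ▸ h1))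
  · obtain ⟨N, nN, ⟨F, _, _, hF, ⟨e⟩⟩, c⟩ := main7 J h f w
    have : CharP F 2 := charP_of_card_eq_prime_pow (f := 2) hF
    refine ⟨N, nN, ⟨F, _, _, hF, ⟨e⟩⟩, c, (index_dvd_out c e).trans ?_⟩
    rw [H68.card_out_E6 Nat.prime_two.isPrimePow hF 2, H63.card_ringAut 2 2 (Nat.card_eq_fintype_card.trans hF)]
    decide

end H46.E6B
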