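import Cfsg.Agent.H82.FSSpec
import Cfsg.Agent.H1.Coprime

/-! Tower FS, slot TR: `2`-elements of `N(A)` centralise `A`. -/

set_option autoImplicit false
set_option linter.unusedSectionVars false

open H82.FS Subgroup
open scoped commutatorElement Pointwise

namespace H46.FSTR

universe u

variable {G : Type u} [Group G]

theorem cj_mul (g h : G) (H : Subgroup G) : cj (g * h) H = cj g (cj h H) := by
  rw [cj, cj, cj, map_map]; congr 1; ext x; simp [mul_assoc]

theorem cj_one (H : Subgroup G) : cj 1 H = H := by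
  ext x; simp [cj]

theorem mem_cj {g x : G} {H : Subgroup G} : x ∈ cj g H ↔ g⁻¹ * x * g ∈ H := by
  constructor
  · rintro ⟨y, hy, rfl⟩
    simpa [mul_assoc] using hy
  · exact fun h => ⟨_, h, by simp [mul_assoc]⟩

theorem cj_eq_iff {g : G} {H : Subgroup G} : cj g H = H ↔ g ∈ normalizer (H : Set G) := by
  rw [mem_normalizer_iff'']
  exact ⟨fun h x => by rw [← mem_cj, h], fun h => by ext x; rw [mem_cj, ← h]⟩

theorem card_cj (g : G) (H : Subgroup G) : Nat.card (cj g H) = Nat.card H :=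
  card_map_of_injective (MulAut.conj g).injective

theorem cj_sup (g : G) (H K : Subgroup G) : cj g (H ⊔ K) = cj g H ⊔ cj g K := Subgroup.map_sup _ _ _

theorem cj_kl (h : G) (A : Subgroup G) (g : G) : cj h (kl A g) = kl (cj h A) (h * g * h⁻¹) := by
  rw [kl, kl, ln, ln, cj, map_commutator, Subgroup.map_sup]
  change ⁅cj h A ⊔ cj h (cj g A), cj h A ⊔ cj h (cj g A)⁆ = _
  rw [← cj_mul, ← cj_mul, inv_mul_cancel_right]

theorem ln_norm (A : Subgroup G) (g : G) : ln A g ≤ normalizer (kl A g : Set G) :=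
  H1.le_normalizer_commutator le_normalizer le_normalizer

theorem A_norm (A : Subgroup G) (g : G) : A ≤ normalizer (kl A g : Set G) :=
  le_sup_left.trans (ln_norm A g)

theorem mem_sup_norm {N H : Subgroup G} (h : H ≤ normalizer (N : Set G)) {x : G}
    (hx : x ∈ N ⊔ H) : ∃ n ∈ N, ∃ a ∈ H, x = n * a := by
  have : x ∈ ((N ⊔ H : Subgroup G) : Set G) := hx
  rw [coe_mul_of_right_le_normalizer_left N H h] at this
  obtain ⟨n, hn, a, ha, e⟩ := this
  exact ⟨n, hn, a, ha, e.symm⟩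

variable [Finite G] {p r : ℕ} {A : Subgroup G}

theorem cop (hL : Lin p r A) {W : Subgroup G} (hW : IsPGroup r W) :
    (Nat.card A).Coprime (Nat.card W) := by
  haveI := Fact.mk hL.hr
  obtain ⟨n, hn⟩ := IsPGroup.iff_card.1 hW
  rw [hL.card, hn]
  exact ((Nat.coprime_primes hL.hp hL.hr).2 hL.pr.symm).pow_right n

theorem cyc (hL : Lin p r A) : IsCyclic A := by
  haveI := Fact.mk hL.hp
  exact isCyclic_of_prime_card hL.card

theorem comm (hL : Lin p r A) {a b : G} (ha : a ∈ A) (hb : b ∈ A) : a * b = b * a := by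
  haveI := cyc hL
  letI := IsCyclic.commGroup (α := A)
  exact congrArg Subtype.val (mul_comm (⟨a, ha⟩ : A) ⟨b, hb⟩)

theorem exists_kl (hL : Lin p r A) (g : G) : ∃ k ∈ kl A g, cj g A = cj k A := by
  haveI := Fact.mk hL.hp
  set K := kl A g
  set M := K ⊔ A
  have h1 : Nat.card M ∣ Nat.card K * Nat.card A := by
    have hn : (K.subgroupOf M).Normal :=
      normal_subgroupOf_of_le_normalizer (sup_le le_normalizer (A_norm A g))
    rw [← (K.subgroupOf M).card_mul_index, Nat.card_congr (subgroupOfEquivOfLe le_sup_left).toEquiv]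
    refine Nat.mul_dvd_mul_left _ ?_
    refine card_dvd_of_surjective ((QuotientGroup.mk' (K.subgroupOf M)).comp
      (inclusion (le_sup_right : A ≤ M))) fun y => ?_
    obtain ⟨y, rfl⟩ := QuotientGroup.mk'_surjective _ y
    obtain ⟨n, hn, a, ha, e⟩ := mem_sup_norm (A_norm A g) y.2
    refine ⟨⟨a, ha⟩, (QuotientGroup.eq.2 ?_)⟩
    change a⁻¹ * (y : G) ∈ K
    have := H1.conj_mem_of_le_normalizer (A_norm A g) (A.inv_mem ha) hn
    simpa [e, mul_assoc] using this
  have key : ∀ B : Subgroup G, B ≤ M → Nat.card B = p → ∃ S : Sylow p M, (S : Subgroup M) =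
      B.subgroupOf M := by
    intro B hB hc
    have h2 : Nat.card (B.subgroupOf M) = p := by
      rw [Nat.card_congr (subgroupOfEquivOfLe hB).toEquiv, hc]
    have h2' : IsPGroup p (B.subgroupOf M) := IsPGroup.of_card (n := 1) (by rw [h2, pow_one])
    refine ⟨h2'.toSylow fun h => ?_, rfl⟩
    rw [← (B.subgroupOf M).card_mul_index, h2, hL.card, mul_comm] at h1
    have h3 := h.trans (Nat.dvd_of_mul_dvd_mul_right hL.hp.pos h1)
    have h4 := cop hL (hL.line g)
    rw [hL.card] at h4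
    exact (Nat.Prime.coprime_iff_not_dvd hL.hp).1 h4 h3
  obtain ⟨S, hS⟩ := key A le_sup_right hL.card
  obtain ⟨T, hT⟩ := key (cj g A) (hL.sub g) ((card_cj g A).trans hL.card)
  obtain ⟨m, hm⟩ := MulAction.exists_smul_eq M S T
  obtain ⟨k, hk, a, ha, e⟩ := mem_sup_norm (A_norm A g) m.2
  refine ⟨k, hk, ?_⟩
  have h5 : cj (m : G) A = cj k A := by
    rw [e, cj_mul, cj_eq_iff.2 (le_normalizer ha)]
  rw [← h5]
  have h6 : cj (m : G) A ≤ cj g A := by
    rintro _ ⟨x, hx, rfl⟩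
    have h7 : MulAut.conj m • (⟨x, (le_sup_right : A ≤ M) hx⟩ : M) ∈ (T : Subgroup M) := by
      rw [← hm, Sylow.coe_subgroup_smul, hS]
      exact smul_mem_pointwise_smul _ _ _ hx
    rw [hT] at h7
    exact h7
  exact (eq_of_le_of_card_ge h6 (by rw [card_cj, card_cj])).symm

theorem lin_cj (hL : Lin p r A) (h : G) : Lin p r (cj h A) where
  hp := hL.hp
  p2 := hL.p2
  hr := hL.hr
  pr := hL.pr
  card := (card_cj h A).trans hL.card
  gen := by
    rw [eq_top_iff, ← hL.gen]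
    refine normalClosure_le_normal fun x hx => ?_
    have h1 : h * x * h⁻¹ ∈ normalClosure (cj h A : Set G) := subset_normalClosure ⟨x, hx, rfl⟩
    simpa [mul_assoc] using normalClosure_normal.conj_mem _ h1 h⁻¹
  line g := by
    have := cj_kl h A (h⁻¹ * g * h)
    rw [show h * (h⁻¹ * g * h) * h⁻¹ = g by group] at this
    rw [← this]
    exact (hL.line _).map _
  sub g := by
    have := cj_kl h A (h⁻¹ * g * h)
    rw [show h * (h⁻¹ * g * h) * h⁻¹ = g by group] at this
    rw [← this, ← cj_sup, ← cj_mul, show g * h = h * (h⁻¹ * g * h) by group, cj_mul]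
    exact map_mono (hL.sub _)

/-- Conjugation of subgroups as an action. -/
@[reducible] def act : MulAction G (Subgroup G) where
  smul := cj
  one_smul := cj_one
  mul_smul := cj_mul

/-- A `2`-group that permutes two points fixes a point. -/
theorem step (hL : Lin p r A) (r2 : r ≠ 2) {S : Subgroup G} (hS : IsPGroup 2 S) (s : G)
    (h : ∀ t ∈ S, (cj t A = A ∧ cj (t * s) A = cj s A) ∨ (cj t A = cj s A ∧ cj (t * s) A = A)) :
    ∃ g, S ≤ normalizer (cj g A : Set G) := by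
  haveI := Fact.mk hL.hr
  letI := act (G := G)
  have hs : ∀ (g : G) (H : Subgroup G), g • H = cj g H := fun _ _ => rfl
  obtain ⟨k, hk, e⟩ := exists_kl hL s
  have h1 : ∀ t ∈ S, cj t (ln A s) = ln A s := fun t ht => by
    rw [ln, cj_sup, ← cj_mul]
    rcases h t ht with ⟨a, b⟩ | ⟨a, b⟩
    · rw [a, b]
    · rw [a, b, sup_comm]
  have h2 : S ≤ normalizer (kl A s : Set G) :=
    H1.le_normalizer_commutator (fun t ht => cj_eq_iff.1 (h1 t ht)) fun t ht => cj_eq_iff.1 (h1 t ht)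
  let X : SubMulAction S (Subgroup G) :=
    { carrier := MulAction.orbit (kl A s) A
      smul_mem' := by
        rintro t _ ⟨y, rfl⟩
        obtain ⟨z, hz, e'⟩ : ∃ z ∈ kl A s, cj (t : G) A = cj z A := by
          rcases h t t.2 with ⟨a, -⟩ | ⟨a, -⟩
          · exact ⟨1, one_mem _, by rw [a, cj_one]⟩
          · exact ⟨k, hk, by rw [a, e]⟩
        refine ⟨⟨(t : G) * y * (t : G)⁻¹ * z,
          mul_mem (H1.conj_mem_of_le_normalizer h2 t.2 y.2) hz⟩, ?_⟩
        change cj ((t : G) * y * (t : G)⁻¹ * z) A = cj (t : G) (cj (y : G) A)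
        rw [cj_mul, ← e', ← cj_mul, ← cj_mul, inv_mul_cancel_right] }
  obtain ⟨n, hn⟩ := (hL.line s).card_orbit A
  have h3 : ¬ 2 ∣ Nat.card X := by
    rw [show Nat.card X = r ^ n from hn]
    exact fun h => r2 ((Nat.prime_dvd_prime_iff_eq Nat.prime_two hL.hr).1
      (Nat.prime_two.dvd_of_dvd_pow h)).symm
  obtain ⟨⟨C, y, rfl⟩, hC⟩ := hS.nonempty_fixed_point_of_prime_not_dvd_card X h3
  exact ⟨y, fun t ht => cj_eq_iff.1 (congrArg Subtype.val (hC ⟨t, ht⟩))⟩

theorem two_fix (hL : Lin p r A) (r2 : r ≠ 2) (n : ℕ) : ∀ S : Subgroup G, Nat.card S = 2 ^ n →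
    ∃ g, S ≤ normalizer (cj g A : Set G) := by
  induction n with
  | zero =>
    intro S hS
    rw [pow_zero, card_eq_one] at hS
    exact ⟨1, hS ▸ bot_le⟩
  | succ n ih =>
    intro S hS
    obtain ⟨K, hK⟩ := Sylow.exists_subgroup_card_pow_prime (G := S) 2 (n := n)
      (by rw [hS]; exact pow_dvd_pow 2 n.le_succ)
    have h2 : K.index = 2 := by
      have := K.card_mul_index
      rw [hK, hS, pow_succ] at this
      exact Nat.eq_of_mul_eq_mul_left (by positivity) this
    obtain ⟨g, hg⟩ := ih (K.map S.subtype) (by rw [card_map_of_injective S.subtype_injective, hK])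
    obtain ⟨s, hs⟩ : ∃ s : S, s ∉ K := by
      by_contra h
      push Not at h
      rw [(eq_top_iff' K).2 h, index_top] at h2
      omega
    have k1 : ∀ t : S, t ∈ K → cj (t : G) (cj g A) = cj g A := fun t ht =>
      cj_eq_iff.2 (hg ⟨t, ht, rfl⟩)
    have k2 : ∀ t : S, t ∉ K → cj (t : G) (cj g A) = cj (s : G) (cj g A) := fun t ht => by
      have := k1 (s⁻¹ * t) (by rw [mul_mem_iff_of_index_two h2, inv_mem_iff]; tauto)
      conv_rhs => rw [← this, ← cj_mul]
      simp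
    obtain ⟨g', hg'⟩ := step (lin_cj hL g) r2 (IsPGroup.of_card hS) (s : G) fun t ht => by
      by_cases h : (⟨t, ht⟩ : S) ∈ K
      · exact Or.inl ⟨k1 _ h, k2 (⟨t, ht⟩ * s) (by rw [mul_mem_iff_of_index_two h2]; tauto)⟩
      · exact Or.inr ⟨k2 _ h, k1 (⟨t, ht⟩ * s) (by rw [mul_mem_iff_of_index_two h2]; tauto)⟩
    exact ⟨g' * g, by rwa [cj_mul]⟩

theorem nk_cen (hL : Lin p r A) {g u : G} (h1 : u ∈ kl A g) (h2 : u ∈ normalizer (A : Set G)) :
    u ∈ centralizer (A : Set G) := by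
  intro a ha
  have h3 : a * u * a⁻¹ * u⁻¹ ∈ A ⊓ kl A g := ⟨by
    have := A.mul_mem ha ((mem_normalizer_iff.1 h2 _).1 (A.inv_mem ha))
    simpa [mul_assoc] using this,
    (kl A g).mul_mem (H1.conj_mem_of_le_normalizer (A_norm A g) ha h1) (inv_mem h1)⟩
  rw [inf_eq_bot_of_coprime (cop hL (hL.line g)), mem_bot] at h3
  rw [← mul_inv_eq_one, ← h3]; group

theorem fus (hL : Lin p r A) {s g : G} (h1 : s ∈ normalizer (A : Set G))
    (h2 : g * s * g⁻¹ ∈ normalizer (A : Set G)) :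
    s⁻¹ * (g * s * g⁻¹) ∈ centralizer (A : Set G) := by
  haveI := cyc hL
  obtain ⟨k, hk, e⟩ := exists_kl hL g
  have hn : k⁻¹ * g ∈ normalizer (A : Set G) := by
    rw [← cj_eq_iff, cj_mul, e, ← cj_mul, inv_mul_cancel, cj_one]
  have h3 : g * s * g⁻¹ ∈ normalizer (ln A g : Set G) := by
    rw [← cj_eq_iff, ln, cj_sup, cj_eq_iff.2 h2, ← cj_mul, inv_mul_cancel_right, cj_mul,
      cj_eq_iff.2 h1]
  have h4 : zpowers (g * s * g⁻¹) ≤ normalizer (kl A g : Set G) :=
    H1.le_normalizer_commutator (zpowers_le.2 h3) (zpowers_le.2 h3)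
  have h5 : k⁻¹ * ((g * s * g⁻¹) * k * (g * s * g⁻¹)⁻¹) ∈ kl A g :=
    mul_mem (inv_mem hk) (H1.conj_mem_of_le_normalizer h4 (mem_zpowers _) hk)
  have h6 : k⁻¹ * ((g * s * g⁻¹) * k * (g * s * g⁻¹)⁻¹) =
      (k⁻¹ * g) * s * (k⁻¹ * g)⁻¹ * (g * s * g⁻¹)⁻¹ := by group
  let χ := (IsCyclic.mulAutMulEquiv A).toMonoidHom.comp A.normalizerMonoidHom
  have hχ : ∀ x : normalizer (A : Set G), χ x = 1 ↔ (x : G) ∈ centralizer (A : Set G) := by
    intro x
    rw [← mem_subgroupOf, ← normalizerMonoidHom_ker, MonoidHom.mem_ker]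
    exact map_eq_one_iff _ (IsCyclic.mulAutMulEquiv A).injective
  rw [h6] at h5
  have h7 := (hχ (⟨_, hn⟩ * ⟨s, h1⟩ * (⟨_, hn⟩ : normalizer (A : Set G))⁻¹ *
    (⟨_, h2⟩ : normalizer (A : Set G))⁻¹)).2
    (nk_cen hL h5 (mul_mem (mul_mem (mul_mem hn h1) (inv_mem hn)) (inv_mem h2)))
  refine (hχ ((⟨s, h1⟩ : normalizer (A : Set G))⁻¹ * ⟨_, h2⟩)).1 ?_
  simp only [map_mul, map_inv, mul_inv_cancel_comm] at h7 ⊢
  rw [mul_inv_eq_one.1 h7, inv_mul_cancel]

theorem mem_comm (hL : Lin p r A) {s : G} {k : ℕ} (h : s ^ 2 ^ k = 1) : s ∈ commutator G := by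
  let f : G →* Abelianization G := (powMonoidHom p).comp Abelianization.of
  have h1 : f.ker = ⊤ := by
    rw [eq_top_iff, ← hL.gen]
    refine normalClosure_le_normal fun x hx => ?_
    have : x ^ p = 1 := by
      have := pow_card_eq_one' (x := (⟨x, hx⟩ : A))
      rw [hL.card] at this
      exact congrArg Subtype.val this
    change (Abelianization.of x) ^ p = 1
    rw [← map_pow, this, map_one]
  have h2 : (Abelianization.of s) ^ p = 1 := (h1 ▸ mem_top s : s ∈ f.ker)
  have h3 : (Abelianization.of s) ^ 2 ^ k = 1 := by rw [← map_pow, h, map_one]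
  have h4 := pow_gcd_eq_one.2 ⟨h2, h3⟩
  rw [Nat.Coprime.gcd_eq_one (((Nat.coprime_primes hL.hp Nat.prime_two).2 hL.p2).pow_right k),
    pow_one] at h4
  rw [← Abelianization.ker_of]
  exact h4

theorem jobTR : JobTR.{u} := by
  intro G _ _ p r A hL r2 g hg k hk
  obtain ⟨S, hS⟩ : ∃ S : Sylow 2 G, (S : Subgroup G) ≤ normalizer (A : Set G) := by
    obtain ⟨S⟩ : Nonempty (Sylow 2 G) := inferInstance
    obtain ⟨n, hn⟩ := IsPGroup.iff_card.1 S.isPGroup'
    obtain ⟨h, hh⟩ := two_fix hL r2 n S hn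
    refine ⟨h⁻¹ • S, fun x hx => ?_⟩
    rw [Sylow.coe_subgroup_smul, mem_pointwise_smul_iff_inv_smul_mem] at hx
    have h1 := cj_eq_iff.2 (hh hx)
    have h2 : (MulAut.conj h⁻¹)⁻¹ • x = h * x * h⁻¹ := by simp
    rw [h2, ← cj_mul, inv_mul_cancel_right, cj_mul] at h1
    exact cj_eq_iff.1 (map_injective (MulAut.conj h).injective h1)
  have h1 : (S : Subgroup G) ≤ centralizer (A : Set G) := by
    intro s hs
    obtain ⟨j, hj⟩ := S.isPGroup' ⟨s, hs⟩
    have h2 : s ∈ commutator G ⊓ (S : Subgroup G) :=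
      ⟨mem_comm hL (congrArg Subtype.val hj), hs⟩
    rw [commutator_inf_eq_focalSubgroup, focalSubgroup_def] at h2
    refine (closure_le _).2 ?_ h2
    rintro _ ⟨h3, x, hx, u, rfl⟩
    have h4 : u * x⁻¹ * u⁻¹ ∈ (S : Subgroup G) := by
      have := (S : Subgroup G).mul_mem ((S : Subgroup G).inv_mem hx) h3
      simpa [commutatorElement_def, mul_assoc] using this
    have := fus hL (hS (inv_mem hx)) (hS h4)
    simpa [commutatorElement_def, mul_assoc] using this
  have h2 : IsPGroup 2 (zpowers (⟨g, hg⟩ : normalizer (A : Set G))) := by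
    rintro ⟨_, i, rfl⟩
    refine ⟨k, Subtype.ext (Subtype.ext ?_)⟩
    change (g ^ i) ^ 2 ^ k = 1
    rw [← zpow_natCast, ← zpow_mul, mul_comm, zpow_mul, zpow_natCast, hk, one_zpow]
  obtain ⟨T, hT⟩ := h2.exists_le_sylow
  obtain ⟨m, hm⟩ := MulAction.exists_smul_eq (normalizer (A : Set G)) T (S.subtype hS)
  have h3 : MulAut.conj m • (⟨g, hg⟩ : normalizer (A : Set G)) ∈
      (S.subtype hS : Subgroup (normalizer (A : Set G))) := by
    rw [← hm, Sylow.coe_subgroup_smul]
    exact smul_mem_pointwise_smul _ _ _ (hT (mem_zpowers _))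
  have h4 : (m : G) * g * (m : G)⁻¹ ∈ centralizer (A : Set G) := h1 h3
  have := H1.conj_mem_of_le_normalizer (H1.le_normalizer_centralizer (le_refl _)) (inv_mem m.2) h4
  simpa [mul_assoc] using this

end H46.FSTR
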