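import Cfsg.Agent.H46.FSK
import Cfsg.Agent.H46.FSTR
import Cfsg.Agent.S0215
import Cfsg.Agent.S0205

/-! Tower FS, slot F1: involutions fix points. -/

set_option autoImplicit false
set_option linter.unusedSectionVars false

open Cfsg H82.FS Subgroup H46.FSK
open scoped commutatorElement Pointwise

namespace H46.FSF1

export H82.FS (cj cj_mul conj_mem_cj cj_eq_iff mem_cj cj_one cj_mono cj_cj cj_inv_cj cj_cj_inv
  card_cj cj_norm cj_sup cj_inf cj_cen cj_inj)

universe u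

variable {G : Type u} [Group G] [Finite G] {p r : ℕ} {A N : Subgroup G}

theorem tr_cj (h : TR A) (c : G) : TR (cj c A) := by
  intro g hg k hk
  rw [← cj_norm, mem_cj] at hg
  rw [← cj_cen, mem_cj]
  refine h _ hg k ?_
  have := conj_pow (a := c⁻¹) (b := g) (i := 2 ^ k)
  rw [inv_inv] at this
  rw [this, hk, mul_one, inv_mul_cancel]

theorem lr_cj (h : Lr A) (c : G) : Lr (cj c A) := by
  have e : ∀ g, cj g (cj c A) = cj c (cj (c⁻¹ * g * c) A) := fun g => by
    rw [cj_cj, cj_cj]; congr 1; group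
  intro g k h1 h2
  rw [e, ln_cj] at h2 ⊢
  refine cj_mono c (h _ _ (fun h3 => h1 (by rw [e, h3])) ?_)
  have := cj_mono c⁻¹ h2
  rwa [cj_inv_cj, cj_inv_cj] at this

theorem mem_zp {t a : G} (h : t * t = 1) (ha : a ∈ zpowers t) : a = 1 ∨ a = t := by
  obtain ⟨i, rfl⟩ := ha
  have h3 : t ^ (2 : ℤ) = 1 := by rw [zpow_two, h]
  obtain ⟨j, rfl | rfl⟩ := Int.even_or_odd' i
  · left; simp only; rw [zpow_mul, h3, one_zpow]
  · right; simp only; rw [zpow_add, zpow_mul, h3]; simp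

theorem p2 {t : G} (h : orderOf t = 2) : IsPGroup 2 (zpowers t) :=
  IsPGroup.of_card (n := 1) (by rw [Nat.card_zpowers, h, pow_one])

/-- An involution fixes a point on the line it reflects. -/
theorem step (hL : Lin p r A) (r2 : r ≠ 2) {t : G} (ht : orderOf t = 2) :
    ∃ y ∈ kl A t, t ∈ normalizer (cj y A : Set G) := by
  haveI := Fact.mk hL.hr
  letI := H46.FSTR.act (G := G)
  obtain ⟨k, hk, e⟩ := hL.exists_kl t
  have h1 : t ∈ normalizer (ln A t : Set G) := by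
    rw [← cj_eq_iff, ln, cj_sup, cj_cj, sq2 ht, cj_one, sup_comm]
  have h2 : zpowers t ≤ normalizer (kl A t : Set G) :=
    le_norm_comm (zpowers_le.2 h1) (zpowers_le.2 h1)
  let X : SubMulAction (zpowers t) (Subgroup G) :=
    { carrier := MulAction.orbit (kl A t) A
      smul_mem' := by
        rintro s _ ⟨y, rfl⟩
        obtain ⟨z, hz, e'⟩ : ∃ z ∈ kl A t, cj (s : G) A = cj z A := by
          rcases mem_zp (sq2 ht) s.2 with a | a
          · exact ⟨1, one_mem _, by rw [a]⟩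
          · exact ⟨k, hk, by rw [a, e]⟩
        refine ⟨⟨(s : G) * y * (s : G)⁻¹ * z,
          mul_mem ((mem_normalizer_iff.1 (h2 s.2) _).1 y.2) hz⟩, ?_⟩
        change cj ((s : G) * y * (s : G)⁻¹ * z) A = cj (s : G) (cj (y : G) A)
        rw [cj_mul, ← e', ← cj_mul, ← cj_mul, inv_mul_cancel_right] }
  obtain ⟨n, hn⟩ := (hL.line t).card_orbit A
  have h3 : ¬ 2 ∣ Nat.card X := by
    rw [show Nat.card X = r ^ n from hn]
    exact fun h => r2 ((Nat.prime_dvd_prime_iff_eq Nat.prime_two hL.hr).1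
      (Nat.prime_two.dvd_of_dvd_pow h)).symm
  obtain ⟨⟨C, y, rfl⟩, hC⟩ := (p2 ht).nonempty_fixed_point_of_prime_not_dvd_card X h3
  exact ⟨y, y.2, cj_eq_iff.1 (congrArg Subtype.val (hC ⟨t, mem_zpowers t⟩))⟩

theorem refl (hL : Lin p r A) (r2 : r ≠ 2) (hT : TR A) {t : G} (ht : orderOf t = 2) (g : G) :
    ∃ h, cj h A ≤ centralizer ({t} : Set G) ∧ cj h A ≤ cj g A ⊔ cj (t * g) A := by
  obtain ⟨y, hy, h1⟩ := step (hL.cj g) r2 ht
  rw [cj_cj] at h1
  refine ⟨y * g, le_cen.2 (tr_cj hT _ t h1 1 (by rw [pow_one, pow_two, sq2 ht])), ?_⟩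
  rw [cj_mul, cj_mul]
  exact cj_le_of le_sup_left (kl_le_ln _ _ hy)

/-- `t` fixes the point `A` only. -/
def Only (A : Subgroup G) (t : G) : Prop :=
  t ∈ centralizer (A : Set G) ∧ ∀ g, cj g A ≤ centralizer ({t} : Set G) → cj g A = A

theorem Only.conj {t g : G} (h : Only A t) (hg : g * t * g⁻¹ ∈ centralizer (A : Set G)) :
    Only A (g * t * g⁻¹) := by
  have k : ∀ c, cj c A ≤ centralizer ({g * t * g⁻¹} : Set G) → cj c A = cj g A := fun c hc => by
    have := h.2 (g⁻¹ * c) (by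
      rw [cj_mul, ← cj_inv_cj g (centralizer _), cj_cen1]; exact cj_mono _ hc)
    conv_rhs => rw [← this, cj_cj, mul_inv_cancel_left]
  refine ⟨hg, fun c hc => ?_⟩
  rw [k c hc, ← k 1 (by rw [cj_one]; exact le_cen.2 hg), cj_one]

theorem Only.norm (h : Geo p r A N) (r2 : r ≠ 2) (hT : TR A) {t : G} (ht : orderOf t = 2)
    (ho : Only A t) (g : G) : zpowers t ≤ normalizer (kl A g : Set G) := by
  have h0 : cj t A = A := cj_eq_of_cen ho.1
  have h1 : t ∈ normalizer (ln A g : Set G) := by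
    refine norm_of_cj_le ?_
    rw [ln, cj_sup, h0]
    refine sup_le le_sup_left ?_
    by_cases e : cj g A = A
    · rw [e, h0]; exact le_sup_left
    obtain ⟨c, c1, c2⟩ := refl h.lin r2 hT ht g
    rw [ho.2 c c1, cj_mul] at c2
    have := lr_cj h.lr g t g⁻¹ (by rw [cj_inv_cj]; exact Ne.symm e) (by rw [cj_inv_cj]; exact c2)
    rwa [ln, cj_inv_cj, sup_comm] at this
  exact le_norm_comm (zpowers_le.2 h1) (zpowers_le.2 h1)

theorem Only.inv (h : Geo p r A N) (r2 : r ≠ 2) (hT : TR A) {t : G} (ht : orderOf t = 2)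
    (ho : Only A t) (g : G) {y : G} (hy : y ∈ kl A g) :
    y * (t * y * t⁻¹) ∈ ⁅kl A g, kl A g⁆ := by
  haveI := Fact.mk h.lin.hr
  have hn := ho.norm h r2 hT ht g
  have hy' : t * y * t⁻¹ ∈ kl A g := (mem_normalizer_iff.1 (hn (mem_zpowers t)) _).1 hy
  have hle : ⁅kl A g, kl A g⁆ ≤ kl A g := comm_le_left le_normalizer
  obtain ⟨k, hk⟩ := IsPGroup.iff_card.1 ((h.lin.line g).to_le hle)
  obtain ⟨n, hn', e⟩ := H1.exists_centralizer_mem_coset (le_norm_comm hn hn) (by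
    rw [Nat.card_zpowers, ht, hk]
    exact ((Nat.coprime_primes Nat.prime_two h.lin.hr).2 r2.symm).pow_right k)
    (Or.inl (isSolvable_of_comm fun a b => mul_comm' a b)) (y * (t * y * t⁻¹)) (fun a ha => by
    rcases mem_zp (sq2 ht) ha with rfl | rfl
    · rw [one_mul, inv_one, mul_one, inv_mul_cancel]; exact one_mem _
    · have := commutator_mem_commutator (inv_mem hy') (inv_mem hy)
      have e : (y * (a * y * a⁻¹))⁻¹ * (a * (y * (a * y * a⁻¹)) * a⁻¹) =
          (a * y * a⁻¹)⁻¹ * y⁻¹ * (a * y * a⁻¹) * ((a * a) * y * (a * a)⁻¹) := by group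
      rw [e, sq2 ht]
      simpa [commutatorElement_def] using this)
  have h1 := mul_mem (mul_mem hy hy') (hle hn')
  have h2 := ho.2 _ (cj_le_of (le_cen.2 ho.1)
    (mem_centralizer_singleton_iff.2 (e t (mem_zpowers t)).symm))
  have h3 := h.lin.norm_cen (h.lin.cop (h.lin.line g)) (A_le_norm_kl A g) h1 (cj_eq_iff.1 h2)
  have h4 := (h.cls _ (h.lin.kl_sp g)).1.ge ⟨h1, h3⟩
  simpa using mul_mem h4 (inv_mem hn')

theorem Only.eq (h : Geo p r A N) (r2 : r ≠ 2) (hT : TR A) {t t' : G} (ht : orderOf t = 2)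
    (ht' : orderOf t' = 2) (ho : Only A t) (ho' : Only A t') : t' = t := by
  have hd := mul_mem ho.1 ho'.1
  have h1 : t * t' = 1 := by
    by_contra k
    refine h.cen_ne_top k (h.lin.top_of fun g => (h.lin.sub g).trans (sup_le ?_ (le_cen.2 hd)))
    have hs := h.lin.kl_sp g
    have hn := ho.norm h r2 hT ht g
    refine hs.2.2.ge.trans (cen_comm hd (fun y hy => ?_) (h.Z_cen hs) (h.cls _ hs).2.1)
    have h2 := ho.inv h r2 hT ht g hy
    have h3 := (mem_normalizer_iff.1 (le_norm_comm hn hn (mem_zpowers t)) _).1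
      (ho'.inv h r2 hT ht' g (inv_mem hy))
    have e : ⁅y, t * t'⁆ = y * (t * y * t⁻¹) * (t * (y⁻¹ * (t' * y⁻¹ * t'⁻¹)) * t⁻¹) := by
      rw [commutatorElement_def]; group
    exact e ▸ mul_mem h2 h3
  exact mul_left_cancel (h1.trans (sq2 ht).symm)

theorem syl (hL : Lin p r A) (r2 : r ≠ 2) (hT : TR A) :
    ∃ S : Sylow 2 G, (S : Subgroup G) ≤ centralizer (A : Set G) := by
  obtain ⟨S⟩ : Nonempty (Sylow 2 G) := inferInstance
  obtain ⟨n, hn⟩ := IsPGroup.iff_card.1 S.isPGroup'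
  obtain ⟨c, hc⟩ := H46.FSTR.two_fix hL r2 n S hn
  refine ⟨c⁻¹ • S, fun x hx => ?_⟩
  obtain ⟨j, hj⟩ := (c⁻¹ • S).isPGroup' ⟨x, hx⟩
  refine hT x ?_ j (congrArg Subtype.val hj)
  rw [Sylow.coe_subgroup_smul, mem_pointwise_smul_iff_inv_smul_mem] at hx
  have h1 := hc hx
  rw [← cj_norm, mem_cj] at h1
  simpa [mul_assoc] using h1

theorem jobF1 : JobF1.{u} := by
  intro G _ _ p r A N h r2 hT
  obtain ⟨S, hS⟩ := syl h.lin r2 hT
  refine ⟨⟨S, hS⟩, fun t ht htA => ⟨?_, refl h.lin r2 hT ht⟩⟩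
  by_contra k
  have ho : Only A t := ⟨htA, fun g hg => by_contra fun e => k ⟨g, e, hg⟩⟩
  obtain ⟨m, -, hm⟩ := conj_into S hS (zpowers_le.2 htA) (p2 ht)
  have h1 := hm (conj_mem_cj (mem_zpowers t))
  have h2 : orderOf (m * t * m⁻¹) = 2 := ht ▸ (MulAut.conj m).orderOf_eq t
  have ho' := ho.conj (hS h1)
  obtain ⟨M, hM, odd, hc⟩ := Cfsg.Agent.S0215.result S _ h2 h1 fun g hg =>
    Only.eq h r2 hT h2 (h2 ▸ (MulAut.conj g).orderOf_eq _) ho' (ho'.conj (hS hg))
  haveI := h.norm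
  haveI := h.simple
  rcases (inferInstance : (M.subgroupOf N).Normal).eq_bot_or_eq_top with e | e
  · have h3 : M = ⊥ := by
      rw [eq_bot_iff, ← h.cen, ← commutator_eq_bot_iff_le_centralizer, eq_bot_iff]
      rw [subgroupOf_eq_bot] at e
      exact (commutator_le_inf M N).trans e.le_bot
    refine h.cen_ne_top (g := m * t * m⁻¹) (fun e => by rw [e, orderOf_one] at h2; omega)
      ((eq_top_iff' _).2 fun g => mem_centralizer_singleton_iff.2 ?_)
    have := hc g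
    rw [h3, mem_bot, mul_inv_eq_one, mul_inv_eq_iff_eq_mul] at this
    exact this.symm
  · haveI := Cfsg.Agent.S0205.result (G := N)
      (odd.of_dvd_nat (card_dvd_of_le (subgroupOf_eq_top.1 e)))
    exact h.nab ⟨⟨IsSimpleGroup.comm_iff_isSolvable.2 inferInstance⟩⟩

end H46.FSF1
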