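import Cfsg.Agent.H46.FSTR
import Cfsg.Agent.H2.MinNormal
import Cfsg.Agent.H49.ElemAbRep

/-! Tower FS, slot HolB: from the module lemma to normal `r`-subgroups. -/

set_option autoImplicit false
set_option linter.unusedSectionVars false

open H82.FS Subgroup H46.FSTR
open scoped commutatorElement Pointwise

namespace H46.FSHolB

universe u

variable {G : Type u} [Group G] [Finite G] {p r : ℕ} {A : Subgroup G}

theorem solv (hL : Lin p r A) : Group.IsSolvable A := by
  haveI := cyc hL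
  letI := IsCyclic.commGroup (α := A)
  infer_instance

theorem sp_comm (hL : Lin p r A) {W : Subgroup G} (hW : IsPGroup r W)
    (hA : A ≤ normalizer (W : Set G)) : Sp r A ⁅W, A⁆ :=
  ⟨hW.to_le (H1.commutator_le_of_le_normalizer hA), H1.le_normalizer_commutator_right W A,
    H1.commutator_commutator_eq hA (cop hL hW) (Or.inl (solv hL))⟩

theorem kl_le (hL : Lin p r A) (g : G) : kl A g ≤ ⁅kl A g, A⁆ := by
  obtain ⟨k, hk, e⟩ := exists_kl hL g
  obtain ⟨c, hc, n, hn, e'⟩ := H1.exists_centralizer_mul_commutator (A_norm A g)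
    (cop hL (hL.line g)) (Or.inl (solv hL)) (inv_mem hk)
  set R := ⁅kl A g, A⁆
  have hR : A ≤ normalizer (R : Set G) := H1.le_normalizer_commutator_right _ A
  have h1 : ln A g ≤ R ⊔ A := by
    refine sup_le le_sup_right fun x hx => ?_
    rw [e, mem_cj, e'] at hx
    have h2 : c⁻¹ * (c * n * x * k) * c = c * n * x * k := by
      rw [mul_assoc, hc.2 _ hx, inv_mul_cancel_left]
    have h3 : k = n⁻¹ * c⁻¹ := by rw [← inv_inv k, e', mul_inv_rev]
    have h4 : x = n⁻¹ * (c⁻¹ * (c * n * x * k) * c) * n := by rw [h3]; group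
    rw [h4, h2]
    exact mul_mem (mul_mem (mem_sup_left (inv_mem hn)) (mem_sup_right hx)) (mem_sup_left hn)
  refine (commutator_mono h1 h1).trans (commutator_le.2 fun x hx y hy => ?_)
  obtain ⟨m, hm, a, ha, rfl⟩ := mem_sup_norm hR hx
  obtain ⟨m', hm', a', ha', rfl⟩ := mem_sup_norm hR hy
  have h5 : ⁅m * a, m' * a'⁆ = m * (a * m' * a⁻¹) * (a' * m⁻¹ * a'⁻¹) * m'⁻¹ := by
    have : ⁅m * a, m' * a'⁆ = m * (a * m' * a⁻¹) * (a * a' * a⁻¹) * m⁻¹ * a'⁻¹ * m'⁻¹ := by
      rw [commutatorElement_def]; group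
    rw [this, comm hL ha ha']; group
  rw [h5]
  exact mul_mem (mul_mem (mul_mem hm (H1.conj_mem_of_le_normalizer hR ha hm'))
    (H1.conj_mem_of_le_normalizer hR ha' (inv_mem hm))) (inv_mem hm')

theorem key (hL : Lin p r A) (hC : ∀ R, Sp r A R → Cls r A R) {Q : Subgroup G} [Q.Normal]
    (hQ : IsPGroup r Q) {g k a b w : G} (hk : k ∈ kl A g) (ha : a ∈ A) (hb : b ∈ A) (hw : w ∈ Q) :
    b * (k * (a * w * a⁻¹ * w⁻¹) * k⁻¹ * (a * w * a⁻¹ * w⁻¹)⁻¹) * b⁻¹ =
      k * (a * w * a⁻¹ * w⁻¹) * k⁻¹ * (a * w * a⁻¹ * w⁻¹)⁻¹ := by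
  have h1 : Sp r A ⁅Q ⊔ kl A g, A⁆ := sp_comm hL (hQ.to_sup_of_normal_left (hL.line g))
    (H1.le_normalizer_sup le_normalizer_of_normal (A_norm A g))
  have h2 : k ∈ ⁅Q ⊔ kl A g, A⁆ := commutator_mono le_sup_right le_rfl (kl_le hL g hk)
  have h3 : ⁅a, w⁆ ∈ ⁅Q ⊔ kl A g, A⁆ := by
    rw [commutator_comm]
    exact commutator_mem_commutator ha (mem_sup_left hw)
  have h4 := commutator_mem_commutator h2 h3
  rw [(hC _ h1).1] at h4
  have h5 := h4.2 b hb
  rw [commutatorElement_def, commutatorElement_def] at h5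
  rw [h5, mul_inv_cancel_right]

/-- The commutator subgroup centralises a chief factor. -/
theorem chief (hA : JobHolA.{u}) (hL : Lin p r A) (hC : ∀ R, Sp r A R → Cls r A R)
    {Q M : Subgroup G} [Q.Normal] [M.Normal] (hQ : IsPGroup r Q) (hMQ : M ≤ Q)
    (hmin : ∀ K : Subgroup G, K.Normal → M ≤ K → K ≤ Q → K = M ∨ K = Q) {g : G}
    (hg : g ∈ commutator G) {w : G} (hw : w ∈ Q) : g * w * g⁻¹ * w⁻¹ ∈ M := by
  haveI := Fact.mk hL.hr
  let π := QuotientGroup.mk' M
  have hπ : Function.Surjective π := QuotientGroup.mk'_surjective M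
  haveI : (Q.map π).Normal := Normal.map inferInstance π hπ
  have hmin' : ∀ K : Subgroup (G ⧸ M), K.Normal → K ≤ Q.map π → K = ⊥ ∨ K = Q.map π := by
    intro K hK hle
    have h1 : M ≤ K.comap π := by
      conv_lhs => rw [← QuotientGroup.ker_mk' M]
      exact ker_le_comap _ _
    have h2 : K.comap π ≤ Q := by
      refine (comap_mono hle).trans ?_
      rw [comap_map_eq, QuotientGroup.ker_mk', sup_eq_left.2 hMQ]
    rw [← map_comap_eq_self_of_surjective hπ K]
    rcases hmin _ (hK.comap π) h1 h2 with h | h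
    · rw [h]; exact Or.inl ((Subgroup.map_eq_bot_iff _).2 (QuotientGroup.ker_mk' M).ge)
    · rw [h]; exact Or.inr rfl
  have h := H49.isEA_of_isElementaryAbelian
    (H2.isElementaryAbelian_of_minimal_normal (hQ.map π) hmin')
  let φ : G →* MulAut (Q.map π) := (MulAut.conjNormal (H := Q.map π)).comp π
  have hφ : ∀ (x : G) (y : Q.map π), ((φ x y : Q.map π) : G ⧸ M) = π x * y * (π x)⁻¹ :=
    fun _ _ => rfl
  have h1 := hA G p r A hL h.V (h.rep φ) (fun W hW => by
    have h2 : ((h.grp W).map (Q.map π).subtype).Normal := ⟨by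
      rintro _ ⟨y, hy, rfl⟩ x
      obtain ⟨x, rfl⟩ := hπ x
      exact ⟨φ x y, hW x _ hy, rfl⟩⟩
    rw [← h.sub_grp W]
    rcases hmin' _ h2 (map_subtype_le _) with e | e
    · rw [map_eq_bot_iff_of_injective _ (subtype_injective _)] at e
      exact Or.inl (by rw [e]; exact h.subOrderIso.map_bot)
    · have e' : h.grp W = ⊤ := map_injective (subtype_injective _)
        (by rw [e, ← MonoidHom.range_eq_map, range_subtype])
      exact Or.inr (by rw [e']; exact h.subOrderIso.map_top)) (fun g k hk a ha b hb v => by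
    obtain ⟨⟨_, w, hw, rfl⟩, rfl⟩ := h.of.surjective v
    simp only [sub_eq_add_neg, H49.IsEA.rep_of, ← H49.IsEA.of_inv, ← H49.IsEA.of_mul]
    refine congrArg h.of (Subtype.ext ?_)
    have := congrArg π (key hL hC hQ hk ha hb hw)
    simp only [hφ, map_mul, map_inv, coe_mul, coe_inv] at this ⊢
    calc _ = π b * (π k * (π a * π w * (π a)⁻¹ * (π w)⁻¹) * (π k)⁻¹ *
          (π a * π w * (π a)⁻¹ * (π w)⁻¹)⁻¹) * (π b)⁻¹ := by group
      _ = _ := by rw [this]; group) g hg
  have h2 := congrArg (fun f : MulAut (Q.map π) => ((f ⟨π w, w, hw, rfl⟩ : Q.map π) : G ⧸ M))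
    ((h.rep_eq_one_iff φ g).1 h1)
  rw [← QuotientGroup.ker_mk' M, MonoidHom.mem_ker, map_mul, map_mul, map_mul, map_inv, map_inv,
    mul_inv_eq_one]
  exact h2

theorem jobHolB : JobHolB.{u} := by
  intro hA G _ _ p r A hU _ hC Q
  induction Q using WellFoundedLT.induction with
  | _ Q ih =>
  intro hN hQ g hg hc
  by_cases h0 : Q = ⊥
  · subst h0
    intro w hw
    rw [mem_bot.1 hw, one_mul, mul_one]
  obtain ⟨M, hM, -, hlt, hmin⟩ := H2.exists_chief_factor_below (bot_lt_iff_ne_bot.2 h0)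
  have h1 := ih M hlt hM (hQ.to_le hlt.le) g hg hc
  intro w hw
  have h2 := chief hA hU.lin hC hQ hlt.le hmin hg hw
  set c := g * w * g⁻¹ * w⁻¹ with hc'
  have h3 : c * g = g * c := h1 c h2
  have h4 : ∀ n : ℕ, g ^ n * w = c ^ n * w * g ^ n := by
    intro n
    induction n with
    | zero => simp
    | succ n ih =>
      have h5 : g * c ^ n = c ^ n * g := ((show Commute c g from h3).pow_left n).eq.symm
      rw [pow_succ' g, mul_assoc, ih, ← mul_assoc, ← mul_assoc, h5, pow_succ c, hc']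
      group
  have h5 : c ^ orderOf g = 1 := by
    have := h4 (orderOf g)
    rw [pow_orderOf_eq_one, one_mul, mul_one] at this
    exact mul_right_cancel (b := w) (by rw [← this, one_mul])
  obtain ⟨j, hj⟩ := hQ ⟨c, hlt.le h2⟩
  have h6 : c ^ r ^ j = 1 := congrArg Subtype.val hj
  have h7 := pow_gcd_eq_one.2 ⟨h5, h6⟩
  rw [Nat.Coprime.gcd_eq_one (hc.pow_right j), pow_one, hc'] at h7
  rw [← mul_inv_eq_one, ← inv_eq_one, ← h7]
  group

end H46.FSHolB
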