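import Cfsg.Agent.H82.FSSpec2
import Cfsg.Agent.H86.Small

/-! Tower FS, slot K: a strongly embedded subgroup from the homes of involutions. -/

set_option autoImplicit false
set_option linter.unusedSectionVars false

open Cfsg H82.FS Subgroup
open scoped commutatorElement Pointwise

namespace H46.FSK

export H82.FS (cj cj_mul conj_mem_cj cj_eq_iff mem_cj cj_one cj_mono cj_cj cj_inv_cj cj_cj_inv
  card_cj cj_norm cj_sup cj_inf cj_cen cj_inj)

universe u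

variable {G : Type u} [Group G]

theorem fano0 {x1 x2 x3 x4 x5 x6 x7 y1 y2 y3 y4 y5 y6 y7 : Prop}
    (d1 : x1 → y1 → False) (d2 : x2 → y2 → False) (d3 : x3 → y3 → False) (d4 : x4 → y4 → False)
    (d5 : x5 → y5 → False) (d6 : x6 → y6 → False) (d7 : x7 → y7 → False)
    (a1 : x1 ∨ x2 ∨ x4) (a2 : x1 ∨ x3 ∨ x5) (a3 : x2 ∨ x3 ∨ x6) (a4 : x1 ∨ x6 ∨ x7)
    (a5 : x2 ∨ x5 ∨ x7) (a6 : x3 ∨ x4 ∨ x7) (a7 : x4 ∨ x5 ∨ x6)
    (b1 : y1 ∨ y2 ∨ y4) (b2 : y1 ∨ y3 ∨ y5) (b3 : y2 ∨ y3 ∨ y6) (b4 : y1 ∨ y6 ∨ y7)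
    (b5 : y2 ∨ y5 ∨ y7) (b6 : y3 ∨ y4 ∨ y7) (b7 : y4 ∨ y5 ∨ y6) : False := by
  by_cases h1 : x1 <;> by_cases h2 : x2 <;> by_cases h3 : x3 <;> by_cases h4 : x4 <;>
    by_cases h5 : x5 <;> by_cases h6 : x6 <;> by_cases h7 : x7 <;> simp_all

/-- Every line of involutions in `H` meets `P`. -/
def Bl (H : Subgroup G) (P : G → Prop) : Prop := ∀ t ∈ H, ∀ t' ∈ H, t * t = 1 → t' * t' = 1 →
  t ≠ 1 → t' ≠ 1 → t * t' ≠ 1 → Commute t t' → P t ∨ P t' ∨ P (t * t')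

theorem sq_mul {a b : G} (ha : a * a = 1) (hb : b * b = 1) (h : Commute a b) :
    a * b * (a * b) = 1 := by
  rw [mul_assoc, ← mul_assoc b, ← h.eq, mul_assoc, hb, mul_one, ha]

/-- The Fano plane is not `2`-colourable. -/
theorem fano {H : Subgroup G} {P Q : G → Prop}
    (hd : ∀ e ∈ H, e * e = 1 → e ≠ 1 → P e → Q e → False) (hP : Bl H P) (hQ : Bl H Q)
    {a b c : G} (ha : a ∈ H) (hb : b ∈ H) (hc : c ∈ H) (a2 : a * a = 1) (b2 : b * b = 1)
    (c2 : c * c = 1) (ab : Commute a b) (ac : Commute a c) (bc : Commute b c) (n1 : a ≠ 1)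
    (n2 : b ≠ 1) (n3 : c ≠ 1) (n4 : a * b ≠ 1) (n5 : a * c ≠ 1) (n6 : b * c ≠ 1)
    (n7 : a * (b * c) ≠ 1) : False := by
  have e5 : b * (a * c) = a * (b * c) := by rw [← mul_assoc, ← ab.eq, mul_assoc]
  have e6 : c * (a * b) = a * (b * c) := by rw [← mul_assoc, ← ac.eq, mul_assoc, ← bc.eq]
  have e7 : a * b * (a * c) = b * c := by rw [mul_assoc, e5, ← mul_assoc, a2, one_mul]
  have s4 := sq_mul a2 b2 ab
  have s5 := sq_mul a2 c2 ac
  have s6 := sq_mul b2 c2 bc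
  have s7 := sq_mul a2 s6 (ab.mul_right ac)
  have m4 := mul_mem ha hb
  have m5 := mul_mem ha hc
  have m6 := mul_mem hb hc
  have k : ∀ R, Bl H R → (R a ∨ R b ∨ R (a * b)) ∧ (R a ∨ R c ∨ R (a * c)) ∧
      (R b ∨ R c ∨ R (b * c)) ∧ (R a ∨ R (b * c) ∨ R (a * (b * c))) ∧
      (R b ∨ R (a * c) ∨ R (a * (b * c))) ∧ (R c ∨ R (a * b) ∨ R (a * (b * c))) ∧
      (R (a * b) ∨ R (a * c) ∨ R (b * c)) := fun R h =>
    ⟨h a ha b hb a2 b2 n1 n2 n4 ab, h a ha c hc a2 c2 n1 n3 n5 ac, h b hb c hc b2 c2 n2 n3 n6 bc,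
      h a ha _ m6 a2 s6 n1 n6 n7 (ab.mul_right ac),
      e5 ▸ h b hb _ m5 b2 s5 n2 n5 (e5 ▸ n7) (ab.symm.mul_right bc),
      e6 ▸ h c hc _ m4 c2 s4 n3 n4 (e6 ▸ n7) (ac.symm.mul_right bc.symm),
      e7 ▸ h _ m4 _ m5 s4 s5 n4 n5 (e7 ▸ n6)
        (((Commute.refl a).mul_right ac).mul_left (ab.symm.mul_right bc))⟩
  obtain ⟨p1, p2, p3, p4, p5, p6, p7⟩ := k P hP
  obtain ⟨q1, q2, q3, q4, q5, q6, q7⟩ := k Q hQ
  exact fano0 (hd _ ha a2 n1) (hd _ hb b2 n2) (hd _ hc c2 n3) (hd _ m4 s4 n4) (hd _ m5 s5 n5)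
    (hd _ m6 s6 n6) (hd _ (mul_mem ha m6) s7 n7) p1 p2 p3 p4 p5 p6 p7 q1 q2 q3 q4 q5 q6 q7

theorem ord2 {t : G} (h : t * t = 1) (h1 : t ≠ 1) : orderOf t = 2 :=
  orderOf_eq_prime (by rw [pow_two, h]) h1

theorem sq2 {t : G} (h : orderOf t = 2) : t * t = 1 := by
  rw [← pow_two, ← h, pow_orderOf_eq_one]

theorem le_cen {A : Subgroup G} {t : G} :
    A ≤ centralizer ({t} : Set G) ↔ t ∈ centralizer (A : Set G) :=
  ⟨fun h a ha => mem_centralizer_singleton_iff.1 (h ha),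
    fun h a ha => mem_centralizer_singleton_iff.2 (h a ha)⟩

theorem cj_cen1 (g t : G) :
    cj g (centralizer ({t} : Set G)) = centralizer ({g * t * g⁻¹} : Set G) := by
  ext x
  rw [mem_cj, mem_centralizer_singleton_iff, mem_centralizer_singleton_iff]
  constructor
  · intro h
    calc x * (g * t * g⁻¹) = g * (g⁻¹ * x * g * t) * g⁻¹ := by group
      _ = _ := by rw [h]; group
  · intro h
    calc g⁻¹ * x * g * t = g⁻¹ * (x * (g * t * g⁻¹)) * g := by group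
      _ = _ := by rw [h]; group

variable [Finite G] {p r : ℕ} {A N : Subgroup G}

/-- `X` is the home of `t`. -/
def Home (r : ℕ) (A : Subgroup G) (t : G) (X : Subgroup G) : Prop :=
  Blk r A X ∧ ∃ L, Fx r A t L ∧ L ≤ X

theorem ex_fx (h : Geo p r A N) {t : G} (h1 : t ≠ 1) (ht : t ∈ centralizer (A : Set G)) :
    ∃ L, Fx r A t L := by
  obtain ⟨R, a, b, c, -, d⟩ := h.R (h.cen_ne_top h1) (le_cen.2 ht)
  exact ⟨R, a, b, c, d⟩

theorem le_fx (h : Geo p r A N) {t : G} (ht : t ∈ centralizer (A : Set G)) {L M : Subgroup G}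
    (hL : Fx r A t L) (hM : Sp r A M) (hle : M ≤ centralizer ({t} : Set G)) : M ≤ L :=
  hM.le_loc h.lin hle (le_cen.2 ht) hL.1 hL.2.2.2

theorem ex_home (h : Geo p r A N) {t : G} (h1 : t ≠ 1) (ht : t ∈ centralizer (A : Set G)) :
    ∃ X, Home r A t X := by
  obtain ⟨L, hL⟩ := ex_fx h h1 ht
  obtain ⟨X, hX, hle⟩ := exists_blk hL.1
  exact ⟨X, hX, L, hL, hle⟩

theorem home_eq (h : Geo p r A N) (hU : TyU r A) {t : G} (h2 : orderOf t = 2)
    (ht : t ∈ centralizer (A : Set G)) {X Y : Subgroup G} (hX : Home r A t X) (hY : Home r A t Y) :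
    X = Y := by
  obtain ⟨a, L, b, c⟩ := hX
  obtain ⟨a', L', b', c'⟩ := hY
  exact hU t h2 ht L b X Y a a' c ((le_fx h ht b' b.1 b.2.1).trans c')

theorem fx_cj {t n : G} (hn : n ∈ normalizer (A : Set G)) {L : Subgroup G} (hL : Fx r A t L) :
    Fx r A (n * t * n⁻¹) (cj n L) := by
  refine ⟨hL.1.cjn hn, ?_, ?_, fun g hg => ?_⟩
  · rw [← cj_cen1]; exact cj_mono n hL.2.1
  · rw [← cj_cen1, ← cj_norm]; exact cj_mono n hL.2.2.1
  · obtain ⟨y, hy, e⟩ := hL.2.2.2 (n⁻¹ * g) (by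
      rw [cj_mul, ← cj_inv_cj n (centralizer _), cj_cen1]; exact cj_mono _ hg)
    refine ⟨_, conj_mem_cj hy, ?_⟩
    rw [cj_mul, cj_eq_iff.2 (inv_mem hn), cj_mul, ← e, cj_cj, mul_inv_cancel_left]

theorem fus (h : Geo p r A N) (hU : TyU r A) {w g : G} (h2 : orderOf w = 2)
    (hg : g * w * g⁻¹ ∈ centralizer (A : Set G)) {X : Subgroup G} (hX : Home r A w X)
    (hX' : Home r A (g * w * g⁻¹) X) : g ∈ normalizer (X : Set G) := by
  obtain ⟨a, L, b, c⟩ := hX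
  obtain ⟨l, hl, e⟩ := b.2.2.2 g⁻¹ (by
    rw [← cj_inv_cj g (centralizer _), cj_cen1]; exact cj_mono _ (le_cen.2 hg))
  have hn : g * l ∈ normalizer (A : Set G) := by rw [← cj_eq_iff, cj_mul, ← e, cj_cj_inv]
  have h3 : g * l * w * (g * l)⁻¹ = g * w * g⁻¹ := by
    rw [mul_assoc g, mem_centralizer_singleton_iff.1 (b.2.1 hl)]; group
  have h4 : Home r A (g * w * g⁻¹) (cj (g * l) X) :=
    ⟨a.cjn hn, _, h3 ▸ fx_cj hn b, cj_mono _ c⟩
  have h5 := cj_eq_iff.1 (home_eq h hU (by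
    rw [← h2]; exact ((MulAut.conj g).orderOf_eq w)) hg h4 hX')
  simpa using mul_mem h5 (inv_mem (le_normalizer (c hl)))

theorem cen_home (h : Geo p r A N) (hU : TyU r A) {w g : G} (h2 : orderOf w = 2)
    (hw : w ∈ centralizer (A : Set G)) (hg : Commute g w) {X : Subgroup G} (hX : Home r A w X) :
    g ∈ normalizer (X : Set G) := by
  have e : g * w * g⁻¹ = w := by rw [hg.eq, mul_inv_cancel_right]
  exact fus h hU h2 (e.symm ▸ hw) hX (e.symm ▸ hX)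

theorem bl (hKB : JobKB.{u}) (h : Geo p r A N) (r2 : r ≠ 2) (hB : BlkF r A) (hF : F1 A)
    (hU : TyU r A) {X H : Subgroup G} (hX : Blk r A X) (h1 : H ≤ centralizer (A : Set G))
    (h2 : H ≤ normalizer (X : Set G)) : Bl H (fun t => Home r A t X) := by
  intro t ht t' ht' s s' n n' n'' hc
  obtain ⟨L, hL⟩ := ex_fx h n (h1 ht)
  obtain ⟨L', hL'⟩ := ex_fx h n' (h1 ht')
  obtain ⟨L'', hL''⟩ := ex_fx h n'' (h1 (mul_mem ht ht'))
  by_cases k : L ≤ X
  · exact Or.inl ⟨hX, L, hL, k⟩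
  by_cases k' : L' ≤ X
  · exact Or.inr (Or.inl ⟨hX, L', hL', k'⟩)
  have h3 := hKB G p r A N h r2 hB hF hU X hX t t' L L' (ord2 s n) (ord2 s' n')
    (fun e => n'' (by rw [← e, s])) hc (h1 ht) (h1 ht') (h2 ht) (h2 ht') hL hL' k k'
  have h4 := le_fx h (h1 (mul_mem ht ht')) hL'' hX.1 (le_cen.2 h3)
  exact Or.inr (Or.inr ⟨hX, L'', hL'', (hX.2 _ hL''.1 h4).le⟩)

omit [Finite G] in
theorem path {S : Type u} [Group S] [Finite S] (hS : IsFourConnected S) {E : Subgroup S}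
    (hE : IsMulCommutative E) (hE2 : ∀ a ∈ E, a ^ 2 = 1) (hE8 : 2 ^ 3 ≤ Nat.card E) {w z : S}
    (w2 : w * w = 1) (z2 : z * z = 1) (hc : w * z = z * w) (w1 : w ≠ 1) (z1 : z ≠ 1) (wz : w ≠ z) :
    ∃ u, u * u = 1 ∧ w * u = u * w ∧ u ≠ 1 ∧ u ≠ w ∧ u ≠ z ∧ u ≠ w * z := by
  have hV := H86.isKleinFour_closure w2 z2 hc w1 z1 wz
  have hm := H86.mem_closure_four w2 z2 hc
  set V := closure ({w, z} : Set S)
  by_contra k
  have k1 : ∀ B : Subgroup S, IsKleinFour B → (∀ a ∈ V, ∀ b ∈ B, a * b = b * a) → B = V := by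
    intro B hB hcB
    refine eq_of_le_of_card_ge (fun u hu => ?_) (by rw [hB.card_four, hV.card_four])
    by_contra hu'
    rw [hm] at hu'
    push Not at hu'
    exact k ⟨u, congrArg Subtype.val (IsKleinFour.mul_self (⟨u, hu⟩ : B)),
      hcB w ((hm w).2 (by simp)) u hu, hu'⟩
  obtain ⟨e, he, heV⟩ : ∃ e ∈ E, e ∉ V := by
    by_contra k2
    push Not at k2
    have := card_le_of_le (show E ≤ V from k2)
    rw [hV.card_four] at this
    omega
  have e1 : e ≠ 1 := fun h => heV (h ▸ one_mem V)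
  have e2 : e * e = 1 := by rw [← pow_two, hE2 e he]
  obtain ⟨f, hf, hfe⟩ : ∃ f ∈ E, f ∉ zpowers e := by
    by_contra k2
    push Not at k2
    have := card_le_of_le (show E ≤ zpowers e from k2)
    rw [Nat.card_zpowers, ord2 e2 e1] at this
    omega
  have hU := H86.isKleinFour_closure (a := e) (b := f) e2 (by rw [← pow_two, hE2 f hf])
    (congrArg Subtype.val (hE.is_comm.comm (⟨e, he⟩ : E) ⟨f, hf⟩)) e1
    (fun h => hfe (h ▸ one_mem _)) (fun h => hfe (h ▸ mem_zpowers _))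
  have k3 : ∀ U, Relation.ReflTransGen (fun A B : Subgroup S => IsKleinFour A ∧ IsKleinFour B ∧
      ∀ a ∈ A, ∀ b ∈ B, a * b = b * a) V U → U = V := by
    intro U hU
    induction hU with
    | refl => rfl
    | tail _ h ih => exact k1 _ h.2.1 (ih ▸ h.2.2)
  exact heV (k3 _ (hS V _ hV hU) ▸ subset_closure (by simp))

theorem conj_into (S : Sylow 2 G) {H Q : Subgroup G} (hS : (S : Subgroup G) ≤ H) (hQ : Q ≤ H)
    (h2 : IsPGroup 2 Q) : ∃ m ∈ H, cj m Q ≤ S := by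
  obtain ⟨T, hT⟩ := (h2.comap_subtype (K := H)).exists_le_sylow
  obtain ⟨m, hm⟩ := MulAction.exists_smul_eq H T (S.subtype hS)
  refine ⟨m, m.2, ?_⟩
  rintro _ ⟨x, hx, rfl⟩
  have h3 : MulAut.conj m • (⟨x, hQ hx⟩ : H) ∈ (S.subtype hS : Subgroup H) := by
    rw [← hm, Sylow.coe_subgroup_smul]
    exact smul_mem_pointwise_smul _ _ _ (hT hx)
  exact h3

theorem jobK : JobK.{u} := by
  intro hKB G _ _ p r A N h r2 hB hF hU S hS ⟨E, hE, hE2, hE8⟩ h4
  have pE : IsPGroup 2 E := fun x => ⟨1, Subtype.ext (by simpa using hE2 x x.2)⟩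
  obtain ⟨m, -, hm⟩ := conj_into S (H := ⊤) le_top le_top pE
  have hc : Nat.card ((cj m E).subgroupOf S) = Nat.card E := by
    rw [Nat.card_congr (subgroupOfEquivOfLe hm).toEquiv, card_cj]
  haveI : Nontrivial (S : Subgroup G) := Finite.one_lt_card_iff_nontrivial.1
    (lt_of_lt_of_le (by omega) (hc ▸ card_le_card_group ((cj m E).subgroupOf S)))
  haveI := S.isPGroup'.center_nontrivial
  obtain ⟨⟨z, hz⟩, z2⟩ := exists_prime_orderOf_dvd_card' (G := center (S : Subgroup G)) 2 (by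
    obtain ⟨n, hn, e⟩ := (S.isPGroup'.to_subgroup (center _)).nontrivial_iff_card.1 inferInstance
    rw [e]; exact dvd_pow_self 2 hn.ne')
  rw [← orderOf_coe, ← orderOf_coe] at z2
  have z2 : orderOf (z : G) = 2 := z2
  have zs : z * z = 1 := Subtype.ext (sq2 z2)
  have z1 : (z : G) ≠ 1 := fun e => by rw [e, orderOf_one] at z2; omega
  have zc : ∀ s ∈ (S : Subgroup G), Commute s z := fun s hs =>
    congrArg Subtype.val (mem_center_iff.1 hz ⟨s, hs⟩)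
  obtain ⟨X, hX⟩ := ex_home h z1 (hS z.2)
  have hSX : (S : Subgroup G) ≤ normalizer (X : Set G) := fun s hs =>
    cen_home h hU z2 (hS z.2) (zc s hs) hX
  have key : ∀ w ∈ (S : Subgroup G), w * w = 1 → w ≠ 1 → Home r A w X := by
    intro w hw w2 w1
    obtain ⟨Y, hY⟩ := ex_home h w1 (hS hw)
    by_contra k
    have hXY : X ≠ Y := fun e => k (e ▸ hY)
    have wz : w ≠ z := fun e => k (e ▸ hX)
    obtain ⟨u, u2, wu, u1, uw, uz, uwz⟩ := path h4 (E := (cj m E).subgroupOf S) inferInstance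
      (fun a ha => Subtype.ext (by
        obtain ⟨b, hb, e⟩ := mem_subgroupOf.1 ha
        rw [coe_pow, ← e, ← map_pow, hE2 b hb, map_one]; rfl)) (hc ▸ hE8) (w := ⟨w, hw⟩) (z := z)
      (Subtype.ext w2) zs (Subtype.ext (zc w hw)) (fun e => w1 (congrArg Subtype.val e))
      (fun e => z1 (congrArg Subtype.val e)) (fun e => wz (congrArg Subtype.val e))
    have wu' : Commute w u := congrArg Subtype.val wu
    have u2' : (u : G) * u = 1 := congrArg Subtype.val u2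
    have zs' : (z : G) * z = 1 := congrArg Subtype.val zs
    have hH : (S : Subgroup G) ⊓ centralizer ({w} : Set G) ≤ centralizer (A : Set G) :=
      inf_le_left.trans hS
    have inv : ∀ a b : G, a * a = 1 → a * b = 1 → b = a := fun a b h1 h2 =>
      mul_left_cancel (h2.trans h1.symm)
    refine fano (H := (S : Subgroup G) ⊓ centralizer ({w} : Set G))
      (fun e he e2 e1 a b => hXY (home_eq h hU (ord2 e2 e1) (hH he) a b))
      (bl hKB h r2 hB hF hU hX.1 hH (inf_le_left.trans hSX))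
      (bl hKB h r2 hB hF hU hY.1 hH fun g hg => cen_home h hU (ord2 w2 w1) (hS hw)
        (mem_centralizer_singleton_iff.1 hg.2) hY) (a := w) (b := z) (c := u)
      ⟨hw, mem_centralizer_singleton_iff.2 rfl⟩ ⟨z.2, mem_centralizer_singleton_iff.2 (zc w hw).symm⟩
      ⟨u.2, mem_centralizer_singleton_iff.2 wu'.symm⟩ w2 zs' u2' (zc w hw) wu' (zc u u.2).symm w1 z1
      (fun e => u1 (Subtype.ext e)) (fun e => wz (inv _ _ w2 e).symm)
      (fun e => uw (Subtype.ext (inv _ _ w2 e))) (fun e => uz (Subtype.ext (inv _ _ zs' e)))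
      fun e => uwz (Subtype.ext (inv (w * z) u (sq_mul w2 zs' (zc w hw)) (by rwa [mul_assoc])))
  refine ⟨normalizer (X : Set G), h.norm_ne_top hX.1.1.1 fun e => ?_, ?_, fun g hg => ?_⟩
  · obtain ⟨g, g1, g2⟩ := (hF z z2 (hS z.2)).1
    obtain ⟨-, L, hL, hle⟩ := hX
    obtain ⟨y, hy, e'⟩ := hL.2.2.2 g g2
    rw [e', show y = 1 from mem_bot.1 (e ▸ hle hy), cj_one] at g1
    exact g1 rfl
  · exact even_iff_two_dvd.2 (z2 ▸ orderOf_dvd_natCard _ (hSX z.2))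
  · rw [← Nat.not_even_iff_odd, even_iff_two_dvd]
    intro hd
    obtain ⟨⟨t, ht, ht'⟩, t2⟩ := exists_prime_orderOf_dvd_card' 2 hd
    rw [← orderOf_coe] at t2
    have t2 : orderOf t = 2 := t2
    have ht'' := mem_cj.1 ht'
    have k : ∀ v ∈ normalizer (X : Set G), orderOf v = 2 → ∃ a ∈ normalizer (X : Set G),
        a * v * a⁻¹ ∈ (S : Subgroup G) ∧ Home r A (a * v * a⁻¹) X := by
      intro v hv v2
      obtain ⟨a, ha, e⟩ := conj_into S hSX (zpowers_le.2 hv)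
        (IsPGroup.of_card (n := 1) (by rw [Nat.card_zpowers, v2, pow_one]))
      have h5 := e (conj_mem_cj (mem_zpowers v))
      have h6 : orderOf (a * v * a⁻¹) = 2 := v2 ▸ (MulAut.conj a).orderOf_eq v
      exact ⟨a, ha, h5, key _ h5 (sq2 h6)
        fun e => by rw [e, orderOf_one] at h6; omega⟩
    obtain ⟨a, ha, a1, a2⟩ := k t ht t2
    obtain ⟨b, hb, b1, b2⟩ := k _ ht'' (by
      rw [← t2]; simpa using (MulAut.conj g⁻¹).orderOf_eq t)
    have e : b * g⁻¹ * a⁻¹ * (a * t * a⁻¹) * (b * g⁻¹ * a⁻¹)⁻¹ = b * (g⁻¹ * t * g) * b⁻¹ := by group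
    have h7 := fus h hU (g := b * g⁻¹ * a⁻¹) (t2 ▸ (MulAut.conj a).orderOf_eq t) (e ▸ hS b1) a2
      (e ▸ b2)
    refine hg ?_
    simpa [mul_assoc] using inv_mem (mul_mem (mul_mem (inv_mem hb) h7) ha)

end H46.FSK
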