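import Cfsg.Agent.H53.KUSpec

/-! Tower KU (S2196), job Rb: `K ∩ Q_x ≤ Z_x`. -/

set_option autoImplicit false

open Cfsg H59 H53.WU H53.KU H26.MU Module

namespace H46.KURb

theorem ti_of {S : KS} {x f : S.V} (hx : S.Iso x) (H : IsHyp S.B x f) {y : hypPerp S.B x f}
    (hy0 : y ≠ 0) (hy : S.B y y = 0) : S.TI x y := by
  refine ⟨hx, hy, IsHyp.ew y, fun c hc => hy0 (Subtype.ext ?_)⟩
  have h := IsHyp.fw y
  rw [hc, form_smul_right, H.fe, mul_one] at h
  rw [hc, h, zero_smul]; rfl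

theorem app {S : KS} {x f : S.V} (H : IsHyp S.B x f) {g : S.V ≃ₗ[S.F] S.V}
    (hg : g ∈ unipRad S.B x) {v : S.V} (hv : S.B x v = 0) :
    g v = v + S.B (H.cu g) v • x := by
  rw [H.apply_eq hg, hv]; simp

theorem jobRb : JobCW → JobRb := by
  intro cw S nf g1 ra x hx g0 hg0K hg0 v hv
  obtain ⟨f, H⟩ := hx.exists_hyp
  set M := S.K.map S.G.subtype with hM
  set Y := Yof H M with hY
  have hW := S.h.isHerm_hypForm H.ee H.ef
  have hdim : 4 ≤ finrank S.F (hypPerp S.B x f) := by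
    have h1 := S.h.finrank_hypPerp H.ee H.ef
    have h2 := S.hr
    simp only [HS.n] at h2
    omega
  have aniso : ∀ u ∈ Y, u ≠ 0 → S.B u u ≠ 0 := by
    rintro _ ⟨_, ⟨g, hgK, rfl⟩, hg, rfl⟩ hu0 hu
    replace hg : g.1 ∈ unipRad S.B x := hg
    have hu0' : H.cu g.1 ≠ 0 := hu0
    have hu' : S.B (H.cu g.1) (H.cu g.1) = 0 := hu
    have hti := ti_of hx H hu0' hu'
    obtain ⟨z, hz⟩ := ra x _ hti g hgK fun w h1 h2 => by rw [app H hg h1, h2]; simp
    obtain ⟨w, hw, -⟩ := hW.exists_ne_zero_ne_zero hu0' hu0'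
    replace hw : S.B (H.cu g.1) w ≠ 0 := hw
    obtain ⟨s1, h1⟩ := hz f
    obtain ⟨s2, h2⟩ := hz w
    rw [H.apply_f hg] at h1
    rw [app H hg (IsHyp.ew w), add_right_inj] at h2
    have hs2 : s2 ≠ 0 := by
      rintro rfl
      rw [zero_smul, smul_eq_zero] at h2
      exact h2.elim hw hx.1
    refine hti.2.2.2 (-(H.ca g.1) - s1 * s2⁻¹ * S.B (H.cu g.1) w) ?_
    have h3 : z = (s2⁻¹ * S.B (H.cu g.1) w) • x := by
      rw [mul_smul, h2, smul_smul, inv_mul_cancel₀ hs2, one_smul]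
    rw [h3] at h1
    linear_combination (norm := module) -h1
  have hcard : Nat.card Y ≤ Nat.card S.F := by
    rw [Nat.card_eq_fintype_card (α := S.F), S.hF]
    by_contra hn
    obtain ⟨_, ⟨u, hu, rfl⟩, h1, h2⟩ := cw S.toHS (Y.map (hypPerp S.B x f).subtype.toAddMonoidHom) (by
      rw [AddSubgroup.card_map_of_injective (Subtype.val_injective)]
      exact not_le.1 hn)
    exact aniso u hu (fun e => h1 (congrArg Subtype.val e)) h2
  -- the maps `τ_y`
  have bij : ∀ y : hypPerp S.B x f, S.B y y = 0 → (∃ u ∈ Y, S.B u y ≠ 0) →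
      Function.Bijective fun u : Y => S.B u.1 y := by
    rintro y hy ⟨u, hu, huy⟩
    have hy0 : y ≠ 0 := by rintro rfl; simp at huy
    obtain ⟨h, hK, a, b, c, hx', hy', hG⟩ := g1 x y (ti_of hx H hy0 hy)
    let I : AddSubgroup S.F :=
      { carrier := {d | ∃ u ∈ Y, S.B u y = d}
        zero_mem' := ⟨0, Y.zero_mem, by simp⟩
        add_mem' := by
          rintro _ _ ⟨u, hu, rfl⟩ ⟨u', hu', rfl⟩
          exact ⟨u + u', Y.add_mem hu hu', by simp⟩
        neg_mem' := by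
          rintro _ ⟨u, hu, rfl⟩
          exact ⟨-u, Y.neg_mem hu, by simp⟩ }
    have hI : I = ⊤ := by
      refine (hG I ?_).resolve_left fun e => huy (AddSubgroup.mem_bot.1 (e ▸ ⟨u, hu, rfl⟩))
      rintro _ ⟨_, ⟨_, ⟨g, hgK, rfl⟩, hg, rfl⟩, rfl⟩
      replace hg : g.1 ∈ unipRad S.B x := hg
      have hg' : h.1 * g.1 * h.1⁻¹ ∈ unipRad S.B x :=
        IsHyp.conj_mem_unipRad_of_smul h.2.1 a.ne_zero hx' hg
      refine ⟨_, ⟨_, ⟨h * g * h⁻¹, S.K.mul_mem (S.K.mul_mem hK hgK) (S.K.inv_mem hK), rfl⟩, hg', rfl⟩, ?_⟩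
      have e1 : (h.1 * g.1 * h.1⁻¹) (h.1 y) = h.1 (g.1 y) := by
        simp [LinearEquiv.coe_inv]
      rw [app H hg (IsHyp.ew y), map_add, map_smul, hx', hy', map_add, map_smul, map_smul, hg'.2.1,
        app H hg' (IsHyp.ew y)] at e1
      have e2 := congrArg (S.B f) e1
      simp only [map_add, map_smul, smul_eq_mul, H.fe, IsHyp.fw, mul_one] at e2
      show S.B (H.cu (h.1 * g.1 * h.1⁻¹)) y = ((a / b : S.Fˣ) : S.F) * S.B (H.cu g.1) y
      rw [Units.val_div_eq_div_val, div_mul_eq_mul_div, eq_div_iff b.ne_zero]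
      linear_combination e2
    refine Function.Surjective.bijective_of_nat_card_le (fun d => ?_) hcard
    obtain ⟨u, hu, e⟩ : d ∈ I := hI ▸ AddSubgroup.mem_top d
    exact ⟨⟨u, hu⟩, e⟩
  replace hg0 : g0.1 ∈ unipRad S.B x := hg0
  rw [app H hg0 hv]
  suffices h : H.cu g0.1 = 0 by rw [h]; simp
  by_contra hu0
  set u0 := H.cu g0.1 with hu0'
  have hu0Y : u0 ∈ Y := ⟨_, ⟨g0, hg0K, rfl⟩, hg0, rfl⟩
  have hN := aniso u0 hu0Y hu0
  have line : ∀ u ∈ Y, ∃ c : S.F, u = c • u0 := by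
    intro u hu
    refine ⟨S.B u0 u / S.B u0 u0, ?_⟩
    by_contra hne
    have hd := hW.disjoint_perp_perp (hW.disjoint_span_singleton (v := u0) hN)
    have hz : u - (S.B u0 u / S.B u0 u0) • u0 ∈
        perp (hypForm S.B x f) (Submodule.span S.F {u0}) := by
      rw [mem_perp_singleton]
      show S.B u0 (u - (S.B u0 u / S.B u0 u0) • (u0 : S.V)) = 0
      rw [map_sub, form_smul_right, div_mul_cancel₀ _ hN, sub_self]
    obtain ⟨y, hy1, hy2⟩ := exists_iso_ne_zero (hW.restrict hd) (by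
      have h1 := hW.finrank_add_finrank_perp (Submodule.span S.F {u0})
      rw [finrank_span_singleton hu0] at h1
      omega) (y := ⟨_, hz⟩) fun e => hne (sub_eq_zero.1 (congrArg Subtype.val e))
    have hy3 : S.B u0 y.1 = 0 := (mem_perp_singleton (B := hypForm S.B x f)).1 y.2
    replace hy2 : S.B y.1 (u - (S.B u0 u / S.B u0 u0) • (u0 : S.V)) ≠ 0 := hy2
    rw [map_sub, form_smul_right, S.h.eq_zero_comm.1 hy3, mul_zero, sub_zero] at hy2
    have hb := bij y.1 hy1 ⟨u, hu, fun e => hy2 (S.h.eq_zero_comm.1 e)⟩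
    exact hu0 (congrArg Subtype.val (hb.1 (a₁ := ⟨u0, hu0Y⟩) (a₂ := 0) (by simpa using hy3)))
  have full : ∀ c : S.F, c • u0 ∈ Y := by
    intro c
    obtain ⟨y, hy1, hy2⟩ := exists_iso_ne_zero hW (by omega) hu0
    have hy3 : S.B u0 y ≠ 0 := fun e => hy2 (S.h.eq_zero_comm.1 e)
    obtain ⟨⟨u, hu⟩, e⟩ := (bij y hy1 ⟨u0, hu0Y, hy3⟩).2 (frob S.hF c * S.B u0 y)
    obtain ⟨c', rfl⟩ := line u hu
    replace e : S.B (c' • (u0 : S.V)) y = frob S.hF c * S.B u0 y := e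
    rw [form_smul_left] at e
    rwa [← (frob S.hF).injective (mul_right_cancel₀ hy3 e)]
  have hax : axisGrp S.B x ≤ M := axis_le_of_Rof H fun c hc => by
    obtain ⟨s, hs⟩ := exists_sub_eq_of_trace_zero S.h.ne_id S.h.invol hc
    have := sub_mem_Rof H hu0Y (full (s / S.B u0 u0))
    rw [Submodule.coe_smul, form_smul_right, form_smul_left, div_mul_cancel₀ _ hN, map_div₀,
      S.h.self_fixed, div_mul_cancel₀ _ hN, hs] at this
    exact this
  refine nf x ⟨hx, fun t ht => ?_⟩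
  obtain ⟨k, hk, e⟩ := hax ht
  exact Subtype.ext e ▸ hk

end H46.KURb
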