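import Cfsg.Agent.H53.KUSpec

/-! Tower KU (S2196), job Rc1: the commutator step. -/

set_option autoImplicit false

open Cfsg H59 H53.WU H53.KU Module

namespace H46.KURc1

variable {S : HS} {m : ℕ}

/-- the eigenvectors of the diagonal elements -/
def vec (Φ : Fr S m) (i : Fin m) (s : Bool) : S.V := if s then Φ.f i else Φ.e i

theorem dg_vec {Φ : Fr S m} {t : S.G} {a : Fin m → S.Fˣ} (h : Φ.Dg t a) (i : Fin m) (s : Bool) :
    t.1 (vec Φ i s) = ((eig S.q a i s : S.Fˣ) : S.F) • vec Φ i s := by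
  cases s
  · exact h.1 i
  · exact h.2.1 i

theorem unit_pow (x : S.Fˣ) : (x ^ S.q) ^ S.q = x :=
  Units.ext (by simpa using pow_q_pow_q S.hF (x : S.F))

theorem frob_unit (x : S.Fˣ) : frob S.hF (x : S.F) = ((x ^ S.q : S.Fˣ) : S.F) := by
  rw [frob_apply, Units.val_pow_eq_pow_val]

theorem eig_dual (a : Fin m → S.Fˣ) (j : Fin m) (s : Bool) :
    frob S.hF ((eig S.q a j s : S.Fˣ) : S.F) * ((eig S.q a j (!s) : S.Fˣ) : S.F) = 1 := by
  rw [frob_unit, ← Units.val_mul, Units.val_eq_one]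
  cases s
  · simp [eig]
  · simp [eig, unit_pow]

theorem norm_one (x : S.Fˣ) : (x ^ (S.q - 1)) ^ S.q * x ^ (S.q - 1) = 1 := by
  have h := S.two_le_q
  have h1 : x ^ (S.q - 1) * x = x ^ S.q := by rw [← pow_succ]; congr 1; omega
  have h2 : (x ^ (S.q - 1)) ^ S.q * x ^ S.q = x := by rw [← mul_pow, h1, unit_pow]
  have h3 : (x ^ (S.q - 1)) ^ S.q * x ^ (S.q - 1) * x = 1 * x := by rw [mul_assoc, h1, h2, one_mul]
  exact mul_right_cancel h3

theorem norm_one' (x : S.Fˣ) :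
    frob S.hF ((x ^ (S.q - 1) : S.Fˣ) : S.F) * ((x ^ (S.q - 1) : S.Fˣ) : S.F) = 1 := by
  rw [frob_unit, ← Units.val_mul, norm_one, Units.val_one]

theorem form_eig {t : S.G} {p : S.V} {μ μ' : S.F} (hp : t.1 p = μ • p) (hμ : frob S.hF μ * μ' = 1)
    (y : S.V) : S.B p (t.1 y) = μ' * S.B p y := by
  have h := t.2.1 p y
  rw [hp, form_smul_left] at h
  rw [← h]
  linear_combination (-S.B p (t.1 y)) * hμ

theorem van {t g : S.G} (hc : g * t = t * g) {p v : S.V} {μ μ' l : S.F} (hp : t.1 p = μ • p)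
    (hμ : frob S.hF μ * μ' = 1) (hv : t.1 v = l • v) (hne : l ≠ μ') : S.B p (g.1 v) = 0 := by
  have h1 := form_eig hp hμ (g.1 v)
  have h2 : t.1 (g.1 v) = g.1 (t.1 v) := (congrArg (fun k : S.G => k.1 v) hc).symm
  rw [h2, hv, map_smul, form_smul_right] at h1
  exact (mul_eq_zero.1 (by linear_combination h1 : (l - μ') * S.B p (g.1 v) = 0)).resolve_left
    (sub_ne_zero.2 hne)

theorem pow_eig {t : S.G} {v : S.V} {l : S.F} (h : t.1 v = l • v) (k : ℕ) :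
    (t ^ k).1 v = l ^ k • v := by
  induction k with
  | zero => simp
  | succ k ih =>
    rw [pow_succ, Subgroup.coe_mul, LinearEquiv.mul_apply, h, map_smul, ih, smul_smul, pow_succ']

theorem dec (Φ : Fr S m) (y : S.V) :
    Φ.Pp (y - ∑ i, S.B (Φ.f i) y • Φ.e i - ∑ i, S.B (Φ.e i) y • Φ.f i) := by
  constructor
  · intro j
    simp [map_sum, Φ.ee, Φ.ef]
  · intro j
    simp [map_sum, Φ.ff, Φ.fe]

theorem jobRc1 : JobPp → JobRc1 := by
  intro pp S Φ rb sep hD g hgK hg hc hne a ha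
  have pp' := pp S.toHS _ Φ S.hr
  obtain ⟨h, hK, hh⟩ := hD a ha
  set k := h ^ (S.q - 1) with hk
  have hkK : k ∈ S.K := S.K.pow_mem hK _
  have g0 : g.1 (Φ.e 0) = Φ.e 0 := by
    have := hg 0
    rw [show Φ.W (0 : Fin (S.r + 3)).1 = ⊥ by simp [Fr.W], Submodule.mem_bot, sub_eq_zero] at this
    simpa using this
  have kv : ∀ i s, k.1 (vec Φ i s) = ((a i ^ (S.q - 1) : S.Fˣ) : S.F) • vec Φ i s := by
    intro i s
    rw [hk, pow_eig (dg_vec hh i s), ← Units.val_pow_eq_pow_val]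
    congr 2
    cases s
    · rfl
    · show ((a i ^ S.q)⁻¹) ^ (S.q - 1) = _
      rw [inv_pow, ← pow_mul, mul_comm, pow_mul]
      exact inv_eq_of_mul_eq_one_right (norm_one _)
  have kw : ∀ w, Φ.Pp w →
      k.1 w = ((((∏ i, a i) ^ (S.q - 1)) ^ (S.q - 1) : S.Fˣ) : S.F) • w := fun w hw => by
    rw [hk, pow_eig (hh.2.2 w hw), ← Units.val_pow_eq_pow_val]
  have v1 : ∀ i j s s', i ≠ 0 → j ≠ 0 → i ≠ j → S.B (vec Φ j s') (g.1 (vec Φ i s)) = 0 := by
    intro i j s s' hi hj hij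
    obtain ⟨d, hd, h01, hd'⟩ := sep.1 i j s (!s') hi hj hij
    obtain ⟨t, htK, ht⟩ := hD d hd
    exact van (hc t htK d ht h01) (dg_vec ht j s') (eig_dual d j s') (dg_vec ht i s)
      fun e => hd' (Units.ext e)
  have v2 : ∀ i s w, i ≠ 0 → Φ.Pp w → S.B w (g.1 (vec Φ i s)) = 0 := by
    intro i s w hi hw
    by_cases h0 : w = 0
    · simp [h0]
    obtain ⟨d, hd, h01, hd'⟩ := sep.2 (pp' w hw h0).1 i s hi
    obtain ⟨t, htK, ht⟩ := hD d hd
    exact van (hc t htK d ht h01) (ht.2.2 w hw) (norm_one' _) (dg_vec ht i s)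
      fun e => hd' (Units.ext e)
  have v3 : ∀ j s w, j ≠ 0 → Φ.Pp w → S.B (vec Φ j s) (g.1 w) = 0 := by
    intro j s w hj hw
    by_cases h0 : w = 0
    · simp [h0]
    obtain ⟨d, hd, h01, hd'⟩ := sep.2 (pp' w hw h0).1 j (!s) hj
    obtain ⟨t, htK, ht⟩ := hD d hd
    exact van (hc t htK d ht h01) (dg_vec ht j s) (eig_dual d j s) (ht.2.2 w hw)
      fun e => hd' (Units.ext e.symm)
  have e0g : ∀ v, S.B (Φ.e 0) (g.1 v) = S.B (Φ.e 0) v := fun v => by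
    conv_lhs => rw [← g0]
    exact g.2.1 _ _
  -- the criterion for lying in `F x`
  have crit : ∀ y, S.B (Φ.e 0) y = 0 → (∀ j s, j ≠ 0 → S.B (vec Φ j s) y = 0) →
      (∀ w, Φ.Pp w → S.B w y = 0) → y ∈ Submodule.span S.F {Φ.e 0} := by
    intro y h0 h1 h2
    have hw : Φ.Pp (y - S.B (Φ.f 0) y • Φ.e 0) := by
      constructor
      · intro j
        by_cases hj : j = 0
        · simp [hj, h0, Φ.ee]
        · have : S.B (Φ.e j) y = 0 := h1 j false hj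
          simp [this, Φ.ee]
      · intro j
        by_cases hj : j = 0
        · simp [hj, Φ.fe]
        · have : S.B (Φ.f j) y = 0 := h1 j true hj
          simp [this, Φ.fe, hj]
    by_cases hz : y - S.B (Φ.f 0) y • Φ.e 0 = 0
    · rw [sub_eq_zero.1 hz]
      exact Submodule.smul_mem _ _ (Submodule.mem_span_singleton_self _)
    · refine absurd ?_ (pp' _ hw hz).2.1
      rw [map_sub (S.B _), h2 _ hw, form_smul_right, S.h.eq_zero_comm.1 (hw.1 0)]
      simp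
  have tst : ∀ (p v : S.V) (μ l : S.Fˣ), k.1 p = ((μ ^ (S.q - 1) : S.Fˣ) : S.F) • p →
      k.1 v = ((l ^ (S.q - 1) : S.Fˣ) : S.F) • v → (μ = l ∨ S.B p (g.1 v) = 0) →
      S.B p (k.1 (g.1 v) - g.1 (k.1 v)) = 0 := by
    intro p v μ l hp hv h
    rw [map_sub, form_eig hp (norm_one' μ), hv, map_smul, form_smul_right]
    rcases h with h | h
    · rw [h, sub_self]
    · rw [h, mul_zero, mul_zero, sub_self]
  let X : Submodule S.F S.V := (Submodule.span S.F {Φ.e 0}).comap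
    ((k.1.toLinearMap.comp g.1.toLinearMap) - (g.1.toLinearMap.comp k.1.toLinearMap))
  have mX : ∀ y, y ∈ X ↔ k.1 (g.1 y) - g.1 (k.1 y) ∈ Submodule.span S.F {Φ.e 0} := fun y => Iff.rfl
  have k0 : k.1 (Φ.e 0) = ((a 0 ^ (S.q - 1) : S.Fˣ) : S.F) • Φ.e 0 := kv 0 false
  have X0 : Φ.e 0 ∈ X := by
    rw [mX, g0, k0, map_smul, g0, sub_self]
    exact Submodule.zero_mem _
  have Xv : ∀ i s, i ≠ 0 → vec Φ i s ∈ X := by
    intro i s hi
    refine (mX _).2 (crit _ (tst _ _ _ _ k0 (kv i s) (Or.inr ?_)) (fun j s' hj => ?_) fun w hw => ?_)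
    · rw [e0g]
      cases s
      · exact Φ.ee 0 i
      · exact (Φ.ef 0 i).trans (if_neg hi.symm)
    · refine tst _ _ _ _ (kv j s') (kv i s) ?_
      by_cases hij : i = j
      · exact Or.inl (by rw [hij])
      · exact Or.inr (v1 i j s s' hi hj hij)
    · exact tst _ _ _ _ (kw w hw) (kv i s) (Or.inr (v2 i s w hi hw))
  have Xw : ∀ w, Φ.Pp w → w ∈ X := by
    intro w hw
    refine (mX _).2 (crit _ (tst _ _ _ _ k0 (kw w hw) (Or.inr ?_)) (fun j s' hj => ?_)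
      fun w' hw' => ?_)
    · rw [e0g]; exact hw.1 0
    · exact tst _ _ _ _ (kv j s') (kw w hw) (Or.inr (v3 j s' w hj hw))
    · exact tst _ _ _ _ (kw w' hw') (kw w hw) (Or.inl rfl)
  have Xall : ∀ y, S.B (Φ.e 0) y = 0 → y ∈ X := by
    intro y hy
    have h1 : ∑ i, S.B (Φ.f i) y • Φ.e i ∈ X := X.sum_mem fun i _ => X.smul_mem _ (by
      by_cases hi : i = 0
      · rw [hi]; exact X0
      · exact Xv i false hi)
    have h2 : ∑ i, S.B (Φ.e i) y • Φ.f i ∈ X := X.sum_mem fun i _ => by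
      by_cases hi : i = 0
      · rw [hi, hy, zero_smul]; exact X.zero_mem
      · exact X.smul_mem _ (Xv i true hi)
    have := X.add_mem (X.add_mem (Xw _ (dec Φ y)) h2) h1
    simpa using this
  have hiso : S.Iso (Φ.e 0) := ⟨fun e => by simpa [e] using Φ.ef 0 0, Φ.ee 0 0⟩
  have gk0 : (g * k)⁻¹.1 (Φ.e 0) = ((a 0 ^ (S.q - 1))⁻¹ : S.Fˣ).1 • Φ.e 0 := by
    apply (g * k).1.injective
    rw [map_smul, Subgroup.coe_inv, LinearEquiv.coe_inv, LinearEquiv.apply_symm_apply,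
      Subgroup.coe_mul, LinearEquiv.mul_apply, k0, map_smul, g0, smul_smul, Units.inv_mul, one_smul]
  have hinv : ∀ y, (g * k)⁻¹.1 (g.1 (k.1 y)) = y := fun y => (g * k).1.symm_apply_apply y
  have hQ : (g * k)⁻¹ * (k * g) ∈ S.Qs (Φ.e 0) := by
    refine ⟨((g * k)⁻¹ * (k * g)).2.1, ?_, fun y hy => ?_⟩
    · show (g * k)⁻¹.1 (k.1 (g.1 (Φ.e 0))) = Φ.e 0
      rw [g0, k0, map_smul, gk0, smul_smul, Units.mul_inv, one_smul]
    · obtain ⟨c, hc'⟩ := Submodule.mem_span_singleton.1 ((mX y).1 (Xall y hy))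
      refine ⟨c * ((a 0 ^ (S.q - 1))⁻¹ : S.Fˣ).1, ?_⟩
      show (g * k)⁻¹.1 (k.1 (g.1 y)) = _
      rw [eq_sub_iff_add_eq.1 hc' |>.symm, map_add, map_smul, gk0, hinv, smul_smul, add_comm]
  have h1 := rb _ hiso _ (S.K.mul_mem (S.K.inv_mem (S.K.mul_mem hgK hkK)) (S.K.mul_mem hkK hgK)) hQ
    (Φ.e 1) (Φ.ee 0 1)
  have h2 : k.1 (g.1 (Φ.e 1)) = g.1 (k.1 (Φ.e 1)) :=
    (g * k)⁻¹.1.injective (h1.trans (hinv _).symm)
  have h3 : S.B (Φ.f 0) (g.1 (Φ.e 1)) ≠ 0 := by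
    intro h0
    have h4 : Φ.W (1 : Fin (S.r + 3)).1 ≤ Submodule.span S.F {Φ.e 0} := by
      refine Submodule.span_mono ?_
      rintro _ ⟨i, hi, rfl⟩
      have : i = 0 := Fin.ext (by simpa using hi)
      simp [this]
    obtain ⟨c, hc'⟩ := Submodule.mem_span_singleton.1 (h4 (hg 1))
    have h5 := congrArg (S.B (Φ.f 0)) hc'
    simp [h0, Φ.fe] at h5
    rw [h5, zero_smul, eq_comm, sub_eq_zero] at hc'
    exact hne (by simpa using hc')
  have h6 := congrArg (S.B (Φ.f 0)) h2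
  have k1 : k.1 (Φ.e 1) = ((a 1 ^ (S.q - 1) : S.Fˣ) : S.F) • Φ.e 1 := kv 1 false
  have kf : k.1 (Φ.f 0) = ((a 0 ^ (S.q - 1) : S.Fˣ) : S.F) • Φ.f 0 := kv 0 true
  rw [form_eig kf (norm_one' _), k1, map_smul, form_smul_right] at h6
  rw [div_pow, Units.ext (mul_right_cancel₀ h3 h6), div_self']

end H46.KURc1
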