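import Cfsg.Agent.H63.KgvSpec

set_option autoImplicit false

open Finset H63.Kgv

namespace H46.KgvH4

theorem sgn {F : Type} [Field F] (χ : MulChar F ℂ) (r : ℕ) (hr : r ≠ 0) :
    (χ ^ r) (-1) ^ (r - 1) = 1 := by
  have h2 : χ (-1) ^ 2 = 1 := by rw [← map_pow, neg_one_sq, map_one]
  obtain ⟨k, hk⟩ := Nat.even_mul_pred_self r
  rw [MulChar.pow_apply' χ hr, ← pow_mul, hk, ← two_mul, pow_mul, h2, one_pow]

theorem job : JH4 := by
  intro br lf ar pa p _ M K _ _ _ g θ s r ω hr hω t D w ht hD hrD hwr hw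
  have hw' : w ^ p ^ D = w := hw.2 rfl
  obtain ⟨F, L, iF, iF', _, _, _, ψ, χ, γ, _, _, _, hB, -⟩ := br p M K g θ s D 1 (by simpa using hD)
  have hp : p.Prime := Fact.out
  have hD0 : D ≠ 0 := by
    rintro rfl
    exact s.pos.ne' (Nat.zero_dvd.1 hD)
  have hpos : 1 ≤ p ^ D := Nat.one_le_pow _ _ hp.pos
  have hω' : ω ^ p ^ D = ω := by
    have h1 : ω ^ (p ^ D - 1) = 1 := orderOf_dvd_iff_pow_eq_one.1 (hω ▸ hrD)
    calc ω ^ p ^ D = ω ^ (p ^ D - 1 + 1) := by rw [Nat.sub_add_cancel hpos]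
      _ = ω := by rw [pow_succ, h1, one_mul]
  have hr0 : (r : ZMod p) ≠ 0 := by
    intro h
    have h1 : p ∣ r := (ZMod.natCast_eq_zero_iff r p).1 h
    have h2 : p ∣ p ^ D - 1 := h1.trans hrD
    have h3 : p ∣ p ^ D := dvd_pow_self p hD0
    have h4 : p ∣ 1 := (Nat.dvd_sub_iff_right hpos h3).1 h2
    exact hp.one_lt.ne' (Nat.dvd_one.1 h4)
  have hrt : (r : ZMod p) * t ≠ 0 := mul_ne_zero hr0 ht
  have fpow : ∀ (x : Kˣ) (n : ℕ), x ^ p ^ D = x → (x ^ n) ^ p ^ D = x ^ n := fun x n hx => by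
    rw [← pow_mul, mul_comm, pow_mul, hx]
  have fmul : ∀ x y : Kˣ, x ^ p ^ D = x → y ^ p ^ D = y → (x * y) ^ p ^ D = x * y :=
    fun x y hx hy => by rw [mul_pow, hx, hy]
  have cmul : ∀ x y : Kˣ, x ^ p ^ D = x → y ^ p ^ D = y → χ (x * y) = χ x * χ y := fun x y hx hy => by
    rw [MulChar.eq_iff hB.gen, MulChar.mul_apply, hB.val _ hx, hB.val _ hy, hB.val _ (fmul x y hx hy),
      map_mul, Units.val_mul]
  have cpow : ∀ (x : Kˣ) (n : ℕ), x ^ p ^ D = x → χ (x ^ n) = χ x ^ n := fun x n hx => by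
    rw [MulChar.eq_iff hB.gen, MulChar.pow_apply_coe, hB.val _ hx, hB.val _ (fpow x n hx),
      map_pow, Units.val_pow_eq_pow_val]
  have cone : χ 1 = 1 := by
    rw [MulChar.eq_iff hB.gen, MulChar.one_apply_coe, hB.val _ (one_pow _), map_one, Units.val_one]
  have hρ : orderOf (χ ω) = r := by
    haveI := Fact.mk hr
    refine orderOf_eq_prime ?_ fun h => ?_
    · rw [← cpow ω r hω', ← hω, pow_orderOf_eq_one, cone]
    · have h1 : (θ ω : ℂ) = 1 := by rw [← hB.val _ hω', h, MulChar.one_apply_coe]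
      have h2 : ω = 1 := s.inj (by rw [map_one]; exact Units.val_eq_one.1 h1)
      rw [h2, orderOf_one] at hω
      exact hr.one_lt.ne hω
  have hv : ∀ (t : ZMod p) (x : Kˣ), t ≠ 0 → x ^ p ^ D = x →
      HH p M g θ t x ^ D = -gaussSum (χ x) (ψ t) := fun t x ht hx => by
    rw [lf p M K g θ s t D x ht hD hx, hB.gs t x hx]
  obtain ⟨c, hc⟩ := ar F (ψ t) r hr.pos
  have key : ∀ x : Kˣ, x ^ p ^ D = x → ∏ i ∈ range r, HH p M g θ t (x * ω ^ i) ^ D =
      (-1) ^ r * (c * gaussSum (χ x ^ r) (ψ (r * t))) := fun x hx => by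
    have h1 : ∀ i ∈ range r, HH p M g θ t (x * ω ^ i) ^ D =
        (-1) * gaussSum (χ x * χ ω ^ i) (ψ t) := fun i _ => by
      rw [hv t _ ht (fmul _ _ hx (fpow ω i hω')), cmul _ _ hx (fpow ω i hω'), cpow ω i hω', neg_one_mul]
    rw [prod_congr rfl h1, prod_mul_distrib, prod_const, card_range,
      pa F (ψ t) (χ x) (χ ω) r (hB.ne t ht) hr hρ, hc, sgn _ r hr.ne_zero, mul_one, hB.sh]
  have k1 := key 1 (one_pow _)
  simp only [one_mul] at k1
  rw [cone, one_pow, gaussSum_one_left (hB.ne _ hrt)] at k1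
  show ∏ i ∈ range r, HH p M g θ t (w * ω ^ i) ^ D =
    (∏ i ∈ range r, HH p M g θ t (ω ^ i) ^ D) * HH p M g θ (r * t) (w ^ r) ^ D
  rw [key w hw', k1, hv _ _ hrt hwr, cpow w r hw']
  ring

end H46.KgvH4
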