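import Cfsg.Agent.H23.NDSpec

/-! Tower ND (S4780), job C4: class four is impossible. -/

set_option autoImplicit false

open H23.ND Subgroup

namespace H46.NDC4

universe u

variable {G : Type u} [Group G]

theorem cl_comm {N M : Subgroup G} [hM : M.Normal] {x : G} (h : Cl N x M) {b : G} (hb : b ∈ M) :
    ∃ y ∈ N, x * y * x⁻¹ * y⁻¹ = b := by
  obtain ⟨y, hy, e⟩ := h _ (hM.conj_mem' _ (inv_mem hb) x)
  refine ⟨y, hy, ?_⟩
  calc x * y * x⁻¹ * y⁻¹ = x * (y * x * y⁻¹)⁻¹ := by group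
    _ = b := by rw [e]; group

theorem cm {A B : Subgroup G} {x y : G} (hx : x ∈ A) (hy : y ∈ B) : x * y * x⁻¹ * y⁻¹ ∈ ⁅A, B⁆ :=
  commutator_mem_commutator hx hy

theorem mk_congr {A A' : Subgroup G} [A'.Normal] {x y : G} (hx : x ∈ A) (e : x = y) :
    Sec.mk A A' x hx = Sec.mk A A' y (e ▸ hx) := by subst e; rfl

theorem mk_cj {A A' B : Subgroup G} [hA : A.Normal] [A'.Normal] (h : ⁅B, A⁆ ≤ A') {y z : G}
    (hy : y ∈ B) (hz : z ∈ A) :
    Sec.mk A A' (y * z * y⁻¹) (hA.conj_mem z hz y) = Sec.mk A A' z hz := by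
  rw [Sec.mk_eq]
  have := h (cm hy (inv_mem hz))
  convert this using 1
  group

theorem jobC4 : JobLie0.{u} → JobLie1.{u} → JobC4.{u} := by
  intro l0 l1 G _ _ P C D J _ _ _ hC hD hCP hDP h5 h4 c1 c2 c3 hor
  have l2P : L2 P ≤ P := commutator_le_left P P
  have l3P : L3 P ≤ P := commutator_le_right _ P
  have l4P : L4 P ≤ P := commutator_le_right _ P
  have l32 : L3 P ≤ L2 P := commutator_mono l2P le_rfl
  have l2C : L2 P ≤ C := hC ▸ le_sup_right
  have CP : C ≤ P := hC ▸ sup_le hD l2P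
  have pc : ⁅P, C⁆ ≤ L3 P := by rw [commutator_comm]; exact hCP
  have p2 : ⁅P, L2 P⁆ ≤ L3 P := by rw [commutator_comm]
  have p3 : ⁅P, L3 P⁆ ≤ L4 P := by rw [commutator_comm]
  have p4 : ⁅P, L4 P⁆ ≤ J := by rw [commutator_comm]; exact h5
  have k2C : ⁅L2 P, C⁆ ≤ L4 P :=
    H24.three_subgroups_le (commutator_mono pc le_rfl) (commutator_mono hCP le_rfl)
  have k23 : ⁅L2 P, L3 P⁆ ≤ L5 P :=
    H24.three_subgroups_le (commutator_mono p3 le_rfl) le_rfl
  have k32 : ⁅L3 P, L2 P⁆ ≤ L5 P := by rw [commutator_comm]; exact k23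
  have k3C : ⁅L3 P, C⁆ ≤ L5 P :=
    H24.three_subgroups_le ((commutator_mono pc le_rfl).trans k32)
      (commutator_mono (by rw [commutator_comm]; exact k2C) le_rfl)
  have k22 : ⁅L2 P, L2 P⁆ ≤ L4 P := (commutator_mono le_rfl l2C).trans k2C
  haveI : Fact (⁅P, P⁆ ≤ C) := ⟨l2C⟩
  haveI : Fact (⁅L2 P, L2 P⁆ ≤ L3 P) := ⟨commutator_mono le_rfl l2P⟩
  haveI : Fact (⁅L3 P, L3 P⁆ ≤ L4 P) := ⟨commutator_mono le_rfl l3P⟩
  haveI : Fact (⁅L4 P, L4 P⁆ ≤ J) := ⟨(commutator_mono le_rfl l4P).trans h5⟩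
  obtain ⟨b11, e11⟩ := bil (A := P) (A' := C) (B := P) (B' := C) (D := L2 P) (D' := L3 P) le_rfl
    ((commutator_mono inf_le_left le_rfl).trans hCP) ((commutator_mono le_rfl inf_le_left).trans pc)
    p2 p2
  obtain ⟨b21, e21⟩ := bil (A := L2 P) (A' := L3 P) (B := P) (B' := C) (D := L3 P) (D' := L4 P)
    le_rfl (commutator_mono inf_le_left le_rfl) ((commutator_mono le_rfl inf_le_left).trans k2C)
    ((commutator_mono l2P le_rfl).trans p3) p3
  obtain ⟨b31, e31⟩ := bil (A := L3 P) (A' := L4 P) (B := P) (B' := C) (D := L4 P) (D' := J)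
    le_rfl ((commutator_mono inf_le_left le_rfl).trans h5)
    ((commutator_mono le_rfl inf_le_left).trans (k3C.trans h5))
    ((commutator_mono l3P le_rfl).trans p4) p4
  obtain ⟨b22, e22⟩ := bil (A := L2 P) (A' := L3 P) (B := L2 P) (B' := L3 P) (D := L4 P) (D' := J)
    k22 ((commutator_mono inf_le_left le_rfl).trans (k32.trans h5))
    ((commutator_mono le_rfl inf_le_left).trans (k23.trans h5))
    ((commutator_mono l2P le_rfl).trans p4) ((commutator_mono l2P le_rfl).trans p4)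
  have n3 : ¬ L3 P ≤ L4 P := fun h => h4 ((commutator_mono h le_rfl).trans h5)
  have n2 : ¬ L2 P ≤ L3 P := fun h => n3 (commutator_mono h le_rfl)
  have n1 : ¬ P ≤ C := fun h => n2 ((commutator_mono h le_rfl).trans hCP)
  have alt : ∀ x, b11 x x = 0 := by
    intro s
    obtain ⟨x, hx, rfl⟩ := Sec.surj s
    rw [e11, Sec.mk_zero]
    simp
  have lie : LieD b11 b21 b31 b22 := by
    refine ⟨alt, fun s => ?_, fun s t r => ?_, fun s t r => ?_, fun s hs t => ?_, fun s hs t => ?_,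
      fun s hs t => ?_, fun s hs => ?_, Sec.nontrivial n1, Sec.nontrivial n2, Sec.nontrivial n3,
      Sec.nontrivial h4⟩
    · obtain ⟨x, hx, rfl⟩ := Sec.surj s
      rw [e22, Sec.mk_zero]
      simp
    · obtain ⟨x, hx, rfl⟩ := Sec.surj s
      obtain ⟨y, hy, rfl⟩ := Sec.surj t
      obtain ⟨z, hz, rfl⟩ := Sec.surj r
      rw [e11, e11, e11]
      conv_lhs => enter [1, 1]; rw [← mk_cj l2C hy hz, e21]
      conv_lhs => enter [1, 2]; rw [← mk_cj l2C hz hx, e21]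
      conv_lhs => enter [2]; rw [← mk_cj l2C hx hy, e21]
      rw [← Sec.mk_mul, ← Sec.mk_mul, Sec.mk_zero]
      convert one_mem (L4 P) using 1
      group
    · obtain ⟨a, ha, rfl⟩ := Sec.surj s
      obtain ⟨x, hx, rfl⟩ := Sec.surj t
      obtain ⟨y, hy, rfl⟩ := Sec.surj r
      rw [e21, e21, e11, sub_eq_add_neg, ← AddMonoidHom.neg_apply, ← map_neg, ← Sec.mk_inv]
      conv_lhs => enter [1]; rw [← mk_cj l2C hx hy, e31]
      conv_lhs => enter [2]; rw [← mk_cj l2C (l2P ha) hx, e31]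
      conv_rhs => rw [← mk_cj p2 hy ha, e22]
      rw [add_comm, ← Sec.mk_mul]
      refine mk_congr _ ?_
      group
    · obtain ⟨x, hx, rfl⟩ := Sec.surj s
      obtain ⟨b, hb, rfl⟩ := Sec.surj t
      obtain ⟨y, hy, e⟩ := cl_comm (c1 x hx fun h => hs ((Sec.mk_zero hx).2 h)) hb
      exact ⟨Sec.mk P C y hy, (e11 x hx y hy).trans (mk_congr _ e)⟩
    · obtain ⟨x, hx, rfl⟩ := Sec.surj s
      obtain ⟨b, hb, rfl⟩ := Sec.surj t
      obtain ⟨y, hy, e⟩ := cl_comm (c2 x hx fun h => hs ((Sec.mk_zero hx).2 h)) hb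
      exact ⟨Sec.mk P C y hy, (e21 x hx y hy).trans (mk_congr _ e)⟩
    · obtain ⟨x, hx, rfl⟩ := Sec.surj s
      obtain ⟨b, hb, rfl⟩ := Sec.surj t
      obtain ⟨y, hy, e⟩ := cl_comm (c3 x hx fun h => hs ((Sec.mk_zero hx).2 h)) hb
      exact ⟨Sec.mk P C y hy, (e31 x hx y hy).trans (mk_congr _ e)⟩
    · obtain ⟨x, hx, rfl⟩ := Sec.surj s
      set I := (b21.flip (Sec.mk P C x hx)).range with hI
      choose r hr er using fun s : Sec P C => Sec.surj s
      have m3 : ∀ s : (b11 (Sec.mk P C x hx)).ker, x * r s * x⁻¹ * (r s)⁻¹ ∈ L3 P := fun s => by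
        have := AddMonoidHom.mem_ker.1 s.2
        rwa [← er s, e11, Sec.mk_zero] at this
      let φ : (b11 (Sec.mk P C x hx)).ker → Sec (L3 P) (L4 P) ⧸ I :=
        fun s => QuotientAddGroup.mk (Sec.mk _ _ _ (m3 s))
      have key : ∀ y (hy : y ∈ P) (h : x * y * x⁻¹ * y⁻¹ ∈ L3 P) (s : (b11 (Sec.mk P C x hx)).ker),
          s.1 = Sec.mk P C y hy → φ s = QuotientAddGroup.mk (Sec.mk _ _ _ h) := by
        intro y hy h s hs
        have h1 : (r s)⁻¹ * y ∈ D ⊔ L2 P := hC ▸ (Sec.mk_eq _ _).1 ((er s).trans hs)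
        obtain ⟨d, hd, a, ha, e⟩ := mem_sup_of_normal_right.1 h1
        have e' : y = r s * (d * a) := by rw [e]; group
        refine QuotientAddGroup.eq.2 ⟨-Sec.mk _ _ a ha, ?_⟩
        rw [map_neg, AddMonoidHom.flip_apply, e21, ← Sec.mk_inv, ← Sec.mk_inv, ← Sec.mk_mul,
          ← mk_cj p3 (mul_mem (hr s) (hD hd)) (inv_mem (cm ha hx)), Sec.mk_eq]
        have h2 : x * d * x⁻¹ * d⁻¹ ∈ L4 P := by
          have := inv_mem (hDP (cm hd hx))
          convert this using 1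
          group
        have h3 := (inferInstance : (L4 P).Normal).conj_mem _ h2
          (r s * d * (a * x * a⁻¹ * x⁻¹) * d⁻¹)
        convert h3 using 1
        rw [e']
        group
      have sj : Function.Surjective φ := by
        intro v
        obtain ⟨v, rfl⟩ := QuotientAddGroup.mk_surjective v
        obtain ⟨b, hb, rfl⟩ := Sec.surj v
        obtain ⟨y, hy, e⟩ := cl_comm (c1 x hx fun h => hs ((Sec.mk_zero hx).2 h)) (l32 hb)
        subst e
        exact ⟨⟨Sec.mk P C y hy, by rw [AddMonoidHom.mem_ker, e11, Sec.mk_zero]; exact hb⟩,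
          key y hy hb _ rfl⟩
      rw [AddSubgroup.card_eq_card_quotient_mul_card_addSubgroup I, mul_comm]
      refine Nat.mul_lt_mul_of_pos_left ?_ Nat.card_pos
      by_contra hle
      have inj := (sj.bijective_of_nat_card_le (not_lt.1 hle)).1
      have e1 := key x hx (by simp) ⟨_, AddMonoidHom.mem_ker.2 (alt _)⟩ rfl
      have e2 := key 1 (one_mem P) (by simp) 0 ((Sec.mk_zero _).2 (one_mem C)).symm
      exact hs (congrArg Subtype.val (inj (e1.trans (Eq.trans (congrArg _ (mk_congr _ (by simp)))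
        e2.symm))))
  rcases hor with h | h
  · refine l0 _ _ _ _ b11 b21 b31 b22 lie (AddMonoidHom.ext fun s => AddMonoidHom.ext fun t => ?_)
    obtain ⟨a, ha, rfl⟩ := Sec.surj s
    obtain ⟨b, hb, rfl⟩ := Sec.surj t
    rw [e22]
    exact (Sec.mk_zero _).2 (h (cm ha hb))
  · refine l1 _ _ _ _ b11 b21 b31 b22 lie fun s hs t => ?_
    obtain ⟨a, ha, rfl⟩ := Sec.surj s
    obtain ⟨z, hz, rfl⟩ := Sec.surj t
    obtain ⟨b, hb, e⟩ := h a ha (fun k => hs ((Sec.mk_zero ha).2 k)) z hz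
    exact ⟨Sec.mk _ _ b hb, (e22 a ha b hb).trans ((Sec.mk_eq _ _).2 e)⟩

end H46.NDC4
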