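import Cfsg.Agent.H23.NDSpec

/-! Tower ND (S4780), job CW: alternating maps all of whose rows are onto. -/

set_option autoImplicit false

open MvPolynomial Matrix

namespace H46.NDCW

universe u

/-- The determinant of an alternating matrix over a field is a square. -/
theorem isSquare_det {K : Type*} [Field K] (n : ℕ) : ∀ (ι : Type) [Fintype ι] [DecidableEq ι],
    Fintype.card ι = n → ∀ M : Matrix ι ι K, (∀ i, M i i = 0) → (∀ i j, M i j = -M j i) →
    IsSquare M.det := by
  induction n using Nat.strong_induction_on with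
  | _ n ih =>
  intro ι _ _ hn M h0 h1
  by_cases hM : M = 0
  · rcases isEmpty_or_nonempty ι with h | h
    · rw [det_isEmpty]; exact IsSquare.one
    · rw [hM, det_zero]; exact IsSquare.zero
  obtain ⟨i, j, hij⟩ : ∃ i j, M i j ≠ 0 := by
    by_contra! h
    exact hM (Matrix.ext h)
  have hne : i ≠ j := by rintro rfl; exact hij (h0 i)
  let f : Fin 2 ⊕ {k // k ≠ i ∧ k ≠ j} → ι := Sum.elim ![i, j] Subtype.val
  have hf : Function.Bijective f := by
    constructor
    · rintro (a | ⟨a, ha⟩) (b | ⟨b, hb⟩) h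
      · fin_cases a <;> fin_cases b
        · rfl
        · exact absurd h hne
        · exact absurd h.symm hne
        · rfl
      · fin_cases a
        · exact absurd h.symm hb.1
        · exact absurd h.symm hb.2
      · fin_cases b
        · exact absurd h ha.1
        · exact absurd h ha.2
      · exact congrArg Sum.inr (Subtype.ext h)
    · intro k
      by_cases h1 : k = i
      · exact ⟨Sum.inl 0, h1.symm⟩
      by_cases h2 : k = j
      · exact ⟨Sum.inl 1, h2.symm⟩
      exact ⟨Sum.inr ⟨k, h1, h2⟩, rfl⟩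
  let e := Equiv.ofBijective f hf
  set a := M i j with ha
  let N := M.submatrix e e
  have hA : N.toBlocks₁₁ = !![0, a; -a, 0] := by
    ext s t
    fin_cases s <;> fin_cases t
    · exact h0 i
    · rfl
    · exact h1 j i
    · exact h0 j
  letI : Invertible (!![0, a; -a, 0] : Matrix (Fin 2) (Fin 2) K) :=
    ⟨!![0, -a⁻¹; a⁻¹, 0], by
      ext s t; fin_cases s <;> fin_cases t <;> simp [Matrix.mul_apply, Fin.sum_univ_two, hij], by
      ext s t; fin_cases s <;> fin_cases t <;> simp [Matrix.mul_apply, Fin.sum_univ_two, hij]⟩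
  rw [← det_submatrix_equiv_self e M]
  change IsSquare N.det
  rw [← fromBlocks_toBlocks N, hA, det_fromBlocks₁₁]
  refine IsSquare.mul ⟨a, by simp [det_fin_two]⟩ (ih _ ?_ _ rfl _ (fun k => ?_) fun k l => ?_)
  · have := Fintype.card_congr e
    rw [Fintype.card_sum, Fintype.card_fin] at this
    omega
  · change M k k - (N.toBlocks₂₁ * !![0, -a⁻¹; a⁻¹, 0] * N.toBlocks₁₂) k k = 0
    simp only [Matrix.mul_apply, Fin.sum_univ_two]
    change M k k - ((M k i * 0 + M k j * a⁻¹) * M i k + (M k i * -a⁻¹ + M k j * 0) * M j k) = 0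
    rw [h0, h1 k i, h1 k j]
    ring
  · change M k l - (N.toBlocks₂₁ * !![0, -a⁻¹; a⁻¹, 0] * N.toBlocks₁₂) k l =
      -(M l k - (N.toBlocks₂₁ * !![0, -a⁻¹; a⁻¹, 0] * N.toBlocks₁₂) l k)
    simp only [Matrix.mul_apply, Fin.sum_univ_two]
    change M k l - ((M k i * 0 + M k j * a⁻¹) * M i l + (M k i * -a⁻¹ + M k j * 0) * M j l) =
      -(M l k - ((M l i * 0 + M l j * a⁻¹) * M i k + (M l i * -a⁻¹ + M l j * 0) * M j k))
    rw [h1 k l, h1 k i, h1 k j, h1 l i, h1 l j]
    ring

theorem isSquare_det' {R : Type*} [CommRing R] [IsDomain R] [IsIntegrallyClosed R] {n : ℕ}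
    (M : Matrix (Fin n) (Fin n) R) (h0 : ∀ i, M i i = 0) (h1 : ∀ i j, M i j = -M j i) :
    IsSquare M.det := by
  obtain ⟨x, hx⟩ := isSquare_det _ (Fin n) rfl (M.map (algebraMap R (FractionRing R)))
    (fun i => by simp [h0]) fun i j => by rw [map_apply, map_apply, h1, map_neg]
  have e : algebraMap R (FractionRing R) M.det = x ^ 2 := by
    rw [RingHom.map_det, sq, ← hx]; rfl
  obtain ⟨y, hy⟩ := IsIntegrallyClosed.exists_algebraMap_eq_of_isIntegral_pow (R := R) (x := x)
    (n := 2) two_pos (e ▸ isIntegral_algebraMap)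
  refine ⟨y, IsFractionRing.injective R (FractionRing R) ?_⟩
  rw [e, map_mul, hy, sq]

theorem two_mul_le {p : ℕ} [Fact p.Prime] {n m : ℕ} (hn : 0 < n) (c : Fin n → Fin n → Fin m → ZMod p)
    (h0 : ∀ i k, c i i k = 0) (h1 : ∀ i j k, c i j k = -c j i k)
    (h : ∀ t : Fin m → ZMod p, t ≠ 0 → (Matrix.of fun i j => ∑ k, c i j k * t k).det ≠ 0) :
    2 * m ≤ n := by
  classical
  let M : Matrix (Fin n) (Fin n) (MvPolynomial (Fin m) (ZMod p)) :=
    Matrix.of fun i j => ∑ k, C (c i j k) * X k
  obtain ⟨g, hg⟩ := isSquare_det' M (fun i => by simp [M, h0]) fun i j => by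
    simp only [M, of_apply, ← Finset.sum_neg_distrib]
    exact Finset.sum_congr rfl fun k _ => by rw [h1, map_neg, neg_mul]
  have hd : M.det.totalDegree ≤ n := by
    refine IsHomogeneous.totalDegree_le ?_
    rw [det_apply']
    refine IsHomogeneous.sum _ _ _ fun σ _ => ?_
    rw [← map_intCast (C : ZMod p →+* MvPolynomial (Fin m) (ZMod p))]
    refine IsHomogeneous.C_mul ?_ _
    have := IsHomogeneous.prod Finset.univ (fun i => M (σ i) i) (fun _ => 1) fun i _ =>
      IsHomogeneous.sum Finset.univ (fun k => C (c (σ i) i k) * X k) 1 fun k _ =>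
        isHomogeneous_C_mul_X _ _
    simpa using this
  have he : ∀ t : Fin m → ZMod p, eval t g * eval t g =
      (Matrix.of fun i j => ∑ k, c i j k * t k).det := fun t => by
    rw [← map_mul, ← hg, RingHom.map_det]
    congr 1
    ext i j
    simp [M]
  have : Nonempty (Fin n) := ⟨⟨0, hn⟩⟩
  have hm : m ≤ g.totalDegree := by
    by_contra hlt
    have h3 := char_dvd_card_solutions p (f := g) (by simpa using not_le.1 hlt)
    rw [Fintype.card_eq_one_iff.2 ⟨⟨0, by
      have := he 0
      rw [show (Matrix.of fun i j => ∑ k, c i j k * (0 : Fin m → ZMod p) k) = 0 by ext; simp,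
        det_zero] at this
      exact mul_self_eq_zero.1 this⟩, fun t => Subtype.ext (by
        by_contra ht
        exact h t.1 ht (by rw [← he, t.2, mul_zero]))⟩] at h3
    exact (Fact.out : p.Prime).one_lt.ne' (Nat.dvd_one.1 h3)
  by_cases hg0 : g = 0
  · rw [hg0, totalDegree_zero] at hm
    omega
  rw [hg, totalDegree_mul_of_isDomain hg0 hg0] at hd
  omega

theorem core {p : ℕ} [Fact p.Prime] {V A : Type*} [AddCommGroup V] [AddCommGroup A] [Finite V]
    [Finite A] [Nontrivial V] [Module (ZMod p) V] [Module (ZMod p) A] (b : V →+ V →+ A)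
    (alt : ∀ x, b x x = 0) (sj : ∀ x, x ≠ 0 → Function.Surjective (b x)) :
    Nat.card A ^ 2 ≤ Nat.card V := by
  classical
  have : Module.Finite (ZMod p) V := Module.Finite.of_finite
  have : Module.Finite (ZMod p) A := Module.Finite.of_finite
  let v := Module.finBasis (ZMod p) V
  let w := Module.finBasis (ZMod p) A
  have anti : ∀ y z, b y z = -b z y := fun y z => by
    have := alt (y + z)
    simp only [map_add, AddMonoidHom.add_apply, alt, zero_add, add_zero] at this
    exact eq_neg_of_add_eq_zero_right this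
  have key := two_mul_le (p := p) Module.finrank_pos (fun i j k => w.repr (b (v i) (v j)) k)
    (fun i k => by simp [alt]) (fun i j k => by rw [anti]; simp) fun t ht hdet => by
      obtain ⟨c, hc0, hc⟩ := Matrix.exists_vecMul_eq_zero_iff.2 hdet
      let σ : A →ₗ[ZMod p] ZMod p := ∑ k, t k • w.coord k
      have hσ : ∀ a, σ a = ∑ k, w.repr a k * t k := fun a => by
        simp [σ, mul_comm]
      have hy : (∑ i, c i • v i) ≠ 0 := fun e =>
        hc0 (funext (Fintype.linearIndependent_iff.1 v.linearIndependent c e))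
      have h1 : ∀ j, σ (b (∑ i, c i • v i) (v j)) = 0 := fun j => by
        have e : b (∑ i, c i • v i) (v j) = ∑ i, c i • b (v i) (v j) := by
          change b.flip (v j) _ = _
          rw [map_sum]
          exact Finset.sum_congr rfl fun i _ => ZMod.map_smul (b.flip (v j)) _ _
        rw [e, map_sum]
        refine Eq.trans (Finset.sum_congr rfl fun i _ => ?_) (congrFun hc j)
        rw [map_smul, hσ, smul_eq_mul]
        rfl
      have h2 : ∀ z, σ (b (∑ i, c i • v i) z) = 0 := fun z => by
        rw [← v.sum_repr z, map_sum (b _), map_sum]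
        exact Finset.sum_eq_zero fun j _ => by rw [ZMod.map_smul, map_smul, h1, smul_zero]
      refine ht (funext fun k => ?_)
      obtain ⟨z, hz⟩ := sj _ hy (w k)
      have := h2 z
      rw [hz, hσ] at this
      simpa [Finsupp.single_apply] using this
  rw [Module.natCard_eq_pow_finrank (K := ZMod p) (V := A),
    Module.natCard_eq_pow_finrank (K := ZMod p) (V := V), ← pow_mul, mul_comm]
  exact Nat.pow_le_pow_right Nat.card_pos key

theorem jobCW : H23.ND.JobCW.{u} := by
  intro V A _ _ _ _ _ b alt sj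
  classical
  rcases subsingleton_or_nontrivial A with hA | hA
  · rw [Nat.card_of_subsingleton (0 : A), one_pow]
    exact Nat.card_pos
  obtain ⟨p, hp, hpV⟩ := Nat.exists_prime_and_dvd (Finite.one_lt_card (α := V)).ne'
  have := Fact.mk hp
  obtain ⟨x, hx⟩ := exists_prime_addOrderOf_dvd_card' p hpV
  have hx0 : x ≠ 0 := by
    rintro rfl
    rw [addOrderOf_zero] at hx
    exact hp.one_lt.ne hx
  have pA : ∀ a : A, p • a = 0 := fun a => by
    obtain ⟨y, rfl⟩ := sj x hx0 a
    rw [← AddMonoidHom.nsmul_apply, ← map_nsmul, ← hx, addOrderOf_nsmul_eq_zero, map_zero,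
      AddMonoidHom.zero_apply]
  have pV : ∀ y : V, p • y = 0 := fun y => by
    by_contra hy
    obtain ⟨a, ha⟩ := exists_ne (0 : A)
    obtain ⟨z, hz⟩ := sj _ hy a
    rw [map_nsmul, AddMonoidHom.nsmul_apply, pA] at hz
    exact ha hz.symm
  exact @core p _ V A _ _ _ _ _ (AddCommGroup.zmodModule pV) (AddCommGroup.zmodModule pA) b alt sj

end H46.NDCW
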