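import Cfsg.Agent.H46.P1Base
/-! The facts of the enumeration. -/
set_option maxRecDepth 1000000
set_option Elab.async false
namespace H46.P1
open H71
def ft0 : BT Fc := (.node (nat_lit 32) (.node (nat_lit 16) (.node (nat_lit 8) (.node (nat_lit 4) (.node (nat_lit 2) (.node (nat_lit 1) (.leaf ⟨nat_lit 0, false, nat_lit 0, nat_lit 0, nat_lit 0⟩)
 (.leaf ⟨nat_lit 0, false, nat_lit 0, (nat_lit 2), (nat_lit 0)⟩))
 (.node (nat_lit 1) (.leaf ⟨nat_lit 0, false, nat_lit 0, (nat_lit 6), (nat_lit 0)⟩)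
 (.leaf ⟨nat_lit 0, false, nat_lit 0, (nat_lit 7), (nat_lit 0)⟩)))
 (.node (nat_lit 2) (.node (nat_lit 1) (.leaf ⟨nat_lit 0, false, nat_lit 0, (nat_lit 386), (nat_lit 0)⟩)
 (.leaf ⟨nat_lit 0, false, nat_lit 0, (nat_lit 0xc40b2d13df3cf3c50912cc), (nat_lit 0)⟩))
 (.node (nat_lit 1) (.leaf ⟨nat_lit 0, true, nat_lit 1, (nat_lit 0), (nat_lit 0)⟩)
 (.leaf ⟨nat_lit 1, false, nat_lit 1, (nat_lit 0x2141040d39f78b0a124f306), (nat_lit 0)⟩))))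
 (.node (nat_lit 4) (.node (nat_lit 2) (.node (nat_lit 1) (.leaf ⟨nat_lit 1, false, nat_lit 1, (nat_lit 0x29131188c42630224318d2cb), (nat_lit 0)⟩)
 (.leaf ⟨nat_lit 1, false, nat_lit 1, (nat_lit 0x2a58513503e13c31451e434a), (nat_lit 0)⟩))
 (.node (nat_lit 1) (.leaf ⟨nat_lit 1, false, nat_lit 1, (nat_lit 0x29e3cb2d12a540424f09e28c), (nat_lit 0)⟩)
 (.leaf ⟨nat_lit 1, false, nat_lit 1, (nat_lit 0xe8e63a53d0285286950343), (nat_lit 0)⟩)))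
 (.node (nat_lit 2) (.node (nat_lit 1) (.leaf ⟨nat_lit 1, false, nat_lit 1, (nat_lit 0x35042099081e2821074621ca), (nat_lit 0)⟩)
 (.leaf ⟨nat_lit 1, false, nat_lit 1, (nat_lit 0x84c7a33d130c2c41c929f085), (nat_lit 0)⟩))
 (.node (nat_lit 1) (.leaf ⟨nat_lit 1, true, nat_lit 2, (nat_lit 30), (nat_lit 0)⟩)
 (.leaf ⟨nat_lit 2, false, nat_lit 2, (nat_lit 0x7cb40c80f78f2c3846111983), (nat_lit 0)⟩)))))
 (.node (nat_lit 8) (.node (nat_lit 4) (.node (nat_lit 2) (.node (nat_lit 1) (.leaf ⟨nat_lit 2, false, nat_lit 2, (nat_lit 0x2cc3ca7ce9a180a10c466102), (nat_lit 0)⟩)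
 (.leaf ⟨nat_lit 2, false, nat_lit 2, (nat_lit 0x8228cf2e679f0c7247260), (nat_lit 0)⟩))
 (.node (nat_lit 1) (.leaf ⟨nat_lit 2, false, nat_lit 2, (nat_lit 0x30a8e534f81f30314e1c884a), (nat_lit 0)⟩)
 (.leaf ⟨nat_lit 2, false, nat_lit 2, (nat_lit 0x1132694f7908821de25e), (nat_lit 0)⟩)))
 (.node (nat_lit 2) (.node (nat_lit 1) (.leaf ⟨nat_lit 2, false, nat_lit 2, (nat_lit 0x30a94e4653de34410838a404), (nat_lit 0)⟩)
 (.leaf ⟨nat_lit 2, false, nat_lit 2, (nat_lit 0x2e039194e2e630c2509062c3), (nat_lit 0)⟩))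
 (.node (nat_lit 1) (.leaf ⟨nat_lit 2, true, nat_lit 1, (nat_lit 0xc30b32142128e9441e02271c2), (nat_lit 0xb94e34f8e544b40a10b0872a7204)⟩)
 (.leaf ⟨nat_lit 2, false, nat_lit 2, (nat_lit 0xc2a12cb30a7d01221643df), (nat_lit 0)⟩))))
 (.node (nat_lit 4) (.node (nat_lit 2) (.node (nat_lit 1) (.leaf ⟨nat_lit 2, false, nat_lit 2, (nat_lit 0x8e232180d3ca28422319f), (nat_lit 0)⟩)
 (.leaf ⟨nat_lit 2, false, nat_lit 2, (nat_lit 0x2e198c80b3d184e0c70cf0e7), (nat_lit 0)⟩))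
 (.node (nat_lit 1) (.leaf ⟨nat_lit 1, true, nat_lit 3, (nat_lit 0xc3de7e28ce84d089263), (nat_lit 0)⟩)
 (.leaf ⟨nat_lit 3, false, nat_lit 3, (nat_lit 0xc82142180c9442ce1a4102), (nat_lit 0)⟩)))
 (.node (nat_lit 2) (.node (nat_lit 1) (.leaf ⟨nat_lit 3, false, nat_lit 3, (nat_lit 0x28d36294e7ca34d0a5246366), (nat_lit 0)⟩)
 (.leaf ⟨nat_lit 3, false, nat_lit 3, (nat_lit 0xb38d8502a028f2841cc08a142), (nat_lit 0)⟩))
 (.node (nat_lit 1) (.leaf ⟨nat_lit 3, false, nat_lit 3, (nat_lit 0x3223a54632a01a50c9148), (nat_lit 0)⟩)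
 (.leaf ⟨nat_lit 3, false, nat_lit 3, (nat_lit 0x28d38e8e29518842e11cd19e), (nat_lit 0)⟩))))))
 (.node (nat_lit 16) (.node (nat_lit 8) (.node (nat_lit 4) (.node (nat_lit 2) (.node (nat_lit 1) (.leaf ⟨nat_lit 3, false, nat_lit 3, (nat_lit 0x2ce2a630c3112c329118a842), (nat_lit 0)⟩)
 (.leaf ⟨nat_lit 1, true, nat_lit 4, (nat_lit 0xa2a02e294b), (nat_lit 0)⟩))
 (.node (nat_lit 1) (.leaf ⟨nat_lit 4, false, nat_lit 4, (nat_lit 0x2d040d8a144c40a1113cf14d), (nat_lit 0)⟩)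
 (.leaf ⟨nat_lit 4, false, nat_lit 4, (nat_lit 0x2a134a7cc38a40f0a03c2287202), (nat_lit 0)⟩)))
 (.node (nat_lit 2) (.node (nat_lit 1) (.leaf ⟨nat_lit 4, false, nat_lit 4, (nat_lit 0xb3259903e5322443262846), (nat_lit 0)⟩)
 (.leaf ⟨nat_lit 4, false, nat_lit 4, (nat_lit 0xc80b80c78f35f106102), (nat_lit 0)⟩))
 (.node (nat_lit 1) (.leaf ⟨nat_lit 4, false, nat_lit 4, (nat_lit 0xb7a03a12e53913029060d18ca), (nat_lit 0)⟩)
 (.leaf ⟨nat_lit 4, false, nat_lit 4, (nat_lit 0x34d3608ce28c2c22472c9802), (nat_lit 0)⟩))))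
 (.node (nat_lit 4) (.node (nat_lit 2) (.node (nat_lit 1) (.leaf ⟨nat_lit 3, true, nat_lit 5, (nat_lit 0xa34b3cb34e8a330a142882161303), (nat_lit 0)⟩)
 (.leaf ⟨nat_lit 5, false, nat_lit 5, (nat_lit 0x3cc41038c40d1501c838a), (nat_lit 0)⟩))
 (.node (nat_lit 1) (.leaf ⟨nat_lit 5, false, nat_lit 5, (nat_lit 0xa82584e36230f0c68c5466), (nat_lit 0)⟩)
 (.leaf ⟨nat_lit 5, false, nat_lit 5, (nat_lit 0x1f82599080c08731e84a), (nat_lit 0)⟩)))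
 (.node (nat_lit 2) (.node (nat_lit 1) (.leaf ⟨nat_lit 5, false, nat_lit 5, (nat_lit 0x3d13a634e78a2842c53cb2c2), (nat_lit 0)⟩)
 (.leaf ⟨nat_lit 5, false, nat_lit 5, (nat_lit 0xb31e7cf34f98c842206188905), (nat_lit 0)⟩))
 (.node (nat_lit 1) (.leaf ⟨nat_lit 3, true, nat_lit 6, (nat_lit 0xc3de7e28ce84d089263), (nat_lit 0)⟩)
 (.leaf ⟨nat_lit 6, false, nat_lit 6, (nat_lit 0x3222cb2cf34a34434d16510a), (nat_lit 0)⟩)))))
 (.node (nat_lit 8) (.node (nat_lit 4) (.node (nat_lit 2) (.node (nat_lit 1) (.leaf ⟨nat_lit 6, false, nat_lit 6, (nat_lit 0x1e2a246534d28420d1de1c4), (nat_lit 0)⟩)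
 (.leaf ⟨nat_lit 5, true, nat_lit 7, (nat_lit 0xa34b3cb34e8a330a142882161303), (nat_lit 0)⟩))
 (.node (nat_lit 1) (.leaf ⟨nat_lit 7, false, nat_lit 7, (nat_lit 0xa88f34e99136034478d191184), (nat_lit 0)⟩)
 (.leaf ⟨nat_lit 7, false, nat_lit 7, (nat_lit 0x2e286346084791018b), (nat_lit 0)⟩)))
 (.node (nat_lit 2) (.node (nat_lit 1) (.leaf ⟨nat_lit 7, false, nat_lit 7, (nat_lit 0x2913118263cf3e10891df847), (nat_lit 0)⟩)
 (.leaf ⟨nat_lit 7, false, nat_lit 7, (nat_lit 0x30c3a240d28245f10d), (nat_lit 0)⟩))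
 (.node (nat_lit 1) (.leaf ⟨nat_lit 7, false, nat_lit 7, (nat_lit 0x31134b30c4233cd0891ca949), (nat_lit 0)⟩)
 (.leaf ⟨nat_lit 7, false, nat_lit 7, (nat_lit 0xe8102cc78e342345465), (nat_lit 0)⟩))))
 (.node (nat_lit 4) (.node (nat_lit 2) (.node (nat_lit 1) (.leaf ⟨nat_lit 7, false, nat_lit 7, (nat_lit 0xa7918ca80c3903c2167202185), (nat_lit 0)⟩)
 (.leaf ⟨nat_lit 2, true, nat_lit 8, (nat_lit 0x79f821966), (nat_lit 0)⟩))
 (.node (nat_lit 1) (.leaf ⟨nat_lit 8, false, nat_lit 8, (nat_lit 0x2a198c2d12cc0891d1949), (nat_lit 0)⟩)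
 (.leaf ⟨nat_lit 8, false, nat_lit 8, (nat_lit 0x103107cb84e44e0c7210345), (nat_lit 0)⟩)))
 (.node (nat_lit 2) (.node (nat_lit 1) (.leaf ⟨nat_lit 8, false, nat_lit 8, (nat_lit 0x3233ca35084b80d08710b447), (nat_lit 0)⟩)
 (.leaf ⟨nat_lit 8, true, nat_lit 4, (nat_lit 0x2d178c86628418b1e434a), (nat_lit 0x2a038b40c2d130a1103c8327)⟩))
 (.node (nat_lit 1) (.leaf ⟨nat_lit 8, false, nat_lit 8, (nat_lit 0x2df30a32244a34a0891cb261), (nat_lit 0)⟩)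
 (.leaf ⟨nat_lit 8, false, nat_lit 8, (nat_lit 0x31e7ce30c42610b426247), (nat_lit 0)⟩)))))))
def ft1 : BT Fc := (.node (nat_lit 32) (.node (nat_lit 16) (.node (nat_lit 8) (.node (nat_lit 4) (.node (nat_lit 2) (.node (nat_lit 1) (.leaf ⟨nat_lit 8, false, nat_lit 8, (nat_lit 0x32539f3918a380430535f084), (nat_lit 0)⟩)
 (.leaf ⟨nat_lit 8, false, nat_lit 8, (nat_lit 0xc39e89098e2e6110321245), (nat_lit 0)⟩))
 (.node (nat_lit 1) (.leaf ⟨nat_lit 8, false, nat_lit 8, (nat_lit 0x2d035194f34f88a10784408e205), (nat_lit 0)⟩)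
 (.leaf ⟨nat_lit 4, false, nat_lit 4, (nat_lit 0xc3203903d144f3422472c9802), (nat_lit 0)⟩)))
 (.node (nat_lit 2) (.node (nat_lit 1) (.leaf ⟨nat_lit 4, false, nat_lit 4, (nat_lit 0x32145e98f7d03c42890c8385), (nat_lit 0)⟩)
 (.leaf ⟨nat_lit 4, false, nat_lit 4, (nat_lit 0x4663a040c3e04039c38e4), (nat_lit 0)⟩))
 (.node (nat_lit 1) (.leaf ⟨nat_lit 4, false, nat_lit 4, (nat_lit 0xb46045f98e4662c21c57841c4), (nat_lit 0)⟩)
 (.leaf ⟨nat_lit 4, false, nat_lit 4, (nat_lit 0x9512e33e17d12851c834f109), (nat_lit 0)⟩))))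
 (.node (nat_lit 4) (.node (nat_lit 2) (.node (nat_lit 1) (.leaf ⟨nat_lit 2, true, nat_lit 9, (nat_lit 0x2de36584b30b088), (nat_lit 0)⟩)
 (.leaf ⟨nat_lit 9, false, nat_lit 9, (nat_lit 0x2e694f98d8e2121945), (nat_lit 0)⟩))
 (.node (nat_lit 1) (.leaf ⟨nat_lit 9, false, nat_lit 9, (nat_lit 0xb98d3907e278a28224e14d282), (nat_lit 0)⟩)
 (.leaf ⟨nat_lit 9, false, nat_lit 9, (nat_lit 0x29080d28f8df2cc2c42e5188806), (nat_lit 0)⟩)))
 (.node (nat_lit 2) (.node (nat_lit 1) (.leaf ⟨nat_lit 9, false, nat_lit 9, (nat_lit 0xb7cc94f44e891385184802842), (nat_lit 0)⟩)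
 (.leaf ⟨nat_lit 9, false, nat_lit 9, (nat_lit 0x2917de88f2e084a10b39f987), (nat_lit 0)⟩))
 (.node (nat_lit 1) (.leaf ⟨nat_lit 9, false, nat_lit 9, (nat_lit 0x31f3cb2d081f38a10b88e906243), (nat_lit 0)⟩)
 (.leaf ⟨nat_lit 9, false, nat_lit 9, (nat_lit 0xa8663cc8d130b08d243945), (nat_lit 0)⟩)))))
 (.node (nat_lit 8) (.node (nat_lit 4) (.node (nat_lit 2) (.node (nat_lit 1) (.leaf ⟨nat_lit 9, true, nat_lit 4, (nat_lit 0xb80b2d03503a51081a3102), (nat_lit 0x2cf45e3a046180a1822de)⟩)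
 (.leaf ⟨nat_lit 9, false, nat_lit 9, (nat_lit 0xb36084a45e324), (nat_lit 0)⟩))
 (.node (nat_lit 1) (.leaf ⟨nat_lit 9, false, nat_lit 9, (nat_lit 0xc39145f8a53a53040881887c6), (nat_lit 0)⟩)
 (.leaf ⟨nat_lit 9, false, nat_lit 9, (nat_lit 0xc3a32a32a63cc1062211a1405), (nat_lit 0)⟩)))
 (.node (nat_lit 2) (.node (nat_lit 1) (.leaf ⟨nat_lit 9, false, nat_lit 9, (nat_lit 0x40f2cc9667830e30e3142), (nat_lit 0)⟩)
 (.leaf ⟨nat_lit 3, true, nat_lit 9, (nat_lit 0xa8112df3e029012020740c), (nat_lit 0x30a78c40e8d11c220c3c2)⟩))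
 (.node (nat_lit 1) (.leaf ⟨nat_lit 6, true, nat_lit 3, (nat_lit 0xa7e14202a138b0c436710c), (nat_lit 0xb34f7e144f3502840c310d1d1)⟩)
 (.leaf ⟨nat_lit 6, false, nat_lit 6, (nat_lit 0x2e52e53ca8cd3841d115011f), (nat_lit 0)⟩))))
 (.node (nat_lit 4) (.node (nat_lit 2) (.node (nat_lit 1) (.leaf ⟨nat_lit 6, false, nat_lit 6, (nat_lit 0x29e82298d3cf98a0c38840e5444), (nat_lit 0)⟩)
 (.leaf ⟨nat_lit 6, false, nat_lit 6, (nat_lit 0x3103e02cc9612c318e14d3ca442), (nat_lit 0)⟩))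
 (.node (nat_lit 1) (.leaf ⟨nat_lit 6, true, nat_lit 10, (nat_lit 0x2de36584b30b088), (nat_lit 0)⟩)
 (.leaf ⟨nat_lit 10, false, nat_lit 10, (nat_lit 0x107ce38d34e7cc148088), (nat_lit 0)⟩)))
 (.node (nat_lit 2) (.node (nat_lit 1) (.leaf ⟨nat_lit 10, false, nat_lit 10, (nat_lit 0x40c8a13903211108661cb3c2), (nat_lit 0)⟩)
 (.leaf ⟨nat_lit 10, false, nat_lit 10, (nat_lit 0xc2904204223d03c21223892cc), (nat_lit 0)⟩))
 (.node (nat_lit 1) (.leaf ⟨nat_lit 10, false, nat_lit 10, (nat_lit 0xb3113cb7cc2cf30388724c20d), (nat_lit 0)⟩)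
 (.leaf ⟨nat_lit 10, false, nat_lit 10, (nat_lit 0xb8cf84d8233a01077c7091), (nat_lit 0)⟩))))))
 (.node (nat_lit 16) (.node (nat_lit 8) (.node (nat_lit 4) (.node (nat_lit 2) (.node (nat_lit 1) (.leaf ⟨nat_lit 10, false, nat_lit 10, (nat_lit 0xb94f40b99098b2c49824489c4), (nat_lit 0)⟩)
 (.leaf ⟨nat_lit 10, false, nat_lit 10, (nat_lit 0x2cb45e89079128420f8a438a), (nat_lit 0)⟩))
 (.node (nat_lit 1) (.leaf ⟨nat_lit 7, true, nat_lit 11, (nat_lit 30), (nat_lit 0)⟩)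
 (.leaf ⟨nat_lit 11, false, nat_lit 11, (nat_lit 0xc3df84c950311304448364345), (nat_lit 0)⟩)))
 (.node (nat_lit 2) (.node (nat_lit 1) (.leaf ⟨nat_lit 11, false, nat_lit 11, (nat_lit 0xc8108503233ca28444b7c5), (nat_lit 0)⟩)
 (.leaf ⟨nat_lit 11, false, nat_lit 11, (nat_lit 0xa28e8ce3a34214440a61091c8), (nat_lit 0)⟩))
 (.node (nat_lit 1) (.leaf ⟨nat_lit 11, false, nat_lit 11, (nat_lit 0x102a038d9a02cb08725e864), (nat_lit 0)⟩)
 (.leaf ⟨nat_lit 11, false, nat_lit 11, (nat_lit 0x30f94d86040e2cb0e69c5), (nat_lit 0)⟩))))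
 (.node (nat_lit 4) (.node (nat_lit 2) (.node (nat_lit 1) (.leaf ⟨nat_lit 1, true, nat_lit 12, (nat_lit 0xa34b3cb34e8a330a142882161303), (nat_lit 0)⟩)
 (.leaf ⟨nat_lit 12, true, nat_lit 14, (nat_lit 0x31f81144e34d98d0cf0e510320f), (nat_lit 0)⟩))
 (.node (nat_lit 1) (.leaf ⟨nat_lit 10, true, nat_lit 5, (nat_lit 0x8e628a95088c24720d), (nat_lit 0x28d28f88e38a3cc08418b0e1)⟩)
 (.leaf ⟨nat_lit 5, false, nat_lit 5, (nat_lit 0xb81f8a13112cf0cb2c3346), (nat_lit 0)⟩)))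
 (.node (nat_lit 2) (.node (nat_lit 1) (.leaf ⟨nat_lit 5, false, nat_lit 5, (nat_lit 0xc88c7ce8d080445e342), (nat_lit 0)⟩)
 (.leaf ⟨nat_lit 5, false, nat_lit 5, (nat_lit 0xb30b7cf7e144b2c30cb0cc1e5), (nat_lit 0)⟩))
 (.node (nat_lit 1) (.leaf ⟨nat_lit 5, false, nat_lit 5, (nat_lit 0x28f41e8a64104039910d12cd0c3), (nat_lit 0)⟩)
 (.leaf ⟨nat_lit 5, false, nat_lit 5, (nat_lit 0x2e03cf32631f40f28508e0d024e), (nat_lit 0)⟩)))))
 (.node (nat_lit 8) (.node (nat_lit 4) (.node (nat_lit 2) (.node (nat_lit 1) (.leaf ⟨nat_lit 7, false, nat_lit 7, (nat_lit 0x2a646330a39f44b0a428680b), (nat_lit 0)⟩)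
 (.leaf ⟨nat_lit 7, false, nat_lit 7, (nat_lit 0xc80c8212cb4043867873c2), (nat_lit 0)⟩))
 (.node (nat_lit 1) (.leaf ⟨nat_lit 7, false, nat_lit 7, (nat_lit 0xc2cd2e284f44b3c51cb2de245), (nat_lit 0)⟩)
 (.leaf ⟨nat_lit 7, false, nat_lit 7, (nat_lit 0xc2cb8a12cf7cf343846145843), (nat_lit 0)⟩)))
 (.node (nat_lit 2) (.node (nat_lit 1) (.leaf ⟨nat_lit 11, false, nat_lit 11, (nat_lit 0x2d02d139130f40218c246), (nat_lit 0)⟩)
 (.leaf ⟨nat_lit 9, true, nat_lit 3, (nat_lit 0x2e13a64603113a114940214f0d0), (nat_lit 0x2e33903e145e2cb2c29881831c2)⟩))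
 (.node (nat_lit 1) (.leaf ⟨nat_lit 7, true, nat_lit 5, (nat_lit 0x2340c40c8508829878878c3), (nat_lit 0xd34e36398a4023822c4884)⟩)
 (.leaf ⟨nat_lit 7, false, nat_lit 7, (nat_lit 0x2139e99184c3c710d7c9), (nat_lit 0)⟩))))
 (.node (nat_lit 4) (.node (nat_lit 2) (.node (nat_lit 1) (.leaf ⟨nat_lit 7, false, nat_lit 7, (nat_lit 0x38a98e34b78f9063a6122), (nat_lit 0)⟩)
 (.leaf ⟨nat_lit 7, false, nat_lit 7, (nat_lit 0x28d98d81139e34d28208c808988), (nat_lit 0)⟩))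
 (.node (nat_lit 1) (.leaf ⟨nat_lit 7, false, nat_lit 7, (nat_lit 0x28e4233d081f40b10844e1e3), (nat_lit 0)⟩)
 (.leaf ⟨nat_lit 11, false, nat_lit 11, (nat_lit 0x2e63e13e128e2c440780f782), (nat_lit 0)⟩)))
 (.node (nat_lit 2) (.node (nat_lit 1) (.leaf ⟨nat_lit 11, false, nat_lit 11, (nat_lit 0x29f3df3102cd8c38c90a6403), (nat_lit 0)⟩)
 (.leaf ⟨nat_lit 11, false, nat_lit 11, (nat_lit 0xb3223ca3e196010724a148), (nat_lit 0)⟩))
 (.node (nat_lit 1) (.leaf ⟨nat_lit 11, true, nat_lit 7, (nat_lit 0x28e94d80f4513c224422341e), (nat_lit 0x80f8ce45e44b10c810242)⟩)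
 (.leaf ⟨nat_lit 11, false, nat_lit 11, (nat_lit 0x2a63213a694e88e0c42863442c2), (nat_lit 0)⟩)))))))
def ft2 : BT Fc := (.node (nat_lit 32) (.node (nat_lit 16) (.node (nat_lit 8) (.node (nat_lit 4) (.node (nat_lit 2) (.node (nat_lit 1) (.leaf ⟨nat_lit 11, false, nat_lit 11, (nat_lit 0x2a12cf84e84d88b1462210e60c3), (nat_lit 0)⟩)
 (.leaf ⟨nat_lit 11, false, nat_lit 11, (nat_lit 0x35f39f86340d78410b146121402), (nat_lit 0)⟩))
 (.node (nat_lit 1) (.leaf ⟨nat_lit 2, true, nat_lit 21, (nat_lit 0x78f8a136181014b1cf088), (nat_lit 0)⟩)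
 (.leaf ⟨nat_lit 3, true, nat_lit 22, (nat_lit 0x31f81144e34d98d0cf0e510320f), (nat_lit 0)⟩)))
 (.node (nat_lit 2) (.node (nat_lit 1) (.leaf ⟨nat_lit 12, true, nat_lit 23, (nat_lit 30), (nat_lit 0)⟩)
 (.leaf ⟨nat_lit 23, true, nat_lit 3, (nat_lit 0x1078e8cc98c98c14d4442c8), (nat_lit 0x30c3a344a7ca30f0a510638b)⟩))
 (.node (nat_lit 1) (.leaf ⟨nat_lit 4, true, nat_lit 26, (nat_lit 0xa84a8e284e39e285282108286), (nat_lit 0)⟩)
 (.leaf ⟨nat_lit 2, true, nat_lit 28, (nat_lit 0x1180e34d8e1265166), (nat_lit 0)⟩))))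
 (.node (nat_lit 4) (.node (nat_lit 2) (.node (nat_lit 1) (.leaf ⟨nat_lit 28, false, nat_lit 28, (nat_lit 0x2cf3103e194d34d08b15e882), (nat_lit 0)⟩)
 (.leaf ⟨nat_lit 28, false, nat_lit 28, (nat_lit 0x84e41e35e41e34318330a88d), (nat_lit 0)⟩))
 (.node (nat_lit 1) (.leaf ⟨nat_lit 28, false, nat_lit 28, (nat_lit 0x29f3cd44d78d284385247282), (nat_lit 0)⟩)
 (.leaf ⟨nat_lit 28, false, nat_lit 28, (nat_lit 0xa88d38d41035e34224724c385), (nat_lit 0)⟩)))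
 (.node (nat_lit 2) (.node (nat_lit 1) (.leaf ⟨nat_lit 28, false, nat_lit 28, (nat_lit 0x30a29128e30e8100860c9863345), (nat_lit 0)⟩)
 (.leaf ⟨nat_lit 28, false, nat_lit 28, (nat_lit 0xc8e298e36280d10984794f3c2), (nat_lit 0)⟩))
 (.node (nat_lit 1) (.leaf ⟨nat_lit 28, false, nat_lit 28, (nat_lit 0x30e99128c99178b149086), (nat_lit 0)⟩)
 (.leaf ⟨nat_lit 28, false, nat_lit 28, (nat_lit 0x28d84b34f99010720a18c), (nat_lit 0)⟩)))))
 (.node (nat_lit 8) (.node (nat_lit 4) (.node (nat_lit 2) (.node (nat_lit 1) (.leaf ⟨nat_lit 4, true, nat_lit 29, (nat_lit 0xa31e46235f), (nat_lit 0)⟩)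
 (.leaf ⟨nat_lit 29, false, nat_lit 29, (nat_lit 0x28d2df2e344f7ca), (nat_lit 0)⟩))
 (.node (nat_lit 1) (.leaf ⟨nat_lit 29, false, nat_lit 29, (nat_lit 0xb2cd28f80e80b), (nat_lit 0)⟩)
 (.leaf ⟨nat_lit 29, false, nat_lit 29, (nat_lit 0x2e23cb3ca81f2cb08a19f246), (nat_lit 0)⟩)))
 (.node (nat_lit 2) (.node (nat_lit 1) (.leaf ⟨nat_lit 29, false, nat_lit 29, (nat_lit 0x2cd88d79189e), (nat_lit 0)⟩)
 (.leaf ⟨nat_lit 29, false, nat_lit 29, (nat_lit 0x30f3e234a28e2d008a19f246), (nat_lit 0)⟩))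
 (.node (nat_lit 1) (.leaf ⟨nat_lit 29, false, nat_lit 29, (nat_lit 0x28f42294d2ce34a), (nat_lit 0)⟩)
 (.leaf ⟨nat_lit 29, false, nat_lit 29, (nat_lit 0x28d88e46235e34f08a19f246), (nat_lit 0)⟩))))
 (.node (nat_lit 4) (.node (nat_lit 2) (.node (nat_lit 1) (.leaf ⟨nat_lit 29, false, nat_lit 29, (nat_lit 0x28c94f8d180b30c08a19f246), (nat_lit 0)⟩)
 (.leaf ⟨nat_lit 4, true, nat_lit 30, (nat_lit 0x28c29e98f98e1cd2a4), (nat_lit 0)⟩))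
 (.node (nat_lit 1) (.leaf ⟨nat_lit 30, false, nat_lit 30, (nat_lit 0xa9513d17cf4102842c48447d0), (nat_lit 0)⟩)
 (.leaf ⟨nat_lit 30, false, nat_lit 30, (nat_lit 0x3213e244f3618901088e5845), (nat_lit 0)⟩)))
 (.node (nat_lit 2) (.node (nat_lit 1) (.leaf ⟨nat_lit 30, false, nat_lit 30, (nat_lit 0xb2e628f84d2cd10c7859c8), (nat_lit 0)⟩)
 (.leaf ⟨nat_lit 30, false, nat_lit 30, (nat_lit 0xc3df2e298c3212843e63c498f), (nat_lit 0)⟩))
 (.node (nat_lit 1) (.leaf ⟨nat_lit 3, true, nat_lit 31, (nat_lit 0x79f821966), (nat_lit 0)⟩)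
 (.leaf ⟨nat_lit 31, false, nat_lit 31, (nat_lit 0x2917cc89195e2c2266444802), (nat_lit 0)⟩))))))
 (.node (nat_lit 16) (.node (nat_lit 8) (.node (nat_lit 4) (.node (nat_lit 2) (.node (nat_lit 1) (.leaf ⟨nat_lit 31, false, nat_lit 31, (nat_lit 0xb32584f98e2c2184985), (nat_lit 0)⟩)
 (.leaf ⟨nat_lit 31, false, nat_lit 31, (nat_lit 0xc78a31f3213a32821cc8499c4), (nat_lit 0)⟩))
 (.node (nat_lit 1) (.leaf ⟨nat_lit 31, false, nat_lit 31, (nat_lit 0x252cc7ce84224c406), (nat_lit 0)⟩)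
 (.leaf ⟨nat_lit 31, false, nat_lit 31, (nat_lit 0x2a23a04219a28cc107326089), (nat_lit 0)⟩)))
 (.node (nat_lit 2) (.node (nat_lit 1) (.leaf ⟨nat_lit 31, false, nat_lit 31, (nat_lit 0xb44d7e089189e0891c978a), (nat_lit 0)⟩)
 (.leaf ⟨nat_lit 31, false, nat_lit 31, (nat_lit 0x1e88d36240a1077c42d1), (nat_lit 0)⟩))
 (.node (nat_lit 1) (.leaf ⟨nat_lit 4, true, nat_lit 31, (nat_lit 0xc2de44b85034a0c690d3c4782), (nat_lit 0x2cc80a3cd99188518e29e842)⟩)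
 (.leaf ⟨nat_lit 31, false, nat_lit 31, (nat_lit 0x30a34f9614617863a42c3), (nat_lit 0)⟩))))
 (.node (nat_lit 4) (.node (nat_lit 2) (.node (nat_lit 1) (.leaf ⟨nat_lit 31, false, nat_lit 31, (nat_lit 0xc3d134f8e589010b444982), (nat_lit 0)⟩)
 (.leaf ⟨nat_lit 31, false, nat_lit 31, (nat_lit 0x2d13118a63e630338e245), (nat_lit 0)⟩))
 (.node (nat_lit 1) (.leaf ⟨nat_lit 31, false, nat_lit 31, (nat_lit 0x30b4663a188c88a09128c246), (nat_lit 0)⟩)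
 (.leaf ⟨nat_lit 31, false, nat_lit 31, (nat_lit 0xc3de36029040f0c344a986), (nat_lit 0)⟩)))
 (.node (nat_lit 2) (.node (nat_lit 1) (.leaf ⟨nat_lit 29, true, nat_lit 4, (nat_lit 0xc88f3cd78d8df085291167), (nat_lit 0xd3de34b44f98f0c42c384f982)⟩)
 (.leaf ⟨nat_lit 29, false, nat_lit 29, (nat_lit 0x28e44d80e2ce883262846), (nat_lit 0)⟩))
 (.node (nat_lit 1) (.leaf ⟨nat_lit 29, false, nat_lit 29, (nat_lit 0xb3e23ca31f4512a7), (nat_lit 0)⟩)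
 (.leaf ⟨nat_lit 29, false, nat_lit 29, (nat_lit 0xd79038b3cf8ca08a19f246), (nat_lit 0)⟩)))))
 (.node (nat_lit 8) (.node (nat_lit 4) (.node (nat_lit 2) (.node (nat_lit 1) (.leaf ⟨nat_lit 29, false, nat_lit 29, (nat_lit 0xa42128d40e425283887207), (nat_lit 0)⟩)
 (.leaf ⟨nat_lit 3, true, nat_lit 32, (nat_lit 0xa9912a539e3a2089263), (nat_lit 0)⟩))
 (.node (nat_lit 1) (.leaf ⟨nat_lit 32, false, nat_lit 32, (nat_lit 0xb3213103103022e71c91ca), (nat_lit 0)⟩)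
 (.leaf ⟨nat_lit 32, false, nat_lit 32, (nat_lit 0x4623a640a7ce2832ce1c5203), (nat_lit 0)⟩)))
 (.node (nat_lit 2) (.node (nat_lit 1) (.leaf ⟨nat_lit 32, false, nat_lit 32, (nat_lit 0xb39e8113df2912c284938d785), (nat_lit 0)⟩)
 (.leaf ⟨nat_lit 32, false, nat_lit 32, (nat_lit 0x35135035e3e030410678a947), (nat_lit 0)⟩))
 (.node (nat_lit 1) (.leaf ⟨nat_lit 32, false, nat_lit 32, (nat_lit 0xb84a3ca3a640a10728d18b), (nat_lit 0)⟩)
 (.leaf ⟨nat_lit 32, false, nat_lit 32, (nat_lit 0x28f4652e045e4031a4406405), (nat_lit 0)⟩))))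
 (.node (nat_lit 4) (.node (nat_lit 2) (.node (nat_lit 1) (.leaf ⟨nat_lit 3, true, nat_lit 33, (nat_lit 0xa98c45e28e962089263), (nat_lit 0)⟩)
 (.leaf ⟨nat_lit 33, false, nat_lit 33, (nat_lit 0xc7a094d7e638d282163283142), (nat_lit 0)⟩))
 (.node (nat_lit 1) (.leaf ⟨nat_lit 33, false, nat_lit 33, (nat_lit 0x2cd34d7e28502c33463a7246), (nat_lit 0)⟩)
 (.leaf ⟨nat_lit 33, false, nat_lit 33, (nat_lit 0x30a3223ca88c284842302205), (nat_lit 0)⟩)))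
 (.node (nat_lit 2) (.node (nat_lit 1) (.leaf ⟨nat_lit 33, false, nat_lit 33, (nat_lit 0x2e23e694b84c3c538680b849), (nat_lit 0)⟩)
 (.leaf ⟨nat_lit 33, false, nat_lit 33, (nat_lit 0xc2a631131134e30226518438d), (nat_lit 0)⟩))
 (.node (nat_lit 1) (.leaf ⟨nat_lit 33, false, nat_lit 33, (nat_lit 0x84c86634f34a30228584e302), (nat_lit 0)⟩)
 (.leaf ⟨nat_lit 33, false, nat_lit 33, (nat_lit 0x28c40a9908a310898328a), (nat_lit 0)⟩)))))))
def ft3 : BT Fc := (.node (nat_lit 32) (.node (nat_lit 16) (.node (nat_lit 8) (.node (nat_lit 4) (.node (nat_lit 2) (.node (nat_lit 1) (.leaf ⟨nat_lit 33, false, nat_lit 33, (nat_lit 0x32084c8e53ca2830de30e), (nat_lit 0)⟩)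
 (.leaf ⟨nat_lit 10, true, nat_lit 33, (nat_lit 0xa44b3cc28f8e128484e243362), (nat_lit 0x7cf88f94b32108a14914e)⟩))
 (.node (nat_lit 1) (.leaf ⟨nat_lit 32, false, nat_lit 32, (nat_lit 0xb39e8113df2912c284938d785), (nat_lit 0)⟩)
 (.leaf ⟨nat_lit 3, true, nat_lit 34, (nat_lit 0xb7ce4103508d0089263), (nat_lit 0)⟩)))
 (.node (nat_lit 2) (.node (nat_lit 1) (.leaf ⟨nat_lit 34, false, nat_lit 34, (nat_lit 0x28d80e29034f7842df78e2a4), (nat_lit 0)⟩)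
 (.leaf ⟨nat_lit 34, false, nat_lit 34, (nat_lit 0x2e240b98c9512c211038738b), (nat_lit 0)⟩))
 (.node (nat_lit 1) (.leaf ⟨nat_lit 34, false, nat_lit 34, (nat_lit 0xc7a041040b4202c908c80a), (nat_lit 0)⟩)
 (.leaf ⟨nat_lit 34, false, nat_lit 34, (nat_lit 0x98c7a63cc4622832073e63c2), (nat_lit 0)⟩))))
 (.node (nat_lit 4) (.node (nat_lit 2) (.node (nat_lit 1) (.leaf ⟨nat_lit 34, false, nat_lit 34, (nat_lit 0xc44c7cf29e39f28224939e1cc), (nat_lit 0)⟩)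
 (.leaf ⟨nat_lit 34, false, nat_lit 34, (nat_lit 0x207cd7a58444631c2882), (nat_lit 0)⟩))
 (.node (nat_lit 1) (.leaf ⟨nat_lit 10, true, nat_lit 34, (nat_lit 0x28a80d8623909853d128a082), (nat_lit 0x2344a98e79128a0873112e7205)⟩)
 (.leaf ⟨nat_lit 34, false, nat_lit 34, (nat_lit 0xb9903cf8503220822c8406785), (nat_lit 0)⟩)))
 (.node (nat_lit 2) (.node (nat_lit 1) (.leaf ⟨nat_lit 34, false, nat_lit 34, (nat_lit 0x29130f30f96239f0857cf3c2), (nat_lit 0)⟩)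
 (.leaf ⟨nat_lit 34, false, nat_lit 34, (nat_lit 0x2cc80a44d7e038428834d19e), (nat_lit 0)⟩))
 (.node (nat_lit 1) (.leaf ⟨nat_lit 34, true, nat_lit 10, (nat_lit 0x28e8633a094e28440a446148), (nat_lit 0xb3d02cd44a30b2c42de3a4302)⟩)
 (.leaf ⟨nat_lit 34, false, nat_lit 34, (nat_lit 0xc8cc9913e285010f10d8cf806), (nat_lit 0)⟩)))))
 (.node (nat_lit 8) (.node (nat_lit 4) (.node (nat_lit 2) (.node (nat_lit 1) (.leaf ⟨nat_lit 34, false, nat_lit 34, (nat_lit 0x2cd3cb80f30f40f0d110b807386), (nat_lit 0)⟩)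
 (.leaf ⟨nat_lit 34, false, nat_lit 34, (nat_lit 0x29e7cc38a89f3cd0872cb344345), (nat_lit 0)⟩))
 (.node (nat_lit 1) (.leaf ⟨nat_lit 34, false, nat_lit 34, (nat_lit 0x2cd3913de3ca4200ce18f242182), (nat_lit 0)⟩)
 (.leaf ⟨nat_lit 3, true, nat_lit 35, (nat_lit 0x30c8512e195f089263), (nat_lit 0)⟩)))
 (.node (nat_lit 2) (.node (nat_lit 1) (.leaf ⟨nat_lit 35, false, nat_lit 35, (nat_lit 0x29178e4233cb40b0891c9165), (nat_lit 0)⟩)
 (.leaf ⟨nat_lit 35, false, nat_lit 35, (nat_lit 0x2cd40a811460102308205), (nat_lit 0)⟩))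
 (.node (nat_lit 1) (.leaf ⟨nat_lit 35, false, nat_lit 35, (nat_lit 0xc80f2a33d18e07821c5308148), (nat_lit 0)⟩)
 (.leaf ⟨nat_lit 35, false, nat_lit 35, (nat_lit 0xc3df82244d38c28421084a205), (nat_lit 0)⟩))))
 (.node (nat_lit 4) (.node (nat_lit 2) (.node (nat_lit 1) (.leaf ⟨nat_lit 3, true, nat_lit 36, (nat_lit 0x2a180e30a94a90c), (nat_lit 0)⟩)
 (.leaf ⟨nat_lit 36, false, nat_lit 36, (nat_lit 0xb44a8e22e53101088e5845), (nat_lit 0)⟩))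
 (.node (nat_lit 1) (.leaf ⟨nat_lit 36, false, nat_lit 36, (nat_lit 0xc39e8cf2a138e78a08a19f246), (nat_lit 0)⟩)
 (.leaf ⟨nat_lit 36, false, nat_lit 36, (nat_lit 0x4633e230e3a030508d24e885), (nat_lit 0)⟩)))
 (.node (nat_lit 2) (.node (nat_lit 1) (.leaf ⟨nat_lit 36, false, nat_lit 36, (nat_lit 0x41f98f3d086510628818a), (nat_lit 0)⟩)
 (.leaf ⟨nat_lit 36, false, nat_lit 36, (nat_lit 0xe3a194d7ce88a1088e5845), (nat_lit 0)⟩))
 (.node (nat_lit 1) (.leaf ⟨nat_lit 36, false, nat_lit 36, (nat_lit 0x2cc8a638e88b98224b98488d), (nat_lit 0)⟩)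
 (.leaf ⟨nat_lit 36, false, nat_lit 36, (nat_lit 0xb8d040f2e12e008440724c), (nat_lit 0)⟩))))))
 (.node (nat_lit 16) (.node (nat_lit 8) (.node (nat_lit 4) (.node (nat_lit 2) (.node (nat_lit 1) (.leaf ⟨nat_lit 36, false, nat_lit 36, (nat_lit 0x7a12cc41f3102841df0c9884), (nat_lit 0)⟩)
 (.leaf ⟨nat_lit 36, false, nat_lit 36, (nat_lit 0x30b30b40d3e680a2841c21213cf), (nat_lit 0)⟩))
 (.node (nat_lit 1) (.leaf ⟨nat_lit 3, true, nat_lit 37, (nat_lit 0xa2a02e294b), (nat_lit 0)⟩)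
 (.leaf ⟨nat_lit 4, true, nat_lit 38, (nat_lit 0x28c79188d7e4), (nat_lit 0)⟩)))
 (.node (nat_lit 2) (.node (nat_lit 1) (.leaf ⟨nat_lit 38, false, nat_lit 38, (nat_lit 0xf42040d4223cd08678f), (nat_lit 0)⟩)
 (.leaf ⟨nat_lit 38, false, nat_lit 38, (nat_lit 0xa35078e78d28c38208e2c9), (nat_lit 0)⟩))
 (.node (nat_lit 1) (.leaf ⟨nat_lit 38, false, nat_lit 38, (nat_lit 0xb2e08e231f2e440a), (nat_lit 0)⟩)
 (.leaf ⟨nat_lit 38, false, nat_lit 38, (nat_lit 0x2cf3e240f86044d250191), (nat_lit 0)⟩))))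
 (.node (nat_lit 4) (.node (nat_lit 2) (.node (nat_lit 1) (.leaf ⟨nat_lit 38, false, nat_lit 38, (nat_lit 0x2298d38b94e7e4391), (nat_lit 0)⟩)
 (.leaf ⟨nat_lit 38, false, nat_lit 38, (nat_lit 0x29f3d13cc3ca88228839f), (nat_lit 0)⟩))
 (.node (nat_lit 1) (.leaf ⟨nat_lit 38, false, nat_lit 38, (nat_lit 0x40c3d085128e28228839f), (nat_lit 0)⟩)
 (.leaf ⟨nat_lit 10, true, nat_lit 33, (nat_lit 0xa7cf3517cc7903832078c8089), (nat_lit 0xc2ce41084b34f3422c81c508d185)⟩)))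
 (.node (nat_lit 2) (.node (nat_lit 1) (.leaf ⟨nat_lit 3, true, nat_lit 39, (nat_lit 0xa8a584a8212a4), (nat_lit 0)⟩)
 (.leaf ⟨nat_lit 39, false, nat_lit 39, (nat_lit 0xc3904103d028c3840e71477c3), (nat_lit 0)⟩))
 (.node (nat_lit 1) (.leaf ⟨nat_lit 39, false, nat_lit 39, (nat_lit 0xb2df30f84e40c0891c93a1), (nat_lit 0)⟩)
 (.leaf ⟨nat_lit 39, false, nat_lit 39, (nat_lit 0xa28d3ca95082110628818a), (nat_lit 0)⟩)))))
 (.node (nat_lit 8) (.node (nat_lit 4) (.node (nat_lit 2) (.node (nat_lit 1) (.leaf ⟨nat_lit 39, false, nat_lit 39, (nat_lit 0x42194f46144a304891087903), (nat_lit 0)⟩)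
 (.leaf ⟨nat_lit 4, true, nat_lit 40, (nat_lit 0x212ce325990165), (nat_lit 0)⟩))
 (.node (nat_lit 1) (.leaf ⟨nat_lit 40, false, nat_lit 40, (nat_lit 0x29081085094c2c508d24e885), (nat_lit 0)⟩)
 (.leaf ⟨nat_lit 40, false, nat_lit 40, (nat_lit 0xa78e4652cc42108c909166), (nat_lit 0)⟩)))
 (.node (nat_lit 2) (.node (nat_lit 1) (.leaf ⟨nat_lit 40, false, nat_lit 40, (nat_lit 0x2d02d028a80f784191842882), (nat_lit 0)⟩)
 (.leaf ⟨nat_lit 40, false, nat_lit 40, (nat_lit 0x84f40b7cf7e03021c94080de), (nat_lit 0)⟩))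
 (.node (nat_lit 1) (.leaf ⟨nat_lit 38, true, nat_lit 4, (nat_lit 0xc94b3518ce42528280e1e21c5), (nat_lit 0xb30c41e8518cd28216510d20e1c5)⟩)
 (.leaf ⟨nat_lit 38, false, nat_lit 38, (nat_lit 0xa7e13e33e694d3c220f98e), (nat_lit 0)⟩))))
 (.node (nat_lit 4) (.node (nat_lit 2) (.node (nat_lit 1) (.leaf ⟨nat_lit 38, false, nat_lit 38, (nat_lit 0xc3a139f79099e34234890c), (nat_lit 0)⟩)
 (.leaf ⟨nat_lit 40, true, nat_lit 4, (nat_lit 0xa40b3cc29e40d0e21080a1882), (nat_lit 0x2a094e98c29040a08b0d090424e)⟩))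
 (.node (nat_lit 1) (.leaf ⟨nat_lit 40, false, nat_lit 40, (nat_lit 0x28f40c38e80d34b0cd18844408e), (nat_lit 0)⟩)
 (.leaf ⟨nat_lit 40, false, nat_lit 40, (nat_lit 0xa38d8a388f7cd10420618f445), (nat_lit 0)⟩)))
 (.node (nat_lit 2) (.node (nat_lit 1) (.leaf ⟨nat_lit 40, false, nat_lit 40, (nat_lit 0x2cd3de9903e380c106190363905), (nat_lit 0)⟩)
 (.leaf ⟨nat_lit 39, true, nat_lit 3, (nat_lit 0x2d08502a045144528f24990a), (nat_lit 0xc8ca38b7e18041080c430c)⟩))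
 (.node (nat_lit 1) (.leaf ⟨nat_lit 39, false, nat_lit 39, (nat_lit 0x2cc31099084b8d010a3a340e084), (nat_lit 0)⟩)
 (.leaf ⟨nat_lit 39, false, nat_lit 39, (nat_lit 0xb7a628d2d098f344891087903), (nat_lit 0)⟩)))))))
def ft4 : BT Fc := (.node (nat_lit 32) (.node (nat_lit 16) (.node (nat_lit 8) (.node (nat_lit 4) (.node (nat_lit 2) (.node (nat_lit 1) (.leaf ⟨nat_lit 39, false, nat_lit 39, (nat_lit 0x2098c3e040f78b10744e8a1186), (nat_lit 0)⟩)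
 (.leaf ⟨nat_lit 10, true, nat_lit 23, (nat_lit 0xc3a244b3a144b0c33cd4022c5), (nat_lit 0x3223cb40b8cd98c10b0c70a17c3)⟩))
 (.node (nat_lit 1) (.leaf ⟨nat_lit 7, true, nat_lit 23, (nat_lit 0x30f2e23cc96038a104405422082), (nat_lit 0xb36344e84c4222c23cd3c41c2)⟩)
 (.leaf ⟨nat_lit 7, false, nat_lit 12, (nat_lit 0x30b3a52cf94b802288183126442), (nat_lit 0)⟩)))
 (.node (nat_lit 2) (.node (nat_lit 1) (.leaf ⟨nat_lit 7, true, nat_lit 14, (nat_lit 0x31e7e23d18d13a21060e030319e), (nat_lit 0)⟩)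
 (.leaf ⟨nat_lit 7, true, nat_lit 1, (nat_lit 0x30b3a52cf94b802288183126442), (nat_lit 0xa34b3cb34e8a330a142882161303)⟩))
 (.node (nat_lit 1) (.leaf ⟨nat_lit 1, false, nat_lit 14, (nat_lit 0xc2df30e7a134e3439c91860c60c3), (nat_lit 0)⟩)
 (.leaf ⟨nat_lit 1, true, nat_lit 7, (nat_lit 0xa34b3cb34e8a330a142882161303), (nat_lit 0x30b3a52cf94b802288183126442)⟩))))
 (.node (nat_lit 4) (.node (nat_lit 2) (.node (nat_lit 1) (.leaf ⟨nat_lit 7, true, nat_lit 1, (nat_lit 0x31e7e23d18d13a21060e030319e), (nat_lit 0xc2df30e7a134e3439c91860c60c3)⟩)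
 (.leaf ⟨nat_lit 11, false, nat_lit 11, (nat_lit 0xb36029184e40a08b0cd11e), (nat_lit 0)⟩))
 (.node (nat_lit 1) (.leaf ⟨nat_lit 11, false, nat_lit 11, (nat_lit 0xb38e7a23e084e3440c790c784882), (nat_lit 0)⟩)
 (.leaf ⟨nat_lit 11, false, nat_lit 11, (nat_lit 0xa28f80f3603cc782345284345), (nat_lit 0)⟩)))
 (.node (nat_lit 2) (.node (nat_lit 1) (.leaf ⟨nat_lit 11, false, nat_lit 11, (nat_lit 0xa28c8cf3112cb3030c40e39c8146), (nat_lit 0)⟩)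
 (.leaf ⟨nat_lit 11, false, nat_lit 11, (nat_lit 0xb4108ce35f34d40a0851cf24d1cb), (nat_lit 0)⟩))
 (.node (nat_lit 1) (.leaf ⟨nat_lit 11, false, nat_lit 11, (nat_lit 0x2e23e330c2ce2cc0cb2021a7087), (nat_lit 0)⟩)
 (.leaf ⟨nat_lit 11, false, nat_lit 11, (nat_lit 0x2338e2d184d38a1033891090cf), (nat_lit 0)⟩)))))
 (.node (nat_lit 8) (.node (nat_lit 4) (.node (nat_lit 2) (.node (nat_lit 1) (.leaf ⟨nat_lit 11, false, nat_lit 11, (nat_lit 0x2cb35e8a134d34f0c318e2033c4), (nat_lit 0)⟩)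
 (.leaf ⟨nat_lit 11, false, nat_lit 0, (nat_lit 0), (nat_lit 0)⟩))
 (.node (nat_lit 1) (.leaf ⟨nat_lit 0, true, nat_lit 7, (nat_lit 0), (nat_lit 30)⟩)
 (.leaf ⟨nat_lit 7, false, nat_lit 1, (nat_lit 0), (nat_lit 30)⟩)))
 (.node (nat_lit 2) (.node (nat_lit 1) (.leaf ⟨nat_lit 1, true, nat_lit 23, (nat_lit 0xc7e188f46638e3041c286518f), (nat_lit 0xb36344e84c4222c23cd3c41c2)⟩)
 (.leaf ⟨nat_lit 1, true, nat_lit 5, (nat_lit 30), (nat_lit 0xa34b3cb34e8a330a142882161303)⟩))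
 (.node (nat_lit 1) (.leaf ⟨nat_lit 23, false, nat_lit 3, (nat_lit 0), (nat_lit 0xa3a180e9a58e01483471c4)⟩)
 (.leaf ⟨nat_lit 3, true, nat_lit 10, (nat_lit 0x40c7e23e244a10e8113c620d), (nat_lit 0xc3a244b3a144b0c33cd4022c5)⟩))))
 (.node (nat_lit 4) (.node (nat_lit 2) (.node (nat_lit 1) (.leaf ⟨nat_lit 1, true, nat_lit 1, (nat_lit 0xa34b3cb34e8a330a142882161303), (nat_lit 0x2cb35040d7cf40e14294428f404)⟩)
 (.leaf ⟨nat_lit 5, false, nat_lit 2, (nat_lit 0), (nat_lit 0xa34b3cb34e8a330a142882161303)⟩))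
 (.node (nat_lit 1) (.leaf ⟨nat_lit 2, true, nat_lit 3, (nat_lit 0xa34b3cb34e8a330a142882161303), (nat_lit 0xa34b3cb34e8a330a142882161303)⟩)
 (.leaf ⟨nat_lit 10, false, nat_lit 9, (nat_lit 0), (nat_lit 0x30f96128a3a68ca10e0c61617c2)⟩)))
 (.node (nat_lit 2) (.node (nat_lit 1) (.leaf ⟨nat_lit 9, true, nat_lit 33, (nat_lit 0x3ca3cc7cb84d08218c163904), (nat_lit 0xc2ce41084b34f3422c81c508d185)⟩)
 (.leaf ⟨nat_lit 9, true, nat_lit 34, (nat_lit 0x2de4653ca8ce88a1cf0c8088), (nat_lit 0x28e8633a094e28440a446148)⟩))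
 (.node (nat_lit 1) (.leaf ⟨nat_lit 9, true, nat_lit 34, (nat_lit 0x2df80e40c8a00c540d165), (nat_lit 0x2344a98e79128a0873112e7205)⟩)
 (.leaf ⟨nat_lit 9, true, nat_lit 33, (nat_lit 0xa34f34b30e40a7c428640c202), (nat_lit 0x7cf88f94b32108a14914e)⟩))))))
 (.node (nat_lit 16) (.node (nat_lit 8) (.node (nat_lit 4) (.node (nat_lit 2) (.node (nat_lit 1) (.leaf ⟨nat_lit 9, true, nat_lit 6, (nat_lit 0x30f96128a3a68ca10e0c61617c2), (nat_lit 0x2de36584b30b088)⟩)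
 (.leaf ⟨nat_lit 3, true, nat_lit 3, (nat_lit 0x30c3a344a7ca30f0a510638b), (nat_lit 0xb3233e03cf82110e787249345)⟩))
 (.node (nat_lit 1) (.leaf ⟨nat_lit 3, false, nat_lit 21, (nat_lit 0xb46088e80e3a32837cb0e33830c6), (nat_lit 0)⟩)
 (.leaf ⟨nat_lit 3, true, nat_lit 2, (nat_lit 0xa34b3cb34e8a330a142882161303), (nat_lit 0xa34b3cb34e8a330a142882161303)⟩)))
 (.node (nat_lit 2) (.node (nat_lit 1) (.leaf ⟨nat_lit 33, true, nat_lit 9, (nat_lit 0xc2ce41084b34f3422c81c508d185), (nat_lit 0x3ca3cc7cb84d08218c163904)⟩)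
 (.leaf ⟨nat_lit 34, true, nat_lit 9, (nat_lit 0x28e8633a094e28440a446148), (nat_lit 0x2de4653ca8ce88a1cf0c8088)⟩))
 (.node (nat_lit 1) (.leaf ⟨nat_lit 34, true, nat_lit 9, (nat_lit 0x2344a98e79128a0873112e7205), (nat_lit 0x2df80e40c8a00c540d165)⟩)
 (.leaf ⟨nat_lit 33, true, nat_lit 9, (nat_lit 0x7cf88f94b32108a14914e), (nat_lit 0xa34f34b30e40a7c428640c202)⟩))))
 (.node (nat_lit 4) (.node (nat_lit 2) (.node (nat_lit 1) (.leaf ⟨nat_lit 6, true, nat_lit 9, (nat_lit 0x2de36584b30b088), (nat_lit 0x30f96128a3a68ca10e0c61617c2)⟩)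
 (.leaf ⟨nat_lit 2, true, nat_lit 3, (nat_lit 0x78f8a136181014b1cf088), (nat_lit 0xb46088e80e3a32837cb0e33830c6)⟩))
 (.node (nat_lit 1) (.leaf ⟨nat_lit 33, true, nat_lit 28, (nat_lit 0x2e388b3cc3de3cd08c40b166), (nat_lit 0x39e86098c94a11078480d)⟩)
 (.leaf ⟨nat_lit 39, true, nat_lit 36, (nat_lit 0x29038d82338c44c2852453c8289), (nat_lit 0x32032188e38a30e08b0891e33c2)⟩)))
 (.node (nat_lit 2) (.node (nat_lit 1) (.leaf ⟨nat_lit 39, true, nat_lit 39, (nat_lit 0x32246038b40e84c10f1d030334d), (nat_lit 0x2cd7cf78c3ca3cb110163391)⟩)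
 (.leaf ⟨nat_lit 28, true, nat_lit 34, (nat_lit 0xb8113503a589e08738a3a2342), (nat_lit 0xc2cd94f94d42110a1629c8402)⟩))
 (.node (nat_lit 1) (.leaf ⟨nat_lit 38, true, nat_lit 34, (nat_lit 0xc39139e88c40d28238e18c), (nat_lit 0x1f82244f31f80c10e308805446)⟩)
 (.leaf ⟨nat_lit 40, true, nat_lit 34, (nat_lit 0x107903e328e94c0e7247791102), (nat_lit 0x30f3cc44b78f40509014b3050c3)⟩)))))
 (.node (nat_lit 8) (.node (nat_lit 4) (.node (nat_lit 2) (.node (nat_lit 1) (.leaf ⟨nat_lit 30, true, nat_lit 34, (nat_lit 0x1134f7e180d2c21d11630c5), (nat_lit 0x44d3653d08de10712540c24d)⟩)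
 (.leaf ⟨nat_lit 39, true, nat_lit 33, (nat_lit 0xa34f88f84b40d28321f1490ca), (nat_lit 0x30c38e34f98d28e14e28e0ca2a1)⟩))
 (.node (nat_lit 1) (.leaf ⟨nat_lit 40, true, nat_lit 33, (nat_lit 0x28d40b39188e0824492c90d0), (nat_lit 0x212a08d128e08232394f203)⟩)
 (.leaf ⟨nat_lit 33, true, nat_lit 31, (nat_lit 0xc3e394b2cf84f08f3c5447902), (nat_lit 0xc30f88e40f81e4051621460cd)⟩)))
 (.node (nat_lit 2) (.node (nat_lit 1) (.leaf ⟨nat_lit 40, true, nat_lit 33, (nat_lit 0xb44f98f8268512852cd089946), (nat_lit 0x30e38b3229502c340330e8c32c3)⟩)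
 (.leaf ⟨nat_lit 31, true, nat_lit 36, (nat_lit 0x28e40f31040f8c40e4184845), (nat_lit 0x31f86629184f40a0ca0ce2c7446)⟩))
 (.node (nat_lit 1) (.leaf ⟨nat_lit 36, false, nat_lit 36, (nat_lit 0xc88b8913cf9902843e43c83cb), (nat_lit 0)⟩)
 (.leaf ⟨nat_lit 36, false, nat_lit 36, (nat_lit 0xe42098e38e2ce0891c8102), (nat_lit 0)⟩))))
 (.node (nat_lit 4) (.node (nat_lit 2) (.node (nat_lit 1) (.leaf ⟨nat_lit 36, false, nat_lit 36, (nat_lit 0xc79032028e78c0891c8102), (nat_lit 0)⟩)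
 (.leaf ⟨nat_lit 36, false, nat_lit 36, (nat_lit 0xc3e038c8513cd3843e43c83cb), (nat_lit 0)⟩))
 (.node (nat_lit 1) (.leaf ⟨nat_lit 31, true, nat_lit 33, (nat_lit 0xc28c2d034f2de1261cb42120c), (nat_lit 0x2a294f98f30a44d08a1483a5804)⟩)
 (.leaf ⟨nat_lit 31, true, nat_lit 3, (nat_lit 0x84c84e2e1960120305204282), (nat_lit 0xa8663d098a4622833c598e1ca)⟩)))
 (.node (nat_lit 2) (.node (nat_lit 1) (.leaf ⟨nat_lit 31, false, nat_lit 37, (nat_lit 0x3113619902a03c23c23d038d), (nat_lit 0)⟩)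
 (.leaf ⟨nat_lit 3, true, nat_lit 31, (nat_lit 0xa2a02e294b), (nat_lit 0x3113619902a03c23c23d038d)⟩))
 (.node (nat_lit 1) (.leaf ⟨nat_lit 36, true, nat_lit 32, (nat_lit 0x2e04653cc44d98a10a08b80f186), (nat_lit 0x3d188e38b2d12c320c78c10a)⟩)
 (.leaf ⟨nat_lit 32, false, nat_lit 32, (nat_lit 0x28e29e36144e38a10d14f1e32c3), (nat_lit 0)⟩)))))))
def ft5 : BT Fc := (.node (nat_lit 32) (.node (nat_lit 16) (.node (nat_lit 8) (.node (nat_lit 4) (.node (nat_lit 2) (.node (nat_lit 1) (.leaf ⟨nat_lit 32, false, nat_lit 32, (nat_lit 0x28e29e36144e38a10d14f1e32c3), (nat_lit 0)⟩)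
 (.leaf ⟨nat_lit 32, false, nat_lit 32, (nat_lit 0x30e2cc7a645e0899433c82cf), (nat_lit 0)⟩))
 (.node (nat_lit 1) (.leaf ⟨nat_lit 32, false, nat_lit 32, (nat_lit 0x2a284d38d42278a09f3870c430f), (nat_lit 0)⟩)
 (.leaf ⟨nat_lit 30, true, nat_lit 33, (nat_lit 0x2a12e33cf2903cd10784484e182), (nat_lit 0x29f79145130a40a085462)⟩)))
 (.node (nat_lit 2) (.node (nat_lit 1) (.leaf ⟨nat_lit 33, true, nat_lit 30, (nat_lit 0xa8a194f9a531130a0d1104284443), (nat_lit 0x2cb79f8263d139e08220a0cf143)⟩)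
 (.leaf ⟨nat_lit 30, true, nat_lit 33, (nat_lit 0xa96635e3d144a28538e09f808), (nat_lit 0xc38c81134d29f4031e42440d1)⟩))
 (.node (nat_lit 1) (.leaf ⟨nat_lit 39, true, nat_lit 33, (nat_lit 0x2de40d84b8910cc2061a7186), (nat_lit 0x30e28a36195f78c0c73879030d0)⟩)
 (.leaf ⟨nat_lit 33, true, nat_lit 39, (nat_lit 0x2cc3a12d184e28a09112099118e), (nat_lit 0x2138b2e18d10c810f1c49e5)⟩))))
 (.node (nat_lit 4) (.node (nat_lit 2) (.node (nat_lit 1) (.leaf ⟨nat_lit 30, true, nat_lit 33, (nat_lit 0x2a628f3503a23a114884e982406), (nat_lit 0xa42236239084f2c32873c784c)⟩)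
 (.leaf ⟨nat_lit 36, true, nat_lit 39, (nat_lit 0x3613e134d80d0852cd38e443), (nat_lit 0x3cb38a3a340d98488e364182442)⟩))
 (.node (nat_lit 1) (.leaf ⟨nat_lit 33, true, nat_lit 31, (nat_lit 0xc40f7908cc39e10d88e191206), (nat_lit 0x7a63e08a63d114d343184184)⟩)
 (.leaf ⟨nat_lit 33, true, nat_lit 31, (nat_lit 0xf40e2e33e578d0c40c40c79cc), (nat_lit 0xb7e230e2a544e0c610c8ce927)⟩)))
 (.node (nat_lit 2) (.node (nat_lit 1) (.leaf ⟨nat_lit 33, true, nat_lit 34, (nat_lit 0x2cb34d2d02cf84d10b18e98410c), (nat_lit 0x38b8e298c7d128320d24c142)⟩)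
 (.leaf ⟨nat_lit 33, true, nat_lit 33, (nat_lit 0x2d03d135f3a542314b3901831cf), (nat_lit 0x2ce94b40f88a3ca0a620314f286)⟩))
 (.node (nat_lit 1) (.leaf ⟨nat_lit 30, true, nat_lit 33, (nat_lit 0x2a546398e28f30c0cf14c286148), (nat_lit 0x30c44d2e13cb78c1071492cd)⟩)
 (.leaf ⟨nat_lit 34, true, nat_lit 30, (nat_lit 0x8d080e2a180481010d7c5), (nat_lit 0xa38a2a22e33512852080890a1142)⟩)))))
 (.node (nat_lit 8) (.node (nat_lit 4) (.node (nat_lit 2) (.node (nat_lit 1) (.leaf ⟨nat_lit 40, true, nat_lit 33, (nat_lit 0x2cb44e45e7ca28d0e19880a13c4), (nat_lit 0x112cb78a45e3050c73913c3183)⟩)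
 (.leaf ⟨nat_lit 36, true, nat_lit 35, (nat_lit 0xb3d02a088e8113852c48861640c4), (nat_lit 0x30f85146036134d0869900871c4)⟩))
 (.node (nat_lit 1) (.leaf ⟨nat_lit 33, true, nat_lit 36, (nat_lit 0x98e2df3108e11040e720b082), (nat_lit 0x2cb80e41e4669448261cc88a)⟩)
 (.leaf ⟨nat_lit 36, true, nat_lit 33, (nat_lit 0x2330e94d98a7cc1040c78e7907), (nat_lit 0xc3e52cd38c3cd8840c71cc9852c2)⟩)))
 (.node (nat_lit 2) (.node (nat_lit 1) (.leaf ⟨nat_lit 36, true, nat_lit 31, (nat_lit 0x84e40d3617cb3043111a13c7), (nat_lit 0x45e3903a68a03c534f183848)⟩)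
 (.leaf ⟨nat_lit 31, true, nat_lit 36, (nat_lit 0xb80e3253cb8e240508f1097c6), (nat_lit 0x31f7a298e80e2852853c31a5082)⟩))
 (.node (nat_lit 1) (.leaf ⟨nat_lit 36, true, nat_lit 33, (nat_lit 0x28a38c78c38c84c08714c46419e), (nat_lit 0xc8912d078f40f2c31d190e084)⟩)
 (.leaf ⟨nat_lit 33, true, nat_lit 36, (nat_lit 0x232a09913e32cb10e0ca884405), (nat_lit 0x31e80a98f3cd40e08f10238538c)⟩))))
 (.node (nat_lit 4) (.node (nat_lit 2) (.node (nat_lit 1) (.leaf ⟨nat_lit 36, true, nat_lit 30, (nat_lit 0x31f82598f84d7ca1093849463c4), (nat_lit 0xa94b80b38e4510873838d0205)⟩)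
 (.leaf ⟨nat_lit 36, true, nat_lit 40, (nat_lit 0x2cc7e33d094e38d0c42c23891d1), (nat_lit 0x2de41e8912cc38e10734e34494a)⟩))
 (.node (nat_lit 1) (.leaf ⟨nat_lit 35, true, nat_lit 36, (nat_lit 0x2de3e08a534f44b10d40378410e), (nat_lit 0x2e53de40e46528c0e6308142288)⟩)
 (.leaf ⟨nat_lit 35, false, nat_lit 35, (nat_lit 0x32394f44a3e3447805207443), (nat_lit 0)⟩)))
 (.node (nat_lit 2) (.node (nat_lit 1) (.leaf ⟨nat_lit 35, false, nat_lit 35, (nat_lit 0x28d78a3a14108e214e14e24f344), (nat_lit 0)⟩)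
 (.leaf ⟨nat_lit 35, false, nat_lit 35, (nat_lit 0x258512e13de1422868088c8), (nat_lit 0)⟩))
 (.node (nat_lit 1) (.leaf ⟨nat_lit 35, false, nat_lit 35, (nat_lit 0xa88e7cd38d81f382402284944203), (nat_lit 0)⟩)
 (.leaf ⟨nat_lit 36, true, nat_lit 35, (nat_lit 0x29f78a8cf3263ca0820843903d1), (nat_lit 0x31036038e78c78a1101869c60cc)⟩))))))
 (.node (nat_lit 16) (.node (nat_lit 8) (.node (nat_lit 4) (.node (nat_lit 2) (.node (nat_lit 1) (.leaf ⟨nat_lit 36, true, nat_lit 34, (nat_lit 0xd84e82234e2cb0850c80e2283), (nat_lit 0xc8118a194b34a40538e4491e6402)⟩)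
 (.leaf ⟨nat_lit 36, false, nat_lit 30, (nat_lit 0), (nat_lit 0x44e44f84a96214810c247)⟩))
 (.node (nat_lit 1) (.leaf ⟨nat_lit 30, true, nat_lit 35, (nat_lit 0x1e9a544e3a310e891309789), (nat_lit 0x31036038e78c78a1101869c60cc)⟩)
 (.leaf ⟨nat_lit 30, true, nat_lit 40, (nat_lit 0xe2cf2d184e94b1434042467c9), (nat_lit 0x2de41e8912cc38e10734e34494a)⟩)))
 (.node (nat_lit 2) (.node (nat_lit 1) (.leaf ⟨nat_lit 30, true, nat_lit 3, (nat_lit 0x44e44f84a96214810c247), (nat_lit 0x2a180e30a94a90c)⟩)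
 (.leaf ⟨nat_lit 30, true, nat_lit 39, (nat_lit 0xc40b45188d88f44a0ce11029f285), (nat_lit 0x29038d82338c44c2852453c8289)⟩))
 (.node (nat_lit 1) (.leaf ⟨nat_lit 30, true, nat_lit 33, (nat_lit 0xa8e694e44f7c230f90b1090c4), (nat_lit 0x232a09913e32cb10e0ca884405)⟩)
 (.leaf ⟨nat_lit 30, true, nat_lit 31, (nat_lit 0x31198f8cf79078c14b349185247), (nat_lit 0x28e40f31040f8c40e4184845)⟩))))
 (.node (nat_lit 4) (.node (nat_lit 2) (.node (nat_lit 1) (.leaf ⟨nat_lit 30, true, nat_lit 32, (nat_lit 0x2e039f94f3df38c0c4320907106), (nat_lit 0x3d188e38b2d12c320c78c10a)⟩)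
 (.leaf ⟨nat_lit 30, true, nat_lit 39, (nat_lit 0x3e331f98c30e2c290b08528a385), (nat_lit 0x3cb38a3a340d98488e364182442)⟩))
 (.node (nat_lit 1) (.leaf ⟨nat_lit 30, true, nat_lit 33, (nat_lit 0x38a80f7cf4102821d02df142142), (nat_lit 0xc8912d078f40f2c31d190e084)⟩)
 (.leaf ⟨nat_lit 30, true, nat_lit 33, (nat_lit 0x29f84f98c31128c0c92491c8183), (nat_lit 0xc3e52cd38c3cd8840c71cc9852c2)⟩)))
 (.node (nat_lit 2) (.node (nat_lit 1) (.leaf ⟨nat_lit 30, true, nat_lit 31, (nat_lit 0x78e40e3a37cc28440684c1c40c5), (nat_lit 0xb80e3253cb8e240508f1097c6)⟩)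
 (.leaf ⟨nat_lit 30, true, nat_lit 35, (nat_lit 0x4233a07ce30f10e19f08688c), (nat_lit 0x2de3e08a534f44b10d40378410e)⟩))
 (.node (nat_lit 1) (.leaf ⟨nat_lit 30, true, nat_lit 33, (nat_lit 0x31038d78f42234a0902c620f308), (nat_lit 0x98e2df3108e11040e720b082)⟩)
 (.leaf ⟨nat_lit 30, true, nat_lit 35, (nat_lit 0x30e28a30b41e28724b3c7343), (nat_lit 0x30f85146036134d0869900871c4)⟩)))))
 (.node (nat_lit 8) (.node (nat_lit 4) (.node (nat_lit 2) (.node (nat_lit 1) (.leaf ⟨nat_lit 30, true, nat_lit 31, (nat_lit 0x2644e3a34663100d128444f082), (nat_lit 0x45e3903a68a03c534f183848)⟩)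
 (.leaf ⟨nat_lit 35, true, nat_lit 30, (nat_lit 0x31036038e78c78a1101869c60cc), (nat_lit 0x1e9a544e3a310e891309789)⟩))
 (.node (nat_lit 1) (.leaf ⟨nat_lit 40, true, nat_lit 30, (nat_lit 0x2de41e8912cc38e10734e34494a), (nat_lit 0xe2cf2d184e94b1434042467c9)⟩)
 (.leaf ⟨nat_lit 3, true, nat_lit 30, (nat_lit 0x2a180e30a94a90c), (nat_lit 0x44e44f84a96214810c247)⟩)))
 (.node (nat_lit 2) (.node (nat_lit 1) (.leaf ⟨nat_lit 39, true, nat_lit 30, (nat_lit 0x29038d82338c44c2852453c8289), (nat_lit 0xc40b45188d88f44a0ce11029f285)⟩)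
 (.leaf ⟨nat_lit 33, true, nat_lit 30, (nat_lit 0x232a09913e32cb10e0ca884405), (nat_lit 0xa8e694e44f7c230f90b1090c4)⟩))
 (.node (nat_lit 1) (.leaf ⟨nat_lit 31, true, nat_lit 30, (nat_lit 0x28e40f31040f8c40e4184845), (nat_lit 0x31198f8cf79078c14b349185247)⟩)
 (.leaf ⟨nat_lit 32, true, nat_lit 30, (nat_lit 0x3d188e38b2d12c320c78c10a), (nat_lit 0x2e039f94f3df38c0c4320907106)⟩))))
 (.node (nat_lit 4) (.node (nat_lit 2) (.node (nat_lit 1) (.leaf ⟨nat_lit 39, true, nat_lit 30, (nat_lit 0x3cb38a3a340d98488e364182442), (nat_lit 0x3e331f98c30e2c290b08528a385)⟩)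
 (.leaf ⟨nat_lit 33, true, nat_lit 30, (nat_lit 0xc8912d078f40f2c31d190e084), (nat_lit 0x38a80f7cf4102821d02df142142)⟩))
 (.node (nat_lit 1) (.leaf ⟨nat_lit 33, true, nat_lit 30, (nat_lit 0xc3e52cd38c3cd8840c71cc9852c2), (nat_lit 0x29f84f98c31128c0c92491c8183)⟩)
 (.leaf ⟨nat_lit 31, true, nat_lit 30, (nat_lit 0xb80e3253cb8e240508f1097c6), (nat_lit 0x78e40e3a37cc28440684c1c40c5)⟩)))
 (.node (nat_lit 2) (.node (nat_lit 1) (.leaf ⟨nat_lit 35, true, nat_lit 30, (nat_lit 0x2de3e08a534f44b10d40378410e), (nat_lit 0x4233a07ce30f10e19f08688c)⟩)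
 (.leaf ⟨nat_lit 33, true, nat_lit 30, (nat_lit 0x98e2df3108e11040e720b082), (nat_lit 0x31038d78f42234a0902c620f308)⟩))
 (.node (nat_lit 1) (.leaf ⟨nat_lit 35, true, nat_lit 30, (nat_lit 0x30f85146036134d0869900871c4), (nat_lit 0x30e28a30b41e28724b3c7343)⟩)
 (.leaf ⟨nat_lit 31, true, nat_lit 30, (nat_lit 0x45e3903a68a03c534f183848), (nat_lit 0x2644e3a34663100d128444f082)⟩)))))))
def ft6 : BT Fc := (.node (nat_lit 32) (.node (nat_lit 16) (.node (nat_lit 8) (.node (nat_lit 4) (.node (nat_lit 2) (.node (nat_lit 1) (.leaf ⟨nat_lit 30, true, nat_lit 30, (nat_lit 0xa94b80b38e4510873838d0205), (nat_lit 0x30e8e540d3e128c10d0cf16738e)⟩)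
 (.leaf ⟨nat_lit 33, true, nat_lit 38, (nat_lit 0x42339182634a2832c530f2e4142), (nat_lit 0xa78c44d29e3a10c79103cb20a)⟩))
 (.node (nat_lit 1) (.leaf ⟨nat_lit 38, true, nat_lit 34, (nat_lit 0x2cd8cf42538b3900821a03c6387), (nat_lit 0xa79134f89030c08f10e1062c3)⟩)
 (.leaf ⟨nat_lit 38, true, nat_lit 33, (nat_lit 0xb31e31e84f95028a0a624c242284), (nat_lit 0x30a78c3cc3a22cb14b10f84e883)⟩)))
 (.node (nat_lit 2) (.node (nat_lit 1) (.leaf ⟨nat_lit 38, true, nat_lit 30, (nat_lit 0xa8903d19503d02c428224321f3c2), (nat_lit 0x2cf32628a9a57ca0e30d03848a1)⟩)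
 (.leaf ⟨nat_lit 38, true, nat_lit 39, (nat_lit 0x207cd3608d038a10318f1a244c), (nat_lit 0x88b94d8cf31e3821453892cb842)⟩))
 (.node (nat_lit 1) (.leaf ⟨nat_lit 38, true, nat_lit 33, (nat_lit 0x2902d03e338c14338324c1c3), (nat_lit 0x2e08d03cd99028e10444784e284)⟩)
 (.leaf ⟨nat_lit 38, true, nat_lit 31, (nat_lit 0x2d13ca8ca44b2cb11e25e148384), (nat_lit 0x31095030e94d40a10b40f90324d)⟩))))
 (.node (nat_lit 4) (.node (nat_lit 2) (.node (nat_lit 1) (.leaf ⟨nat_lit 38, true, nat_lit 33, (nat_lit 0x1f98e86645130310c09f0a77c6), (nat_lit 0x2a031094f7cf30a08c0cb784203)⟩)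
 (.leaf ⟨nat_lit 38, true, nat_lit 30, (nat_lit 0x1128d7e140f8901453833c6385), (nat_lit 0x30e81034e3604432c4125191344)⟩))
 (.node (nat_lit 1) (.leaf ⟨nat_lit 38, true, nat_lit 33, (nat_lit 0x36046332239f1031107e0847), (nat_lit 0x30e41e84d34e8a01031a084d2c6)⟩)
 (.leaf ⟨nat_lit 38, true, nat_lit 40, (nat_lit 0xb40e80d86240f10608a1e7204), (nat_lit 0xb98f79f34f84d3432c31e510b143)⟩)))
 (.node (nat_lit 2) (.node (nat_lit 1) (.leaf ⟨nat_lit 31, true, nat_lit 33, (nat_lit 0xb7cf7a388e40b10484d225), (nat_lit 0x2a640e7cf9a03df14d14c3c7283)⟩)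
 (.leaf ⟨nat_lit 39, true, nat_lit 30, (nat_lit 0xc2ce88d3662d130211178284e), (nat_lit 0x98e7cd81088c2c34038473cb242)⟩))
 (.node (nat_lit 1) (.leaf ⟨nat_lit 39, true, nat_lit 34, (nat_lit 0xa94e2ce2de4441c5387461), (nat_lit 0xa89144d3a039134328618b24b)⟩)
 (.leaf ⟨nat_lit 39, false, nat_lit 40, (nat_lit 0xa3cb44f34a44e84328638710d), (nat_lit 0)⟩)))))
 (.node (nat_lit 8) (.node (nat_lit 4) (.node (nat_lit 2) (.node (nat_lit 1) (.leaf ⟨nat_lit 39, true, nat_lit 38, (nat_lit 0x40e94b2cb350304786806387082), (nat_lit 0xb40e80d86240f10608a1e7204)⟩)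
 (.leaf ⟨nat_lit 39, true, nat_lit 30, (nat_lit 0x7913a331085f10f18834f7c6), (nat_lit 0xe2cf2d184e94b1434042467c9)⟩))
 (.node (nat_lit 1) (.leaf ⟨nat_lit 39, true, nat_lit 33, (nat_lit 0x2a340a38b31194b0a615028a1c3), (nat_lit 0x112cb78a45e3050c73913c3183)⟩)
 (.leaf ⟨nat_lit 39, true, nat_lit 33, (nat_lit 0x30c28a44c44f78c1042651a11ce), (nat_lit 0x212a08d128e08232394f203)⟩)))
 (.node (nat_lit 2) (.node (nat_lit 1) (.leaf ⟨nat_lit 39, true, nat_lit 33, (nat_lit 0x28f28d8cf9902cb0c80910e3802), (nat_lit 0x30e38b3229502c340330e8c32c3)⟩)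
 (.leaf ⟨nat_lit 39, true, nat_lit 4, (nat_lit 0xa3cb44f34a44e84328638710d), (nat_lit 0x212ce325990165)⟩))
 (.node (nat_lit 1) (.leaf ⟨nat_lit 38, true, nat_lit 39, (nat_lit 0xb40e80d86240f10608a1e7204), (nat_lit 0x40e94b2cb350304786806387082)⟩)
 (.leaf ⟨nat_lit 30, true, nat_lit 39, (nat_lit 0xe2cf2d184e94b1434042467c9), (nat_lit 0x7913a331085f10f18834f7c6)⟩))))
 (.node (nat_lit 4) (.node (nat_lit 2) (.node (nat_lit 1) (.leaf ⟨nat_lit 33, true, nat_lit 39, (nat_lit 0x112cb78a45e3050c73913c3183), (nat_lit 0x2a340a38b31194b0a615028a1c3)⟩)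
 (.leaf ⟨nat_lit 33, true, nat_lit 39, (nat_lit 0x212a08d128e08232394f203), (nat_lit 0x30c28a44c44f78c1042651a11ce)⟩))
 (.node (nat_lit 1) (.leaf ⟨nat_lit 33, true, nat_lit 39, (nat_lit 0x30e38b3229502c340330e8c32c3), (nat_lit 0x28f28d8cf9902cb0c80910e3802)⟩)
 (.leaf ⟨nat_lit 34, true, nat_lit 39, (nat_lit 0x30f3cc44b78f40509014b3050c3), (nat_lit 0xa4213cb7de2d00ca0e21e024d)⟩)))
 (.node (nat_lit 2) (.node (nat_lit 1) (.leaf ⟨nat_lit 4, true, nat_lit 39, (nat_lit 0x212ce325990165), (nat_lit 0xa3cb44f34a44e84328638710d)⟩)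
 (.leaf ⟨nat_lit 39, true, nat_lit 30, (nat_lit 0x2cb7913cb44e2e328444430c110), (nat_lit 0x2cf79130a44e80a089986084885)⟩))
 (.node (nat_lit 1) (.leaf ⟨nat_lit 39, true, nat_lit 30, (nat_lit 0x2d041e3d086278b14910b0c7442), (nat_lit 0x28e2e04228cc2c43c80884432c2)⟩)
 (.leaf ⟨nat_lit 39, true, nat_lit 30, (nat_lit 0x2d040c2a295094421040a7c6), (nat_lit 0xc42182230e30f08798f404882)⟩))))))
 (.node (nat_lit 16) (.node (nat_lit 8) (.node (nat_lit 4) (.node (nat_lit 2) (.node (nat_lit 1) (.leaf ⟨nat_lit 30, true, nat_lit 33, (nat_lit 0x2d13cd34d3613cb14d08a16018e), (nat_lit 0x30f81134a78a34a1433cd384386)⟩)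
 (.leaf ⟨nat_lit 39, true, nat_lit 33, (nat_lit 0xb32239e88b3cd28208d34e108), (nat_lit 0x2a139e3a07d040e10e0822cd24f)⟩))
 (.node (nat_lit 1) (.leaf ⟨nat_lit 33, true, nat_lit 30, (nat_lit 0xc41f38a3a27d13c53492c2465), (nat_lit 0x2d17e584e40c3df10f0857821a5)⟩)
 (.leaf ⟨nat_lit 39, true, nat_lit 30, (nat_lit 0xc8633112cc30f3c434678a986), (nat_lit 0x40e7a395034a142186806)⟩)))
 (.node (nat_lit 2) (.node (nat_lit 1) (.leaf ⟨nat_lit 39, true, nat_lit 30, (nat_lit 0x2a03d035e40e34b0a114d3e6), (nat_lit 0xc30a94f2cc2913850827c5782203)⟩)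
 (.leaf ⟨nat_lit 39, true, nat_lit 33, (nat_lit 0x2a088f3219a28ca14e3253a5142), (nat_lit 0x2235e34a3df40e14788208e785)⟩))
 (.node (nat_lit 1) (.leaf ⟨nat_lit 39, true, nat_lit 39, (nat_lit 0xb40a3cd34f42128410b14a343), (nat_lit 0x30c4603a129128a1421cf1e7122)⟩)
 (.leaf ⟨nat_lit 39, true, nat_lit 33, (nat_lit 0x2cd7cf3de98f94c10f2847882c5), (nat_lit 0xb8ce80a3a02de40534714e809082)⟩))))
 (.node (nat_lit 4) (.node (nat_lit 2) (.node (nat_lit 1) (.leaf ⟨nat_lit 39, true, nat_lit 30, (nat_lit 0x98d7cf7e628a10320624430c), (nat_lit 0xa7cf31098e84a4043858503c4082)⟩)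
 (.leaf ⟨nat_lit 39, true, nat_lit 30, (nat_lit 0x2e298f7e18cd28f0c894f982343), (nat_lit 0xa96636338c2a514e183204245)⟩))
 (.node (nat_lit 1) (.leaf ⟨nat_lit 33, true, nat_lit 33, (nat_lit 0xa78f84d80e80d08a243122142), (nat_lit 0xb3e189198d34f3c52d1242383)⟩)
 (.leaf ⟨nat_lit 39, true, nat_lit 30, (nat_lit 0x2344b94e8500c62101853c8), (nat_lit 0xa80c38e30e36340a0e13843c5282)⟩)))
 (.node (nat_lit 2) (.node (nat_lit 1) (.leaf ⟨nat_lit 39, true, nat_lit 33, (nat_lit 0xb35e8a144e84214f0e4309), (nat_lit 0x4233254518510c54643a538c)⟩)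
 (.leaf ⟨nat_lit 39, true, nat_lit 30, (nat_lit 0x2e245144b78c08984e44e188), (nat_lit 0xc31e40f80a2a214514d9e40c7)⟩))
 (.node (nat_lit 1) (.leaf ⟨nat_lit 39, true, nat_lit 33, (nat_lit 0x39086028e38d40a0c43c60e0), (nat_lit 0x2a128e39e7cf88a1c320e283402)⟩)
 (.leaf ⟨nat_lit 39, true, nat_lit 33, (nat_lit 0x30f28e32139145110208b321089), (nat_lit 0x2cb3cf3252cc38e0878630cc1cd)⟩)))))
 (.node (nat_lit 8) (.node (nat_lit 4) (.node (nat_lit 2) (.node (nat_lit 1) (.leaf ⟨nat_lit 39, true, nat_lit 35, (nat_lit 0xb2d03913cb3d128488224a28a), (nat_lit 0x1144e2a641080c0891ce7e4108)⟩)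
 (.leaf ⟨nat_lit 39, true, nat_lit 33, (nat_lit 0x28f44b2e638a38a08a14f0a3843), (nat_lit 0x1e29f8a33e27c5342949324182)⟩))
 (.node (nat_lit 1) (.leaf ⟨nat_lit 39, true, nat_lit 35, (nat_lit 0xa30b7cf40b40a10d34e225202), (nat_lit 0x2ce4613d096380344424a082382)⟩)
 (.leaf ⟨nat_lit 39, true, nat_lit 31, (nat_lit 0x31184d28c28a28a1430cc08e80d), (nat_lit 0xa31e3cf44e78d7840e39c30cd)⟩)))
 (.node (nat_lit 2) (.node (nat_lit 1) (.leaf ⟨nat_lit 39, true, nat_lit 39, (nat_lit 0x31f3a284a46040e1080ca4470c3), (nat_lit 0x2df86040e41088e11e4451ce886)⟩)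
 (.leaf ⟨nat_lit 39, true, nat_lit 35, (nat_lit 0x38e42638a8100913c7323783), (nat_lit 0xe3a33a544a2a510830b842847)⟩))
 (.node (nat_lit 1) (.leaf ⟨nat_lit 30, true, nat_lit 30, (nat_lit 0x2cb7e188f42234e1231063a31c7), (nat_lit 0x29e38d2cf2e12d010608714c2a0)⟩)
 (.leaf ⟨nat_lit 39, true, nat_lit 35, (nat_lit 0x31088f3cb2cb44c12144f3041c7), (nat_lit 0x31e34a30b3913cc0c53cd2c31c5)⟩))))
 (.node (nat_lit 4) (.node (nat_lit 2) (.node (nat_lit 1) (.leaf ⟨nat_lit 39, true, nat_lit 39, (nat_lit 0xa8ce8633d145109190345e3c5), (nat_lit 0x28e30a44a36630f14e260987806)⟩)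
 (.leaf ⟨nat_lit 33, true, nat_lit 33, (nat_lit 0xc40d7cf8a32cd3443500ce4471c3), (nat_lit 0x38e4239613c234d9060c4082)⟩))
 (.node (nat_lit 1) (.leaf ⟨nat_lit 39, true, nat_lit 30, (nat_lit 0x2a088f32341e2cc0c91e044b107), (nat_lit 0x3212ce8d084f44a1097c34021c5)⟩)
 (.leaf ⟨nat_lit 39, true, nat_lit 39, (nat_lit 0x84b361891390104906185285), (nat_lit 0x28e42198e28c28d10d44225108f)⟩)))
 (.node (nat_lit 2) (.node (nat_lit 1) (.leaf ⟨nat_lit 39, true, nat_lit 33, (nat_lit 0x28d94e8ca44d44b0cc0e10e384b), (nat_lit 0x2903e63d085134a08730398635e)⟩)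
 (.leaf ⟨nat_lit 39, true, nat_lit 35, (nat_lit 0x38e8d084d3cb0873cc44288c), (nat_lit 0x4213a036640a10311e2a790e)⟩))
 (.node (nat_lit 1) (.leaf ⟨nat_lit 39, true, nat_lit 39, (nat_lit 0x2ce40b80f3d18031c738e408382), (nat_lit 0xa78d44d2a028e4432c50d0182242)⟩)
 (.leaf ⟨nat_lit 39, true, nat_lit 35, (nat_lit 0x109508ca44e34a1079470e5345), (nat_lit 0x7cf7cc85034f7c488e40630f082)⟩)))))))
def ft7 : BT Fc := (.node (nat_lit 32) (.node (nat_lit 16) (.node (nat_lit 8) (.node (nat_lit 4) (.node (nat_lit 2) (.node (nat_lit 1) (.leaf ⟨nat_lit 39, true, nat_lit 35, (nat_lit 0x86034a3e23623c644539008d), (nat_lit 0xa34e29e34b38c10a090082284)⟩)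
 (.leaf ⟨nat_lit 39, true, nat_lit 39, (nat_lit 0x30c2a339040d44b1111233893c8), (nat_lit 0x80c8cf3262cc0912c23d01c3)⟩))
 (.node (nat_lit 1) (.leaf ⟨nat_lit 39, true, nat_lit 39, (nat_lit 0x2902ce28e3103cf143307207844), (nat_lit 0xb80a8d03cc78f1091c70e78c2)⟩)
 (.leaf ⟨nat_lit 39, true, nat_lit 39, (nat_lit 0x32094d8ce89f44d10794814a303), (nat_lit 0x1194d45e3d03e40c73a6189)⟩)))
 (.node (nat_lit 2) (.node (nat_lit 1) (.leaf ⟨nat_lit 9, true, nat_lit 30, (nat_lit 0x222cf94f2cc81f1463d10858e0), (nat_lit 0xa98d98e99081e3041033519a4182)⟩)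
 (.leaf ⟨nat_lit 33, true, nat_lit 39, (nat_lit 0xb7903cf7ce4257851cb103283202), (nat_lit 0x2a240d40c85010892715f)⟩))
 (.node (nat_lit 1) (.leaf ⟨nat_lit 33, true, nat_lit 34, (nat_lit 0x84e2ce39038a8050a71e0306207), (nat_lit 0x2cb3d02a030e44d08d44520a1c2)⟩)
 (.leaf ⟨nat_lit 39, true, nat_lit 30, (nat_lit 0xa46245e34d38a3c290a305408), (nat_lit 0xb3cf88d40f2a12c41c741e982182)⟩))))
 (.node (nat_lit 4) (.node (nat_lit 2) (.node (nat_lit 1) (.leaf ⟨nat_lit 39, true, nat_lit 30, (nat_lit 0xc30e7ce9908103431e48cf09f), (nat_lit 0xb2ce84e80a3c2946106225)⟩)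
 (.leaf ⟨nat_lit 30, true, nat_lit 33, (nat_lit 0x2913cd36198c0e63830c72cc), (nat_lit 0x31e34a7ce94b3111464513829e6)⟩))
 (.node (nat_lit 1) (.leaf ⟨nat_lit 30, true, nat_lit 39, (nat_lit 0xa2a135134a3cc0a43e31083c4), (nat_lit 0x30c2a140a42228424a24d)⟩)
 (.leaf ⟨nat_lit 30, true, nat_lit 33, (nat_lit 0x2e341e40e8a33cb08929f0c3242), (nat_lit 0x2a34233ca3ca88230514e80b)⟩)))
 (.node (nat_lit 2) (.node (nat_lit 1) (.leaf ⟨nat_lit 35, true, nat_lit 30, (nat_lit 0x30b8624609613041911659a1), (nat_lit 0x2cf3113e630f44f10219020b104)⟩)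
 (.leaf ⟨nat_lit 33, true, nat_lit 33, (nat_lit 0xa42142331030e40518c283286), (nat_lit 0xb88f8653ca88e30a10e46020e0c8)⟩))
 (.node (nat_lit 1) (.leaf ⟨nat_lit 9, true, nat_lit 30, (nat_lit 0x30b88f3e328e3430d014d20b), (nat_lit 0x30c94b2cc8627cb14a14b38a0a7)⟩)
 (.leaf ⟨nat_lit 29, true, nat_lit 30, (nat_lit 0x108cf7e534e44b14d349151), (nat_lit 0xc3a53a33a688e2c33842e41273c2)⟩)))))
 (.node (nat_lit 8) (.node (nat_lit 4) (.node (nat_lit 2) (.node (nat_lit 1) (.leaf ⟨nat_lit 38, true, nat_lit 30, (nat_lit 0x28a40e8512ce3a211112140e205), (nat_lit 0x1e31094f3e328a14618220628a)⟩)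
 (.leaf ⟨nat_lit 31, true, nat_lit 30, (nat_lit 0xc7913d198d791282089111283), (nat_lit 0x2cd44d28d89f2c27c31c798d242)⟩))
 (.node (nat_lit 1) (.leaf ⟨nat_lit 30, true, nat_lit 30, (nat_lit 0x114603e19a538c10f98a389404), (nat_lit 0x30a8663a28602d014814b90a)⟩)
 (.leaf ⟨nat_lit 30, true, nat_lit 30, (nat_lit 0x2cb7cf8ca8cd44314e2852c5), (nat_lit 0x28e7e298f8cb30b10319e326285)⟩)))
 (.node (nat_lit 2) (.node (nat_lit 1) (.leaf ⟨nat_lit 26, true, nat_lit 39, (nat_lit 0x2089032330c2838833e63c2), (nat_lit 0x2e130f4233e238b10f28f1e1802)⟩)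
 (.leaf ⟨nat_lit 26, false, nat_lit 4, (nat_lit 0), (nat_lit 0x30c80c2cb3e27cb0c610b827282)⟩))
 (.node (nat_lit 1) (.leaf ⟨nat_lit 4, true, nat_lit 4, (nat_lit 0xa84a8e284e39e285282108286), (nat_lit 0x30c80c2cb3e27cb0c610b827282)⟩)
 (.leaf ⟨nat_lit 30, true, nat_lit 9, (nat_lit 0xb40e89080a3d014a24a186190), (nat_lit 0xb3a640f34d28c2c478e1a70a7)⟩))))
 (.node (nat_lit 4) (.node (nat_lit 2) (.node (nat_lit 1) (.leaf ⟨nat_lit 30, true, nat_lit 30, (nat_lit 0x28e40d8d13d130b0913843c224f), (nat_lit 0x2e340c44d3cc78b085386107849)⟩)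
 (.leaf ⟨nat_lit 33, true, nat_lit 33, (nat_lit 0xa8cc40e40e39094335118318b102), (nat_lit 0xa3902cf98c3112c220e3848833c3)⟩))
 (.node (nat_lit 1) (.leaf ⟨nat_lit 34, true, nat_lit 38, (nat_lit 0xa44a88f2e32d0384465103811142), (nat_lit 0x31e80b3103a244c1063030cb806)⟩)
 (.leaf ⟨nat_lit 30, true, nat_lit 39, (nat_lit 0x29e7cf7cd34e2ce1261077a0245), (nat_lit 0x8252cc85030290930e246)⟩)))
 (.node (nat_lit 2) (.node (nat_lit 1) (.leaf ⟨nat_lit 33, true, nat_lit 33, (nat_lit 0xa40a8623cc3cc30411e90b10f803), (nat_lit 0x78f82638a8600ce1c910a342)⟩)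
 (.leaf ⟨nat_lit 30, true, nat_lit 33, (nat_lit 0x30c2e040c4654040c428c983443), (nat_lit 0x44c28e7cd39f28518b0c72c8)⟩))
 (.node (nat_lit 1) (.leaf ⟨nat_lit 33, true, nat_lit 30, (nat_lit 0xb3cc38b89188e30a10a84f1c5342), (nat_lit 0x32144d78d3661073032231de)⟩)
 (.leaf ⟨nat_lit 9, true, nat_lit 35, (nat_lit 0x2cc84b2cf78f30e0c73c7262785), (nat_lit 0x223203cd38d38b0e31463a3443)⟩))))))
 (.node (nat_lit 16) (.node (nat_lit 8) (.node (nat_lit 4) (.node (nat_lit 2) (.node (nat_lit 1) (.leaf ⟨nat_lit 9, true, nat_lit 39, (nat_lit 0xc3107913a33510e6145342463), (nat_lit 0xa29e44d94d38a8042840c51e5)⟩)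
 (.leaf ⟨nat_lit 9, true, nat_lit 35, (nat_lit 0xa30e36394e3510cb0e20a7845), (nat_lit 0xb32542234f28f3c22501e71ce0c4)⟩))
 (.node (nat_lit 1) (.leaf ⟨nat_lit 39, true, nat_lit 35, (nat_lit 0x28d36089198a40c120224125), (nat_lit 0xa31e30f32328c3850911c22c5)⟩)
 (.leaf ⟨nat_lit 9, true, nat_lit 9, (nat_lit 0x3cf44a3508cf2c73c74442a5), (nat_lit 0xf31f30e84d7cb1454022113c4)⟩)))
 (.node (nat_lit 2) (.node (nat_lit 1) (.leaf ⟨nat_lit 35, true, nat_lit 28, (nat_lit 0x78f86230e80d284183221445982), (nat_lit 0x28a36094d38a40b0912422c4803)⟩)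
 (.leaf ⟨nat_lit 28, true, nat_lit 30, (nat_lit 0x32045e8cf84c28a14a0e618f243), (nat_lit 0xc44f3212918cf9491047c6445)⟩))
 (.node (nat_lit 1) (.leaf ⟨nat_lit 28, false, nat_lit 31, (nat_lit 0x2d07e130e2ce80a10e2837c92d1), (nat_lit 0)⟩)
 (.leaf ⟨nat_lit 28, true, nat_lit 3, (nat_lit 0x2d07e130e2ce80a10e2837c92d1), (nat_lit 0x79f821966)⟩))))
 (.node (nat_lit 4) (.node (nat_lit 2) (.node (nat_lit 1) (.leaf ⟨nat_lit 28, true, nat_lit 3, (nat_lit 0x2cb3cc84a94f80f0c44650cc7c8), (nat_lit 0xa8663d098a4622833c598e1ca)⟩)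
 (.leaf ⟨nat_lit 28, true, nat_lit 30, (nat_lit 0x32534a8d13d08e028208784e447), (nat_lit 0x31198f8cf79078c14b349185247)⟩))
 (.node (nat_lit 1) (.leaf ⟨nat_lit 28, true, nat_lit 39, (nat_lit 0xa3d138e32084d085246210110), (nat_lit 0x31184d28c28a28a1430cc08e80d)⟩)
 (.leaf ⟨nat_lit 28, true, nat_lit 33, (nat_lit 0xe81084d9663cd0ca8833c6188), (nat_lit 0x2a294f98f30a44d08a1483a5804)⟩)))
 (.node (nat_lit 2) (.node (nat_lit 1) (.leaf ⟨nat_lit 28, true, nat_lit 4, (nat_lit 0x2540b3663de7c440c09f249), (nat_lit 0xc2de44b85034a0c690d3c4782)⟩)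
 (.leaf ⟨nat_lit 28, true, nat_lit 38, (nat_lit 0xa31f2d178f8040df885311302), (nat_lit 0x2d13ca8ca44b2cb11e25e148384)⟩))
 (.node (nat_lit 1) (.leaf ⟨nat_lit 28, true, nat_lit 33, (nat_lit 0x2917cd44f30a94a0892d13c42c2), (nat_lit 0xf40e2e33e578d0c40c40c79cc)⟩)
 (.leaf ⟨nat_lit 28, true, nat_lit 33, (nat_lit 0xb44f84d44a7d02c340418f9c43c2), (nat_lit 0xc3e394b2cf84f08f3c5447902)⟩)))))
 (.node (nat_lit 8) (.node (nat_lit 4) (.node (nat_lit 2) (.node (nat_lit 1) (.leaf ⟨nat_lit 28, true, nat_lit 33, (nat_lit 0x31129028c94c78b10a14844688e), (nat_lit 0xc40f7908cc39e10d88e191206)⟩)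
 (.leaf ⟨nat_lit 28, true, nat_lit 30, (nat_lit 0xa3de3e12a030b38a1233d03071cf), (nat_lit 0x2644e3a34663100d128444f082)⟩))
 (.node (nat_lit 1) (.leaf ⟨nat_lit 28, true, nat_lit 30, (nat_lit 0x28d39080b8ce44c08d2033063c4), (nat_lit 0x78e40e3a37cc28440684c1c40c5)⟩)
 (.leaf ⟨nat_lit 28, true, nat_lit 33, (nat_lit 0x2a139f88c4623ca1091214030c3), (nat_lit 0x2a640e7cf9a03df14d14c3c7283)⟩)))
 (.node (nat_lit 2) (.node (nat_lit 1) (.leaf ⟨nat_lit 3, true, nat_lit 28, (nat_lit 0x79f821966), (nat_lit 0x2d07e130e2ce80a10e2837c92d1)⟩)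
 (.leaf ⟨nat_lit 30, true, nat_lit 28, (nat_lit 0x2cd44d28d89f2c27c31c798d242), (nat_lit 0xa82694f30e8a378410f3cb90b)⟩))
 (.node (nat_lit 1) (.leaf ⟨nat_lit 3, true, nat_lit 28, (nat_lit 0xa2a02e294b), (nat_lit 0xc29194f3e646628208d2a7205)⟩)
 (.leaf ⟨nat_lit 30, true, nat_lit 28, (nat_lit 0x31198f8cf79078c14b349185247), (nat_lit 0x32534a8d13d08e028208784e447)⟩))))
 (.node (nat_lit 4) (.node (nat_lit 2) (.node (nat_lit 1) (.leaf ⟨nat_lit 39, true, nat_lit 28, (nat_lit 0x31184d28c28a28a1430cc08e80d), (nat_lit 0xa3d138e32084d085246210110)⟩)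
 (.leaf ⟨nat_lit 33, true, nat_lit 28, (nat_lit 0x2a294f98f30a44d08a1483a5804), (nat_lit 0xe81084d9663cd0ca8833c6188)⟩))
 (.node (nat_lit 1) (.leaf ⟨nat_lit 4, true, nat_lit 28, (nat_lit 0xc2de44b85034a0c690d3c4782), (nat_lit 0x2540b3663de7c440c09f249)⟩)
 (.leaf ⟨nat_lit 38, true, nat_lit 28, (nat_lit 0x2d13ca8ca44b2cb11e25e148384), (nat_lit 0xa31f2d178f8040df885311302)⟩)))
 (.node (nat_lit 2) (.node (nat_lit 1) (.leaf ⟨nat_lit 33, true, nat_lit 28, (nat_lit 0xf40e2e33e578d0c40c40c79cc), (nat_lit 0x2917cd44f30a94a0892d13c42c2)⟩)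
 (.leaf ⟨nat_lit 33, true, nat_lit 28, (nat_lit 0xc3e394b2cf84f08f3c5447902), (nat_lit 0xb44f84d44a7d02c340418f9c43c2)⟩))
 (.node (nat_lit 1) (.leaf ⟨nat_lit 33, true, nat_lit 28, (nat_lit 0xc40f7908cc39e10d88e191206), (nat_lit 0x31129028c94c78b10a14844688e)⟩)
 (.leaf ⟨nat_lit 30, true, nat_lit 28, (nat_lit 0x2644e3a34663100d128444f082), (nat_lit 0xa3de3e12a030b38a1233d03071cf)⟩)))))))
def ft8 : BT Fc := (.node (nat_lit 32) (.node (nat_lit 16) (.node (nat_lit 8) (.node (nat_lit 4) (.node (nat_lit 2) (.node (nat_lit 1) (.leaf ⟨nat_lit 30, true, nat_lit 28, (nat_lit 0x78e40e3a37cc28440684c1c40c5), (nat_lit 0x28d39080b8ce44c08d2033063c4)⟩)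
 (.leaf ⟨nat_lit 33, true, nat_lit 28, (nat_lit 0x2a640e7cf9a03df14d14c3c7283), (nat_lit 0x2a139f88c4623ca1091214030c3)⟩))
 (.node (nat_lit 1) (.leaf ⟨nat_lit 28, true, nat_lit 30, (nat_lit 0x4213e38903904043e310d343843), (nat_lit 0xb82344d34e84c2c2167147205)⟩)
 (.leaf ⟨nat_lit 28, true, nat_lit 32, (nat_lit 0x2d198d3a342380c1420864230c4), (nat_lit 0x1031138c95f40a1203cf202389)⟩)))
 (.node (nat_lit 2) (.node (nat_lit 1) (.leaf ⟨nat_lit 28, true, nat_lit 30, (nat_lit 0xa38a38e98c3e52831491049c6), (nat_lit 0xc8cf40f40b30b3c340425f2c47c2)⟩)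
 (.leaf ⟨nat_lit 28, true, nat_lit 28, (nat_lit 0xa40c9a540f94d28a1072c6086284), (nat_lit 0x98e32031094b8433033e49cf304)⟩))
 (.node (nat_lit 1) (.leaf ⟨nat_lit 28, true, nat_lit 28, (nat_lit 0xd3cd82134b3de08d184123303), (nat_lit 0x7e242031138d3c50c30c6790244)⟩)
 (.leaf ⟨nat_lit 28, true, nat_lit 30, (nat_lit 0x3233e238d3cb45e2841c37cc403), (nat_lit 0x2044f2ce7cb44a08f1c318e206)⟩))))
 (.node (nat_lit 4) (.node (nat_lit 2) (.node (nat_lit 1) (.leaf ⟨nat_lit 28, true, nat_lit 33, (nat_lit 0xa44a38d4263a208224e782203), (nat_lit 0x29038b3cc40e44f0871512a244f)⟩)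
 (.leaf ⟨nat_lit 28, true, nat_lit 35, (nat_lit 0xc2cb38b82340a1033d034e103), (nat_lit 0xa2a63a138a4233440e50e22048c3)⟩))
 (.node (nat_lit 1) (.leaf ⟨nat_lit 28, true, nat_lit 28, (nat_lit 0x3117cb44f44b34a14a1222083c5), (nat_lit 0x3203cb31e3d03ca0c71ce14544a)⟩)
 (.leaf ⟨nat_lit 28, true, nat_lit 33, (nat_lit 0xb2e246130c39f2848660c4311084), (nat_lit 0x2cb84e8113a638d14d086346402)⟩)))
 (.node (nat_lit 2) (.node (nat_lit 1) (.leaf ⟨nat_lit 28, true, nat_lit 28, (nat_lit 0xa42242634a8112c40cb1843c3882), (nat_lit 0xa30c30c40d9a328498e08e409082)⟩)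
 (.leaf ⟨nat_lit 38, true, nat_lit 30, (nat_lit 0x30c82342284d844982148), (nat_lit 0x28f7cb2cf3e544e08f1e344e0c7)⟩))
 (.node (nat_lit 1) (.leaf ⟨nat_lit 30, true, nat_lit 35, (nat_lit 0x30f8902cf44a44a10e1910c3982), (nat_lit 0x29e3d035035128d10e18498c20a)⟩)
 (.leaf ⟨nat_lit 29, true, nat_lit 34, (nat_lit 0x4519518ca3cd2c32c4206147102), (nat_lit 0x2df3a12e63e034b0c644420e18f)⟩)))))
 (.node (nat_lit 8) (.node (nat_lit 4) (.node (nat_lit 2) (.node (nat_lit 1) (.leaf ⟨nat_lit 29, true, nat_lit 35, (nat_lit 0xc41e3cf2e132611e4472ce1c3), (nat_lit 0x38e2a180b8e034498e391884)⟩)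
 (.leaf ⟨nat_lit 29, true, nat_lit 29, (nat_lit 0x80d2a18d144f84514230b40b102), (nat_lit 0xb2e136644b34a3430c644590e082)⟩))
 (.node (nat_lit 1) (.leaf ⟨nat_lit 30, true, nat_lit 30, (nat_lit 0xd9513e180c88f2c29079430c5342), (nat_lit 0x1188d88d2907841e52472a5)⟩)
 (.leaf ⟨nat_lit 35, true, nat_lit 30, (nat_lit 0x2de41e38c8628cb08c98410e18f), (nat_lit 0x2d128e7e23d034328e8c440a)⟩)))
 (.node (nat_lit 2) (.node (nat_lit 1) (.leaf ⟨nat_lit 30, true, nat_lit 30, (nat_lit 0x212a63918d02cf14614534b104), (nat_lit 0xc39198d8ca46580228f1633df142)⟩)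
 (.leaf ⟨nat_lit 33, true, nat_lit 35, (nat_lit 0x29038a30b34a44e08d3cb183347), (nat_lit 0x28a82198f36178d1204514640c8)⟩))
 (.node (nat_lit 1) (.leaf ⟨nat_lit 30, true, nat_lit 30, (nat_lit 0xb8518cc88e32638410e1c294a), (nat_lit 0x2df84f88d35038e14e207220104)⟩)
 (.leaf ⟨nat_lit 33, true, nat_lit 30, (nat_lit 0xb80d3a52e578c30228234791f), (nat_lit 0xc80e80f98f98d28518e2053451c2)⟩))))
 (.node (nat_lit 4) (.node (nat_lit 2) (.node (nat_lit 1) (.leaf ⟨nat_lit 33, true, nat_lit 30, (nat_lit 0x263214518ca28d14a19008d3c8), (nat_lit 0x2a28d146638d88f143245985426)⟩)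
 (.leaf ⟨nat_lit 30, true, nat_lit 35, (nat_lit 0x2d17e130f89128c08724d944982), (nat_lit 0x2e328e7e644f7842c634434b183)⟩))
 (.node (nat_lit 1) (.leaf ⟨nat_lit 33, true, nat_lit 30, (nat_lit 0x28f30b2cf2a144e1049870c724b), (nat_lit 0xa3e08ce36338c0ca14d78e447)⟩)
 (.leaf ⟨nat_lit 35, true, nat_lit 30, (nat_lit 0xb86546644d80b08a11e1c7343), (nat_lit 0x2cc44e7cd40c2cc08f9c3342246)⟩)))
 (.node (nat_lit 2) (.node (nat_lit 1) (.leaf ⟨nat_lit 30, true, nat_lit 33, (nat_lit 0xa7a18d034f40a0a008d1839cd), (nat_lit 0xc80b2e13cb3101201c712114b)⟩)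
 (.leaf ⟨nat_lit 30, true, nat_lit 30, (nat_lit 0x32142034f42188b0c6090824383), (nat_lit 0xc2a18103cf2d13480e644f0c7)⟩))
 (.node (nat_lit 1) (.leaf ⟨nat_lit 30, true, nat_lit 35, (nat_lit 0xa99139e8ca31e2c21111479c5), (nat_lit 0x31038d44d29f284109088349844)⟩)
 (.leaf ⟨nat_lit 30, true, nat_lit 30, (nat_lit 0x2903cd34d2a040a2829c5190310), (nat_lit 0xa35e88b40f2e320e286184)⟩))))))
 (.node (nat_lit 16) (.node (nat_lit 8) (.node (nat_lit 4) (.node (nat_lit 2) (.node (nat_lit 1) (.leaf ⟨nat_lit 33, true, nat_lit 33, (nat_lit 0xa84f80c4263a52870863a2387), (nat_lit 0xb2d13cb84f4632840d01a315e343)⟩)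
 (.leaf ⟨nat_lit 33, true, nat_lit 33, (nat_lit 0x40d8e52cf7cb10325e10e1c3), (nat_lit 0x2cc40f3108103831040c8166382)⟩))
 (.node (nat_lit 1) (.leaf ⟨nat_lit 30, true, nat_lit 35, (nat_lit 0xb40b41032640a2843e4260407), (nat_lit 0x32098f84a42639f0c91860cd288)⟩)
 (.leaf ⟨nat_lit 30, true, nat_lit 30, (nat_lit 0x88d3e07e22901081462108cc), (nat_lit 0x28f7ce39e95028d0c890d442285)⟩)))
 (.node (nat_lit 2) (.node (nat_lit 1) (.leaf ⟨nat_lit 33, true, nat_lit 30, (nat_lit 0x40e34e7a539038440c087948082), (nat_lit 0x28a84c7a52d13c4365150085)⟩)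
 (.leaf ⟨nat_lit 30, true, nat_lit 30, (nat_lit 0xa40c44c3d12d03c444714e7cd), (nat_lit 0xb38e8e64238112c224384d089)⟩))
 (.node (nat_lit 1) (.leaf ⟨nat_lit 30, true, nat_lit 33, (nat_lit 0x233ca3503662c410f84744c), (nat_lit 0x28e88e30c9a128e14514f267891)⟩)
 (.leaf ⟨nat_lit 30, true, nat_lit 30, (nat_lit 0xb8a18e244c0883c9307086), (nat_lit 0x2e634f7cb3a638a28444f1c395e)⟩))))
 (.node (nat_lit 4) (.node (nat_lit 2) (.node (nat_lit 1) (.leaf ⟨nat_lit 33, true, nat_lit 30, (nat_lit 0x2de44d44f9634100c74092cd403), (nat_lit 0x32398e80c86039f0c938594e14d)⟩)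
 (.leaf ⟨nat_lit 30, true, nat_lit 35, (nat_lit 0xb81040d40e2a00c924b908787), (nat_lit 0x223a544a38b3cc108344389943)⟩))
 (.node (nat_lit 1) (.leaf ⟨nat_lit 33, true, nat_lit 33, (nat_lit 0xc39e7e046239014d3883087c3), (nat_lit 0xb3d039099138e0c38457c60c7)⟩)
 (.leaf ⟨nat_lit 33, true, nat_lit 30, (nat_lit 0xa3cc38e81081e4021e13c3304082), (nat_lit 0x2128f8cf2cd2d010328318244c)⟩)))
 (.node (nat_lit 2) (.node (nat_lit 1) (.leaf ⟨nat_lit 33, true, nat_lit 33, (nat_lit 0xb30a3df7a230a0e18c430c147), (nat_lit 0x2cc28d84f44b30f0870a3184)⟩)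
 (.leaf ⟨nat_lit 35, true, nat_lit 30, (nat_lit 0xa98e40e2e57902c208e382921), (nat_lit 0x3114513a244e7902c30d0150985)⟩))
 (.node (nat_lit 1) (.leaf ⟨nat_lit 38, true, nat_lit 30, (nat_lit 0x42032180d3e008244479111e), (nat_lit 0xb3e042238b3a130c1042823e60d0)⟩)
 (.leaf ⟨nat_lit 30, true, nat_lit 30, (nat_lit 0x80c7a18223ca10a18c183111), (nat_lit 0x7cf3503a58902831c24033e5182)⟩)))))
 (.node (nat_lit 8) (.node (nat_lit 4) (.node (nat_lit 2) (.node (nat_lit 1) (.leaf ⟨nat_lit 35, true, nat_lit 35, (nat_lit 0x2198e44e7913d00c31c98a7182), (nat_lit 0x3cb2cd34e40d8841cd81008a)⟩)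
 (.leaf ⟨nat_lit 35, true, nat_lit 35, (nat_lit 0xb3cf34f80f2a030a0900c808b806), (nat_lit 0xa36144c31198e08528534320b)⟩))
 (.node (nat_lit 1) (.leaf ⟨nat_lit 33, true, nat_lit 30, (nat_lit 0x82630e8a388e44a1201cb907307), (nat_lit 0x29f3633a198c40a1460a615f28f)⟩)
 (.leaf ⟨nat_lit 33, true, nat_lit 33, (nat_lit 0x32535084d2a20a50d0108845), (nat_lit 0x28c30f94e78a3cc0a43460cf946)⟩)))
 (.node (nat_lit 2) (.node (nat_lit 1) (.leaf ⟨nat_lit 35, true, nat_lit 33, (nat_lit 0xb7a030b8632cf0871c31d0309), (nat_lit 0x29039f34f44d34d104283866806)⟩)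
 (.leaf ⟨nat_lit 35, true, nat_lit 30, (nat_lit 0x30e8254253cf98486538a0cf143), (nat_lit 0x202cf8508d03842a0186986)⟩))
 (.node (nat_lit 1) (.leaf ⟨nat_lit 33, true, nat_lit 33, (nat_lit 0x2a23cf8603d09853857898c4102), (nat_lit 0x253a231134d38d08714624a1c2)⟩)
 (.leaf ⟨nat_lit 30, true, nat_lit 33, (nat_lit 0x2a084f31e3e378a1093878490c7), (nat_lit 0x2cf4628603d180a0e10829c2909)⟩))))
 (.node (nat_lit 4) (.node (nat_lit 2) (.node (nat_lit 1) (.leaf ⟨nat_lit 30, true, nat_lit 35, (nat_lit 0x2e39663e540e39014e14c08d09f), (nat_lit 0x2e180b80f42588344f1a52c4)⟩)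
 (.leaf ⟨nat_lit 30, true, nat_lit 35, (nat_lit 0x42630f44c9a52c43ca206282), (nat_lit 0x39e94f3112cd08a121285783)⟩))
 (.node (nat_lit 1) (.leaf ⟨nat_lit 33, true, nat_lit 33, (nat_lit 0xd8253cd7e03d10862860df3c6), (nat_lit 0x29f3cf8633a678f0e10a418d207)⟩)
 (.leaf ⟨nat_lit 33, true, nat_lit 30, (nat_lit 0x2e388f40f8e078b0c63a198f18e), (nat_lit 0xa94e2917a52a211008618f0e2)⟩)))
 (.node (nat_lit 2) (.node (nat_lit 1) (.leaf ⟨nat_lit 35, true, nat_lit 35, (nat_lit 0xf3cb40d28d84a1071c48e2082), (nat_lit 0xb94d44c7e23cf8033034491e5)⟩)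
 (.leaf ⟨nat_lit 33, true, nat_lit 33, (nat_lit 0x233de41e29080a0cf10480b346), (nat_lit 0x2a03de3cb8ce30c0c43d00d108d)⟩))
 (.node (nat_lit 1) (.leaf ⟨nat_lit 30, true, nat_lit 35, (nat_lit 0x2141e31198f30a1109042c57ca), (nat_lit 0xa2a328d3a28d040208c40f884103)⟩)
 (.leaf ⟨nat_lit 35, true, nat_lit 30, (nat_lit 0x84a8233a538a107223382089), (nat_lit 0x29144d28a28c3823e424e264184)⟩)))))))
def ft9 : BT Fc := (.node (nat_lit 32) (.node (nat_lit 16) (.node (nat_lit 8) (.node (nat_lit 4) (.node (nat_lit 2) (.node (nat_lit 1) (.leaf ⟨nat_lit 33, true, nat_lit 33, (nat_lit 0xb39078e95188c11194f9069c2), (nat_lit 0xb45e3a18d131e10d8e43a5389)⟩)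
 (.leaf ⟨nat_lit 33, true, nat_lit 33, (nat_lit 0x98e89080f3e33029110cf264082), (nat_lit 0x8d084f2e63d00903869c2282)⟩))
 (.node (nat_lit 1) (.leaf ⟨nat_lit 33, true, nat_lit 34, (nat_lit 0x2ce86639138a3ca1091899c2444), (nat_lit 0x2cf4623103e545e10420c7892c7)⟩)
 (.leaf ⟨nat_lit 35, true, nat_lit 33, (nat_lit 0xb3d13a138a3e084a1203e3326188), (nat_lit 0x32338e28a8657ca087307943364)⟩)))
 (.node (nat_lit 2) (.node (nat_lit 1) (.leaf ⟨nat_lit 30, true, nat_lit 38, (nat_lit 0x2cf7cc3e634e28a14e40b08234b), (nat_lit 0x2de7ce9913e030b1101c90c908a)⟩)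
 (.leaf ⟨nat_lit 30, true, nat_lit 35, (nat_lit 0xb3e13e640b2cd2c40cb1c5303), (nat_lit 0x2a284d34f4233cf0c42451cc942)⟩))
 (.node (nat_lit 1) (.leaf ⟨nat_lit 38, true, nat_lit 35, (nat_lit 0x30a78d4263cf88c0c3462851385), (nat_lit 0x2e238e3a140f3cb10914b94e143)⟩)
 (.leaf ⟨nat_lit 33, true, nat_lit 35, (nat_lit 0x28f9503ca7ce28e0c70c418241e), (nat_lit 0x32286638e9a57cb0c40cb1a3151)⟩))))
 (.node (nat_lit 4) (.node (nat_lit 2) (.node (nat_lit 1) (.leaf ⟨nat_lit 30, true, nat_lit 35, (nat_lit 0x2cb3e340e44e84d14344240d402), (nat_lit 0x30b46538c3ca3c424e38d843)⟩)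
 (.leaf ⟨nat_lit 30, true, nat_lit 30, (nat_lit 0x2cf2902cf31084d1423cc3cc102), (nat_lit 0xb3cd2d07e53ca0c4442407245)⟩))
 (.node (nat_lit 1) (.leaf ⟨nat_lit 30, true, nat_lit 35, (nat_lit 0xb88f35e8a53a51048a11501a2), (nat_lit 0x213a04108cc0c724f8501c7)⟩)
 (.leaf ⟨nat_lit 30, true, nat_lit 30, (nat_lit 0xa80e4654658112c42261cf88f), (nat_lit 0x3a23663cf30e2822c9403787202)⟩)))
 (.node (nat_lit 2) (.node (nat_lit 1) (.leaf ⟨nat_lit 38, true, nat_lit 30, (nat_lit 0x2e03cb3d088a28f1453d07c5143), (nat_lit 0xb4623e538e8912c2347302167942)⟩)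
 (.leaf ⟨nat_lit 30, true, nat_lit 35, (nat_lit 0x2e132044e8d080a1111510a7183), (nat_lit 0x28d94f80d42610e14c111282)⟩))
 (.node (nat_lit 1) (.leaf ⟨nat_lit 35, true, nat_lit 35, (nat_lit 0x2a22ce30c38e28d14d08d08f942), (nat_lit 0x29e84c30c84e80b08d4093c6189)⟩)
 (.leaf ⟨nat_lit 35, true, nat_lit 33, (nat_lit 0x38c86030e2de0d03843611e4), (nat_lit 0xa40f29129080a145444385405)⟩)))))
 (.node (nat_lit 8) (.node (nat_lit 4) (.node (nat_lit 2) (.node (nat_lit 1) (.leaf ⟨nat_lit 35, true, nat_lit 35, (nat_lit 0xc7e63cb7a63900c38cf18a150), (nat_lit 0x2cd8a39613cd39e10340c80c902)⟩)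
 (.leaf ⟨nat_lit 35, true, nat_lit 33, (nat_lit 0x2e242180f78a28a10f7e18ce302), (nat_lit 0x2a044b88f8cf7ca10e78410d0ce)⟩))
 (.node (nat_lit 1) (.leaf ⟨nat_lit 30, true, nat_lit 30, (nat_lit 0x263e52cf9a040b0cb2d08c4384), (nat_lit 0x38a3cc3d094d10b111123104)⟩)
 (.leaf ⟨nat_lit 35, true, nat_lit 33, (nat_lit 0x2cc82198c44c284085149407), (nat_lit 0xb3de29f3e278b10418a40c986)⟩)))
 (.node (nat_lit 2) (.node (nat_lit 1) (.leaf ⟨nat_lit 33, true, nat_lit 35, (nat_lit 0x30e9513e328e35110609144e1c3), (nat_lit 0xb3e128e40c4102c518f08f24e802)⟩)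
 (.leaf ⟨nat_lit 30, true, nat_lit 30, (nat_lit 0x2cd44f8e23a538d0cb1462c8084), (nat_lit 0x2d136638b44c88410f10930c302)⟩))
 (.node (nat_lit 1) (.leaf ⟨nat_lit 30, true, nat_lit 33, (nat_lit 0x2cb36240a30b3ca08b14614d789), (nat_lit 0x208cf40b80a38c10b40d10e188)⟩)
 (.leaf ⟨nat_lit 30, true, nat_lit 35, (nat_lit 0x1f32180a38c3de0ce28e106184), (nat_lit 0x30a39134f30b2c61829840c4)⟩))))
 (.node (nat_lit 4) (.node (nat_lit 2) (.node (nat_lit 1) (.leaf ⟨nat_lit 35, true, nat_lit 33, (nat_lit 0xa29030f82238a2851d014a0a6382), (nat_lit 0xb80f44f4262e00cb12118478c)⟩)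
 (.leaf ⟨nat_lit 34, true, nat_lit 33, (nat_lit 0xb4223d07a036130440c90378a), (nat_lit 0x31e81188c3a240c1203e60911c8)⟩))
 (.node (nat_lit 1) (.leaf ⟨nat_lit 38, true, nat_lit 35, (nat_lit 0x30a3633d198f8900e21038c80c4), (nat_lit 0x2ce45f2cb42388e0a10899c3143)⟩)
 (.leaf ⟨nat_lit 39, true, nat_lit 35, (nat_lit 0x2912d030f96228e0c71c41848a3), (nat_lit 0x2a34213d088d8044023451a7082)⟩)))
 (.node (nat_lit 2) (.node (nat_lit 1) (.leaf ⟨nat_lit 30, true, nat_lit 35, (nat_lit 0xe8503a189f78484d18c086182), (nat_lit 0xb85180f40a8a33c33880e5404)⟩)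
 (.leaf ⟨nat_lit 30, true, nat_lit 33, (nat_lit 0x2040f84e28a3210d1110883148), (nat_lit 0x3114663113cb34b1110df8430c3)⟩))
 (.node (nat_lit 1) (.leaf ⟨nat_lit 39, true, nat_lit 35, (nat_lit 0x40e38b3cb3de28594e382103), (nat_lit 0x2a388f32344d34a12018378f787)⟩)
 (.leaf ⟨nat_lit 35, true, nat_lit 35, (nat_lit 0xb3e230b8d081e2823c69c72cf443), (nat_lit 0x1084a7cf98d38a0d118614f204)⟩))))))
 (.node (nat_lit 16) (.node (nat_lit 8) (.node (nat_lit 4) (.node (nat_lit 2) (.node (nat_lit 1) (.leaf ⟨nat_lit 35, true, nat_lit 35, (nat_lit 0x28a34d34f41e40c10b360188202), (nat_lit 0xa8d03a299130b0820a70c914e)⟩)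
 (.leaf ⟨nat_lit 32, true, nat_lit 33, (nat_lit 0xb80c81f3ca35128230c40534d2c2), (nat_lit 0x3cc8a39a530f3040d041f18e082)⟩))
 (.node (nat_lit 1) (.leaf ⟨nat_lit 33, true, nat_lit 35, (nat_lit 0xa34e84d28e4263442071e49c6), (nat_lit 0x2a039e44f3e194c0c814f1cb410)⟩)
 (.leaf ⟨nat_lit 30, true, nat_lit 8, (nat_lit 0x31034f8d098d8622842ce0c68c9103), (nat_lit 0x2a634f42234e7ce0c844334b2c9)⟩)))
 (.node (nat_lit 2) (.node (nat_lit 1) (.leaf ⟨nat_lit 30, true, nat_lit 30, (nat_lit 0x28d86344f40d0822881040c8), (nat_lit 0xc78f9908633d09441e518516388a)⟩)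
 (.leaf ⟨nat_lit 35, true, nat_lit 32, (nat_lit 0x2cf45f3e134b34f08280c1a70c6), (nat_lit 0x29f34d8117cd40a08c1088ce905)⟩))
 (.node (nat_lit 1) (.leaf ⟨nat_lit 35, true, nat_lit 32, (nat_lit 0x32042535f3e08440cf346108142), (nat_lit 0x2d080f42640d44a0829c4387902)⟩)
 (.leaf ⟨nat_lit 33, true, nat_lit 33, (nat_lit 0x30a3d030e4607c44021493d0103), (nat_lit 0x2cb79186534a94426114610d085)⟩))))
 (.node (nat_lit 4) (.node (nat_lit 2) (.node (nat_lit 1) (.leaf ⟨nat_lit 32, true, nat_lit 35, (nat_lit 0xb9913664613e5285149887302), (nat_lit 0x2a644e4218cd98b0a6304386808)⟩)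
 (.leaf ⟨nat_lit 32, true, nat_lit 33, (nat_lit 0xb8cf88f28d2a10cf2c924f1c4), (nat_lit 0x88b3a132139130318440210a382)⟩))
 (.node (nat_lit 1) (.leaf ⟨nat_lit 32, true, nat_lit 33, (nat_lit 0x2a230f80a2a240a10a1c90a3084), (nat_lit 0x2cd8223633a528d0879480ca342)⟩)
 (.leaf ⟨nat_lit 32, true, nat_lit 32, (nat_lit 0xf3d02d08cd78f2858c23e70c3), (nat_lit 0x2cf32039194a38b087123207382)⟩)))
 (.node (nat_lit 2) (.node (nat_lit 1) (.leaf ⟨nat_lit 33, true, nat_lit 33, (nat_lit 0xb80f40e40f9a52c514508694b843), (nat_lit 0x1f96630a34e2d12c21083c62c9)⟩)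
 (.leaf ⟨nat_lit 33, true, nat_lit 35, (nat_lit 0xa78e7ce8108a32c28081cd08c), (nat_lit 0x28a34d28e8df41009f0880871c3)⟩))
 (.node (nat_lit 1) (.leaf ⟨nat_lit 33, true, nat_lit 35, (nat_lit 0xa3cb38e78e7912823c280d283), (nat_lit 0x30b7cc2a03a37ce08a3c70de109)⟩)
 (.leaf ⟨nat_lit 33, true, nat_lit 33, (nat_lit 0x32194b2d14632cd08928341e0ca), (nat_lit 0xc8d12d07e340d28418e40a188)⟩)))))
 (.node (nat_lit 8) (.node (nat_lit 4) (.node (nat_lit 2) (.node (nat_lit 1) (.leaf ⟨nat_lit 33, true, nat_lit 33, (nat_lit 0x3208ce80b44b40a08f1c480f242), (nat_lit 0x31040f85088b30c11e8c81c3)⟩)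
 (.leaf ⟨nat_lit 35, true, nat_lit 33, (nat_lit 0x3113de80e38e28a14830810f28e), (nat_lit 0x42394f34d3a20872103c3886)⟩))
 (.node (nat_lit 1) (.leaf ⟨nat_lit 39, true, nat_lit 35, (nat_lit 0x28a84d3903e188a0d11c9306886), (nat_lit 0x29e7cf36628a94d10d24221f14f)⟩)
 (.leaf ⟨nat_lit 33, true, nat_lit 35, (nat_lit 0x30b81194f8cf80a0e318310f99e), (nat_lit 0x78e34e88d40f1032c80e30a2)⟩)))
 (.node (nat_lit 2) (.node (nat_lit 1) (.leaf ⟨nat_lit 33, true, nat_lit 35, (nat_lit 0x31e86644a3cc38c14e409089942), (nat_lit 0x30c29136239184a145345987848)⟩)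
 (.leaf ⟨nat_lit 33, true, nat_lit 33, (nat_lit 0x30e89180b3e63e310f10d2a2847), (nat_lit 0xb44f2e044f4102c43c910b98f)⟩))
 (.node (nat_lit 1) (.leaf ⟨nat_lit 33, true, nat_lit 33, (nat_lit 0x2cb80f2a230b2cc0cb983403245), (nat_lit 0x80e84a34d44e1102cc1e03c2)⟩)
 (.leaf ⟨nat_lit 33, true, nat_lit 33, (nat_lit 0x31e28a38d8e13c21ca40f3d10c6), (nat_lit 0x30f46244d45134f0d01431067c4)⟩))))
 (.node (nat_lit 4) (.node (nat_lit 2) (.node (nat_lit 1) (.leaf ⟨nat_lit 35, true, nat_lit 35, (nat_lit 0x35e3917cb44f104282082383), (nat_lit 0xa3cb8633de3cb3823e20a1344983)⟩)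
 (.leaf ⟨nat_lit 35, true, nat_lit 35, (nat_lit 0xc88c81194e32010330280d205), (nat_lit 0xb7cc94e78f3cf8448c20a6426182)⟩))
 (.node (nat_lit 1) (.leaf ⟨nat_lit 35, true, nat_lit 35, (nat_lit 0x2cb31129e4237ca1220cf1de2c9), (nat_lit 0x253503a33269442832ce1a0)⟩)
 (.leaf ⟨nat_lit 33, true, nat_lit 33, (nat_lit 0x31e30b46098b78f0a5111088283), (nat_lit 0x28e79144b3cb8cb14e14f10a086)⟩)))
 (.node (nat_lit 2) (.node (nat_lit 1) (.leaf ⟨nat_lit 33, true, nat_lit 33, (nat_lit 0xc38e7e234d84b0c526510f106), (nat_lit 0xf28e81129f30e0ce1083889d0)⟩)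
 (.leaf ⟨nat_lit 33, true, nat_lit 35, (nat_lit 0xc42084a3cb38a2850c844514f), (nat_lit 0x2ce8d178e3212c520798724d202)⟩))
 (.node (nat_lit 1) (.leaf ⟨nat_lit 33, true, nat_lit 33, (nat_lit 0x2d144a3604658ca10c20b39e), (nat_lit 0x32330c31e7cd40d10a34e24f085)⟩)
 (.leaf ⟨nat_lit 33, true, nat_lit 33, (nat_lit 0xa38d40f3cb2d144a10a10e34e244), (nat_lit 0x2cd40d80f8113034050c41e2402)⟩)))))))
def ft10 : BT Fc := (.node (nat_lit 32) (.node (nat_lit 16) (.node (nat_lit 8) (.node (nat_lit 4) (.node (nat_lit 2) (.node (nat_lit 1) (.leaf ⟨nat_lit 35, true, nat_lit 33, (nat_lit 0x29f80f40f3ca3c51a20c70cd1c4), (nat_lit 0xb98c2e33e040f2c215f3883e4082)⟩)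
 (.leaf ⟨nat_lit 33, true, nat_lit 35, (nat_lit 0x1f38e2df2cc444104288125142), (nat_lit 0x2cb3a038c29181e11030f1101c3)⟩))
 (.node (nat_lit 1) (.leaf ⟨nat_lit 35, true, nat_lit 35, (nat_lit 0x36044b94f3df3440e48c78ca283), (nat_lit 0xb8cc2a542688e30424a0e2190283)⟩)
 (.leaf ⟨nat_lit 34, true, nat_lit 35, (nat_lit 0xf3d07cb2cc2821ce1ca286242), (nat_lit 0xc78f7a584a80c2c40e3890111103)⟩)))
 (.node (nat_lit 2) (.node (nat_lit 1) (.leaf ⟨nat_lit 35, true, nat_lit 33, (nat_lit 0x31178f42339e7c38503c3185), (nat_lit 0xc2df8d03e680a0cc1a30850a3)⟩)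
 (.leaf ⟨nat_lit 33, true, nat_lit 35, (nat_lit 0xf44e36089028a10f4221c798a), (nat_lit 0xa32640d36610a145351142)⟩))
 (.node (nat_lit 1) (.leaf ⟨nat_lit 35, true, nat_lit 35, (nat_lit 0x2d030f8d144c2cc0cd10838740a), (nat_lit 0xa42294e31f45e34310f1cc8c6142)⟩)
 (.leaf ⟨nat_lit 35, true, nat_lit 39, (nat_lit 0x2ce7e340b85134a0873231a7386), (nat_lit 0x45e44f41e28f10644c3880a5)⟩))))
 (.node (nat_lit 4) (.node (nat_lit 2) (.node (nat_lit 1) (.leaf ⟨nat_lit 35, true, nat_lit 35, (nat_lit 0x2e540e79f34e84a0c330b4260cc), (nat_lit 0x2a098e3603e228a1113893c70c8)⟩)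
 (.leaf ⟨nat_lit 33, true, nat_lit 33, (nat_lit 0xe36194f80d2910821e714c7ce), (nat_lit 0xc78d4613e378c3034431849c9)⟩))
 (.node (nat_lit 1) (.leaf ⟨nat_lit 34, true, nat_lit 34, (nat_lit 0xb7a584f28f98d0e31838ce844), (nat_lit 0xb3e342240b30f10e38e363205)⟩)
 (.leaf ⟨nat_lit 34, true, nat_lit 35, (nat_lit 0x2ce36344e84d08b0899a5183), (nat_lit 0x2198c8d139038b10f2469061a4)⟩)))
 (.node (nat_lit 2) (.node (nat_lit 1) (.leaf ⟨nat_lit 34, true, nat_lit 35, (nat_lit 0xb3d088c3a329f2c23c990f184), (nat_lit 0x2e03917a24262cf0857ce8c4849)⟩)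
 (.leaf ⟨nat_lit 34, true, nat_lit 35, (nat_lit 0xa88f3cf7cd41e1032449c2183), (nat_lit 0xb4639a538b8ce30310e14788e142)⟩))
 (.node (nat_lit 1) (.leaf ⟨nat_lit 35, true, nat_lit 35, (nat_lit 0xc3228d080f34a8842470d0288343), (nat_lit 0xf7e330c3cc8620a43c41a530c)⟩)
 (.leaf ⟨nat_lit 35, true, nat_lit 35, (nat_lit 0x2a33902ce7cc84a1071cc0ce805), (nat_lit 0x2e52e03de44e7cb14d0ca8ce889)⟩)))))
 (.node (nat_lit 8) (.node (nat_lit 4) (.node (nat_lit 2) (.node (nat_lit 1) (.leaf ⟨nat_lit 35, true, nat_lit 35, (nat_lit 0x2e63de42294c44c11e80778c387), (nat_lit 0x2e346328d28f9423103880cd)⟩)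
 (.leaf ⟨nat_lit 35, true, nat_lit 35, (nat_lit 0x1194f80a3a37822879511c3), (nat_lit 0x2e240b80f41084d126323402)⟩))
 (.node (nat_lit 1) (.leaf ⟨nat_lit 35, true, nat_lit 35, (nat_lit 0x2cf78d88e94d3a60d020228320f), (nat_lit 0xc80e2a13e68900cc0c578640a)⟩)
 (.leaf ⟨nat_lit 35, true, nat_lit 35, (nat_lit 0x2a52cf2e330a0c910f7c521f), (nat_lit 0x2e53e52cf40e38a0898840ca289)⟩)))
 (.node (nat_lit 2) (.node (nat_lit 1) (.leaf ⟨nat_lit 38, true, nat_lit 38, (nat_lit 0xd3a140d7cf106404462082), (nat_lit 0x30f32094e3904043ca90f1ca182)⟩)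
 (.leaf ⟨nat_lit 22, true, nat_lit 35, (nat_lit 0x2544d3cd3502c2189111088), (nat_lit 0x28e7a52cf96140f11008e14e204)⟩))
 (.node (nat_lit 1) (.leaf ⟨nat_lit 22, false, nat_lit 3, (nat_lit 0), (nat_lit 0xc3214203e63630cc0de304204)⟩)
 (.leaf ⟨nat_lit 3, true, nat_lit 3, (nat_lit 0x31f81144e34d98d0cf0e510320f), (nat_lit 0xc3214203e63630cc0de304204)⟩))))
 (.node (nat_lit 4) (.node (nat_lit 2) (.node (nat_lit 1) (.leaf ⟨nat_lit 8, true, nat_lit 28, (nat_lit 0x203613d03637cb3442511a6389142), (nat_lit 0x32284c3e53e34212840e70e12050c3)⟩)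
 (.leaf ⟨nat_lit 6, true, nat_lit 47, (nat_lit 0xc7a18902a0), (nat_lit 0)⟩))
 (.node (nat_lit 1) (.leaf ⟨nat_lit 47, false, nat_lit 47, (nat_lit 0x3614233118838871de8c5), (nat_lit 0)⟩)
 (.leaf ⟨nat_lit 47, false, nat_lit 47, (nat_lit 0x2a03232a64101100a2261202), (nat_lit 0)⟩)))
 (.node (nat_lit 2) (.node (nat_lit 1) (.leaf ⟨nat_lit 47, false, nat_lit 47, (nat_lit 0xc88e29e8513e02848859c58c3), (nat_lit 0)⟩)
 (.leaf ⟨nat_lit 47, false, nat_lit 47, (nat_lit 0xb41041f3e344a10830578c), (nat_lit 0)⟩))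
 (.node (nat_lit 1) (.leaf ⟨nat_lit 47, true, nat_lit 39, (nat_lit 0x30f30a94d88a38a08278844c), (nat_lit 0xa78c8233d18ca2821470a1464)⟩)
 (.leaf ⟨nat_lit 47, false, nat_lit 47, (nat_lit 0xb40e29084f78e2821420a4948), (nat_lit 0)⟩))))))
 (.node (nat_lit 16) (.node (nat_lit 8) (.node (nat_lit 4) (.node (nat_lit 2) (.node (nat_lit 1) (.leaf ⟨nat_lit 47, false, nat_lit 47, (nat_lit 0xb94f7913a62a13840ce1839a3), (nat_lit 0)⟩)
 (.leaf ⟨nat_lit 47, false, nat_lit 47, (nat_lit 0x2cb34a8ce79111e20231e14b), (nat_lit 0)⟩))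
 (.node (nat_lit 1) (.leaf ⟨nat_lit 47, false, nat_lit 47, (nat_lit 0xb98f3218a68ce2c3185190883), (nat_lit 0)⟩)
 (.leaf ⟨nat_lit 33, true, nat_lit 47, (nat_lit 0x2a042194d80d40318398d461), (nat_lit 0xa40c8e598f80f2053d1207)⟩)))
 (.node (nat_lit 2) (.node (nat_lit 1) (.leaf ⟨nat_lit 34, true, nat_lit 47, (nat_lit 0x28a3de8e230f9822610a11d1), (nat_lit 0xc4622cb88f85e34284208b785)⟩)
 (.leaf ⟨nat_lit 47, true, nat_lit 28, (nat_lit 0x2cc79f3907cd2cd1070cd425403), (nat_lit 0x7e132640f9902c318d39e186184)⟩))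
 (.node (nat_lit 1) (.leaf ⟨nat_lit 28, true, nat_lit 47, (nat_lit 0xb7cf28c99195f2842420a41ca3c2), (nat_lit 0x30c3de41f36044a08f10f0e00cc)⟩)
 (.leaf ⟨nat_lit 47, true, nat_lit 30, (nat_lit 0x2ce7a634f3e640b0852041c4086), (nat_lit 0x2134a38c98f88e085345907147)⟩))))
 (.node (nat_lit 4) (.node (nat_lit 2) (.node (nat_lit 1) (.leaf ⟨nat_lit 30, true, nat_lit 47, (nat_lit 0x31134e8629a33852c40c7908), (nat_lit 0x3203902e52d03842e03e118e)⟩)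
 (.leaf ⟨nat_lit 47, true, nat_lit 32, (nat_lit 0x29084d44f99f28e087211903186), (nat_lit 0x253cf3ca89f40c0857c7890382)⟩))
 (.node (nat_lit 1) (.leaf ⟨nat_lit 47, true, nat_lit 35, (nat_lit 0x1038e34e98c38d10f94798f305), (nat_lit 0xa32642139146128a126242388286)⟩)
 (.leaf ⟨nat_lit 47, true, nat_lit 34, (nat_lit 0x3df32396139114e1e230e982), (nat_lit 0x40a7cf3d08a134341f14e149182)⟩)))
 (.node (nat_lit 2) (.node (nat_lit 1) (.leaf ⟨nat_lit 47, true, nat_lit 39, (nat_lit 0x2cb84e94e42338a0ce10b0df244), (nat_lit 0x2ce79136534e7c340614e787142)⟩)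
 (.leaf ⟨nat_lit 6, true, nat_lit 48, (nat_lit 0x79f), (nat_lit 0)⟩))
 (.node (nat_lit 1) (.leaf ⟨nat_lit 48, false, nat_lit 48, (nat_lit 0x213653e08ce28c0c420c98f), (nat_lit 0)⟩)
 (.leaf ⟨nat_lit 48, false, nat_lit 48, (nat_lit 0x7e22e23e02d12842c734d985), (nat_lit 0)⟩)))))
 (.node (nat_lit 8) (.node (nat_lit 4) (.node (nat_lit 2) (.node (nat_lit 1) (.leaf ⟨nat_lit 48, false, nat_lit 48, (nat_lit 0xb3d129144d86230a08232328a145), (nat_lit 0)⟩)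
 (.leaf ⟨nat_lit 48, false, nat_lit 48, (nat_lit 0x213653e08ce28c0c420c98f), (nat_lit 0)⟩))
 (.node (nat_lit 1) (.leaf ⟨nat_lit 48, false, nat_lit 48, (nat_lit 0xb80e40a8257903021e33107ca), (nat_lit 0)⟩)
 (.leaf ⟨nat_lit 48, true, nat_lit 39, (nat_lit 0x1134f32328f08814c389102), (nat_lit 0xa28a44f3222910ca290405182)⟩)))
 (.node (nat_lit 2) (.node (nat_lit 1) (.leaf ⟨nat_lit 34, true, nat_lit 48, (nat_lit 0x1145e84d2cc44b08912324d), (nat_lit 0xb3e628d3a638d38518398e245)⟩)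
 (.leaf ⟨nat_lit 9, true, nat_lit 48, (nat_lit 0x3a544e2d186014d3c81821e6), (nat_lit 0xc44a80e40b3623c418b383446)⟩))
 (.node (nat_lit 1) (.leaf ⟨nat_lit 8, true, nat_lit 48, (nat_lit 0xe44c8a144e80e10a39f9842c9), (nat_lit 0xa46388d98f4102c411110d3ca103)⟩)
 (.leaf ⟨nat_lit 28, true, nat_lit 48, (nat_lit 0x2639e44d9612cc108384444109), (nat_lit 0xc40e8912e135e4021513ca845)⟩))))
 (.node (nat_lit 4) (.node (nat_lit 2) (.node (nat_lit 1) (.leaf ⟨nat_lit 48, true, nat_lit 39, (nat_lit 0x98f88c2df30b3833c3250283), (nat_lit 0xb8cf98d3633cd2c310f904865)⟩)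
 (.leaf ⟨nat_lit 33, true, nat_lit 48, (nat_lit 0xa78e88d89078b2c51854628e4), (nat_lit 0x2a189146044b3c2348408088)⟩))
 (.node (nat_lit 1) (.leaf ⟨nat_lit 33, true, nat_lit 48, (nat_lit 0xb2cf30c3d041028420710a84e), (nat_lit 0xb3de86245181f2c51c70ca34a)⟩)
 (.leaf ⟨nat_lit 9, true, nat_lit 48, (nat_lit 0x2cb41e44e81f34a0828628e4), (nat_lit 0xa28d2cf88f3e0784786351090102)⟩)))
 (.node (nat_lit 2) (.node (nat_lit 1) (.leaf ⟨nat_lit 38, true, nat_lit 48, (nat_lit 0xb39e98e3504212c518530238b), (nat_lit 0x2e084b2ce94b30c0873040a01c8)⟩)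
 (.leaf ⟨nat_lit 48, true, nat_lit 39, (nat_lit 0x30f28e35e3cd80a10830908a960), (nat_lit 0xa84c88e84e3501033a63a4342)⟩))
 (.node (nat_lit 1) (.leaf ⟨nat_lit 33, true, nat_lit 48, (nat_lit 0x32041f84f86538c10b1a524c902), (nat_lit 0xc7e642398e4623448453830ca842)⟩)
 (.leaf ⟨nat_lit 33, true, nat_lit 48, (nat_lit 0x28d80b32695138c12611e102302), (nat_lit 0xb78e2912a546128534784f0ce402)⟩)))))))
def ft11 : BT Fc := (.node (nat_lit 32) (.node (nat_lit 16) (.node (nat_lit 8) (.node (nat_lit 4) (.node (nat_lit 2) (.node (nat_lit 1) (.leaf ⟨nat_lit 28, true, nat_lit 48, (nat_lit 0xe8213913a688240620620a), (nat_lit 0x38b38c44f8cf28534609031e102)⟩)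
 (.leaf ⟨nat_lit 9, true, nat_lit 48, (nat_lit 0x29e88e40c86078a0c914e1e48c8), (nat_lit 0x8a145e3d138b08740744f304)⟩))
 (.node (nat_lit 1) (.leaf ⟨nat_lit 39, true, nat_lit 48, (nat_lit 0x80e88f45e39e34208b3459e1), (nat_lit 0x28f2e046538e99f08939e1d0283)⟩)
 (.leaf ⟨nat_lit 48, true, nat_lit 39, (nat_lit 0xa3de30c38c78a14a1868cf8c2), (nat_lit 0x2de42338e44a3ca1261838c27c9)⟩)))
 (.node (nat_lit 2) (.node (nat_lit 1) (.leaf ⟨nat_lit 48, true, nat_lit 33, (nat_lit 0x2cc2d030b84f28535e24418b), (nat_lit 0xb80d42035134e0cc182950149)⟩)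
 (.leaf ⟨nat_lit 30, true, nat_lit 48, (nat_lit 0xa28a44b7cb78b3429431882d0382), (nat_lit 0xb94f85088e94f4051cf927245082)⟩))
 (.node (nat_lit 1) (.leaf ⟨nat_lit 33, true, nat_lit 48, (nat_lit 0x2e584e31181188a08f1cc227982), (nat_lit 0xc40a8513d14613452c598e247283)⟩)
 (.leaf ⟨nat_lit 33, true, nat_lit 48, (nat_lit 0xd99184b3d028d10408540d388), (nat_lit 0xe32144d38e44d28438680f2492c6)⟩))))
 (.node (nat_lit 4) (.node (nat_lit 2) (.node (nat_lit 1) (.leaf ⟨nat_lit 33, true, nat_lit 48, (nat_lit 0xb94f2cc2d144e0c980234638a), (nat_lit 0xd28e34f3e62cc0c93057c23cb)⟩)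
 (.leaf ⟨nat_lit 35, true, nat_lit 48, (nat_lit 0xe40f8cc3cc84c0d12df0e3282), (nat_lit 0x28d80f3d080e40e14214c8ca145)⟩))
 (.node (nat_lit 1) (.leaf ⟨nat_lit 35, true, nat_lit 48, (nat_lit 0xb7913cf45128a3423cb0918ca), (nat_lit 0x29042388e3263830cc308082)⟩)
 (.leaf ⟨nat_lit 35, true, nat_lit 48, (nat_lit 0x3252ce40e84a30a087384384104), (nat_lit 0x30c40f78f95f28a14e0c6286890)⟩)))
 (.node (nat_lit 2) (.node (nat_lit 1) (.leaf ⟨nat_lit 33, true, nat_lit 48, (nat_lit 0xa42134f3102e12c528e7c39c8082), (nat_lit 0x2903a330e84c2ce0c61a11cf986)⟩)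
 (.leaf ⟨nat_lit 32, true, nat_lit 48, (nat_lit 0x31098f78c7ca3840e1090905), (nat_lit 0xc80a42240f99e2c23453c2182)⟩))
 (.node (nat_lit 1) (.leaf ⟨nat_lit 30, true, nat_lit 48, (nat_lit 0x2e234e7ce80f3c34051df103), (nat_lit 0x30b3d098e89e4610e610641e086)⟩)
 (.leaf ⟨nat_lit 48, true, nat_lit 28, (nat_lit 0x2ce2a388e42328a1118c3106782), (nat_lit 0xa7de3de8ca2a04041e1985)⟩)))))
 (.node (nat_lit 8) (.node (nat_lit 4) (.node (nat_lit 2) (.node (nat_lit 1) (.leaf ⟨nat_lit 48, true, nat_lit 28, (nat_lit 0x28d2cf4513e23830c78c9342983), (nat_lit 0xa32540d8663a32c240728420e)⟩)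
 (.leaf ⟨nat_lit 48, true, nat_lit 28, (nat_lit 0x81131040e35e0c41c27c5849), (nat_lit 0x30e3908cf8913842912641a5)⟩))
 (.node (nat_lit 1) (.leaf ⟨nat_lit 39, true, nat_lit 48, (nat_lit 0xb94d2cc38c38a3021e01823cc), (nat_lit 0xa29088f2e340e284246145464)⟩)
 (.leaf ⟨nat_lit 30, true, nat_lit 48, (nat_lit 0x30a38e85136694f08998508e7c8), (nat_lit 0xb78a95138c99e2832e510e1469c3)⟩)))
 (.node (nat_lit 2) (.node (nat_lit 1) (.leaf ⟨nat_lit 48, true, nat_lit 39, (nat_lit 0x3252d13cf95f2cd111848349089), (nat_lit 0x1e94d3a099f40a14224c9c33c7)⟩)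
 (.leaf ⟨nat_lit 33, true, nat_lit 48, (nat_lit 0x30a2902cb38c40d10b1a034f84c), (nat_lit 0x2a330a3cc40e0901e2250882)⟩))
 (.node (nat_lit 1) (.leaf ⟨nat_lit 33, true, nat_lit 48, (nat_lit 0x28f80d44b46538d0c62ce28e90a), (nat_lit 0xb7a03234203e32c439f30e384182)⟩)
 (.leaf ⟨nat_lit 39, true, nat_lit 48, (nat_lit 0x2544d7a038b44444d20d3c3), (nat_lit 0x29186244c40f78f1081101c4087)⟩))))
 (.node (nat_lit 4) (.node (nat_lit 2) (.node (nat_lit 1) (.leaf ⟨nat_lit 48, true, nat_lit 28, (nat_lit 0x28e82534a8e230f08f286125386), (nat_lit 0x2ce30b41f3cf84c143422349344)⟩)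
 (.leaf ⟨nat_lit 39, true, nat_lit 48, (nat_lit 0xc3e640e84c30c28a14b0a544830a), (nat_lit 0x29139e28e35e3cd08928321124c)⟩))
 (.node (nat_lit 1) (.leaf ⟨nat_lit 48, true, nat_lit 48, (nat_lit 0x30b40f8919a334a1081e2402344), (nat_lit 0x30e82198d3cb2cc0c4382088409)⟩)
 (.leaf ⟨nat_lit 48, true, nat_lit 34, (nat_lit 0xa3a13de3d080a94334e2423d0782), (nat_lit 0x30c2e639f84f7cf0c3291983104)⟩)))
 (.node (nat_lit 2) (.node (nat_lit 1) (.leaf ⟨nat_lit 47, true, nat_lit 48, (nat_lit 0xb30e85130f7cf28538d14a11f403), (nat_lit 0xd35030e38d80a0c63a0183384)⟩)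
 (.leaf ⟨nat_lit 30, true, nat_lit 48, (nat_lit 0xb31f7a63ca88c2831044090a63c3), (nat_lit 0x2cb31188f3228ca08224a0e5284)⟩))
 (.node (nat_lit 1) (.leaf ⟨nat_lit 30, true, nat_lit 48, (nat_lit 0x1036238b86244c0c838530e382), (nat_lit 0x2a034f94b38e78d0c62e3162203)⟩)
 (.leaf ⟨nat_lit 28, true, nat_lit 48, (nat_lit 0xb44f7e140e40b2c310c1ca0e2), (nat_lit 0xb94e7a53668910e21060ca3e5)⟩))))))
 (.node (nat_lit 16) (.node (nat_lit 8) (.node (nat_lit 4) (.node (nat_lit 2) (.node (nat_lit 1) (.leaf ⟨nat_lit 38, true, nat_lit 48, (nat_lit 0xa7cb44a2a13d13a40cf1c508a), (nat_lit 0x2de7cf40b38d38c08a0c524f403)⟩)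
 (.leaf ⟨nat_lit 33, true, nat_lit 48, (nat_lit 0x2902de94f2cb38e088383402949), (nat_lit 0x30e31f38e7d039f103947385346)⟩))
 (.node (nat_lit 1) (.leaf ⟨nat_lit 48, true, nat_lit 33, (nat_lit 0xc79032240a30322188311e185), (nat_lit 0x28e84e29080c30e2850c38a33a4403)⟩)
 (.leaf ⟨nat_lit 33, true, nat_lit 48, (nat_lit 0xb34f3233e384a3048071e01e3283), (nat_lit 0xc31e88c2df3cf34a0cc90639010d)⟩)))
 (.node (nat_lit 2) (.node (nat_lit 1) (.leaf ⟨nat_lit 48, true, nat_lit 38, (nat_lit 0xa3a63222e544c2c20857ce91f103), (nat_lit 0x44f29f2cc40d28328f0ca18b)⟩)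
 (.leaf ⟨nat_lit 48, true, nat_lit 35, (nat_lit 0xb3e28ce81088f3053821a540d282), (nat_lit 0xa78c3a240f94c3023cb0a2442182)⟩))
 (.node (nat_lit 1) (.leaf ⟨nat_lit 48, true, nat_lit 39, (nat_lit 0x1f38e7a330c3ca10f1082d0407), (nat_lit 0x32539f80e46134f1101623a2)⟩)
 (.leaf ⟨nat_lit 48, true, nat_lit 30, (nat_lit 0x2e24213d084a30c10e4062910c7), (nat_lit 0xc45f3e53e230c0c68ca8c28c2)⟩))))
 (.node (nat_lit 4) (.node (nat_lit 2) (.node (nat_lit 1) (.leaf ⟨nat_lit 48, true, nat_lit 48, (nat_lit 0x3222e544e7cc4610822c49108c5), (nat_lit 0x1128f2ce9a240a12219e087406)⟩)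
 (.leaf ⟨nat_lit 39, true, nat_lit 48, (nat_lit 0x2cb2cc30c8ce38c14a08f1df407), (nat_lit 0x2cd28f2cc30c94b0823033df309)⟩))
 (.node (nat_lit 1) (.leaf ⟨nat_lit 35, true, nat_lit 48, (nat_lit 0xa30c38e40f2d13c420c21194c), (nat_lit 0x9903cc3902d038534a44378e182)⟩)
 (.leaf ⟨nat_lit 48, true, nat_lit 30, (nat_lit 0x2144f2a032130f12234912028f), (nat_lit 0xc80c40a8102e00900850c63c7)⟩)))
 (.node (nat_lit 2) (.node (nat_lit 1) (.leaf ⟨nat_lit 33, true, nat_lit 48, (nat_lit 0xa80a98f86234e0a60c32c53df), (nat_lit 0xc3cb38d46584c3833463de188)⟩)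
 (.leaf ⟨nat_lit 48, true, nat_lit 30, (nat_lit 0xa40a84d2903a330a111390145403), (nat_lit 0x2d084f2cb99184b0c34042c440f)⟩))
 (.node (nat_lit 1) (.leaf ⟨nat_lit 48, true, nat_lit 35, (nat_lit 0x7e644f7cf98a2842e510620e102), (nat_lit 0x2e032239134e2cd28478d0c60e2082)⟩)
 (.leaf ⟨nat_lit 33, true, nat_lit 48, (nat_lit 0x213cc2cb3612ce10324f1ce443), (nat_lit 0xb8ca7cf2e130a14244e20f44c)⟩)))))
 (.node (nat_lit 8) (.node (nat_lit 4) (.node (nat_lit 2) (.node (nat_lit 1) (.leaf ⟨nat_lit 34, true, nat_lit 48, (nat_lit 0x30e39079098c1021639e4403), (nat_lit 0x2d08a534b8903ca2840e238c388302)⟩)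
 (.leaf ⟨nat_lit 32, true, nat_lit 48, (nat_lit 0x3df34e39f80c0c71e39c33c3), (nat_lit 0x263e23d19a380f1118c79c784d)⟩))
 (.node (nat_lit 1) (.leaf ⟨nat_lit 48, true, nat_lit 39, (nat_lit 0x28e40f3e144d84d08534d12488f), (nat_lit 0x8503112e32cf10e44318f0cd)⟩)
 (.leaf ⟨nat_lit 48, true, nat_lit 48, (nat_lit 0x2e53d03623a640a0ce2881cf14b), (nat_lit 0xf7a234f79f40c10978708238a)⟩)))
 (.node (nat_lit 2) (.node (nat_lit 1) (.leaf ⟨nat_lit 33, true, nat_lit 48, (nat_lit 0x29186340f3668cb0cb44518a289), (nat_lit 0x2e52e040f2cb40a0cc0c626418d)⟩)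
 (.leaf ⟨nat_lit 47, true, nat_lit 48, (nat_lit 0x208a63e585144d0853e20cf), (nat_lit 0xa86538b95194c2823c77c28c8382)⟩))
 (.node (nat_lit 1) (.leaf ⟨nat_lit 48, true, nat_lit 35, (nat_lit 0x2e53cc86540b46510698f342302), (nat_lit 0x2a24517a12cb2cc1109851a320d)⟩)
 (.leaf ⟨nat_lit 48, true, nat_lit 48, (nat_lit 0x2a644f42330e30c10739f14a082), (nat_lit 0x2040d95184f34a14380710644d)⟩))))
 (.node (nat_lit 4) (.node (nat_lit 2) (.node (nat_lit 1) (.leaf ⟨nat_lit 48, true, nat_lit 48, (nat_lit 0x44f86341e28c10d38c150343), (nat_lit 0xc3cf44b3a694c11138520e150)⟩)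
 (.leaf ⟨nat_lit 29, true, nat_lit 49, (nat_lit 0x1129130a9a130228a18b), (nat_lit 0)⟩))
 (.node (nat_lit 1) (.leaf ⟨nat_lit 49, false, nat_lit 49, (nat_lit 0xb44a7a34513632c228694d), (nat_lit 0)⟩)
 (.leaf ⟨nat_lit 49, false, nat_lit 49, (nat_lit 0x1e38b8e22cb3c228f18b), (nat_lit 0)⟩)))
 (.node (nat_lit 2) (.node (nat_lit 1) (.leaf ⟨nat_lit 49, false, nat_lit 49, (nat_lit 0xb8e53a284e3a24423613c8), (nat_lit 0)⟩)
 (.leaf ⟨nat_lit 49, false, nat_lit 49, (nat_lit 0xe30b31e30228839f), (nat_lit 0)⟩))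
 (.node (nat_lit 1) (.leaf ⟨nat_lit 49, false, nat_lit 49, (nat_lit 0xc41e3e098f44e3423c60a7), (nat_lit 0)⟩)
 (.leaf ⟨nat_lit 49, true, nat_lit 35, (nat_lit 0x102a041f2de2831918c838a), (nat_lit 0x38e8ce2cc95028508220a0cc3c3)⟩)))))))
def ft12 : BT Fc := (.node (nat_lit 32) (.node (nat_lit 16) (.node (nat_lit 8) (.node (nat_lit 4) (.node (nat_lit 2) (.node (nat_lit 1) (.leaf ⟨nat_lit 49, false, nat_lit 49, (nat_lit 0x38d2a644a88a40220f791), (nat_lit 0)⟩)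
 (.leaf ⟨nat_lit 49, false, nat_lit 49, (nat_lit 0xb9a546539078a0883c21a1), (nat_lit 0)⟩))
 (.node (nat_lit 1) (.leaf ⟨nat_lit 49, false, nat_lit 49, (nat_lit 0xb8502e138e34e28228694d), (nat_lit 0)⟩)
 (.leaf ⟨nat_lit 33, true, nat_lit 49, (nat_lit 0x4653cd38d9a10900d10d1947), (nat_lit 0x2631f88f88c2ce0cf2833c7351)⟩)))
 (.node (nat_lit 2) (.node (nat_lit 1) (.leaf ⟨nat_lit 38, true, nat_lit 49, (nat_lit 0xc81184f4253501090e1127188), (nat_lit 0xa3e298e84a34f306843211104)⟩)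
 (.leaf ⟨nat_lit 49, true, nat_lit 49, (nat_lit 0x30f95028d7ca28c0c58c40ca089), (nat_lit 0x2a02ce88c3cf84340e343186102)⟩))
 (.node (nat_lit 1) (.leaf ⟨nat_lit 8, true, nat_lit 50, (nat_lit 0x118262a628d90c), (nat_lit 0)⟩)
 (.leaf ⟨nat_lit 50, false, nat_lit 50, (nat_lit 0xc80e80c3a240d3432043cf2c9), (nat_lit 0)⟩))))
 (.node (nat_lit 4) (.node (nat_lit 2) (.node (nat_lit 1) (.leaf ⟨nat_lit 50, false, nat_lit 50, (nat_lit 0x1085084a38c28a1c2949183), (nat_lit 0)⟩)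
 (.leaf ⟨nat_lit 50, false, nat_lit 50, (nat_lit 0xc32244b3e180424e8628c5), (nat_lit 0)⟩))
 (.node (nat_lit 1) (.leaf ⟨nat_lit 50, false, nat_lit 50, (nat_lit 0xa85098c3cd7c90d0), (nat_lit 0)⟩)
 (.leaf ⟨nat_lit 50, false, nat_lit 50, (nat_lit 0x29131e3d039129008d3c8), (nat_lit 0)⟩)))
 (.node (nat_lit 2) (.node (nat_lit 1) (.leaf ⟨nat_lit 50, false, nat_lit 50, (nat_lit 0x2d032084e94d2c21c92c714a), (nat_lit 0)⟩)
 (.leaf ⟨nat_lit 50, true, nat_lit 9, (nat_lit 0xa3d03a084e40e2c4387983344), (nat_lit 0x2de8653cf30c290185907806)⟩))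
 (.node (nat_lit 1) (.leaf ⟨nat_lit 50, false, nat_lit 50, (nat_lit 0x2d188b84f8038c3206), (nat_lit 0)⟩)
 (.leaf ⟨nat_lit 50, false, nat_lit 50, (nat_lit 0x30a88f78a88c40b10340f205302), (nat_lit 0)⟩)))))
 (.node (nat_lit 8) (.node (nat_lit 4) (.node (nat_lit 2) (.node (nat_lit 1) (.leaf ⟨nat_lit 50, false, nat_lit 50, (nat_lit 0xa7902e538e8902890d0), (nat_lit 0)⟩)
 (.leaf ⟨nat_lit 50, false, nat_lit 50, (nat_lit 0xc3a694e46634a802310948), (nat_lit 0)⟩))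
 (.node (nat_lit 1) (.leaf ⟨nat_lit 50, true, nat_lit 38, (nat_lit 0x28e45f8e638a94d14710c84a), (nat_lit 0x39e8cf4652d128482144f24a)⟩)
 (.leaf ⟨nat_lit 9, true, nat_lit 50, (nat_lit 0xb7e24223cf3e32c310a08940a), (nat_lit 0x3113212ce8654033082cb)⟩)))
 (.node (nat_lit 2) (.node (nat_lit 1) (.leaf ⟨nat_lit 38, true, nat_lit 50, (nat_lit 0xa44d78a4668112c208b9511ca), (nat_lit 0x2cf84e84b46680a0841ce7c2244)⟩)
 (.leaf ⟨nat_lit 50, true, nat_lit 33, (nat_lit 0x30a3d198e28e3833c32cb08c), (nat_lit 0xc3e246388e40b0cb302164242)⟩))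
 (.node (nat_lit 1) (.leaf ⟨nat_lit 39, true, nat_lit 50, (nat_lit 0xc8103d02df2c508e1a4982), (nat_lit 0x2d12ce84a2a54448cf282882)⟩)
 (.leaf ⟨nat_lit 33, true, nat_lit 50, (nat_lit 0x2d13a130f31e40e1452c4383442), (nat_lit 0x102ce84c84f3c51e18cf245)⟩))))
 (.node (nat_lit 4) (.node (nat_lit 2) (.node (nat_lit 1) (.leaf ⟨nat_lit 48, true, nat_lit 50, (nat_lit 0x2e33253cc41e34a28215e243345), (nat_lit 0x28e3103d028c38c10e183266443)⟩)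
 (.leaf ⟨nat_lit 28, true, nat_lit 50, (nat_lit 0xa30f4513a22e01101c580d), (nat_lit 0x3103107ce80b40d14f28814f1c2)⟩))
 (.node (nat_lit 1) (.leaf ⟨nat_lit 28, true, nat_lit 50, (nat_lit 0x223a030f8627831509062ce), (nat_lit 0x213903de44a30c0c318b7c33c2)⟩)
 (.leaf ⟨nat_lit 35, true, nat_lit 50, (nat_lit 0xc82138e45e4513428473089c7), (nat_lit 0x30b88b7a598b14d94318c2c7)⟩)))
 (.node (nat_lit 2) (.node (nat_lit 1) (.leaf ⟨nat_lit 50, true, nat_lit 47, (nat_lit 0xc7ce2e22ce8cc0ce1c210c3c2), (nat_lit 0x1f38a80c32130a2839c93c68083c3)⟩)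
 (.leaf ⟨nat_lit 32, true, nat_lit 51, (nat_lit 0xa79182298e), (nat_lit 0)⟩))
 (.node (nat_lit 1) (.leaf ⟨nat_lit 51, false, nat_lit 51, (nat_lit 0x2ce40d2a598e30f0cf1088cf802), (nat_lit 0)⟩)
 (.leaf ⟨nat_lit 51, false, nat_lit 51, (nat_lit 0x1f3223913254041032df846), (nat_lit 0)⟩))))))
 (.node (nat_lit 16) (.node (nat_lit 8) (.node (nat_lit 4) (.node (nat_lit 2) (.node (nat_lit 1) (.leaf ⟨nat_lit 51, false, nat_lit 51, (nat_lit 0x31034e3a63253451621469c6), (nat_lit 0)⟩)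
 (.leaf ⟨nat_lit 51, false, nat_lit 51, (nat_lit 0xc38d45f7912d028320d389442), (nat_lit 0)⟩))
 (.node (nat_lit 1) (.leaf ⟨nat_lit 51, false, nat_lit 51, (nat_lit 0x30e8a342194d8453a61de), (nat_lit 0)⟩)
 (.leaf ⟨nat_lit 51, false, nat_lit 51, (nat_lit 0xb84c79139040e3432473067d1), (nat_lit 0)⟩)))
 (.node (nat_lit 2) (.node (nat_lit 1) (.leaf ⟨nat_lit 39, true, nat_lit 51, (nat_lit 0x44e7a29903623c214812340c), (nat_lit 0x2d131e45134d2841900a08c8)⟩)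
 (.leaf ⟨nat_lit 39, true, nat_lit 51, (nat_lit 0x28e39e3222cc40a1070ce08b246), (nat_lit 0x45e29034e34b404285363406)⟩))
 (.node (nat_lit 1) (.leaf ⟨nat_lit 51, false, nat_lit 51, (nat_lit 0x28c38e2d18a17cc0821e6085285), (nat_lit 0)⟩)
 (.leaf ⟨nat_lit 51, false, nat_lit 51, (nat_lit 0x2cf32032284e2cd0d110a1a2842), (nat_lit 0)⟩))))
 (.node (nat_lit 4) (.node (nat_lit 2) (.node (nat_lit 1) (.leaf ⟨nat_lit 51, false, nat_lit 51, (nat_lit 0x2cb94f34a94c44480734b086), (nat_lit 0)⟩)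
 (.leaf ⟨nat_lit 51, false, nat_lit 51, (nat_lit 0x28e2913603cc84d10b7c21822c7), (nat_lit 0)⟩))
 (.node (nat_lit 1) (.leaf ⟨nat_lit 51, true, nat_lit 33, (nat_lit 0xc45e9503264052c529e948), (nat_lit 0xc2ce32044f34e28a11e30734708d)⟩)
 (.leaf ⟨nat_lit 51, true, nat_lit 33, (nat_lit 0x40e3a39a534f3029823421c8), (nat_lit 0x2d07a18ce30e80c11e14930f309)⟩)))
 (.node (nat_lit 2) (.node (nat_lit 1) (.leaf ⟨nat_lit 51, true, nat_lit 33, (nat_lit 0x32044f3cf32640a10e20b08a344), (nat_lit 0x2cd2917cf2e694b12234f1c5086)⟩)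
 (.leaf ⟨nat_lit 33, true, nat_lit 51, (nat_lit 0xc31f3cd39198c4441e63c3342), (nat_lit 0x35138c84e8d008b1083c7)⟩))
 (.node (nat_lit 1) (.leaf ⟨nat_lit 39, true, nat_lit 51, (nat_lit 0x29134f89130e80b08d2450a4804), (nat_lit 0x30b44b4629503cb10738c7ce145)⟩)
 (.leaf ⟨nat_lit 28, true, nat_lit 51, (nat_lit 0x31029144d84b98c10634808f186), (nat_lit 0x29e3a538a46234a0c425e1650c8)⟩)))))
 (.node (nat_lit 8) (.node (nat_lit 4) (.node (nat_lit 2) (.node (nat_lit 1) (.leaf ⟨nat_lit 38, true, nat_lit 51, (nat_lit 0x30e2e132088f7d00c524b448882), (nat_lit 0x3a33263e028e18639e151302)⟩)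
 (.leaf ⟨nat_lit 35, true, nat_lit 51, (nat_lit 0x88c2a344f31008d086087984), (nat_lit 0x2ce34e7e039098c11e2073e20c3)⟩))
 (.node (nat_lit 1) (.leaf ⟨nat_lit 38, true, nat_lit 51, (nat_lit 0xa2a535144d38d2c208926014d1c3), (nat_lit 0xb2cf80e30e30c2820919c2245147)⟩)
 (.leaf ⟨nat_lit 51, true, nat_lit 38, (nat_lit 0x1f34d28e2d099e11040710708c), (nat_lit 0x2de44d28a9a07ce08f0c8405404)⟩)))
 (.node (nat_lit 2) (.node (nat_lit 1) (.leaf ⟨nat_lit 30, true, nat_lit 51, (nat_lit 0x32138d7ce44d8c47841c728f203), (nat_lit 0xc7a03cd34d2900c42c52899c4)⟩)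
 (.leaf ⟨nat_lit 9, true, nat_lit 51, (nat_lit 0x28d4633ca38c7cf11144e2c3186), (nat_lit 0xb42328a78e88b3c23242c5425)⟩))
 (.node (nat_lit 1) (.leaf ⟨nat_lit 28, true, nat_lit 51, (nat_lit 0x31e30e45e85028f11088c249142), (nat_lit 0x28a44f3cd7cd44d0911428e7203)⟩)
 (.leaf ⟨nat_lit 51, true, nat_lit 33, (nat_lit 0x2ce2a238d80c40c0879c20840df), (nat_lit 0x2cf30b45188c38c0cb0d118528a)⟩))))
 (.node (nat_lit 4) (.node (nat_lit 2) (.node (nat_lit 1) (.leaf ⟨nat_lit 51, true, nat_lit 39, (nat_lit 0x2044e8e542384a1039c57c914c), (nat_lit 0x78a84f34f8910cd4444052c2)⟩)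
 (.leaf ⟨nat_lit 30, true, nat_lit 51, (nat_lit 0x2a138d39f34e9430d1190804), (nat_lit 0x2e344b42388f7cb10f10f284388)⟩))
 (.node (nat_lit 1) (.leaf ⟨nat_lit 38, true, nat_lit 51, (nat_lit 0xd7a52d184c1111c91a47c8), (nat_lit 0x2d13cd45188d4031513840c3242)⟩)
 (.leaf ⟨nat_lit 35, true, nat_lit 51, (nat_lit 0xb3df35e40a3a3111107223146), (nat_lit 0x2cc2cb8e585e38b08940f304308)⟩)))
 (.node (nat_lit 2) (.node (nat_lit 1) (.leaf ⟨nat_lit 33, true, nat_lit 51, (nat_lit 0x2cb2d13919604043a2302386183), (nat_lit 0x42142639034d3430c698c408)⟩)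
 (.leaf ⟨nat_lit 9, true, nat_lit 51, (nat_lit 0x42240f78a3d03c31a338b14f242), (nat_lit 0xb3d03653a028d087365445189)⟩))
 (.node (nat_lit 1) (.leaf ⟨nat_lit 9, true, nat_lit 51, (nat_lit 0xd2e08cf7cb2cb111110784803), (nat_lit 0x2e02ce7cc84b3cf2841110e5991182)⟩)
 (.leaf ⟨nat_lit 47, true, nat_lit 51, (nat_lit 0x28f2cc79139030b10d3869c8408), (nat_lit 0x3a33d03103662843c5306386904)⟩)))))))
def ft13 : BT Fc := (.node (nat_lit 32) (.node (nat_lit 16) (.node (nat_lit 8) (.node (nat_lit 4) (.node (nat_lit 2) (.node (nat_lit 1) (.leaf ⟨nat_lit 29, true, nat_lit 51, (nat_lit 0xb2cc3d04221473c5142282), (nat_lit 0x28e2e08e245110e78434e2c6)⟩)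
 (.leaf ⟨nat_lit 35, true, nat_lit 51, (nat_lit 0x8a52cc7a3284223207342), (nat_lit 0x29038a32088a38a10a1ce1c72cd)⟩))
 (.node (nat_lit 1) (.leaf ⟨nat_lit 51, true, nat_lit 48, (nat_lit 0x30b7cf7ce31e2c294520e11e), (nat_lit 0xb40d40a2a53df2840c632438e)⟩)
 (.leaf ⟨nat_lit 35, true, nat_lit 51, (nat_lit 0xc3cb98d39084b1473e30cd283), (nat_lit 0x31136238e8cd2d10858c78cf442)⟩)))
 (.node (nat_lit 2) (.node (nat_lit 1) (.leaf ⟨nat_lit 9, true, nat_lit 51, (nat_lit 0x78f98c80e46644420e2c7244), (nat_lit 0x84c42640c80f10e150302886)⟩)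
 (.leaf ⟨nat_lit 30, true, nat_lit 51, (nat_lit 0x2cf86634d45134d0c91261cc0df), (nat_lit 0x31080d3e640d78b0852a6342390)⟩))
 (.node (nat_lit 1) (.leaf ⟨nat_lit 51, true, nat_lit 47, (nat_lit 0xc3913a63913033452a31a2082), (nat_lit 0xb88e2a140c461445203104783)⟩)
 (.leaf ⟨nat_lit 8, true, nat_lit 51, (nat_lit 0x94e31f78f34f08f4043c8889), (nat_lit 0x31035129e95034a0a118620c147)⟩))))
 (.node (nat_lit 4) (.node (nat_lit 2) (.node (nat_lit 1) (.leaf ⟨nat_lit 51, true, nat_lit 51, (nat_lit 0x35181078f8039c80cb0c3), (nat_lit 0x1098f34e98c2cc1074030c7363)⟩)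
 (.leaf ⟨nat_lit 38, true, nat_lit 52, (nat_lit 0xa3d13213a028e40218c2c2), (nat_lit 0)⟩))
 (.node (nat_lit 1) (.leaf ⟨nat_lit 52, false, nat_lit 52, (nat_lit 0xc4603ca84e44f2c3262846), (nat_lit 0)⟩)
 (.leaf ⟨nat_lit 52, false, nat_lit 52, (nat_lit 0x2e13cb44a3ca80a11128c245), (nat_lit 0)⟩)))
 (.node (nat_lit 2) (.node (nat_lit 1) (.leaf ⟨nat_lit 52, false, nat_lit 52, (nat_lit 0x2cd2d035f38e28e28230f14e284), (nat_lit 0)⟩)
 (.leaf ⟨nat_lit 52, false, nat_lit 52, (nat_lit 0x2e54518512d009f10c10a), (nat_lit 0)⟩))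
 (.node (nat_lit 1) (.leaf ⟨nat_lit 52, false, nat_lit 52, (nat_lit 0x31e94f86635134d1483080d0), (nat_lit 0)⟩)
 (.leaf ⟨nat_lit 52, false, nat_lit 52, (nat_lit 0x28a38c2d14652ce08a19f246), (nat_lit 0)⟩)))))
 (.node (nat_lit 8) (.node (nat_lit 4) (.node (nat_lit 2) (.node (nat_lit 1) (.leaf ⟨nat_lit 39, true, nat_lit 52, (nat_lit 0xb7a02e63e631040418208e1d1), (nat_lit 0x30e44f3cb41e34430b3e4285)⟩)
 (.leaf ⟨nat_lit 52, false, nat_lit 52, (nat_lit 0x2e632284e8cb3022c7160286), (nat_lit 0)⟩))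
 (.node (nat_lit 1) (.leaf ⟨nat_lit 52, false, nat_lit 52, (nat_lit 0x42131135e34f2c324e84d), (nat_lit 0)⟩)
 (.leaf ⟨nat_lit 52, false, nat_lit 52, (nat_lit 0x3202cf3213cd8ca09090d34a), (nat_lit 0)⟩)))
 (.node (nat_lit 2) (.node (nat_lit 1) (.leaf ⟨nat_lit 52, true, nat_lit 35, (nat_lit 0x38c3e24628ca284811110783), (nat_lit 0xc78c94f3227e028318c98e14e102)⟩)
 (.leaf ⟨nat_lit 38, true, nat_lit 52, (nat_lit 0x31130e28f80c2900c4782151087), (nat_lit 0xa34f3252cd4600c60c62c41c5)⟩))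
 (.node (nat_lit 1) (.leaf ⟨nat_lit 52, true, nat_lit 39, (nat_lit 0x31184b2de7d040f0a51a69c5088), (nat_lit 0xc38c78e2ce44d284106361109)⟩)
 (.leaf ⟨nat_lit 52, true, nat_lit 39, (nat_lit 0x1f38d3e141e3ca09f307082348), (nat_lit 0x2634f3de84a80b146442143145)⟩))))
 (.node (nat_lit 4) (.node (nat_lit 2) (.node (nat_lit 1) (.leaf ⟨nat_lit 39, true, nat_lit 52, (nat_lit 0x1e39146296138d9031a3906), (nat_lit 0x28c82340f80b30a1078103a11c5)⟩)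
 (.leaf ⟨nat_lit 35, true, nat_lit 52, (nat_lit 0xb94b3d034d36610434e0a514e), (nat_lit 0xb34e40a7e63d084410988f2cc382)⟩))
 (.node (nat_lit 1) (.leaf ⟨nat_lit 33, true, nat_lit 52, (nat_lit 0x31130c3df3cb8cc0873889c90c7), (nat_lit 0xf98f3df31130b0cc10214708a)⟩)
 (.leaf ⟨nat_lit 35, true, nat_lit 52, (nat_lit 0xb8cf30e2a13cb0c328e1207c6), (nat_lit 0xc3a196638c3cc2820a50e09cb082)⟩)))
 (.node (nat_lit 2) (.node (nat_lit 1) (.leaf ⟨nat_lit 52, true, nat_lit 39, (nat_lit 0x2ce98a28e98f34d2840c721e1c3103), (nat_lit 0x2e638c3918e030c1451cc1cf11e)⟩)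
 (.leaf ⟨nat_lit 30, true, nat_lit 52, (nat_lit 0x1e8ce39179f28a10f28634f407), (nat_lit 0xd78d34e3a02e00c828731f0c7)⟩))
 (.node (nat_lit 1) (.leaf ⟨nat_lit 35, true, nat_lit 52, (nat_lit 0x32344e98d40d3cd08e1c794338a), (nat_lit 0xe7a230c44d7c438546388b142)⟩)
 (.leaf ⟨nat_lit 30, true, nat_lit 52, (nat_lit 0x30b3623cf3e37c20a222188e), (nat_lit 0xc40d44d3cc8602c2445424385145)⟩))))))
 (.node (nat_lit 16) (.node (nat_lit 8) (.node (nat_lit 4) (.node (nat_lit 2) (.node (nat_lit 1) (.leaf ⟨nat_lit 52, true, nat_lit 35, (nat_lit 0x31f3e18ca3a62c411e461446), (nat_lit 0x2a094d7ce94c3e11041c53c8089)⟩)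
 (.leaf ⟨nat_lit 9, true, nat_lit 52, (nat_lit 0xa40f34f8662ce40528608494e1c5), (nat_lit 0x2ce88c30c95f38e1208c70a0405)⟩))
 (.node (nat_lit 1) (.leaf ⟨nat_lit 33, true, nat_lit 52, (nat_lit 0x2907a33ca38d9832c4124946142), (nat_lit 0x2918233cc7d130a10644520e8c4)⟩)
 (.leaf ⟨nat_lit 52, true, nat_lit 30, (nat_lit 0x2a53de82540e88b10f3c7303388), (nat_lit 0xb34f44d46538e8030d07e0087)⟩)))
 (.node (nat_lit 2) (.node (nat_lit 1) (.leaf ⟨nat_lit 33, true, nat_lit 52, (nat_lit 0xe3913e329084b1079443d1), (nat_lit 0xb88d89134d98e4048261e42d0)⟩)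
 (.leaf ⟨nat_lit 33, true, nat_lit 52, (nat_lit 0xa31144f35e36028434b2cf143), (nat_lit 0x2e340d98d38e29f0d0308191344)⟩))
 (.node (nat_lit 1) (.leaf ⟨nat_lit 28, true, nat_lit 52, (nat_lit 0xb8cf8a330e9a13851503c4887), (nat_lit 0x32330e36340c44b10b386261448)⟩)
 (.leaf ⟨nat_lit 52, true, nat_lit 33, (nat_lit 0x28a78f2913e334e10728e18534a), (nat_lit 0x84f7a141e39138421e1852460c3)⟩))))
 (.node (nat_lit 4) (.node (nat_lit 2) (.node (nat_lit 1) (.leaf ⟨nat_lit 52, true, nat_lit 52, (nat_lit 0x30c40b8253cb78a11008280d80d), (nat_lit 0xa98f8a638e98d7ca0c57c90a1282)⟩)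
 (.leaf ⟨nat_lit 52, true, nat_lit 52, (nat_lit 0xa84d2d03cd4632c5246185261342), (nat_lit 0x30e44a3cd28f2e010f14b08e98b)⟩))
 (.node (nat_lit 1) (.leaf ⟨nat_lit 52, true, nat_lit 35, (nat_lit 0x31088b31e3e330c0a516134f445), (nat_lit 0x32028f41e3213022828c21913c2)⟩)
 (.leaf ⟨nat_lit 39, true, nat_lit 52, (nat_lit 0x2328f7cb9633cd0900ca085343), (nat_lit 0x252ce29e35e3c31a144f28e142)⟩)))
 (.node (nat_lit 2) (.node (nat_lit 1) (.leaf ⟨nat_lit 35, true, nat_lit 52, (nat_lit 0xc44e31e2a58850a43a51502c2), (nat_lit 0x28e31e80d98d3cc08b9c340e805)⟩)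
 (.leaf ⟨nat_lit 39, true, nat_lit 52, (nat_lit 0x28a8ce34f9a37ca14a0ca0cc3df), (nat_lit 0x2e22ce94d80a30e14298588b44f)⟩))
 (.node (nat_lit 1) (.leaf ⟨nat_lit 32, true, nat_lit 52, (nat_lit 0x32284c44d94b2c43834631c7903), (nat_lit 0x3e02ce2a128e0e610a8c89c7)⟩)
 (.leaf ⟨nat_lit 52, true, nat_lit 33, (nat_lit 0xa78e2e24667cc08738c2602c2), (nat_lit 0x2cc2a538b3e03ca10b7857cf787)⟩)))))
 (.node (nat_lit 8) (.node (nat_lit 4) (.node (nat_lit 2) (.node (nat_lit 1) (.leaf ⟨nat_lit 48, true, nat_lit 52, (nat_lit 0x2e094e98d34d842985087108442), (nat_lit 0x2a144f44c3a238a1033e3090307)⟩)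
 (.leaf ⟨nat_lit 52, true, nat_lit 33, (nat_lit 0x4607e194b3cf88480f406946102), (nat_lit 0x2ce84e4622e03044432e090c284)⟩))
 (.node (nat_lit 1) (.leaf ⟨nat_lit 33, true, nat_lit 52, (nat_lit 0xc2cc3cf3de2c478640f191382), (nat_lit 0x2a130f80a3ca84e108122087844)⟩)
 (.leaf ⟨nat_lit 34, true, nat_lit 52, (nat_lit 0x2cb8a330e9617ce0854073c43a1), (nat_lit 0x31081029f38c84d0857ce94b08c)⟩)))
 (.node (nat_lit 2) (.node (nat_lit 1) (.leaf ⟨nat_lit 28, true, nat_lit 52, (nat_lit 0x32239e8d034f3e309114e283443), (nat_lit 0x30c8103e029184b10e19115008e)⟩)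
 (.leaf ⟨nat_lit 38, true, nat_lit 52, (nat_lit 0x1f39180f36685e10320c0848c3), (nat_lit 0x30e8112a08cb3ca08f1df951102)⟩))
 (.node (nat_lit 1) (.leaf ⟨nat_lit 52, true, nat_lit 48, (nat_lit 0x3107cf3508503ca0d10c8791104), (nat_lit 0x3213e194d9a040c1212470d1351)⟩)
 (.leaf ⟨nat_lit 52, true, nat_lit 48, (nat_lit 0x46088b8ce38e1118c31e4882), (nat_lit 0xb44b82140e426145391166786)⟩))))
 (.node (nat_lit 4) (.node (nat_lit 2) (.node (nat_lit 1) (.leaf ⟨nat_lit 52, true, nat_lit 35, (nat_lit 0xc2cb94e9612ce08232318e8c4), (nat_lit 0x30f2d07e540e35008915f24e805)⟩)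
 (.leaf ⟨nat_lit 52, true, nat_lit 35, (nat_lit 0xb7e140e80b3900c894640d285), (nat_lit 0x2917cb35098e94208e1040cb082)⟩))
 (.node (nat_lit 1) (.leaf ⟨nat_lit 29, true, nat_lit 52, (nat_lit 0xa28e35e88c38a38534e14a7c3382), (nat_lit 0x39138c28e2ce8032042241e0)⟩)
 (.leaf ⟨nat_lit 52, true, nat_lit 49, (nat_lit 0xa44f2d12a69624051661e714a142), (nat_lit 0xa3e13a628d34a14318628f14a)⟩)))
 (.node (nat_lit 2) (.node (nat_lit 1) (.leaf ⟨nat_lit 28, true, nat_lit 52, (nat_lit 0x28c2cd40b8cc44b10d0d10e2408), (nat_lit 0xb7a040d80f9a140a1113023503c8)⟩)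
 (.leaf ⟨nat_lit 52, true, nat_lit 51, (nat_lit 0x30e82394b84d44d1078452071c7), (nat_lit 0x2e18e230b3d07823c43ca847082)⟩))
 (.node (nat_lit 1) (.leaf ⟨nat_lit 35, true, nat_lit 52, (nat_lit 0xc3d130c2e67ce2c334344f0e3242), (nat_lit 0x109503cb44e7cd0ce20518e243)⟩)
 (.leaf ⟨nat_lit 30, true, nat_lit 52, (nat_lit 0xb8a330a28a38b98418a24f291242), (nat_lit 0x3a240b38e3902833d018b3cf)⟩)))))))
def ft14 : BT Fc := (.node (nat_lit 32) (.node (nat_lit 16) (.node (nat_lit 8) (.node (nat_lit 4) (.node (nat_lit 2) (.node (nat_lit 1) (.leaf ⟨nat_lit 30, true, nat_lit 52, (nat_lit 0xc84b3de3269443c444290a), (nat_lit 0x2de32341e7cf80d0853c92c51c2)⟩)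
 (.leaf ⟨nat_lit 35, true, nat_lit 52, (nat_lit 0xd36034e3222cb0841c238c086), (nat_lit 0xb89036638c44a2850c83c70a67c4)⟩))
 (.node (nat_lit 1) (.leaf ⟨nat_lit 52, true, nat_lit 52, (nat_lit 0x29e7e140d44f78a1048c61a2143), (nat_lit 0x30a46236084f3d008612224294c)⟩)
 (.leaf ⟨nat_lit 52, true, nat_lit 52, (nat_lit 0xb39080b3df3e67843917c5985382), (nat_lit 0x2e134b30f8d02cc14d3a40c4944)⟩)))
 (.node (nat_lit 2) (.node (nat_lit 1) (.leaf ⟨nat_lit 52, true, nat_lit 52, (nat_lit 0x31029f80f80a34e1450861a3804), (nat_lit 0x88f44a4632901260e140294e)⟩)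
 (.leaf ⟨nat_lit 52, true, nat_lit 33, (nat_lit 0x7a03902cb3e31c21ce086202), (nat_lit 0x8633d088f86538a1473c610329f)⟩))
 (.node (nat_lit 1) (.leaf ⟨nat_lit 52, true, nat_lit 52, (nat_lit 0x2d034e2e23e32cc14790734f246), (nat_lit 0xe2e031035e34a08f08f2610a2)⟩)
 (.leaf ⟨nat_lit 52, true, nat_lit 52, (nat_lit 0xb8d13e23653a128a1070e24622c6), (nat_lit 0x2a232230a78398410c7cb3c2)⟩))))
 (.node (nat_lit 4) (.node (nat_lit 2) (.node (nat_lit 1) (.leaf ⟨nat_lit 52, true, nat_lit 52, (nat_lit 0x252ce3a69617cc0cc9071ce307), (nat_lit 0x1094d2a33e644b10e3220a124b)⟩)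
 (.leaf ⟨nat_lit 1, false, nat_lit 1, (nat_lit 0xc45f98d8cf36328209f805186), (nat_lit 0)⟩))
 (.node (nat_lit 1) (.leaf ⟨nat_lit 1, false, nat_lit 1, (nat_lit 0x84e30e2a188b3023441e40ce), (nat_lit 0)⟩)
 (.leaf ⟨nat_lit 1, false, nat_lit 1, (nat_lit 0xa3cc2d18a37c5347250905), (nat_lit 0)⟩)))
 (.node (nat_lit 2) (.node (nat_lit 1) (.leaf ⟨nat_lit 1, false, nat_lit 1, (nat_lit 0xb45f34d78d98b3c520c247885), (nat_lit 0)⟩)
 (.leaf ⟨nat_lit 1, false, nat_lit 1, (nat_lit 0x2d138b80d88b40a10d1a0405), (nat_lit 0)⟩))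
 (.node (nat_lit 1) (.leaf ⟨nat_lit 2, false, nat_lit 2, (nat_lit 0xa3618a630f2cd14518a40b), (nat_lit 0)⟩)
 (.leaf ⟨nat_lit 2, false, nat_lit 2, (nat_lit 0xa8912e33a52d00880df98e), (nat_lit 0)⟩)))))
 (.node (nat_lit 8) (.node (nat_lit 4) (.node (nat_lit 2) (.node (nat_lit 1) (.leaf ⟨nat_lit 2, false, nat_lit 2, (nat_lit 0xa7a044c98e40e7c42037cd783), (nat_lit 0)⟩)
 (.leaf ⟨nat_lit 2, false, nat_lit 2, (nat_lit 0x28c84e88e3508041ca8ca), (nat_lit 0)⟩))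
 (.node (nat_lit 1) (.leaf ⟨nat_lit 2, false, nat_lit 2, (nat_lit 0x28c85038b8d02cb09f9067e5), (nat_lit 0)⟩)
 (.leaf ⟨nat_lit 3, false, nat_lit 3, (nat_lit 0x7cd44d98f94e0d128620c082), (nat_lit 0)⟩)))
 (.node (nat_lit 2) (.node (nat_lit 1) (.leaf ⟨nat_lit 3, false, nat_lit 3, (nat_lit 0xa41f32144e8a30a124f14c), (nat_lit 0)⟩)
 (.leaf ⟨nat_lit 3, false, nat_lit 3, (nat_lit 0xb95088e84e8de2831251a524b), (nat_lit 0)⟩))
 (.node (nat_lit 1) (.leaf ⟨nat_lit 4, false, nat_lit 4, (nat_lit 0x2a534f40c46034f0883c21a1), (nat_lit 0)⟩)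
 (.leaf ⟨nat_lit 4, false, nat_lit 4, (nat_lit 0x30c45f85034f4041c390d143), (nat_lit 0)⟩))))
 (.node (nat_lit 4) (.node (nat_lit 2) (.node (nat_lit 1) (.leaf ⟨nat_lit 6, false, nat_lit 6, (nat_lit 0xc32132344f2a12c43cc151110782), (nat_lit 0)⟩)
 (.leaf ⟨nat_lit 6, false, nat_lit 6, (nat_lit 0xa35f35079094f0c5149889), (nat_lit 0)⟩))
 (.node (nat_lit 1) (.leaf ⟨nat_lit 6, false, nat_lit 6, (nat_lit 0xb36128f78d46228440520b188), (nat_lit 0)⟩)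
 (.leaf ⟨nat_lit 6, false, nat_lit 6, (nat_lit 0x2642539138a88f0df087104), (nat_lit 0)⟩)))
 (.node (nat_lit 2) (.node (nat_lit 1) (.leaf ⟨nat_lit 8, false, nat_lit 8, (nat_lit 0x2d188b8a630f9821c4351345), (nat_lit 0)⟩)
 (.leaf ⟨nat_lit 8, false, nat_lit 8, (nat_lit 0x80b30a36228a10b1e630b), (nat_lit 0)⟩))
 (.node (nat_lit 1) (.leaf ⟨nat_lit 8, false, nat_lit 8, (nat_lit 0x2cb42330e86546208a19f246), (nat_lit 0)⟩)
 (.leaf ⟨nat_lit 8, false, nat_lit 8, (nat_lit 0x2cb42330e86546208a19f246), (nat_lit 0)⟩))))))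
 (.node (nat_lit 16) (.node (nat_lit 8) (.node (nat_lit 4) (.node (nat_lit 2) (.node (nat_lit 1) (.leaf ⟨nat_lit 9, false, nat_lit 9, (nat_lit 0x2d14628e546690a), (nat_lit 0)⟩)
 (.leaf ⟨nat_lit 9, false, nat_lit 9, (nat_lit 0x78a3a640c38218e365), (nat_lit 0)⟩))
 (.node (nat_lit 1) (.leaf ⟨nat_lit 28, false, nat_lit 28, (nat_lit 0x88e81f7a339f1072470e2), (nat_lit 0)⟩)
 (.leaf ⟨nat_lit 28, false, nat_lit 28, (nat_lit 0xb78f3e040d9a07c32c53a0945), (nat_lit 0)⟩)))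
 (.node (nat_lit 2) (.node (nat_lit 1) (.leaf ⟨nat_lit 28, false, nat_lit 28, (nat_lit 0x2d198f94b3cf3111039451cc), (nat_lit 0)⟩)
 (.leaf ⟨nat_lit 29, false, nat_lit 29, (nat_lit 0x2d14613a32a2327), (nat_lit 0)⟩))
 (.node (nat_lit 1) (.leaf ⟨nat_lit 29, false, nat_lit 29, (nat_lit 0x28a3624102cc303887207), (nat_lit 0)⟩)
 (.leaf ⟨nat_lit 29, false, nat_lit 29, (nat_lit 0x30e7e12a244e403262846), (nat_lit 0)⟩))))
 (.node (nat_lit 4) (.node (nat_lit 2) (.node (nat_lit 1) (.leaf ⟨nat_lit 32, false, nat_lit 32, (nat_lit 0x31f3e644c8113c520e24c243), (nat_lit 0)⟩)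
 (.leaf ⟨nat_lit 32, false, nat_lit 32, (nat_lit 0xc85180d3a63a22c32e40c834914d), (nat_lit 0)⟩))
 (.node (nat_lit 1) (.leaf ⟨nat_lit 34, false, nat_lit 34, (nat_lit 0x84e81f8637912c218321f8c2), (nat_lit 0)⟩)
 (.leaf ⟨nat_lit 34, false, nat_lit 34, (nat_lit 0x8909612ce2c4885791), (nat_lit 0)⟩)))
 (.node (nat_lit 2) (.node (nat_lit 1) (.leaf ⟨nat_lit 38, false, nat_lit 38, (nat_lit 0x2912e02a340b), (nat_lit 0)⟩)
 (.leaf ⟨nat_lit 38, false, nat_lit 38, (nat_lit 0xa8ce39f2cb8de2c228d20e), (nat_lit 0)⟩))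
 (.node (nat_lit 1) (.leaf ⟨nat_lit 39, false, nat_lit 39, (nat_lit 0xb8a198e84c88c2c514545f1e4), (nat_lit 0)⟩)
 (.leaf ⟨nat_lit 39, false, nat_lit 39, (nat_lit 0xb8a198e84c88c2c514545f1e4), (nat_lit 0)⟩)))))
 (.node (nat_lit 8) (.node (nat_lit 4) (.node (nat_lit 2) (.node (nat_lit 1) (.leaf ⟨nat_lit 47, false, nat_lit 47, (nat_lit 0xb2ce44f42534f8053cc18620a), (nat_lit 0)⟩)
 (.leaf ⟨nat_lit 47, false, nat_lit 47, (nat_lit 0x202e339f94f28c14638e16208f), (nat_lit 0)⟩))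
 (.node (nat_lit 1) (.leaf ⟨nat_lit 47, false, nat_lit 47, (nat_lit 0xb3a534f8a33113c40c714b1039c4), (nat_lit 0)⟩)
 (.leaf ⟨nat_lit 48, false, nat_lit 48, (nat_lit 0x8ca3e5410111288445), (nat_lit 0)⟩)))
 (.node (nat_lit 2) (.node (nat_lit 1) (.leaf ⟨nat_lit 48, false, nat_lit 48, (nat_lit 0x30f34b3cc38a7ce10b104351), (nat_lit 0)⟩)
 (.leaf ⟨nat_lit 49, false, nat_lit 49, (nat_lit 0xe84d7e33cc30b0883cb1e7), (nat_lit 0)⟩))
 (.node (nat_lit 1) (.leaf ⟨nat_lit 49, false, nat_lit 49, (nat_lit 0xc88b40e41f2902c730e1a4), (nat_lit 0)⟩)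
 (.leaf ⟨nat_lit 50, false, nat_lit 50, (nat_lit 0x32540d7e284e8a434a), (nat_lit 0)⟩))))
 (.node (nat_lit 4) (.node (nat_lit 2) (.node (nat_lit 1) (.leaf ⟨nat_lit 50, false, nat_lit 50, (nat_lit 0x1e30b98f41084a091190), (nat_lit 0)⟩)
 (.leaf ⟨nat_lit 51, false, nat_lit 51, (nat_lit 0xb78d98a34e94e40a14320c1422c7), (nat_lit 0)⟩))
 (.node (nat_lit 1) (.leaf ⟨nat_lit 51, false, nat_lit 51, (nat_lit 0x29136146031040f08f30e10f182), (nat_lit 0)⟩)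
 (.leaf ⟨nat_lit 52, false, nat_lit 52, (nat_lit 0x208502cf2e188b11128c245), (nat_lit 0)⟩)))
 (.node (nat_lit 2) (.node (nat_lit 1) (.leaf ⟨nat_lit 52, false, nat_lit 52, (nat_lit 0xb30b38a8a17d010724734a), (nat_lit 0)⟩)
 (.leaf ⟨nat_lit 0, false, nat_lit 0, (nat_lit 0x30a4213639a1406347), (nat_lit 0)⟩))
 (.node (nat_lit 1) (.leaf ⟨nat_lit 0, false, nat_lit 0, (nat_lit 0x2cb38d2d088a406251), (nat_lit 0)⟩)
 (.leaf ⟨nat_lit 0, false, nat_lit 0, (nat_lit 0xd8d080c78a0c924a20a), (nat_lit 0)⟩)))))))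
def ft15 : BT Fc := (.node (nat_lit 32) (.node (nat_lit 16) (.node (nat_lit 8) (.node (nat_lit 4) (.node (nat_lit 2) (.node (nat_lit 1) (.leaf ⟨nat_lit 0, false, nat_lit 0, (nat_lit 0x30a4513a12cc4620d018f151), (nat_lit 0)⟩)
 (.leaf ⟨nat_lit 0, false, nat_lit 0, (nat_lit 0x32044d84f8e039028215e3c4082), (nat_lit 0)⟩))
 (.node (nat_lit 1) (.leaf ⟨nat_lit 0, false, nat_lit 0, (nat_lit 0x31e84f2d198f3443e3949091), (nat_lit 0)⟩)
 (.leaf ⟨nat_lit 0, false, nat_lit 0, (nat_lit 0xd4223a22de44a1a708c142), (nat_lit 0)⟩)))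
 (.node (nat_lit 2) (.node (nat_lit 1) (.leaf ⟨nat_lit 0, false, nat_lit 0, (nat_lit 0x2de3e04223204041e5185791), (nat_lit 0)⟩)
 (.leaf ⟨nat_lit 0, false, nat_lit 0, (nat_lit 0x2e18ca81030e4021a71a1), (nat_lit 0)⟩))
 (.node (nat_lit 1) (.leaf ⟨nat_lit 0, false, nat_lit 0, nat_lit 0, nat_lit 0⟩)
 (.leaf ⟨nat_lit 0, false, nat_lit 0, nat_lit 0, nat_lit 0⟩))))
 (.node (nat_lit 4) (.node (nat_lit 2) (.node (nat_lit 1) (.leaf ⟨nat_lit 0, false, nat_lit 0, nat_lit 0, nat_lit 0⟩)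
 (.leaf ⟨nat_lit 0, false, nat_lit 0, nat_lit 0, nat_lit 0⟩))
 (.node (nat_lit 1) (.leaf ⟨nat_lit 0, false, nat_lit 0, nat_lit 0, nat_lit 0⟩)
 (.leaf ⟨nat_lit 0, false, nat_lit 0, nat_lit 0, nat_lit 0⟩)))
 (.node (nat_lit 2) (.node (nat_lit 1) (.leaf ⟨nat_lit 0, false, nat_lit 0, nat_lit 0, nat_lit 0⟩)
 (.leaf ⟨nat_lit 0, false, nat_lit 0, nat_lit 0, nat_lit 0⟩))
 (.node (nat_lit 1) (.leaf ⟨nat_lit 0, false, nat_lit 0, nat_lit 0, nat_lit 0⟩)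
 (.leaf ⟨nat_lit 0, false, nat_lit 0, nat_lit 0, nat_lit 0⟩)))))
 (.node (nat_lit 8) (.node (nat_lit 4) (.node (nat_lit 2) (.node (nat_lit 1) (.leaf ⟨nat_lit 0, false, nat_lit 0, nat_lit 0, nat_lit 0⟩)
 (.leaf ⟨nat_lit 0, false, nat_lit 0, nat_lit 0, nat_lit 0⟩))
 (.node (nat_lit 1) (.leaf ⟨nat_lit 0, false, nat_lit 0, nat_lit 0, nat_lit 0⟩)
 (.leaf ⟨nat_lit 0, false, nat_lit 0, nat_lit 0, nat_lit 0⟩)))
 (.node (nat_lit 2) (.node (nat_lit 1) (.leaf ⟨nat_lit 0, false, nat_lit 0, nat_lit 0, nat_lit 0⟩)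
 (.leaf ⟨nat_lit 0, false, nat_lit 0, nat_lit 0, nat_lit 0⟩))
 (.node (nat_lit 1) (.leaf ⟨nat_lit 0, false, nat_lit 0, nat_lit 0, nat_lit 0⟩)
 (.leaf ⟨nat_lit 0, false, nat_lit 0, nat_lit 0, nat_lit 0⟩))))
 (.node (nat_lit 4) (.node (nat_lit 2) (.node (nat_lit 1) (.leaf ⟨nat_lit 0, false, nat_lit 0, nat_lit 0, nat_lit 0⟩)
 (.leaf ⟨nat_lit 0, false, nat_lit 0, nat_lit 0, nat_lit 0⟩))
 (.node (nat_lit 1) (.leaf ⟨nat_lit 0, false, nat_lit 0, nat_lit 0, nat_lit 0⟩)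
 (.leaf ⟨nat_lit 0, false, nat_lit 0, nat_lit 0, nat_lit 0⟩)))
 (.node (nat_lit 2) (.node (nat_lit 1) (.leaf ⟨nat_lit 0, false, nat_lit 0, nat_lit 0, nat_lit 0⟩)
 (.leaf ⟨nat_lit 0, false, nat_lit 0, nat_lit 0, nat_lit 0⟩))
 (.node (nat_lit 1) (.leaf ⟨nat_lit 0, false, nat_lit 0, nat_lit 0, nat_lit 0⟩)
 (.leaf ⟨nat_lit 0, false, nat_lit 0, nat_lit 0, nat_lit 0⟩))))))
 (.node (nat_lit 16) (.node (nat_lit 8) (.node (nat_lit 4) (.node (nat_lit 2) (.node (nat_lit 1) (.leaf ⟨nat_lit 0, false, nat_lit 0, nat_lit 0, nat_lit 0⟩)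
 (.leaf ⟨nat_lit 0, false, nat_lit 0, nat_lit 0, nat_lit 0⟩))
 (.node (nat_lit 1) (.leaf ⟨nat_lit 0, false, nat_lit 0, nat_lit 0, nat_lit 0⟩)
 (.leaf ⟨nat_lit 0, false, nat_lit 0, nat_lit 0, nat_lit 0⟩)))
 (.node (nat_lit 2) (.node (nat_lit 1) (.leaf ⟨nat_lit 0, false, nat_lit 0, nat_lit 0, nat_lit 0⟩)
 (.leaf ⟨nat_lit 0, false, nat_lit 0, nat_lit 0, nat_lit 0⟩))
 (.node (nat_lit 1) (.leaf ⟨nat_lit 0, false, nat_lit 0, nat_lit 0, nat_lit 0⟩)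
 (.leaf ⟨nat_lit 0, false, nat_lit 0, nat_lit 0, nat_lit 0⟩))))
 (.node (nat_lit 4) (.node (nat_lit 2) (.node (nat_lit 1) (.leaf ⟨nat_lit 0, false, nat_lit 0, nat_lit 0, nat_lit 0⟩)
 (.leaf ⟨nat_lit 0, false, nat_lit 0, nat_lit 0, nat_lit 0⟩))
 (.node (nat_lit 1) (.leaf ⟨nat_lit 0, false, nat_lit 0, nat_lit 0, nat_lit 0⟩)
 (.leaf ⟨nat_lit 0, false, nat_lit 0, nat_lit 0, nat_lit 0⟩)))
 (.node (nat_lit 2) (.node (nat_lit 1) (.leaf ⟨nat_lit 0, false, nat_lit 0, nat_lit 0, nat_lit 0⟩)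
 (.leaf ⟨nat_lit 0, false, nat_lit 0, nat_lit 0, nat_lit 0⟩))
 (.node (nat_lit 1) (.leaf ⟨nat_lit 0, false, nat_lit 0, nat_lit 0, nat_lit 0⟩)
 (.leaf ⟨nat_lit 0, false, nat_lit 0, nat_lit 0, nat_lit 0⟩)))))
 (.node (nat_lit 8) (.node (nat_lit 4) (.node (nat_lit 2) (.node (nat_lit 1) (.leaf ⟨nat_lit 0, false, nat_lit 0, nat_lit 0, nat_lit 0⟩)
 (.leaf ⟨nat_lit 0, false, nat_lit 0, nat_lit 0, nat_lit 0⟩))
 (.node (nat_lit 1) (.leaf ⟨nat_lit 0, false, nat_lit 0, nat_lit 0, nat_lit 0⟩)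
 (.leaf ⟨nat_lit 0, false, nat_lit 0, nat_lit 0, nat_lit 0⟩)))
 (.node (nat_lit 2) (.node (nat_lit 1) (.leaf ⟨nat_lit 0, false, nat_lit 0, nat_lit 0, nat_lit 0⟩)
 (.leaf ⟨nat_lit 0, false, nat_lit 0, nat_lit 0, nat_lit 0⟩))
 (.node (nat_lit 1) (.leaf ⟨nat_lit 0, false, nat_lit 0, nat_lit 0, nat_lit 0⟩)
 (.leaf ⟨nat_lit 0, false, nat_lit 0, nat_lit 0, nat_lit 0⟩))))
 (.node (nat_lit 4) (.node (nat_lit 2) (.node (nat_lit 1) (.leaf ⟨nat_lit 0, false, nat_lit 0, nat_lit 0, nat_lit 0⟩)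
 (.leaf ⟨nat_lit 0, false, nat_lit 0, nat_lit 0, nat_lit 0⟩))
 (.node (nat_lit 1) (.leaf ⟨nat_lit 0, false, nat_lit 0, nat_lit 0, nat_lit 0⟩)
 (.leaf ⟨nat_lit 0, false, nat_lit 0, nat_lit 0, nat_lit 0⟩)))
 (.node (nat_lit 2) (.node (nat_lit 1) (.leaf ⟨nat_lit 0, false, nat_lit 0, nat_lit 0, nat_lit 0⟩)
 (.leaf ⟨nat_lit 0, false, nat_lit 0, nat_lit 0, nat_lit 0⟩))
 (.node (nat_lit 1) (.leaf ⟨nat_lit 0, false, nat_lit 0, nat_lit 0, nat_lit 0⟩)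
 (.leaf ⟨nat_lit 0, false, nat_lit 0, nat_lit 0, nat_lit 0⟩)))))))
def FT : BT Fc := (.node (nat_lit 512) (.node (nat_lit 256) (.node (nat_lit 128) (.node (nat_lit 64) ft0 ft1) (.node (nat_lit 64) ft2 ft3)) (.node (nat_lit 128) (.node (nat_lit 64) ft4 ft5) (.node (nat_lit 64) ft6 ft7))) (.node (nat_lit 256) (.node (nat_lit 128) (.node (nat_lit 64) ft8 ft9) (.node (nat_lit 64) ft10 ft11)) (.node (nat_lit 128) (.node (nat_lit 64) ft12 ft13) (.node (nat_lit 64) ft14 ft15))))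
def DT : BT (ℕ × ℕ) := (.node (nat_lit 32) (.node (nat_lit 16) (.node (nat_lit 8) (.node (nat_lit 4) (.node (nat_lit 2) (.node (nat_lit 1) (.leaf (nat_lit 0, nat_lit 0))
 (.leaf (nat_lit 0, (nat_lit 0))))
 (.node (nat_lit 1) (.leaf (nat_lit 1, (nat_lit 30)))
 (.leaf (nat_lit 1, (nat_lit 0xc3de7e28ce84d089263)))))
 (.node (nat_lit 2) (.node (nat_lit 1) (.leaf (nat_lit 1, (nat_lit 0xa2a02e294b)))
 (.leaf (nat_lit 3, (nat_lit 0xa34b3cb34e8a330a142882161303))))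
 (.node (nat_lit 1) (.leaf (nat_lit 3, (nat_lit 0xc3de7e28ce84d089263)))
 (.leaf (nat_lit 5, (nat_lit 0xa34b3cb34e8a330a142882161303))))))
 (.node (nat_lit 4) (.node (nat_lit 2) (.node (nat_lit 1) (.leaf (nat_lit 2, (nat_lit 0x79f821966)))
 (.leaf (nat_lit 2, (nat_lit 0x2de36584b30b088))))
 (.node (nat_lit 1) (.leaf (nat_lit 6, (nat_lit 0x2de36584b30b088)))
 (.leaf (nat_lit 7, (nat_lit 30)))))
 (.node (nat_lit 2) (.node (nat_lit 1) (.leaf (nat_lit 1, (nat_lit 0xa34b3cb34e8a330a142882161303)))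
 (.leaf (nat_lit 0, nat_lit 0)))
 (.node (nat_lit 1) (.leaf (nat_lit 12, (nat_lit 0x31f81144e34d98d0cf0e510320f)))
 (.leaf (nat_lit 0, nat_lit 0))))))
 (.node (nat_lit 8) (.node (nat_lit 4) (.node (nat_lit 2) (.node (nat_lit 1) (.leaf (nat_lit 0, nat_lit 0))
 (.leaf (nat_lit 0, nat_lit 0)))
 (.node (nat_lit 1) (.leaf (nat_lit 0, nat_lit 0))
 (.leaf (nat_lit 0, nat_lit 0))))
 (.node (nat_lit 2) (.node (nat_lit 1) (.leaf (nat_lit 0, nat_lit 0))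
 (.leaf (nat_lit 2, (nat_lit 0x78f8a136181014b1cf088))))
 (.node (nat_lit 1) (.leaf (nat_lit 3, (nat_lit 0x31f81144e34d98d0cf0e510320f)))
 (.leaf (nat_lit 12, (nat_lit 30))))))
 (.node (nat_lit 4) (.node (nat_lit 2) (.node (nat_lit 1) (.leaf (nat_lit 0, nat_lit 0))
 (.leaf (nat_lit 0, nat_lit 0)))
 (.node (nat_lit 1) (.leaf (nat_lit 4, (nat_lit 0xa84a8e284e39e285282108286)))
 (.leaf (nat_lit 0, nat_lit 0))))
 (.node (nat_lit 2) (.node (nat_lit 1) (.leaf (nat_lit 2, (nat_lit 0x1180e34d8e1265166)))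
 (.leaf (nat_lit 4, (nat_lit 0xa31e46235f))))
 (.node (nat_lit 1) (.leaf (nat_lit 4, (nat_lit 0x28c29e98f98e1cd2a4)))
 (.leaf (nat_lit 3, (nat_lit 0x79f821966))))))))
 (.node (nat_lit 16) (.node (nat_lit 8) (.node (nat_lit 4) (.node (nat_lit 2) (.node (nat_lit 1) (.leaf (nat_lit 3, (nat_lit 0xa9912a539e3a2089263)))
 (.leaf (nat_lit 3, (nat_lit 0xa98c45e28e962089263))))
 (.node (nat_lit 1) (.leaf (nat_lit 3, (nat_lit 0xb7ce4103508d0089263)))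
 (.leaf (nat_lit 3, (nat_lit 0x30c8512e195f089263)))))
 (.node (nat_lit 2) (.node (nat_lit 1) (.leaf (nat_lit 3, (nat_lit 0x2a180e30a94a90c)))
 (.leaf (nat_lit 3, (nat_lit 0xa2a02e294b))))
 (.node (nat_lit 1) (.leaf (nat_lit 4, (nat_lit 0x28c79188d7e4)))
 (.leaf (nat_lit 3, (nat_lit 0xa8a584a8212a4))))))
 (.node (nat_lit 4) (.node (nat_lit 2) (.node (nat_lit 1) (.leaf (nat_lit 4, (nat_lit 0x212ce325990165)))
 (.leaf (nat_lit 0, nat_lit 0)))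
 (.node (nat_lit 1) (.leaf (nat_lit 0, nat_lit 0))
 (.leaf (nat_lit 0, nat_lit 0))))
 (.node (nat_lit 2) (.node (nat_lit 1) (.leaf (nat_lit 0, nat_lit 0))
 (.leaf (nat_lit 0, nat_lit 0)))
 (.node (nat_lit 1) (.leaf (nat_lit 0, nat_lit 0))
 (.leaf (nat_lit 6, (nat_lit 0xc7a18902a0)))))))
 (.node (nat_lit 8) (.node (nat_lit 4) (.node (nat_lit 2) (.node (nat_lit 1) (.leaf (nat_lit 6, (nat_lit 0x79f)))
 (.leaf (nat_lit 29, (nat_lit 0x1129130a9a130228a18b))))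
 (.node (nat_lit 1) (.leaf (nat_lit 8, (nat_lit 0x118262a628d90c)))
 (.leaf (nat_lit 32, (nat_lit 0xa79182298e)))))
 (.node (nat_lit 2) (.node (nat_lit 1) (.leaf (nat_lit 38, (nat_lit 0xa3d13213a028e40218c2c2)))
 (.leaf (nat_lit 0, nat_lit 0)))
 (.node (nat_lit 1) (.leaf (nat_lit 0, nat_lit 0))
 (.leaf (nat_lit 0, nat_lit 0)))))
 (.node (nat_lit 4) (.node (nat_lit 2) (.node (nat_lit 1) (.leaf (nat_lit 0, nat_lit 0))
 (.leaf (nat_lit 0, nat_lit 0)))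
 (.node (nat_lit 1) (.leaf (nat_lit 0, nat_lit 0))
 (.leaf (nat_lit 0, nat_lit 0))))
 (.node (nat_lit 2) (.node (nat_lit 1) (.leaf (nat_lit 0, nat_lit 0))
 (.leaf (nat_lit 0, nat_lit 0)))
 (.node (nat_lit 1) (.leaf (nat_lit 0, nat_lit 0))
 (.leaf (nat_lit 0, nat_lit 0))))))))
end H46.P1
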