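import Cfsg.Agent.H46.P1T0
import Cfsg.Agent.H46.P1T1
import Cfsg.Agent.H46.P1T2
import Cfsg.Agent.H46.P1F
/-! The data of the enumeration and its tables. -/
set_option maxRecDepth 1000000
set_option Elab.async false
namespace H46.P1
open H71
open Cfsg.Spor
noncomputable def TT : BT Tr := (.node (nat_lit 32) (.node (nat_lit 16) (.node (nat_lit 8) (.node (nat_lit 4) (.node (nat_lit 2) (.node (nat_lit 1) (.leaf tb0)
 (.leaf tb0))
 (.node (nat_lit 1) (.leaf tb2)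
 (.leaf tb3)))
 (.node (nat_lit 2) (.node (nat_lit 1) (.leaf tb4)
 (.leaf tb5))
 (.node (nat_lit 1) (.leaf tb6)
 (.leaf tb7))))
 (.node (nat_lit 4) (.node (nat_lit 2) (.node (nat_lit 1) (.leaf tb8)
 (.leaf tb9))
 (.node (nat_lit 1) (.leaf tb10)
 (.leaf tb11)))
 (.node (nat_lit 2) (.node (nat_lit 1) (.leaf tb12)
 (.leaf tb13))
 (.node (nat_lit 1) (.leaf tb14)
 (.leaf tb15)))))
 (.node (nat_lit 8) (.node (nat_lit 4) (.node (nat_lit 2) (.node (nat_lit 1) (.leaf tb16)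
 (.leaf tb17))
 (.node (nat_lit 1) (.leaf tb18)
 (.leaf tb19)))
 (.node (nat_lit 2) (.node (nat_lit 1) (.leaf tb20)
 (.leaf tb21))
 (.node (nat_lit 1) (.leaf tb22)
 (.leaf tb23))))
 (.node (nat_lit 4) (.node (nat_lit 2) (.node (nat_lit 1) (.leaf tb24)
 (.leaf tb25))
 (.node (nat_lit 1) (.leaf tb26)
 (.leaf tb27)))
 (.node (nat_lit 2) (.node (nat_lit 1) (.leaf tb28)
 (.leaf tb29))
 (.node (nat_lit 1) (.leaf tb30)
 (.leaf tb31))))))
 (.node (nat_lit 16) (.node (nat_lit 8) (.node (nat_lit 4) (.node (nat_lit 2) (.node (nat_lit 1) (.leaf tb32)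
 (.leaf tb33))
 (.node (nat_lit 1) (.leaf tb34)
 (.leaf tb35)))
 (.node (nat_lit 2) (.node (nat_lit 1) (.leaf tb36)
 (.leaf tb37))
 (.node (nat_lit 1) (.leaf tb38)
 (.leaf tb39))))
 (.node (nat_lit 4) (.node (nat_lit 2) (.node (nat_lit 1) (.leaf tb40)
 (.leaf tb0))
 (.node (nat_lit 1) (.leaf tb0)
 (.leaf tb0)))
 (.node (nat_lit 2) (.node (nat_lit 1) (.leaf tb0)
 (.leaf tb0))
 (.node (nat_lit 1) (.leaf tb0)
 (.leaf tb0)))))
 (.node (nat_lit 8) (.node (nat_lit 4) (.node (nat_lit 2) (.node (nat_lit 1) (.leaf tb0)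
 (.leaf tb0))
 (.node (nat_lit 1) (.leaf tb0)
 (.leaf tb0)))
 (.node (nat_lit 2) (.node (nat_lit 1) (.leaf tb0)
 (.leaf tb0))
 (.node (nat_lit 1) (.leaf tb0)
 (.leaf tb0))))
 (.node (nat_lit 4) (.node (nat_lit 2) (.node (nat_lit 1) (.leaf tb0)
 (.leaf tb0))
 (.node (nat_lit 1) (.leaf tb0)
 (.leaf tb0)))
 (.node (nat_lit 2) (.node (nat_lit 1) (.leaf tb0)
 (.leaf tb0))
 (.node (nat_lit 1) (.leaf tb0)
 (.leaf tb0)))))))
noncomputable def TI : BT Tr := (.node (nat_lit 32) (.node (nat_lit 16) (.node (nat_lit 8) (.node (nat_lit 4) (.node (nat_lit 2) (.node (nat_lit 1) (.leaf tb0)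
 (.leaf tb0))
 (.node (nat_lit 1) (.leaf tb3)
 (.leaf tb2)))
 (.node (nat_lit 2) (.node (nat_lit 1) (.leaf tb5)
 (.leaf tb4))
 (.node (nat_lit 1) (.leaf tb7)
 (.leaf tb6))))
 (.node (nat_lit 4) (.node (nat_lit 2) (.node (nat_lit 1) (.leaf tb9)
 (.leaf tb8))
 (.node (nat_lit 1) (.leaf tb11)
 (.leaf tb10)))
 (.node (nat_lit 2) (.node (nat_lit 1) (.leaf tb13)
 (.leaf tb12))
 (.node (nat_lit 1) (.leaf tb15)
 (.leaf tb14)))))
 (.node (nat_lit 8) (.node (nat_lit 4) (.node (nat_lit 2) (.node (nat_lit 1) (.leaf tb17)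
 (.leaf tb16))
 (.node (nat_lit 1) (.leaf tb19)
 (.leaf tb18)))
 (.node (nat_lit 2) (.node (nat_lit 1) (.leaf tb21)
 (.leaf tb20))
 (.node (nat_lit 1) (.leaf tb23)
 (.leaf tb22))))
 (.node (nat_lit 4) (.node (nat_lit 2) (.node (nat_lit 1) (.leaf tb25)
 (.leaf tb24))
 (.node (nat_lit 1) (.leaf tb27)
 (.leaf tb26)))
 (.node (nat_lit 2) (.node (nat_lit 1) (.leaf tb29)
 (.leaf tb28))
 (.node (nat_lit 1) (.leaf tb30)
 (.leaf tb31))))))
 (.node (nat_lit 16) (.node (nat_lit 8) (.node (nat_lit 4) (.node (nat_lit 2) (.node (nat_lit 1) (.leaf tb32)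
 (.leaf tb33))
 (.node (nat_lit 1) (.leaf tb34)
 (.leaf tb35)))
 (.node (nat_lit 2) (.node (nat_lit 1) (.leaf tb36)
 (.leaf tb37))
 (.node (nat_lit 1) (.leaf tb38)
 (.leaf tb39))))
 (.node (nat_lit 4) (.node (nat_lit 2) (.node (nat_lit 1) (.leaf tb40)
 (.leaf tb0))
 (.node (nat_lit 1) (.leaf tb0)
 (.leaf tb0)))
 (.node (nat_lit 2) (.node (nat_lit 1) (.leaf tb0)
 (.leaf tb0))
 (.node (nat_lit 1) (.leaf tb0)
 (.leaf tb0)))))
 (.node (nat_lit 8) (.node (nat_lit 4) (.node (nat_lit 2) (.node (nat_lit 1) (.leaf tb0)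
 (.leaf tb0))
 (.node (nat_lit 1) (.leaf tb0)
 (.leaf tb0)))
 (.node (nat_lit 2) (.node (nat_lit 1) (.leaf tb0)
 (.leaf tb0))
 (.node (nat_lit 1) (.leaf tb0)
 (.leaf tb0))))
 (.node (nat_lit 4) (.node (nat_lit 2) (.node (nat_lit 1) (.leaf tb0)
 (.leaf tb0))
 (.node (nat_lit 1) (.leaf tb0)
 (.leaf tb0)))
 (.node (nat_lit 2) (.node (nat_lit 1) (.leaf tb0)
 (.leaf tb0))
 (.node (nat_lit 1) (.leaf tb0)
 (.leaf tb0)))))))
noncomputable def TO : BT Tr := (.node (nat_lit 32) (.node (nat_lit 16) (.node (nat_lit 8) (.node (nat_lit 4) (.node (nat_lit 2) (.node (nat_lit 1) (.leaf tb0)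
 (.leaf tb0))
 (.node (nat_lit 1) (.leaf tb0)
 (.leaf tb0)))
 (.node (nat_lit 2) (.node (nat_lit 1) (.leaf tb0)
 (.leaf tb0))
 (.node (nat_lit 1) (.leaf tb0)
 (.leaf tb0))))
 (.node (nat_lit 4) (.node (nat_lit 2) (.node (nat_lit 1) (.leaf tb0)
 (.leaf tb0))
 (.node (nat_lit 1) (.leaf tb0)
 (.leaf tb0)))
 (.node (nat_lit 2) (.node (nat_lit 1) (.leaf tb0)
 (.leaf tb0))
 (.node (nat_lit 1) (.leaf tb0)
 (.leaf tb0)))))
 (.node (nat_lit 8) (.node (nat_lit 4) (.node (nat_lit 2) (.node (nat_lit 1) (.leaf tb0)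
 (.leaf tb0))
 (.node (nat_lit 1) (.leaf tb18)
 (.leaf tb19)))
 (.node (nat_lit 2) (.node (nat_lit 1) (.leaf tb20)
 (.leaf tb21))
 (.node (nat_lit 1) (.leaf tb22)
 (.leaf tb23))))
 (.node (nat_lit 4) (.node (nat_lit 2) (.node (nat_lit 1) (.leaf tb24)
 (.leaf tb25))
 (.node (nat_lit 1) (.leaf tb26)
 (.leaf tb27)))
 (.node (nat_lit 2) (.node (nat_lit 1) (.leaf tb28)
 (.leaf tb29))
 (.node (nat_lit 1) (.leaf tb0)
 (.leaf tb31))))))
 (.node (nat_lit 16) (.node (nat_lit 8) (.node (nat_lit 4) (.node (nat_lit 2) (.node (nat_lit 1) (.leaf tb32)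
 (.leaf tb33))
 (.node (nat_lit 1) (.leaf tb34)
 (.leaf tb35)))
 (.node (nat_lit 2) (.node (nat_lit 1) (.leaf tb36)
 (.leaf tb37))
 (.node (nat_lit 1) (.leaf tb38)
 (.leaf tb39))))
 (.node (nat_lit 4) (.node (nat_lit 2) (.node (nat_lit 1) (.leaf tb0)
 (.leaf tb0))
 (.node (nat_lit 1) (.leaf tb0)
 (.leaf tb0)))
 (.node (nat_lit 2) (.node (nat_lit 1) (.leaf tb0)
 (.leaf tb0))
 (.node (nat_lit 1) (.leaf tb0)
 (.leaf tb0)))))
 (.node (nat_lit 8) (.node (nat_lit 4) (.node (nat_lit 2) (.node (nat_lit 1) (.leaf tb0)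
 (.leaf tb0))
 (.node (nat_lit 1) (.leaf tb0)
 (.leaf tb0)))
 (.node (nat_lit 2) (.node (nat_lit 1) (.leaf tb0)
 (.leaf tb0))
 (.node (nat_lit 1) (.leaf tb0)
 (.leaf tb0))))
 (.node (nat_lit 4) (.node (nat_lit 2) (.node (nat_lit 1) (.leaf tb0)
 (.leaf tb0))
 (.node (nat_lit 1) (.leaf tb0)
 (.leaf tb0)))
 (.node (nat_lit 2) (.node (nat_lit 1) (.leaf tb0)
 (.leaf tb0))
 (.node (nat_lit 1) (.leaf tb0)
 (.leaf tb0)))))))
noncomputable def TU' : BT Tr := (.node (nat_lit 32) (.node (nat_lit 16) (.node (nat_lit 8) (.node (nat_lit 4) (.node (nat_lit 2) (.node (nat_lit 1) (.leaf tb0)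
 (.leaf tb0))
 (.node (nat_lit 1) (.leaf tb0)
 (.leaf tb0)))
 (.node (nat_lit 2) (.node (nat_lit 1) (.leaf tb0)
 (.leaf tb0))
 (.node (nat_lit 1) (.leaf tb0)
 (.leaf tb0))))
 (.node (nat_lit 4) (.node (nat_lit 2) (.node (nat_lit 1) (.leaf tb0)
 (.leaf tb0))
 (.node (nat_lit 1) (.leaf tb0)
 (.leaf tb0)))
 (.node (nat_lit 2) (.node (nat_lit 1) (.leaf tb0)
 (.leaf tb0))
 (.node (nat_lit 1) (.leaf tb0)
 (.leaf tb0)))))
 (.node (nat_lit 8) (.node (nat_lit 4) (.node (nat_lit 2) (.node (nat_lit 1) (.leaf tb0)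
 (.leaf tb0))
 (.node (nat_lit 1) (.leaf tb20)
 (.leaf tb21)))
 (.node (nat_lit 2) (.node (nat_lit 1) (.leaf tb18)
 (.leaf tb19))
 (.node (nat_lit 1) (.leaf tb24)
 (.leaf tb25))))
 (.node (nat_lit 4) (.node (nat_lit 2) (.node (nat_lit 1) (.leaf tb22)
 (.leaf tb23))
 (.node (nat_lit 1) (.leaf tb28)
 (.leaf tb29)))
 (.node (nat_lit 2) (.node (nat_lit 1) (.leaf tb26)
 (.leaf tb27))
 (.node (nat_lit 1) (.leaf tb0)
 (.leaf tb38))))))
 (.node (nat_lit 16) (.node (nat_lit 8) (.node (nat_lit 4) (.node (nat_lit 2) (.node (nat_lit 1) (.leaf tb37)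
 (.leaf tb33))
 (.node (nat_lit 1) (.leaf tb34)
 (.leaf tb35)))
 (.node (nat_lit 2) (.node (nat_lit 1) (.leaf tb36)
 (.leaf tb32))
 (.node (nat_lit 1) (.leaf tb31)
 (.leaf tb39))))
 (.node (nat_lit 4) (.node (nat_lit 2) (.node (nat_lit 1) (.leaf tb0)
 (.leaf tb0))
 (.node (nat_lit 1) (.leaf tb0)
 (.leaf tb0)))
 (.node (nat_lit 2) (.node (nat_lit 1) (.leaf tb0)
 (.leaf tb0))
 (.node (nat_lit 1) (.leaf tb0)
 (.leaf tb0)))))
 (.node (nat_lit 8) (.node (nat_lit 4) (.node (nat_lit 2) (.node (nat_lit 1) (.leaf tb0)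
 (.leaf tb0))
 (.node (nat_lit 1) (.leaf tb0)
 (.leaf tb0)))
 (.node (nat_lit 2) (.node (nat_lit 1) (.leaf tb0)
 (.leaf tb0))
 (.node (nat_lit 1) (.leaf tb0)
 (.leaf tb0))))
 (.node (nat_lit 4) (.node (nat_lit 2) (.node (nat_lit 1) (.leaf tb0)
 (.leaf tb0))
 (.node (nat_lit 1) (.leaf tb0)
 (.leaf tb0)))
 (.node (nat_lit 2) (.node (nat_lit 1) (.leaf tb0)
 (.leaf tb0))
 (.node (nat_lit 1) (.leaf tb0)
 (.leaf tb0)))))))
noncomputable def CX : Cx := ⟨TT, TI, TO, TU', nat_lit 0, nat_lit 3511, nat_lit 3713, nat_lit 4794, nat_lit 1, FT, DT, nat_lit 30, nat_lit 273, nat_lit 11⟩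
noncomputable def tbl (l : ℕ) : Tr := nth [tb0, tb0, tb2, tb3, tb4, tb5, tb6, tb7, tb8, tb9, tb10, tb11, tb12, tb13, tb14, tb15, tb16, tb17, tb18, tb19, tb20, tb21, tb22, tb23, tb24, tb25, tb26, tb27, tb28, tb29, tb30, tb31, tb32, tb33, tb34, tb35, tb36, tb37, tb38, tb39, tb40] tb0 l
theorem tbl_ok (l : ℕ) : TabOK l (tbl l) := by
  by_cases h : l < 41
  · interval_cases l
    exacts [ct0, ct0, ct2, ct3, ct4, ct5, ct6, ct7, ct8, ct9, ct10, ct11, ct12, ct13, ct14, ct15, ct16, ct17, ct18, ct19, ct20, ct21, ct22, ct23, ct24, ct25, ct26, ct27, ct28, ct29, ct30, ct31, ct32, ct33, ct34, ct35, ct36, ct37, ct38, ct39, ct40]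
  · have e : val l = val 0 := by rw [val, nth_ge AW [] (show 41 ≤ l by omega)]; rfl
    intro p hp
    rw [e, tbl, nth_ge _ _ (show 41 ≤ l by omega)]
    exact ct0 p hp
def bl0 : Lev := ⟨nat_lit 0, nat_lit 31671, [nat_lit 2, nat_lit 3, nat_lit 4, nat_lit 5, nat_lit 6, nat_lit 7, nat_lit 8, nat_lit 9, nat_lit 10, nat_lit 11], [nat_lit 18, nat_lit 12, nat_lit 10, nat_lit 8, nat_lit 6, nat_lit 4, nat_lit 14, nat_lit 2, nat_lit 16, nat_lit 6, nat_lit 0, nat_lit 8, nat_lit 4, nat_lit 10, nat_lit 14, nat_lit 6, nat_lit 12, nat_lit 18, nat_lit 8, nat_lit 14, nat_lit 2, nat_lit 4, nat_lit 16, nat_lit 10, nat_lit 6, nat_lit 2, nat_lit 12, nat_lit 14, nat_lit 8, nat_lit 4, nat_lit 0, nat_lit 18, nat_lit 6, nat_lit 16, nat_lit 10, nat_lit 2, nat_lit 12, nat_lit 4, nat_lit 14, nat_lit 8, nat_lit 2, nat_lit 6, nat_lit 0, nat_lit 16, nat_lit 4, nat_lit 2, nat_lit 8, nat_lit 10, nat_lit 0, nat_lit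 14, nat_lit 6, nat_lit 4, nat_lit 12, nat_lit 6, nat_lit 2]⟩
theorem hbl0 : levOK FiH.A 2 4095 bl0 = true := by decide +kernel
def bl1 : Lev := ⟨nat_lit 3511, nat_lit 28160, [nat_lit 2, nat_lit 3, nat_lit 4, nat_lit 5, nat_lit 6, nat_lit 7, nat_lit 8, nat_lit 9, nat_lit 10], [nat_lit 12, nat_lit 10, nat_lit 8, nat_lit 6, nat_lit 4, nat_lit 14, nat_lit 2, nat_lit 16, nat_lit 6, nat_lit 0, nat_lit 8, nat_lit 4, nat_lit 10, nat_lit 14, nat_lit 6, nat_lit 12, nat_lit 2, nat_lit 8, nat_lit 14, nat_lit 4, nat_lit 16, nat_lit 6, nat_lit 10, nat_lit 2, nat_lit 0, nat_lit 14, nat_lit 12, nat_lit 8, nat_lit 4, nat_lit 6, nat_lit 16, nat_lit 10, nat_lit 2, nat_lit 4, nat_lit 14, nat_lit 8, nat_lit 12, nat_lit 2, nat_lit 0, nat_lit 6, nat_lit 10, nat_lit 4, nat_lit 14, nat_lit 8, nat_lit 2, nat_lit 16, nat_lit 0, nat_lit 6, nat_lit 10, nat_lit 8, nat_lit 4, nat_lit 2, nat_lit 10, nat_lit 12]⟩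
theorem hbl1 : levOK FiH.A 2 4095 bl1 = true := by decide +kernel
def bl2 : Lev := ⟨nat_lit 3713, nat_lit 21840, [nat_lit 2, nat_lit 3, nat_lit 4, nat_lit 5, nat_lit 6, nat_lit 7, nat_lit 9, nat_lit 10], [nat_lit 0, nat_lit 6, nat_lit 2, nat_lit 4, nat_lit 8, nat_lit 12, nat_lit 6, nat_lit 2, nat_lit 10, nat_lit 14, nat_lit 8, nat_lit 12, nat_lit 4, nat_lit 0, nat_lit 10, nat_lit 6, nat_lit 14, nat_lit 8, nat_lit 12, nat_lit 4, nat_lit 2, nat_lit 6, nat_lit 14, nat_lit 0, nat_lit 4, nat_lit 10, nat_lit 12, nat_lit 8, nat_lit 2, nat_lit 6, nat_lit 0, nat_lit 14, nat_lit 10, nat_lit 8, nat_lit 4, nat_lit 12, nat_lit 2, nat_lit 0]⟩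
theorem hbl2 : levOK FiH.A 2 4095 bl2 = true := by decide +kernel
def bl3 : Lev := ⟨nat_lit 4794, nat_lit 7776, [nat_lit 0x1051831ca0c424a0c60851070c22861491c42461070891821ca0c510510624a08714a1871050830852470c2244286085189286149287083, nat_lit 0x1870c22841491870c518424a0831072840c21491c428614a0ca1051c60832851821070c51c22441841492821c614408918a1460840ca0891c6, nat_lit 0x91c31431ca18408a1c61440831422842432831421062471872442832460ca1052871421840c22461c31460841c32852421422432841c40c9146], [nat_lit 0, nat_lit 2, nat_lit 4, nat_lit 0, nat_lit 2, nat_lit 0, nat_lit 4, nat_lit 2, nat_lit 0, nat_lit 4, nat_lit 2, nat_lit 0, nat_lit 4, nat_lit 2, nat_lit 0, nat_lit 2, nat_lit 4, nat_lit 0, nat_lit 0]⟩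
theorem hbl3 : levOK FiH.A 2 4095 bl3 = true := by decide +kernel
def bl4 : Lev := ⟨nat_lit 1, nat_lit 27, [nat_lit 0x10314724608314708418a2431ca1051c31822452871441820c90861c32462821c60c928318a1421c60ca1421c408928614214a1840ca1870891432460c5, nat_lit 0x1031492861c52462870c42471420c61072421432871432440871441831441ca24718210528714424218324214308624428510a0c51c614218918724508a1821031c9, nat_lit 0x1431891021870ca1422471851032852421032891c60ca0862451031ca1852421c510a2461ca1420c91852870c40862462422831c50861c90c41461051c20c9], [nat_lit 0, nat_lit 2, nat_lit 4, nat_lit 0, nat_lit 2, nat_lit 4]⟩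
theorem hbl4 : levOK FiH.A 2 4095 bl4 = true := by decide +kernel
theorem hbf : fixOK FiH.A [bl0, bl1, bl2, bl3, bl4] = true := by decide +kernel

theorem netsH : Nets Fi23.ρ Fi23.val FiH.A 2 4095 :=
  ⟨⟨32768, FiH.π, FiH.env, fun l _ => Fi23.hρ l⟩, Fi23.hv⟩

theorem base : stabL Fi23.ρ [bl0, bl1, bl2, bl3, bl4] = ⊥ :=
  netsH.base _ (by
    intro l hl
    simp only [List.mem_cons, List.not_mem_nil, or_false] at hl
    rcases hl with rfl | rfl | rfl | rfl | rfl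
    exacts [hbl0, hbl1, hbl2, hbl3, hbl4]) hbf (by rw [Fi23.card]; decide +kernel)

theorem eTT : ∀ l < 64, TT.get l = tbl l := by
  intro l hl; interval_cases l <;> rfl
theorem eTI : ∀ l < 64, TI.get l = tbl (linv 30 l) := by
  intro l hl; interval_cases l <;> rfl
theorem eTO : ∀ l < 64, TO.get l = tbl (nth OM 0 l) := by
  intro l hl; interval_cases l <;> rfl
theorem eTU : ∀ l < 64, TU'.get l = tbl (nth TU 0 l) := by
  intro l hl; interval_cases l <;> rfl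

theorem tabs : Tabs CX Fi23.ρ val vo vt where
  lt g p hp := by
    by_contra hc
    have := Fi23.fix g ((Fi23.ρ g)⁻¹ p) (by omega)
    simp only [Equiv.Perm.coe_inv, Equiv.apply_symm_apply] at this hc
    omega
  tt l hl p hp := by
    show lk (TT.get l) p = _
    rw [eTT l hl]; exact tbl_ok l p hp
  ti l hl p hp := by
    show lk (TI.get l) p = (Fi23.ρ (val l)⁻¹)⁻¹ p
    rw [eTI l hl, ← hv]; exact tbl_ok _ p hp
  to' l hl p hp := by
    show lk (TO.get l) p = _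
    rw [eTO l hl]; exact tbl_ok _ p hp
  tu l hl p hp := by
    show lk (TU'.get l) p = _
    rw [eTU l hl]; exact tbl_ok _ p hp
  blt := by decide
  base g h0 h1 h2 h3 h4 := by
    have : g ∈ stabL Fi23.ρ [bl0, bl1, bl2, bl3, bl4] :=
      ⟨⟨⟨⟨⟨trivial, h4⟩, h3⟩, h2⟩, h1⟩, h0⟩
    rwa [base] at this

end H46.P1
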