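import Cfsg.Agent.H46.P1C
/-! Derivations of the facts. -/
set_option maxRecDepth 1000000
set_option Elab.async false
namespace H46.P1
open H71
def dv0 : List Dv := [.ax,
  .ax,
  .ax,
  .der (nat_lit 0) (nat_lit 5) .nil,
  .der (nat_lit 0) (nat_lit 0x4002) .nil,
  .der (nat_lit 0) (nat_lit 0x9009006008006) .nil,
  .df,
  .der (nat_lit 0) (nat_lit 0) (.m (nat_lit 13) (nat_lit 0) (nat_lit 0x1871775b72659a612593) (.m (nat_lit 12) (nat_lit 0x900700800a00a00700800a00800800a00900700a00800b00800a) (nat_lit 0) .nil)),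
  .der (nat_lit 0) (nat_lit 0) (.m (nat_lit 13) (nat_lit 0) (nat_lit 0x6999566185a69595964d6553) (.m (nat_lit 12) (nat_lit 0x600900b00700700700a00900b00900800b00800800b006009006006) (nat_lit 0) .nil)),
  .der (nat_lit 0) (nat_lit 0) (.m (nat_lit 13) (nat_lit 0) (nat_lit 0x6986d86dd5e68595935d8552) (.m (nat_lit 12) (nat_lit 0x900600900b00900900a00900900600800b00900b00b00800600a) (nat_lit 0) .nil)),
  .der (nat_lit 0) (nat_lit 0) (.m (nat_lit 13) (nat_lit 0) (nat_lit 0x65675f8216165a54954e2) (.m (nat_lit 12) (nat_lit 0x900900b00b00900600a00900900600a00900b00b00b00b008008) (nat_lit 0) .nil)),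
  .der (nat_lit 0) (nat_lit 0xf015) .nil,
  .der (nat_lit 0) (nat_lit 0x11013) .nil,
  .der (nat_lit 0) (nat_lit 0x19019016018016) .nil,
  .df,
  .der (nat_lit 0) (nat_lit 0) (.m (nat_lit 29) (nat_lit 0) (nat_lit 0x167226989587d7656517) (.m (nat_lit 28) (nat_lit 0x1601901701b01601b01b01701701a01601b01601b01b018) (nat_lit 0) .nil)),
  .der (nat_lit 0) (nat_lit 0) (.m (nat_lit 29) (nat_lit 0) (nat_lit 0x6d97587e071a759592814) (.m (nat_lit 28) (nat_lit 0x1a01701801601a01801701a01701b01b017017) (nat_lit 0) .nil)),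
  .der (nat_lit 0) (nat_lit 0) (.m (nat_lit 29) (nat_lit 0) (nat_lit 0x1a7176e175a59c61b4966d2) (.m (nat_lit 28) (nat_lit 0x1901701901a01901b01901b01b016016018017017) (nat_lit 0) .nil)),
  .der (nat_lit 0) (nat_lit 0) (.m (nat_lit 29) (nat_lit 0) (nat_lit 0x1a8169968196599564924a6) (.m (nat_lit 28) (nat_lit 0x1a01a01801b01901b01901601901901601901b017) (nat_lit 0) .nil)),
  .der (nat_lit 0) (nat_lit 37) .nil,
  .der (nat_lit 0) (nat_lit 0x1f020023) .nil,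
  .der (nat_lit 0) (nat_lit 0x29029026028026) .nil,
  .der (nat_lit 0) (nat_lit 0) (.w (nat_lit 30) (.m (nat_lit 29) (nat_lit 0) (nat_lit 0x1885d6e58606255d261f) (.w (nat_lit 30) (.m (nat_lit 13) (nat_lit 0) (nat_lit 0x1685b75d6679a35d2626) (.w (nat_lit 30) (.m (nat_lit 12) (nat_lit 0x600900a00900b00600b007009) (nat_lit 0x165997626577d76d2492712) (.w (nat_lit 30) .nil))))))),
  .der (nat_lit 0xc2a031e42528321015f) (nat_lit 0) (.m (nat_lit 44) (nat_lit 0) (nat_lit 0) (.m (nat_lit 28) (nat_lit 0x1901b01601601801b017) (nat_lit 0x9597d976565c9525a5) .nil)),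
  .der (nat_lit 0) (nat_lit 47) .nil,
  .der (nat_lit 0) (nat_lit 0x2b02b03002a030) .nil,
  .df,
  .der (nat_lit 0) (nat_lit 0) (.m (nat_lit 53) (nat_lit 0) (nat_lit 0x6d871a71f59995661649869a) (.m (nat_lit 52) (nat_lit 0x1a01a01601801701b01b01801a018016016) (nat_lit 0) .nil)),
  .der (nat_lit 0) (nat_lit 0) (.m (nat_lit 53) (nat_lit 0) (nat_lit 0x69765d7e16d795649659a) (.m (nat_lit 52) (nat_lit 0x1801801b01801801b01801801601801801601a018018018) (nat_lit 0) .nil)),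
  .der (nat_lit 0) (nat_lit 0) (.m (nat_lit 53) (nat_lit 0) (nat_lit 0x6d76e16db8d889b5964db4d8) (.m (nat_lit 52) (nat_lit 0x1601a01801801601601901601601a01a01b01601a01a01901901b) (nat_lit 0) .nil)),
  .der (nat_lit 0) (nat_lit 0x3703a03a) .nil,
  .der (nat_lit 0) (nat_lit 0x3b03903a) .nil,
  .der (nat_lit 0) (nat_lit 0x3f03f03c03e03c) .nil,
  .df,
  .der (nat_lit 0) (nat_lit 0) (.m (nat_lit 67) (nat_lit 0) (nat_lit 0x1982661c5e17595a44e3) (.m (nat_lit 66) (nat_lit 0x1a01801601601b01801b01801b01a01801701801b018016) (nat_lit 0) .nil)),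
  .der (nat_lit 0) (nat_lit 0) (.m (nat_lit 67) (nat_lit 0) (nat_lit 0x6995df6e05db7d66164944e7) (.m (nat_lit 66) (nat_lit 0x1801b01b01701901a01a01701701b01901a01601801b01701801701a017) (nat_lit 0) .nil)),
  .der (nat_lit 0) (nat_lit 0) (.m (nat_lit 67) (nat_lit 0) (nat_lit 0x1981b8e65db898692612516) (.m (nat_lit 66) (nat_lit 0x1801b01601a01701b01b01801901901901601a01801a017) (nat_lit 0) .nil)),
  .der (nat_lit 0) (nat_lit 0) (.m (nat_lit 67) (nat_lit 0) (nat_lit 0x5d96d87e27567585926d87d2) (.m (nat_lit 66) (nat_lit 0x1601b01b01b01b01601a01601601801a019017019016016018018017) (nat_lit 0) .nil)),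
  .der (nat_lit 0) (nat_lit 0x45048046) .nil,
  .der (nat_lit 0) (nat_lit 0x46044) .nil,
  .df,
  .der (nat_lit 0) (nat_lit 0) (.m (nat_lit 81) (nat_lit 0) (nat_lit 0x62561881c6216965a4592612) (.m (nat_lit 80) (nat_lit 0x3d03d04003d040) (nat_lit 0) .nil)),
  .der (nat_lit 0) (nat_lit 0) (.m (nat_lit 81) (nat_lit 0) (nat_lit 0x61671771662671c494899) (.m (nat_lit 80) (nat_lit 0x4103e03d) (nat_lit 0) .nil)),
  .der (nat_lit 0) (nat_lit 85) .nil,
  .der (nat_lit 0) (nat_lit 83) .nil,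
  .der (nat_lit 0) (nat_lit 0x59059056058056) .nil,
  .df,
  .der (nat_lit 0) (nat_lit 0) (.m (nat_lit 93) (nat_lit 0) (nat_lit 0x65765a65c5986a05d44a0) (.m (nat_lit 92) (nat_lit 0x4004003c04003f04003c040) (nat_lit 0) .nil)),
  .der (nat_lit 0) (nat_lit 95) .nil,
  .df,
  .der (nat_lit 0) (nat_lit 0) (.m (nat_lit 99) (nat_lit 0) (nat_lit 0x6db7da5d765b5985a44d6) (.m (nat_lit 98) (nat_lit 0x5605b058) (nat_lit 0) .nil)),
  .der (nat_lit 0) (nat_lit 0) (.m (nat_lit 99) (nat_lit 0) (nat_lit 0x5e299c69c7237d9513) (.m (nat_lit 98) (nat_lit 89) (nat_lit 0) .nil)),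
  .der (nat_lit 0) (nat_lit 0) (.m (nat_lit 99) (nat_lit 0) (nat_lit 0x65f7576969599595936d3) (.m (nat_lit 98) (nat_lit 0x5b057057) (nat_lit 0) .nil)),
  .der (nat_lit 0) (nat_lit 0) (.m (nat_lit 99) (nat_lit 0) (nat_lit 0x5dd61a8567586224db4d9) (.m (nat_lit 98) (nat_lit 91) (nat_lit 0) .nil)),
  .der (nat_lit 0) (nat_lit 0x6406b) .nil,
  .der (nat_lit 0) (nat_lit 0x69066) .nil,
  .der (nat_lit 0) (nat_lit 0x6f06f06c06e06c) .nil,
  .df,
  .der (nat_lit 0) (nat_lit 0) (.m (nat_lit 115) (nat_lit 0) (nat_lit 0x69c65b6d69d96d65925d4) (.m (nat_lit 114) (nat_lit 0x3003203203103302b03203203102a03202a030) (nat_lit 0) .nil)),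
  .der (nat_lit 0) (nat_lit 0) (.m (nat_lit 115) (nat_lit 0) (nat_lit 0x7e161c69661f712612516) (.m (nat_lit 114) (nat_lit 0x2b03302b03103203003003303002a03003303103302b03302b) (nat_lit 0) .nil)),
  .der (nat_lit 0) (nat_lit 0x75077) .nil,
  .der (nat_lit 0) (nat_lit 0) (.w (nat_lit 30) (.m (nat_lit 115) (nat_lit 0) (nat_lit 0x5969576d889a6535d8993) (.w (nat_lit 30) (.m (nat_lit 29) (nat_lit 0x3003002b031) (nat_lit 0x165a57606dd5a052459c) (.w (nat_lit 30) (.m (nat_lit 66) (nat_lit 0x1b01701a01701a018018017) (nat_lit 0x1d75a72569c85749691b) (.w (nat_lit 30) .nil))))))),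
  .der (nat_lit 0x2d178c86628418b1e434a) (nat_lit 0) (.m (nat_lit 122) (nat_lit 0) (nat_lit 0x7da8da7d769c7224a461c) (.m (nat_lit 123) (nat_lit 0x4c04e04c04a04a04c04b04d04e04c04c04c) (nat_lit 0) .nil)),
  .der (nat_lit 0x2d178c86628418b1e434a) (nat_lit 0) (.m (nat_lit 122) (nat_lit 0) (nat_lit 0x7db75d5a66e17e0495995) (.m (nat_lit 123) (nat_lit 0x4c04f04d04f04c04a04e04b04e04f04c04e04d) (nat_lit 0) .nil)),
  .der (nat_lit 0) (nat_lit 0x7907f) .nil,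
  .der (nat_lit 0) (nat_lit 0x7d07e) .nil,
  .der (nat_lit 0) (nat_lit 0x83083080082080) .nil,
  .der (nat_lit 0x2a038b40c2d130a1103c8327) (nat_lit 0) (.m (nat_lit 123) (nat_lit 0) (nat_lit 0x1a99a8da7676594d9655) (.m (nat_lit 122) (nat_lit 0x85085085082081082084081083081085083084080) (nat_lit 0) .nil)),
  .der (nat_lit 0x2a038b40c2d130a1103c8327) (nat_lit 0) (.m (nat_lit 123) (nat_lit 0) (nat_lit 0x5df61c8dc6166d659249a593) (.m (nat_lit 122) (nat_lit 0x85080082080080080083081080080085083085085080) (nat_lit 0) .nil)),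
  .der (nat_lit 0) (nat_lit 0x4f04b088) .nil,
  .der (nat_lit 0) (nat_lit 0x4c04a) .nil,
  .der (nat_lit 0) (nat_lit 0x4f08908604f) .nil,
  .df,
  .der (nat_lit 0) (nat_lit 0) (.m (nat_lit 145) (nat_lit 0) (nat_lit 0x1b5987176656d765269f) (.m (nat_lit 144) (nat_lit 0x2b03303003303302a02a03203203003103302a03002a031032) (nat_lit 0) .nil)),
  .der (nat_lit 0) (nat_lit 0) (.m (nat_lit 145) (nat_lit 0) (nat_lit 0x71959a69a65d752525) (.m (nat_lit 144) (nat_lit 0x2a03203203102a03003003303102a03003302b03303002b02b031) (nat_lit 0) .nil)),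
  .der (nat_lit 0) (nat_lit 0) (.m (nat_lit 145) (nat_lit 0) (nat_lit 0x1889c69c7176a28d649849a) (.m (nat_lit 144) (nat_lit 0x3103102a03102b03002a03102a03102a03303303003302a031) (nat_lit 0) .nil)),
  .der (nat_lit 0) (nat_lit 0) (.m (nat_lit 145) (nat_lit 0) (nat_lit 0x196dc6e665a9a0652824) (.m (nat_lit 144) (nat_lit 0x3102b03103103303103102b02b03202b03103102a031) (nat_lit 0) .nil)),
  .der (nat_lit 0) (nat_lit 0x95092099) .nil,
  .der (nat_lit 0) (nat_lit 151) .nil,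
  .der (nat_lit 0) (nat_lit 0x9d09d09a09c09a) .nil,
  .der (nat_lit 0) (nat_lit 0) (.w (nat_lit 30) (.m (nat_lit 145) (nat_lit 0) (nat_lit 0x1b7da8575db760756492499) (.w (nat_lit 30) (.m (nat_lit 29) (nat_lit 0) (nat_lit 0x177597db627817758494594) (.w (nat_lit 30) (.m (nat_lit 66) (nat_lit 0x18017019016016016016018) (nat_lit 0x1965b61871b6d995249a593) (.w (nat_lit 30) .nil))))))),
  .der (nat_lit 0xb80b2d03503a51081a3102) (nat_lit 0) (.m (nat_lit 160) (nat_lit 0) (nat_lit 0x5a56566e37188194984e2) (.m (nat_lit 161) (nat_lit 0x8c08a08c08a08d08e08a08a08f08c08b08f08c08b08e08a) (nat_lit 0) .nil)),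
  .der (nat_lit 0) (nat_lit 0x9a0a3) .nil,
  .der (nat_lit 0) (nat_lit 0x9f09c) .nil,
  .der (nat_lit 0) (nat_lit 0xa70a70a40a60a4) .nil,
  .der (nat_lit 0) (nat_lit 0) (.w (nat_lit 30) (.m (nat_lit 53) (nat_lit 0) (nat_lit 0x197d965f6616255d2558) (.w (nat_lit 30) (.m (nat_lit 28) (nat_lit 0x1601a01901901b01b) (nat_lit 0x6d78da598998696495618) (.w (nat_lit 30) (.m (nat_lit 144) (nat_lit 0x2a03003203102a033030030) (nat_lit 0x1971f6e16d97d96d649a696) (.w (nat_lit 30) .nil))))))),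
  .der (nat_lit 0) (nat_lit 0) (.w (nat_lit 30) (.m (nat_lit 93) (nat_lit 0) (nat_lit 0x5a071a5da99d6dd59249d6d6) (.w (nat_lit 30) (.m (nat_lit 170) (nat_lit 0x4003c03e03c040) (nat_lit 0x196995d77d97166124a1512) (.w (nat_lit 30) (.m (nat_lit 171) (nat_lit 0xa60a90a50a5) (nat_lit 0x1b61f85d6d965b9564945a4) (.w (nat_lit 30) .nil))))))),
  .der (nat_lit 0x31136638a3cd343150123205) (nat_lit 0) (.m (nat_lit 172) (nat_lit 0) (nat_lit 0) (.m (nat_lit 92) (nat_lit 0x3c03e03d) (nat_lit 0x5da75671689651c727) .nil)),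
  .der (nat_lit 0) (nat_lit 175) .nil,
  .der (nat_lit 0) (nat_lit 0x610610b00600b0) .nil,
  .df,
  .der (nat_lit 0) (nat_lit 0) (.m (nat_lit 181) (nat_lit 0) (nat_lit 0x5d981b5a28576164924a4) (.m (nat_lit 180) (nat_lit 0xb30b00600b30b00b20610b20610610b0) (nat_lit 0) .nil)),
  .der (nat_lit 0) (nat_lit 0) (.m (nat_lit 181) (nat_lit 0) (nat_lit 0x1899869c8a361a61261f595) (.m (nat_lit 180) (nat_lit 0xb00b00610b10b10b20610b10b20b00610b00b00b0) (nat_lit 0) .nil)),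
  .der (nat_lit 0) (nat_lit 0) (.m (nat_lit 181) (nat_lit 0) (nat_lit 0x6db6d87dc7d76db612492692) (.m (nat_lit 180) (nat_lit 0x600b30610b00600b10b10610610610b2061061061) (nat_lit 0) .nil)),
  .der (nat_lit 0) (nat_lit 0) (.m (nat_lit 181) (nat_lit 0) (nat_lit 0x69f75985671a7d649a695) (.m (nat_lit 180) (nat_lit 0xb10600b20610b20b20b10b00b30610b10610b1) (nat_lit 0) .nil)),
  .der (nat_lit 0) (nat_lit 0xbc0bc) .nil,
  .der (nat_lit 0) (nat_lit 0xb60bb0b8) .nil,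
  .der (nat_lit 0) (nat_lit 0xc10c10be0c00be) .nil,
  .df,
  .der (nat_lit 0) (nat_lit 0) (.m (nat_lit 197) (nat_lit 0) (nat_lit 0x6227587e669c6d2814) (.m (nat_lit 196) (nat_lit 0x6c06c07106e) (nat_lit 0) .nil))]
theorem hd0 : CX.chkL dv0 (nat_lit 0) = true := by decide +kernel
def dv100 : List Dv := [.der (nat_lit 0) (nat_lit 0) (.m (nat_lit 197) (nat_lit 0) (nat_lit 0x5dd8da69a72259491d) (.m (nat_lit 196) (nat_lit 0x6e07006e) (nat_lit 0) .nil)),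
  .der (nat_lit 0) (nat_lit 0) (.m (nat_lit 197) (nat_lit 0) (nat_lit 0x6a285c71965c69c592626712) (.m (nat_lit 196) (nat_lit 0x6d06f06f070070) (nat_lit 0) .nil)),
  .der (nat_lit 0) (nat_lit 0xc60cb) .nil,
  .der (nat_lit 0) (nat_lit 0xc90c90cc0c80cc) .nil,
  .df,
  .df,
  .der (nat_lit 0) (nat_lit 0) (.w (nat_lit 30) (.m (nat_lit 181) (nat_lit 0) (nat_lit 0x1871f5dc6dd99a6134d5) (.w (nat_lit 30) (.m (nat_lit 93) (nat_lit 0) (nat_lit 0x1761f5a361c61649451f) (.w (nat_lit 30) (.m (nat_lit 80) (nat_lit 0) (nat_lit 0x1a61a6236a69574a461c) (.w (nat_lit 30) .nil))))))),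
  .der (nat_lit 0x28d28f88e38a3cc08418b0e1) (nat_lit 0) (.m (nat_lit 213) (nat_lit 0) (nat_lit 0x1959d66395d6d95d2612516) (.m (nat_lit 212) (nat_lit 0xc10be0c10be0c30bf0bf) (nat_lit 0) .nil)),
  .der (nat_lit 0x28d28f88e38a3cc08418b0e1) (nat_lit 0) (.m (nat_lit 213) (nat_lit 0) (nat_lit 0x187208576dd6e25e44d5) (.m (nat_lit 212) (nat_lit 0xc10c20be0c1) (nat_lit 0) .nil)),
  .der (nat_lit 0) (nat_lit 0x560560d9) .nil,
  .der (nat_lit 0) (nat_lit 0x5a0d6056) .nil,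
  .der (nat_lit 0) (nat_lit 0xdd0dd0da0dc0da) .nil,
  .der (nat_lit 0) (nat_lit 0) (.m (nat_lit 99) (nat_lit 0) (nat_lit 0x166256977166d291b) (.m (nat_lit 98) (nat_lit 0xdc0df0dc0db0da0da) (nat_lit 0) .nil)),
  .der (nat_lit 0) (nat_lit 0x7006d0e0) .nil,
  .der (nat_lit 0) (nat_lit 0x6d0700e1) .nil,
  .der (nat_lit 0) (nat_lit 0xe50e50e20e40e2) .nil,
  .der (nat_lit 0) (nat_lit 0xcf0cf0c8) .nil,
  .der (nat_lit 0) (nat_lit 0) (.w (nat_lit 30) (.m (nat_lit 171) (nat_lit 0) (nat_lit 0x69f7595a16d8698592696912) (.w (nat_lit 30) (.m (nat_lit 92) (nat_lit 0x4103e) (nat_lit 0x1b6d75d77185a06564926a7) (.w (nat_lit 30) (.m (nat_lit 93) (nat_lit 0xb00610b00b00b20b00b2) (nat_lit 0x5d975895a8596a049a525) (.w (nat_lit 30) .nil))))))),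
  .der (nat_lit 0) (nat_lit 0) (.w (nat_lit 30) (.m (nat_lit 99) (nat_lit 0) (nat_lit 0x5e06db9995a07185924a7) (.w (nat_lit 30) (.m (nat_lit 213) (nat_lit 0xda0da0dd0df0da0df0df0da0df) (nat_lit 0x69675d5dd6dc6e16165125d8) (.w (nat_lit 30) (.m (nat_lit 212) (nat_lit 194) (nat_lit 0x1965a5da6567665d851c616) (.w (nat_lit 30) .nil))))))),
  .der (nat_lit 0x28f4223cb40d343887261091) (nat_lit 0) (.m (nat_lit 236) (nat_lit 0) (nat_lit 0) (.m (nat_lit 98) (nat_lit 0xdb0db0db) (nat_lit 0x61a9998e26d671b5964d9494) .nil)),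
  .der (nat_lit 0) (nat_lit 0xe60ee) .nil,
  .der (nat_lit 0) (nat_lit 0xe30e60ee) .nil,
  .der (nat_lit 0) (nat_lit 0xf30f30f00f20f0) .nil,
  .der (nat_lit 0) (nat_lit 0) (.m (nat_lit 197) (nat_lit 0) (nat_lit 0x1a82271659d6187185a44d5) (.m (nat_lit 196) (nat_lit 0xf20f00f2) (nat_lit 0) .nil)),
  .der (nat_lit 0) (nat_lit 0) (.m (nat_lit 197) (nat_lit 0) (nat_lit 0x61b65999c5985a04948a5) (.m (nat_lit 196) (nat_lit 0xf30f30f4) (nat_lit 0) .nil)),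
  .der (nat_lit 0) (nat_lit 0xf90f60e9) .nil,
  .der (nat_lit 0) (nat_lit 0) (.w (nat_lit 30) (.m (nat_lit 197) (nat_lit 0) (nat_lit 0x175df6d799a8566d8494956) (.w (nat_lit 30) (.m (nat_lit 99) (nat_lit 0xf00f50f50f10f50f00f0) (nat_lit 0x1a59965c6e0657716517) (.w (nat_lit 30) (.m (nat_lit 98) (nat_lit 0xdb0dc0db) (nat_lit 0x1a716722961757498) (.w (nat_lit 30) .nil))))))),
  .der (nat_lit 0x94f28c79028d0c5387261) (nat_lit 0) (.m (nat_lit 252) (nat_lit 0) (nat_lit 0) (.m (nat_lit 196) (nat_lit 0) (nat_lit 0x219569665dd75d498) .nil)),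
  .der (nat_lit 0) (nat_lit 0xff0fb0fe) .nil,
  .der (nat_lit 0) (nat_lit 0xfb0fb1000fa100) .nil,
  .df,
  .df,
  .df,
  .der (nat_lit 0) (nat_lit 0) (.w (nat_lit 30) (.m (nat_lit 265) (nat_lit 0) (nat_lit 0x1676695861c726612558) (.w (nat_lit 30) (.m (nat_lit 209) (nat_lit 0) (nat_lit 0x186df81659a69f5944d6) (.w (nat_lit 30) (.m (nat_lit 52) (nat_lit 0x1801701a01801701a019) (nat_lit 0x1971a6967596636d6494857) (.w (nat_lit 30) .nil))))))),
  .df,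
  .df,
  .der (nat_lit 0) (nat_lit 0) (.m (nat_lit 271) (nat_lit 0) (nat_lit 0x5a095669c61c59a4db557) (.m (nat_lit 270) (nat_lit 0x3202b03003203103203102b02a033031031033030032) (nat_lit 0) .nil)),
  .der (nat_lit 0) (nat_lit 0) (.m (nat_lit 271) (nat_lit 0) (nat_lit 0x66065971659a5db4d7615) (.m (nat_lit 270) (nat_lit 0x3003303303103202a03002a03203303103103303103202a031) (nat_lit 0) .nil)),
  .der (nat_lit 0) (nat_lit 0) (.m (nat_lit 271) (nat_lit 0) (nat_lit 0x61b7d87598df59849451d) (.m (nat_lit 270) (nat_lit 0x2a03202a03003003203203103302b03103102a031031032031) (nat_lit 0) .nil)),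
  .der (nat_lit 0) (nat_lit 0) (.m (nat_lit 271) (nat_lit 0) (nat_lit 0x95869689d75d75a492656) (.m (nat_lit 270) (nat_lit 0x3003203203003202a02a03003303103203202b) (nat_lit 0) .nil)),
  .der (nat_lit 0) (nat_lit 0) (.m (nat_lit 271) (nat_lit 0) (nat_lit 0x5995da71881899749489d) (.m (nat_lit 270) (nat_lit 0x3003003203103203202a02a03303102b03302a02a031) (nat_lit 0) .nil)),
  .der (nat_lit 0) (nat_lit 0x113117118) .nil,
  .der (nat_lit 0) (nat_lit 0x114116111) .nil,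
  .der (nat_lit 0) (nat_lit 0x11d11d11a11c11a) .nil,
  .df,
  .der (nat_lit 0) (nat_lit 0) (.m (nat_lit 289) (nat_lit 0) (nat_lit 0x65b75b6e29d76d9) (.m (nat_lit 288) (nat_lit 0x8b08c08e08a08c08d08e08e) (nat_lit 0) .nil)),
  .der (nat_lit 0) (nat_lit 0) (.m (nat_lit 289) (nat_lit 0) (nat_lit 0x69699c7d6859699) (.m (nat_lit 288) (nat_lit 0x8d08f08b08f08c08c08a08e08a) (nat_lit 0) .nil)),
  .der (nat_lit 0) (nat_lit 0) (.m (nat_lit 289) (nat_lit 0) (nat_lit 0x2575f59b6db99b992612516) (.m (nat_lit 288) (nat_lit 0x8d08e08d08b08c08f08d08d08b08b08f) (nat_lit 0) .nil)),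
  .der (nat_lit 0) (nat_lit 0) (.m (nat_lit 289) (nat_lit 0) (nat_lit 0x1b6d98a5622) (.m (nat_lit 288) (nat_lit 0x8e08c08c08e08a08d08a08c08c08a) (nat_lit 0) .nil)),
  .der (nat_lit 0) (nat_lit 0) (.m (nat_lit 289) (nat_lit 0) (nat_lit 0x1775f822858592612516) (.m (nat_lit 288) (nat_lit 0x8f08d08a08a08e08c08f08f08c08c) (nat_lit 0) .nil)),
  .der (nat_lit 0) (nat_lit 0) (.m (nat_lit 289) (nat_lit 0) (nat_lit 0x1a6a16576e16e1) (.m (nat_lit 288) (nat_lit 0x8b08f08c08b08e08d08e08b08d08d08b08d08d) (nat_lit 0) .nil)),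
  .der (nat_lit 0) (nat_lit 0x12b12c125) .nil,
  .der (nat_lit 0) (nat_lit 0x123129127) .nil,
  .df,
  .der (nat_lit 0) (nat_lit 0) (.m (nat_lit 307) (nat_lit 0) (nat_lit 0x6df620599817659494919) (.m (nat_lit 306) (nat_lit 0x8a08c08a08d08f08a08c08c08b08b08b) (nat_lit 0) .nil)),
  .der (nat_lit 0) (nat_lit 0) (.m (nat_lit 307) (nat_lit 0) (nat_lit 0x72661875d85b5e44e3) (.m (nat_lit 306) (nat_lit 0x8e08d08f08b08e08b08d08e08b08f08f08c08a08f08a) (nat_lit 0) .nil)),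
  .der (nat_lit 0) (nat_lit 311) .nil,
  .der (nat_lit 0) (nat_lit 0x135135138134138) .nil,
  .df,
  .der (nat_lit 0) (nat_lit 0) (.m (nat_lit 317) (nat_lit 0) (nat_lit 0x6d765971b8216254987da) (.m (nat_lit 316) (nat_lit 0x4003c03f03c04004003f04103d04003c04003c03f) (nat_lit 0) .nil)),
  .der (nat_lit 0) (nat_lit 0) (.m (nat_lit 317) (nat_lit 0) (nat_lit 0x5e665a85871959255a) (.m (nat_lit 316) (nat_lit 0x3e04103e04003c04003f04103f03c04103c03e) (nat_lit 0) .nil)),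
  .der (nat_lit 0) (nat_lit 0) (.m (nat_lit 317) (nat_lit 0) (nat_lit 0x7185968e781775269f712) (.m (nat_lit 316) (nat_lit 0x4003f03c04103f03c03f03f03d03c03e03d04003f03f) (nat_lit 0) .nil)),
  .der (nat_lit 0) (nat_lit 0) (.m (nat_lit 317) (nat_lit 0) (nat_lit 0x59a89c6e171f5d38e4) (.m (nat_lit 316) (nat_lit 0x3e03d03f03c03f03d04003c03f03e03d04003c04103e03d) (nat_lit 0) .nil)),
  .der (nat_lit 0) (nat_lit 0x143140144) .nil,
  .der (nat_lit 0) (nat_lit 0x14013f) .nil,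
  .der (nat_lit 0) (nat_lit 0x149149146148146) .nil,
  .der (nat_lit 0) (nat_lit 0) (.w (nat_lit 30) (.m (nat_lit 67) (nat_lit 0) (nat_lit 0x65c89b5da9968196564d761f) (.w (nat_lit 30) (.m (nat_lit 52) (nat_lit 0x1601901601901701a) (nat_lit 0x1a65a5e08e56dd757494725) (.w (nat_lit 30) (.m (nat_lit 316) (nat_lit 0x3d03f03d040040) (nat_lit 0x5dc6598da5a159649b) (.w (nat_lit 30) .nil))))))),
  .der (nat_lit 0x2cc80a3cd99188518e29e842) (nat_lit 0) (.m (nat_lit 333) (nat_lit 0) (nat_lit 0x1a99871c6275da6564a055b) (.m (nat_lit 332) (nat_lit 0x8a08e08c08f08c08a08c08e08e08f08d08b) (nat_lit 0) .nil)),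
  .der (nat_lit 0x2cc80a3cd99188518e29e842) (nat_lit 0) (.m (nat_lit 333) (nat_lit 0) (nat_lit 0x1859d81b5d79a56244d3593) (.m (nat_lit 332) (nat_lit 0x8b08c08f08c08f08a08d08d08f08e08e08a08c08c08e08d) (nat_lit 0) .nil)),
  .der (nat_lit 0x2cc80a3cd99188518e29e842) (nat_lit 0) (.m (nat_lit 333) (nat_lit 0) (nat_lit 0x6d76dc8a65d2627) (.m (nat_lit 332) (nat_lit 0x8d08a08c08e08a08f08b08a08d08b08b08d08b) (nat_lit 0) .nil)),
  .der (nat_lit 0) (nat_lit 0x15014a152) .nil,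
  .der (nat_lit 0) (nat_lit 0x14f14f15414e154) .nil,
  .der (nat_lit 0) (nat_lit 0) (.w (nat_lit 30) (.m (nat_lit 289) (nat_lit 0) (nat_lit 0x61c5d76dd75b65a49451f) (.w (nat_lit 30) (.m (nat_lit 161) (nat_lit 0x8c08e08d08e08c08c08a) (nat_lit 0x59a5da5db7576db594499) (.w (nat_lit 30) (.m (nat_lit 160) (nat_lit 0xa40a90a50a80a40a6) (nat_lit 0x6d66d66d86d965b5d2696516) (.w (nat_lit 30) .nil))))))),
  .der (nat_lit 0x3213e041e40e8821cf3de9c2) (nat_lit 0) (.m (nat_lit 344) (nat_lit 0) (nat_lit 0) (.m (nat_lit 288) (nat_lit 0x8c08e08e08c08e) (nat_lit 0x66661859895672649451d) .nil)),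
  .der (nat_lit 0) (nat_lit 0x13015b) .nil,
  .der (nat_lit 0) (nat_lit 0x12e13112e) .nil,
  .der (nat_lit 0) (nat_lit 0x15f15f15c15e15c) .nil,
  .df,
  .der (nat_lit 0) (nat_lit 0) (.m (nat_lit 355) (nat_lit 0) (nat_lit 0x5965a26dd5a071659261f592) (.m (nat_lit 354) (nat_lit 0x4003f03c04003c03e03c03e03c04103d03f04003e) (nat_lit 0) .nil)),
  .der (nat_lit 0) (nat_lit 0) (.m (nat_lit 355) (nat_lit 0) (nat_lit 0x61f5995d976161a59269f) (.m (nat_lit 354) (nat_lit 0x3d03f04003f04103c03c03c04004003d03d) (nat_lit 0) .nil)),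
  .der (nat_lit 0) (nat_lit 0) (.m (nat_lit 355) (nat_lit 0) (nat_lit 0x69a72561a71895659255b) (.m (nat_lit 354) (nat_lit 0x3f04103d03d03d03d03f03d04103c03c03e041) (nat_lit 0) .nil)),
  .der (nat_lit 0) (nat_lit 361) .nil,
  .der (nat_lit 0) (nat_lit 0x167165) .nil,
  .der (nat_lit 0) (nat_lit 0x16d16d16a16c16a) .nil,
  .df,
  .der (nat_lit 0) (nat_lit 0) (.m (nat_lit 369) (nat_lit 0) (nat_lit 0x65a8195e05d9652518992) (.m (nat_lit 368) (nat_lit 0x4103c04003f03d04103c03f04003c03e03c) (nat_lit 0) .nil)),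
  .der (nat_lit 0) (nat_lit 0) (.m (nat_lit 369) (nat_lit 0) (nat_lit 0x5d785b89c6d66d659261f492) (.m (nat_lit 368) (nat_lit 0x3d03d03f04004003f04003f04003d03e03e03d) (nat_lit 0) .nil)),
  .der (nat_lit 0) (nat_lit 0) (.m (nat_lit 369) (nat_lit 0) (nat_lit 0x6dd6db61a6668d6495715) (.m (nat_lit 368) (nat_lit 0x3f03c03e03d03e04003f03d03c03f04103e04103e) (nat_lit 0) .nil)),
  .der (nat_lit 0) (nat_lit 0) (.m (nat_lit 369) (nat_lit 0) (nat_lit 0x6d87d861a71c85859251d552) (.m (nat_lit 368) (nat_lit 0x3e03e03c04103c03f03f04103c03e03c03e03d) (nat_lit 0) .nil)),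
  .der (nat_lit 0) (nat_lit 0) (.m (nat_lit 369) (nat_lit 0) (nat_lit 0x5e371799a99c696494716) (.m (nat_lit 368) (nat_lit 0x4103c04103f04003c03e04003c04104103d03d) (nat_lit 0) .nil)),
  .der (nat_lit 0) (nat_lit 0x17817217a) .nil,
  .der (nat_lit 0) (nat_lit 0x176175) .nil,
  .der (nat_lit 0) (nat_lit 0x17f17f17c17e17c) .nil,
  .der (nat_lit 0) (nat_lit 0) (.w (nat_lit 30) (.m (nat_lit 212) (nat_lit 0) (nat_lit 0x1b66269c69885a492499) (.w (nat_lit 30) (.m (nat_lit 81) (nat_lit 0xdb0db0de0de) (nat_lit 0x1a8976255d965c49b5da) (.w (nat_lit 30) (.m (nat_lit 368) (nat_lit 0x3e04003d040040) (nat_lit 0x1a75869c961598692553853) (.w (nat_lit 30) .nil)))))))]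
theorem hd100 : CX.chkL dv100 (nat_lit 100) = true := by decide +kernel
def dv194 : List Dv := [.der (nat_lit 0) (nat_lit 0x16b16f16e) .nil,
  .df,
  .der (nat_lit 0) (nat_lit 0) (.m (nat_lit 391) (nat_lit 0) (nat_lit 0x6d67565a195871849a894) (.m (nat_lit 390) (nat_lit 0x3c03f03c04104103d03d03d04104103e03c04003e) (nat_lit 0) .nil)),
  .der (nat_lit 0) (nat_lit 0) (.m (nat_lit 391) (nat_lit 0) (nat_lit 0x9598dd5e575871849549c) (.m (nat_lit 390) (nat_lit 0x4003e04003f03c03f03d03d03f03d) (nat_lit 0) .nil)),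
  .der (nat_lit 0) (nat_lit 0) (.m (nat_lit 391) (nat_lit 0) (nat_lit 0x6db9975d78216d8496923) (.m (nat_lit 390) (nat_lit 0x3e04004003d03f04104003e03c03e03d03f) (nat_lit 0) .nil)),
  .der (nat_lit 0) (nat_lit 0x18d18918c) .nil,
  .der (nat_lit 0) (nat_lit 395) .nil,
  .der (nat_lit 0) (nat_lit 0x19119118e19018e) .nil,
  .der (nat_lit 0) (nat_lit 0) (.w (nat_lit 30) (.m (nat_lit 212) (nat_lit 0) (nat_lit 0x6d66187e061b61d5936d3) (.w (nat_lit 30) (.m (nat_lit 81) (nat_lit 0xdc0de0de0db) (nat_lit 0x5e565a7625d77184926a7) (.w (nat_lit 30) (.m (nat_lit 390) (nat_lit 0x3e03d04003c03c) (nat_lit 0x66275d61a99c7d749b519) (.w (nat_lit 30) .nil))))))),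
  .der (nat_lit 0x2344a98e79128a0873112e7205) (nat_lit 0) (.m (nat_lit 405) (nat_lit 0) (nat_lit 0x1a8e56988da75259b) (.m (nat_lit 404) (nat_lit 0xc00be0be0c10c20c20c00c00c20c20bf0bf0c1) (nat_lit 0) .nil)),
  .der (nat_lit 0) (nat_lit 0x18e191193) .nil,
  .der (nat_lit 0) (nat_lit 0x199199196198196) .nil,
  .der (nat_lit 0) (nat_lit 0) (.w (nat_lit 30) (.m (nat_lit 391) (nat_lit 0) (nat_lit 0x5965967d661a7d65125d9) (.w (nat_lit 30) (.m (nat_lit 80) (nat_lit 0) (nat_lit 0x69f6185e169c9964a0852) (.w (nat_lit 30) (.m (nat_lit 213) (nat_lit 0xde0dc0dc0df0db0dc0dc) (nat_lit 0x5db65d5db89965949461a) (.w (nat_lit 30) .nil))))))),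
  .der (nat_lit 0x28e8633a094e28440a446148) (nat_lit 0) (.m (nat_lit 412) (nat_lit 0) (nat_lit 0x59875b6dd6d87db6564945d8) (.m (nat_lit 413) (nat_lit 0xc20c00bf0bf0c20be0c30be) (nat_lit 0) .nil)),
  .der (nat_lit 0) (nat_lit 0x19619719f) .nil,
  .der (nat_lit 0) (nat_lit 0x19619919b) .nil,
  .der (nat_lit 0) (nat_lit 0x1a31a31a01a21a0) .nil,
  .df,
  .der (nat_lit 0) (nat_lit 0) (.m (nat_lit 423) (nat_lit 0) (nat_lit 0x6e159c9579e0612622) (.m (nat_lit 422) (nat_lit 0x4003d04103e03c03c04003e04004103e03c03f03f) (nat_lit 0) .nil)),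
  .der (nat_lit 0) (nat_lit 0) (.m (nat_lit 423) (nat_lit 0) (nat_lit 0x85b75f81b61b752622) (.m (nat_lit 422) (nat_lit 0x3e03c03e04004003c03c04003c03d03e03e03d03f040) (nat_lit 0) .nil)),
  .der (nat_lit 0) (nat_lit 0x1ab1a8) .nil,
  .der (nat_lit 0) (nat_lit 0x1ad1ad1aa1ac1aa) .nil,
  .df,
  .der (nat_lit 0) (nat_lit 0) (.m (nat_lit 433) (nat_lit 0) (nat_lit 0x75d65f6e765c8a44e3) (.m (nat_lit 432) (nat_lit 0x4103f04103f03c03c03e04003f04003d04003e04003f) (nat_lit 0) .nil)),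
  .der (nat_lit 0) (nat_lit 0) (.m (nat_lit 433) (nat_lit 0) (nat_lit 0x188976e1717858612612516) (.m (nat_lit 432) (nat_lit 0x3d03e03d04103c03e03c04003e03e03c040040040) (nat_lit 0) .nil)),
  .der (nat_lit 0) (nat_lit 0) (.m (nat_lit 433) (nat_lit 0) (nat_lit 0x1b75a5d86a18995964a751a) (.m (nat_lit 432) (nat_lit 0x3d04103d03e04003e03d04103f03f04004003f04104103f) (nat_lit 0) .nil)),
  .der (nat_lit 0) (nat_lit 0) (.m (nat_lit 433) (nat_lit 0) (nat_lit 0x5dc69c7dc99c5db5d44d6) (.m (nat_lit 432) (nat_lit 0x3d03f03d04003e04103d03e03e03f03f03f03c04003f03f) (nat_lit 0) .nil)),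
  .der (nat_lit 0) (nat_lit 0) (.m (nat_lit 433) (nat_lit 0) (nat_lit 0x6db65f6d99dc9644e3) (.m (nat_lit 432) (nat_lit 0x3c03e04103e03d04104104104004003e04103d) (nat_lit 0) .nil)),
  .der (nat_lit 0) (nat_lit 0) (.m (nat_lit 433) (nat_lit 0) (nat_lit 0x6996e16d98d75df4db4e1) (.m (nat_lit 432) (nat_lit 0x3c04103f03c03f03f03c04003d04003d03d03f04003f) (nat_lit 0) .nil)),
  .der (nat_lit 0) (nat_lit 0x1bc1b71b8) .nil,
  .der (nat_lit 0) (nat_lit 0x1b81b31bb1bd) .nil,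
  .der (nat_lit 0) (nat_lit 0x1bb1b41b51bd) .nil,
  .df,
  .df,
  .der (nat_lit 0) (nat_lit 0) (.m (nat_lit 455) (nat_lit 0) (nat_lit 0x6dc6a371c620752918693) (.m (nat_lit 454) (nat_lit 0x8d08e08d08b08f08d08d08d08a08f08f08b08b08c08a) (nat_lit 0) .nil)),
  .der (nat_lit 0) (nat_lit 0) (.m (nat_lit 455) (nat_lit 0) (nat_lit 0x196dd99d61c8a36d4756512) (.m (nat_lit 454) (nat_lit 0x8d08b08e08e08a08f08a08a08b08c08b08f08b08e08a08a) (nat_lit 0) .nil)),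
  .der (nat_lit 0) (nat_lit 0) (.m (nat_lit 455) (nat_lit 0) (nat_lit 0x1969f6e161c49b) (.m (nat_lit 454) (nat_lit 0x8c08e08a08c08f08a08a08e08a08f08b08b08c08e) (nat_lit 0) .nil)),
  .der (nat_lit 0) (nat_lit 0) (.m (nat_lit 455) (nat_lit 0) (nat_lit 0x6a275f7614a055b) (.m (nat_lit 454) (nat_lit 0x8b08f08d08b08e08d08d08a08f08d08e08b08d08f08a) (nat_lit 0) .nil)),
  .der (nat_lit 0) (nat_lit 0x1c81cd1cf) .nil,
  .der (nat_lit 0) (nat_lit 0x1c81ca) .nil,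
  .der (nat_lit 0) (nat_lit 0x1d31d31d01d21d0) .nil,
  .der (nat_lit 0) (nat_lit 0) (.w (nat_lit 30) (.m (nat_lit 404) (nat_lit 0) (nat_lit 0x8dd61c72361f7184954d3) (.w (nat_lit 30) (.m (nat_lit 405) (nat_lit 0x1a01a51a31a01a3) (nat_lit 0x1d5a061c61b663652917) (.w (nat_lit 30) (.m (nat_lit 386) (nat_lit 0xbf0c30c10be) (nat_lit 0x176d96d88276d869651d594) (.w (nat_lit 30) .nil))))))),
  .df,
  .der (nat_lit 0) (nat_lit 0) (.m (nat_lit 473) (nat_lit 0) (nat_lit 0x8da7db598618616494755) (.m (nat_lit 472) (nat_lit 0x3c03e03d03e04104103c03e04103c03c04103c04104103c03c040) (nat_lit 0) .nil)),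
  .der (nat_lit 0) (nat_lit 0) (.m (nat_lit 473) (nat_lit 0) (nat_lit 0x5d76d88188e0616496918) (.m (nat_lit 472) (nat_lit 0x4003f04103e04004003e04103c03c04003c03e03c) (nat_lit 0) .nil)),
  .der (nat_lit 0) (nat_lit 0) (.m (nat_lit 473) (nat_lit 0) (nat_lit 0x1a6578175d795f6d65944d6) (.m (nat_lit 472) (nat_lit 0x3c04003f03f03c03e03d04103d03d03f04103d04103f04103f) (nat_lit 0) .nil)),
  .der (nat_lit 0) (nat_lit 0x1dc1df1db) .nil,
  .df,
  .der (nat_lit 0) (nat_lit 0) (.m (nat_lit 483) (nat_lit 0) (nat_lit 0x89a5d761699c71b4a751a) (.m (nat_lit 482) (nat_lit 0x8b08f08a08e08e08e08e08e08f08b08d08d08e08e) (nat_lit 0) .nil)),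
  .der (nat_lit 0) (nat_lit 0) (.m (nat_lit 483) (nat_lit 0) (nat_lit 0x69969662061a69d4a461c) (.m (nat_lit 482) (nat_lit 0x8b08d08e08b08c08f08a08e08b08f08a08c08c08b) (nat_lit 0) .nil)),
  .der (nat_lit 0) (nat_lit 487) .nil,
  .der (nat_lit 0) (nat_lit 0x1e51e7) .nil,
  .der (nat_lit 0) (nat_lit 0) (.w (nat_lit 30) (.m (nat_lit 455) (nat_lit 0) (nat_lit 0x206dd5e395969d4926a7) (.w (nat_lit 30) (.m (nat_lit 123) (nat_lit 0x8a08c08c08a08f08b) (nat_lit 0x1a7585e06e7759752525552) (.w (nat_lit 30) (.m (nat_lit 122) (nat_lit 0x80083085080085080084083) (nat_lit 0x5db61b6265dd999492527) (.w (nat_lit 30) .nil))))))),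
  .der (nat_lit 0xa31e84c2a634318c9853c8) (nat_lit 0) (.m (nat_lit 492) (nat_lit 0) (nat_lit 0) (.m (nat_lit 454) (nat_lit 0x8a08e08e08a08a08d08e) (nat_lit 0x1b72169f65b9924a1) .nil)),
  .der (nat_lit 0) (nat_lit 0x1d51d51ee1d41ee) .nil,
  .der (nat_lit 0) (nat_lit 0) (.w (nat_lit 30) (.m (nat_lit 483) (nat_lit 0) (nat_lit 0x1a8267179995d949555d) (.w (nat_lit 30) (.m (nat_lit 454) (nat_lit 0x8a08e08b08e08c08a08f08b) (nat_lit 0x5a059a69671895b49b5e6) (.w (nat_lit 30) (.m (nat_lit 455) (nat_lit 0x1f01d41f1) (nat_lit 0x71a7d67675d775649a492) (.w (nat_lit 30) .nil))))))),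
  .der (nat_lit 0xd3e13117ca3ca1081453d1) (nat_lit 0) (.m (nat_lit 498) (nat_lit 0) (nat_lit 0) (.m (nat_lit 482) (nat_lit 0x8e08d08a08d08d08a) (nat_lit 0x1b5df6e359d85d4d7613) .nil)),
  .der (nat_lit 0) (nat_lit 0x1e81f41f4) .nil,
  .der (nat_lit 0) (nat_lit 0x1eb1eb1f61ea1f6) .nil,
  .der (nat_lit 0) (nat_lit 0) (.w (nat_lit 30) (.m (nat_lit 473) (nat_lit 0) (nat_lit 0x5df5dc65669a6594945dc) (.w (nat_lit 30) (.m (nat_lit 170) (nat_lit 0x3c03e03c03f03f03c) (nat_lit 0x59d59b7265a15d269d553) (.w (nat_lit 30) (.m (nat_lit 171) (nat_lit 0xa50a50a50a5) (nat_lit 0x6a271775d7666164925d9) (.w (nat_lit 30) .nil))))))),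
  .der (nat_lit 0x28e7a136538a34e0877a12827c2) (nat_lit 0) (.m (nat_lit 506) (nat_lit 0) (nat_lit 0) (.m (nat_lit 472) (nat_lit 0x3c04004003e04003e04003f) (nat_lit 0x61862599a763652516612) .nil)),
  .der (nat_lit 0) (nat_lit 481) .nil,
  .der (nat_lit 0) (nat_lit 0x1ff1ff1fc1fe1fc) .nil,
  .der (nat_lit 0) (nat_lit 0) (.w (nat_lit 30) (.m (nat_lit 413) (nat_lit 0) (nat_lit 0x2181b6566e65dc5925178d3) (.w (nat_lit 30) (.m (nat_lit 391) (nat_lit 420) (nat_lit 0x197635a061a65f6524947d2) (.w (nat_lit 30) (.m (nat_lit 267) (nat_lit 0x3e03d03f) (nat_lit 0x65f59895681b6d2492696) (.w (nat_lit 30) .nil))))))),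
  .der (nat_lit 0) (nat_lit 0) (.w (nat_lit 30) (.m (nat_lit 99) (nat_lit 0xf10f20f00f40f00f50f3) (nat_lit 0x5dc6997587585a6492494) (.w (nat_lit 30) (.m (nat_lit 213) (nat_lit 0xdf0dd0de0da0df0df0dc0dc) (nat_lit 0x6db5965986e37604946a4) (.w (nat_lit 30) (.m (nat_lit 514) (nat_lit 0xbe0c30be) (nat_lit 0x65a7e66a15db6d859261f592) (.w (nat_lit 30) .nil))))))),
  .der (nat_lit 0xb44e46234e2de2c31862d0784) (nat_lit 0) (.m (nat_lit 516) (nat_lit 0) (nat_lit 0) (.m (nat_lit 265) (nat_lit 0) (nat_lit 0x1975769781f598596512618) .nil)),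
  .der (nat_lit 0) (nat_lit 0) (.m (nat_lit 518) (nat_lit 0) (nat_lit 0x31f81144e34d98d0cf0e510320f) (.m (nat_lit 210) (nat_lit 0) (nat_lit 0) .nil)),
  .der (nat_lit 0) (nat_lit 0) (.m (nat_lit 518) (nat_lit 0) (nat_lit 0) (.m (nat_lit 209) (nat_lit 0) (nat_lit 0) .nil)),
  .der (nat_lit 0xe40d88e85078a0a5246151) (nat_lit 0) (.m (nat_lit 523) (nat_lit 0) (nat_lit 0) (.m (nat_lit 520) (nat_lit 240) (nat_lit 0x178665985968a049a6a6) .nil)),
  .der (nat_lit 0) (nat_lit 0) (.m (nat_lit 208) (nat_lit 0) (nat_lit 0) (.m (nat_lit 519) (nat_lit 0) (nat_lit 0) .nil)),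
  .der (nat_lit 0) (nat_lit 0) (.m (nat_lit 520) (nat_lit 0) (nat_lit 0) (.m (nat_lit 525) (nat_lit 0) (nat_lit 0) .nil)),
  .der (nat_lit 0) (nat_lit 0xfb1001030fa1030fb1001010fa1020fb102101) .nil,
  .der (nat_lit 0) (nat_lit 0x1011020fb1020fa1030fb1031011030fa101101101102100) .nil,
  .der (nat_lit 0) (nat_lit 0x215215212212214213215212214212213215215213215213214212215) .nil,
  .der (nat_lit 0) (nat_lit 0x215212214214213214212212215214212214213214214212215215) .nil,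
  .der (nat_lit 0) (nat_lit 0x217219216216219216216218218217219217217217218218216216218) .nil]
theorem hd194 : CX.chkL dv194 (nat_lit 194) = true := by decide +kernel
def dv270 : List Dv := [.der (nat_lit 0) (nat_lit 0x219216218218218216219216219217217216219217219216216218217219219217) .nil,
  .der (nat_lit 0) (nat_lit 0x218217217217218217218216216216219217218217217218218216) .nil,
  .der (nat_lit 0) (nat_lit 0x216219219216216219219219216216219217217218218217217219217218217) .nil,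
  .sd,
  .der (nat_lit 0) (nat_lit 0) (.m (nat_lit 547) (nat_lit 0) (nat_lit 0) (.m (nat_lit 197) (nat_lit 0) (nat_lit 0) .nil)),
  .der (nat_lit 30) (nat_lit 0) (.m (nat_lit 549) (nat_lit 0) (nat_lit 0) (.m (nat_lit 12) (nat_lit 0) (nat_lit 0) .nil)),
  .der (nat_lit 0) (nat_lit 0) (.m (nat_lit 551) (nat_lit 0) (nat_lit 0x30f2e23cc96038a104405422082) (.m (nat_lit 516) (nat_lit 0) (nat_lit 0) .nil)),
  .der (nat_lit 0) (nat_lit 0) (.m (nat_lit 551) (nat_lit 0) (nat_lit 0) (.m (nat_lit 99) (nat_lit 0) (nat_lit 0) .nil)),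
  .der (nat_lit 0xb36344e84c4222c23cd3c41c2) (nat_lit 0) (.m (nat_lit 553) (nat_lit 0) (nat_lit 0) (.m (nat_lit 52) (nat_lit 0) (nat_lit 0x167d669c6a062049475b) .nil)),
  .der (nat_lit 0) (nat_lit 0) (.m (nat_lit 557) (nat_lit 0) (nat_lit 0x3223cb40b8cd98c10b0c70a17c3) (.m (nat_lit 515) (nat_lit 0) (nat_lit 0) .nil)),
  .der (nat_lit 0) (nat_lit 0) (.m (nat_lit 526) (nat_lit 0) (nat_lit 0) (.m (nat_lit 550) (nat_lit 0) (nat_lit 0x30b3a52cf94b802288183126442) .nil)),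
  .der (nat_lit 0xa34b3cb34e8a330a142882161303) (nat_lit 0) (.m (nat_lit 555) (nat_lit 0) (nat_lit 0) (.m (nat_lit 28) (nat_lit 0) (nat_lit 0) .nil)),
  .der (nat_lit 0) (nat_lit 0) (.m (nat_lit 563) (nat_lit 0) (nat_lit 0) (.m (nat_lit 81) (nat_lit 0) (nat_lit 0) .nil)),
  .der (nat_lit 0xc3a244b3a144b0c33cd4022c5) (nat_lit 0) (.m (nat_lit 559) (nat_lit 0) (nat_lit 0) (.m (nat_lit 170) (nat_lit 0x3e03d03d04103f04103f) (nat_lit 0x6986dc8e25da5db4a4559) .nil)),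
  .der (nat_lit 0) (nat_lit 0) (.m (nat_lit 567) (nat_lit 0) (nat_lit 0xa7cf3517cc7903832078c8089) (.m (nat_lit 470) (nat_lit 0) (nat_lit 0) .nil)),
  .der (nat_lit 0) (nat_lit 0) (.m (nat_lit 567) (nat_lit 0) (nat_lit 0xb3d02cd44a30b2c42de3a4302) (.m (nat_lit 413) (nat_lit 0) (nat_lit 0) .nil)),
  .der (nat_lit 0) (nat_lit 0) (.m (nat_lit 567) (nat_lit 0) (nat_lit 0x28a80d8623909853d128a082) (.m (nat_lit 404) (nat_lit 0) (nat_lit 0) .nil)),
  .der (nat_lit 0) (nat_lit 0) (.m (nat_lit 567) (nat_lit 0) (nat_lit 0xa44b3cc28f8e128484e243362) (.m (nat_lit 386) (nat_lit 0) (nat_lit 0) .nil)),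
  .der (nat_lit 0) (nat_lit 0) (.m (nat_lit 567) (nat_lit 0) (nat_lit 0) (.m (nat_lit 181) (nat_lit 0) (nat_lit 0) .nil)),
  .der (nat_lit 0) (nat_lit 0) (.m (nat_lit 267) (nat_lit 0) (nat_lit 0) (.m (nat_lit 556) (nat_lit 0) (nat_lit 0x1078e8cc98c98c14d4442c8) .nil)),
  .der (nat_lit 0xb36088e80a2843ca19188a) (nat_lit 0) (.m (nat_lit 565) (nat_lit 0) (nat_lit 0) (.m (nat_lit 260) (nat_lit 0x2a02a033033) (nat_lit 0x6266db6216997d2519) .nil)),
  .der (nat_lit 0) (nat_lit 0) (.m (nat_lit 80) (nat_lit 0) (nat_lit 0) (.m (nat_lit 562) (nat_lit 0) (nat_lit 0) .nil)),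
  .der (nat_lit 0) (nat_lit 0) (.m (nat_lit 471) (nat_lit 0) (nat_lit 0) (.m (nat_lit 566) (nat_lit 0) (nat_lit 0xa7cf3517cc7903832078c8089) .nil)),
  .der (nat_lit 0) (nat_lit 0) (.m (nat_lit 412) (nat_lit 0) (nat_lit 0) (.m (nat_lit 566) (nat_lit 0) (nat_lit 0xb3d02cd44a30b2c42de3a4302) .nil)),
  .der (nat_lit 0) (nat_lit 0) (.m (nat_lit 405) (nat_lit 0) (nat_lit 0) (.m (nat_lit 566) (nat_lit 0) (nat_lit 0x28a80d8623909853d128a082) .nil)),
  .der (nat_lit 0) (nat_lit 0) (.m (nat_lit 387) (nat_lit 0) (nat_lit 0) (.m (nat_lit 566) (nat_lit 0) (nat_lit 0xa44b3cc28f8e128484e243362) .nil)),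
  .der (nat_lit 0) (nat_lit 0) (.m (nat_lit 180) (nat_lit 0) (nat_lit 0) (.m (nat_lit 566) (nat_lit 0) (nat_lit 0) .nil)),
  .der (nat_lit 0) (nat_lit 0) (.m (nat_lit 260) (nat_lit 0) (nat_lit 0) (.m (nat_lit 581) (nat_lit 0) (nat_lit 0) .nil)),
  .der (nat_lit 0) (nat_lit 0) (.w (nat_lit 30) (.m (nat_lit 369) (nat_lit 0) (nat_lit 0x69681765672369d4d7513) (.w (nat_lit 30) (.m (nat_lit 582) (nat_lit 0) (nat_lit 0x65d65d6189da494717) (.w (nat_lit 30) (.m (nat_lit 270) (nat_lit 0x3003003303102a03003202b031) (nat_lit 0x5a26595e65dc858918516) (.w (nat_lit 30) .nil))))))),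
  .der (nat_lit 0) (nat_lit 0) (.w (nat_lit 30) (.m (nat_lit 473) (nat_lit 0) (nat_lit 0x186d77dc65a69a717498714) (.w (nat_lit 30) (.m (nat_lit 578) (nat_lit 0x4003d040) (nat_lit 0x195dd85b59f75d6d44a0) (.w (nat_lit 30) (.m (nat_lit 432) (nat_lit 0x3c03f03f04004004003e) (nat_lit 0x69a69c61c66075f594499) (.w (nat_lit 30) .nil))))))),
  .der (nat_lit 0) (nat_lit 0) (.w (nat_lit 30) (.m (nat_lit 598) (nat_lit 0) (nat_lit 0x175d75e05db7616d74db) (.w (nat_lit 30) (.m (nat_lit 433) (nat_lit 0) (nat_lit 0x166d872395661c494753) (.w (nat_lit 30) (.m (nat_lit 472) (nat_lit 0x3d03f03f04103c03e04103f) (nat_lit 0x17699726598757657495657) (.w (nat_lit 30) .nil))))))),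
  .der (nat_lit 0) (nat_lit 0) (.w (nat_lit 30) (.m (nat_lit 271) (nat_lit 0) (nat_lit 0x5985e29587225da5e44d5612) (.w (nat_lit 30) (.m (nat_lit 594) (nat_lit 0x3103302a02a) (nat_lit 0x6e05da89d7635d75124a7) (.w (nat_lit 30) (.m (nat_lit 390) (nat_lit 0x4103c03c04103e03e) (nat_lit 0x5d95a0623696956494657) (.w (nat_lit 30) .nil))))))),
  .der (nat_lit 0) (nat_lit 0) (.w (nat_lit 30) (.m (nat_lit 455) (nat_lit 0) (nat_lit 0x5da65b6607dc95c51c61c) (.w (nat_lit 30) (.m (nat_lit 161) (nat_lit 0x8c08e08a08d08f08b) (nat_lit 0x69f5967599635d85a4614592) (.w (nat_lit 30) (.m (nat_lit 572) (nat_lit 0xa50a90a50a50a7) (nat_lit 0x5e565b7d9759757494521) (.w (nat_lit 30) .nil))))))),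
  .der (nat_lit 0) (nat_lit 0) (.w (nat_lit 30) (.m (nat_lit 483) (nat_lit 0) (nat_lit 0x6d861b99976065959255d753) (.w (nat_lit 30) (.m (nat_lit 161) (nat_lit 0x8e08e08c08c08c08f08a) (nat_lit 0x7226d86e16d98544a3) (.w (nat_lit 30) (.m (nat_lit 572) (nat_lit 0xa70a80a60a60a9) (nat_lit 0x65d99676375d5db5935996d3) (.w (nat_lit 30) .nil))))))),
  .der (nat_lit 0) (nat_lit 0) (.w (nat_lit 30) (.m (nat_lit 307) (nat_lit 0) (nat_lit 0x1b7db65b7dd65a492698) (.w (nat_lit 30) (.m (nat_lit 482) (nat_lit 0x8b08c08e08c08c08b08e) (nat_lit 0x1a65a5a196759b5d251d) (.w (nat_lit 30) (.m (nat_lit 606) (nat_lit 0x1eb1f81f61ea1f9) (nat_lit 0x69a5995db59c5a0592513913) (.w (nat_lit 30) .nil))))))),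
  .der (nat_lit 0) (nat_lit 0) (.w (nat_lit 30) (.m (nat_lit 473) (nat_lit 0) (nat_lit 0x6d889c5d769649469f) (.w (nat_lit 30) (.m (nat_lit 170) (nat_lit 0x3d04003e04003d040) (nat_lit 0x1959f81b6575dc653593613) (.w (nat_lit 30) (.m (nat_lit 568) (nat_lit 0xa80a60a90a60a5) (nat_lit 0x1975d69999c99765949a65c) (.w (nat_lit 30) .nil))))))),
  .der (nat_lit 0) (nat_lit 0) (.w (nat_lit 30) (.m (nat_lit 606) (nat_lit 0) (nat_lit 0x65a66159859d5e05135da) (.w (nat_lit 30) (.m (nat_lit 588) (nat_lit 0x1a01a51a01a41a3) (nat_lit 0x81c69a8d665b6d4754) (.w (nat_lit 30) (.m (nat_lit 568) (nat_lit 0xa80a40a40a90a50a7) (nat_lit 0x177169986215dc512) (.w (nat_lit 30) .nil))))))),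
  .der (nat_lit 0) (nat_lit 0) (.w (nat_lit 30) (.m (nat_lit 584) (nat_lit 0) (nat_lit 0x1a5a061d7636dd59649489c) (.w (nat_lit 30) (.m (nat_lit 171) (nat_lit 0xa40a90a9) (nat_lit 0x1a8e559c7228db61749b5dc) (.w (nat_lit 30) (.m (nat_lit 316) (nat_lit 0x3c03f03c03f04003d041) (nat_lit 0x1965f65b66795a5d849a816) (.w (nat_lit 30) .nil))))))),
  .der (nat_lit 0) (nat_lit 0) (.w (nat_lit 30) (.m (nat_lit 483) (nat_lit 0) (nat_lit 0x5e171f99c59d6db6d2818752) (.w (nat_lit 30) (.m (nat_lit 332) (nat_lit 0x8b08b08c08b08d08d08d) (nat_lit 0x6966259967598dc495992) (.w (nat_lit 30) (.m (nat_lit 615) (nat_lit 0x15414e15415414f156) (nat_lit 0x186e05da81669c5d9495595) (.w (nat_lit 30) .nil))))))),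
  .der (nat_lit 0) (nat_lit 0) (.w (nat_lit 30) (.m (nat_lit 615) (nat_lit 0x14f14f15514f155157154) (nat_lit 0x215a265969a7215e44d3) (.w (nat_lit 30) (.m (nat_lit 611) (nat_lit 0x17d17f17c18117f17d) (nat_lit 0x6d96a061a71a6974954e2) (.w (nat_lit 30) (.m (nat_lit 598) (nat_lit 0x1fc1fe2011ff2011fc1fc) (nat_lit 0x75682375d6598d4713) (.w (nat_lit 30) .nil))))))),
  .der (nat_lit 0x31f86629184f40a0ca0ce2c7446) (nat_lit 0) (.m (nat_lit 619) (nat_lit 0) (nat_lit 0x1975975d6655a66d6496516) (.m (nat_lit 618) (nat_lit 0x14f15415714e15414e15415415615514e14e15514f) (nat_lit 0) .nil)),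
  .der (nat_lit 0) (nat_lit 0x1c31c126d) .nil,
  .der (nat_lit 0) (nat_lit 0x1bc1bf) .nil,
  .der (nat_lit 0) (nat_lit 0x27127126e27026e) .nil,
  .der (nat_lit 0) (nat_lit 0) (.w (nat_lit 30) (.m (nat_lit 615) (nat_lit 0x15614f155156156155157) (nat_lit 0x196e09586a589959649a657) (.w (nat_lit 30) (.m (nat_lit 617) (nat_lit 0x17d18118118117c) (nat_lit 0x65999c7175e36a249569a) (.w (nat_lit 30) (.m (nat_lit 612) (nat_lit 0x1f61ea1f81f81ea) (nat_lit 0x1a7d875d6dd8d6696592552912) (.w (nat_lit 30) .nil))))))),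
  .der (nat_lit 0) (nat_lit 0) (.w (nat_lit 30) (.m (nat_lit 628) (nat_lit 0x15714f15714e15614e) (nat_lit 0x5a18a55e36d795859269d553) (.w (nat_lit 30) (.m (nat_lit 611) (nat_lit 0x17c17e17c17e17d17f181) (nat_lit 0x1661659a6636db6164d7753) (.w (nat_lit 30) (.m (nat_lit 473) (nat_lit 0x1fc2001fe) (nat_lit 0x59d9a55e565a618592697) (.w (nat_lit 30) .nil))))))),
  .der (nat_lit 0x2a134a3de99028c0cd244321) (nat_lit 0) (.m (nat_lit 630) (nat_lit 0) (nat_lit 0) (.m (nat_lit 452) (nat_lit 0x3d04003c03f04003f04103f) (nat_lit 0x5e26d875a9995d751249a) .nil)),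
  .der (nat_lit 0) (nat_lit 0) (.m (nat_lit 452) (nat_lit 0) (nat_lit 0) (.m (nat_lit 633) (nat_lit 0) (nat_lit 0) .nil)),
  .der (nat_lit 0) (nat_lit 0) (.w (nat_lit 30) (.m (nat_lit 619) (nat_lit 0) (nat_lit 0x1661d6d76dd76281749469f) (.w (nat_lit 30) (.m (nat_lit 317) (nat_lit 0x14e14e) (nat_lit 0x1b75d5e55d95a065751c722) (.w (nat_lit 30) (.m (nat_lit 354) (nat_lit 0x3d03e03c04004003d) (nat_lit 0x1699d5d75d889c5965925955d3) (.w (nat_lit 30) .nil))))))),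
  .der (nat_lit 0x3d188e38b2d12c320c78c10a) (nat_lit 0) (.m (nat_lit 637) (nat_lit 0) (nat_lit 0x7197576a3859596494652) (.m (nat_lit 636) (nat_lit 0x26e27127327127126f27227027327026e) (nat_lit 0) .nil)),
  .der (nat_lit 0) (nat_lit 0x27f27e27e) .nil,
  .der (nat_lit 0) (nat_lit 0x27e185) .nil,
  .der (nat_lit 0) (nat_lit 0x283283280282280) .nil,
  .der (nat_lit 0) (nat_lit 0) (.w (nat_lit 30) (.m (nat_lit 608) (nat_lit 0) (nat_lit 0x1699c6666d9659492656) (.w (nat_lit 30) (.m (nat_lit 391) (nat_lit 0x1a51a11a1) (nat_lit 0x6a265661c99c69761649489d) (.w (nat_lit 30) (.m (nat_lit 368) (nat_lit 0x3c03e03d03d03e03e) (nat_lit 0x61a95975969681959449b) (.w (nat_lit 30) .nil))))))),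
  .der (nat_lit 0) (nat_lit 0) (.w (nat_lit 30) (.m (nat_lit 613) (nat_lit 0x17c17c18017d) (nat_lit 0x176d78589987565964945d8) (.w (nat_lit 30) (.m (nat_lit 606) (nat_lit 0x1f61f61f81eb1f91eb) (nat_lit 0x1b61d65b99d65d5d291a) (.w (nat_lit 30) (.m (nat_lit 609) (nat_lit 0x1a11a11a11a51a11a51a21a5) (nat_lit 0x6a375675a59b659652512) (.w (nat_lit 30) .nil))))))),
  .der (nat_lit 0) (nat_lit 0) (.w (nat_lit 30) (.m (nat_lit 608) (nat_lit 0) (nat_lit 0x2189c72061c8d291b) (.w (nat_lit 30) (.m (nat_lit 588) (nat_lit 0x1a01a01a41a1) (nat_lit 0x2665d8587267175d26135d2) (.w (nat_lit 30) (.m (nat_lit 574) (nat_lit 0xa50a80a40a40a40a4) (nat_lit 0x178637585d769959649849f) (.w (nat_lit 30) .nil))))))),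
  .der (nat_lit 0) (nat_lit 0) (.w (nat_lit 30) (.m (nat_lit 610) (nat_lit 0) (nat_lit 0x1b65d6227187258944d7694) (.w (nat_lit 30) (.m (nat_lit 617) (nat_lit 0x18017c17c17f17f17d) (nat_lit 0x2165d7dd5e6663492497) (.w (nat_lit 30) (.m (nat_lit 612) (nat_lit 0x1f81f61ea1f9) (nat_lit 0x8d671b5d75dc6655124a7) (.w (nat_lit 30) .nil))))))),
  .der (nat_lit 0) (nat_lit 0) (.w (nat_lit 30) (.m (nat_lit 613) (nat_lit 0x17e17c18017f18017e) (nat_lit 0x5a099861675d860692492696) (.w (nat_lit 30) (.m (nat_lit 612) (nat_lit 0x1f71f91f91ea1f9) (nat_lit 0x5d78175e66566d269a7d7) (.w (nat_lit 30) (.m (nat_lit 611) (nat_lit 0x17e18017f18118117c) (nat_lit 0x1b6205a559c85f7164944db) (.w (nat_lit 30) .nil))))))),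
  .der (nat_lit 0) (nat_lit 0) (.w (nat_lit 30) (.m (nat_lit 608) (nat_lit 0) (nat_lit 0x1885d5d75e585c7d281b652) (.w (nat_lit 30) (.m (nat_lit 588) (nat_lit 0x1a01a51a51a01a01a0) (nat_lit 0x59881f61f6d959d654727) (.w (nat_lit 30) (.m (nat_lit 568) (nat_lit 0xa70a40a40a80a50a80a8) (nat_lit 0x1859d8a169c5da65d9184d7) (.w (nat_lit 30) .nil))))))),
  .der (nat_lit 0) (nat_lit 0) (.w (nat_lit 30) (.m (nat_lit 619) (nat_lit 0) (nat_lit 0x186db75b5966665d35d8993) (.w (nat_lit 30) (.m (nat_lit 615) (nat_lit 0x15615414e154154154) (nat_lit 0x69d7d899881a69f49851a) (.w (nat_lit 30) (.m (nat_lit 653) (nat_lit 0x17c17c18018017e180180) (nat_lit 0x196dd5e18187e06d9494494) (.w (nat_lit 30) .nil)))))))]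
theorem hd270 : CX.chkL dv270 (nat_lit 270) = true := by decide +kernel
def dv330 : List Dv := [.der (nat_lit 0) (nat_lit 0) (.w (nat_lit 30) (.m (nat_lit 654) (nat_lit 0x17e17e17c17c) (nat_lit 0x1859671a7215e5894718712) (.w (nat_lit 30) (.m (nat_lit 652) (nat_lit 0x1fd2002001fe2002001fc) (nat_lit 0x5d859c6a06216984956dd) (.w (nat_lit 30) (.m (nat_lit 614) (nat_lit 0x17d18017d18117d) (nat_lit 0x186dc5d96d9763656524594) (.w (nat_lit 30) .nil))))))),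
  .der (nat_lit 0) (nat_lit 0) (.w (nat_lit 30) (.m (nat_lit 651) (nat_lit 0x17c17f17c18117d17e) (nat_lit 0x1659f59c9995a2495999) (.w (nat_lit 30) (.m (nat_lit 649) (nat_lit 0x13a134139139134134138) (nat_lit 0x165a66db66569a652693) (.w (nat_lit 30) (.m (nat_lit 614) (nat_lit 0x17f17c18117e) (nat_lit 0x1885b6566267595db59291b) (.w (nat_lit 30) .nil))))))),
  .der (nat_lit 0) (nat_lit 0) (.w (nat_lit 30) (.m (nat_lit 653) (nat_lit 0) (nat_lit 0x59b9978236d76d649565d) (.w (nat_lit 30) (.m (nat_lit 473) (nat_lit 509) (nat_lit 0x1b75899a69c59665649a65c) (.w (nat_lit 30) (.m (nat_lit 390) (nat_lit 0x3e03e04103f03c03c041) (nat_lit 0x1859971b76661a592553612) (.w (nat_lit 30) .nil))))))),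
  .der (nat_lit 0) (nat_lit 0) (.w (nat_lit 30) (.m (nat_lit 590) (nat_lit 0) (nat_lit 0x1a66099c7d661649559f) (.w (nat_lit 30) (.m (nat_lit 572) (nat_lit 0xa80a80a80a70a4) (nat_lit 0x59f6605d78d85925d7) (.w (nat_lit 30) (.m (nat_lit 665) (nat_lit 0x1a01a41a21a01a21a11a5) (nat_lit 0x1675699b9a56185d24928d2) (.w (nat_lit 30) .nil))))))),
  .der (nat_lit 0) (nat_lit 0) (.w (nat_lit 30) (.m (nat_lit 608) (nat_lit 0) (nat_lit 0x1689d5da6a05d7612696516) (.w (nat_lit 30) (.m (nat_lit 609) (nat_lit 0x1a11a41a31a11a11a11a4) (nat_lit 0x1a5e26e05a25db65651c4d6) (.w (nat_lit 30) (.m (nat_lit 646) (nat_lit 0x13813413913913413913b) (nat_lit 0x69a65d6d97615e64a055b) (.w (nat_lit 30) .nil))))))),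
  .der (nat_lit 0) (nat_lit 0) (.w (nat_lit 30) (.m (nat_lit 609) (nat_lit 0x1a21a41a01a51a21a51a31a0) (nat_lit 0x5a06d985d85d816494659) (.w (nat_lit 30) (.m (nat_lit 608) (nat_lit 0x13913913513b138) (nat_lit 0x8d67dd5df6965964945a1) (.w (nat_lit 30) (.m (nat_lit 609) (nat_lit 0x1a31a41a01a01a41a01a4) (nat_lit 0x1871c99c8675d95d3599) (.w (nat_lit 30) .nil))))))),
  .der (nat_lit 0) (nat_lit 0) (.w (nat_lit 30) (.m (nat_lit 606) (nat_lit 0) (nat_lit 0x6d676559a860598492514) (.w (nat_lit 30) (.m (nat_lit 607) (nat_lit 0x1a31a11a41a01a41a41a31a5) (nat_lit 0x7da5a66e66e26184947d3) (.w (nat_lit 30) (.m (nat_lit 616) (nat_lit 0x1f61ea1f71f81ea1f6) (nat_lit 0x6df5d98166a0721494693) (.w (nat_lit 30) .nil))))))),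
  .der (nat_lit 0) (nat_lit 0) (.w (nat_lit 30) (.m (nat_lit 636) (nat_lit 0) (nat_lit 0x71861861661d6526d3) (.w (nat_lit 30) (.m (nat_lit 355) (nat_lit 0x280280284282285) (nat_lit 0x6dc6986dd8d871b498561) (.w (nat_lit 30) (.m (nat_lit 422) (nat_lit 0x3e04103e03d041) (nat_lit 0x65659861f6d8961494954) (.w (nat_lit 30) .nil))))))),
  .der (nat_lit 0) (nat_lit 0) (.w (nat_lit 30) (.m (nat_lit 629) (nat_lit 0) (nat_lit 0x69695676361c7d8612695552) (.w (nat_lit 30) (.m (nat_lit 630) (nat_lit 0x15514e154156) (nat_lit 0x177dd65b6db9987574d7) (.w (nat_lit 30) (.m (nat_lit 432) (nat_lit 0x3d04003e04003e040) (nat_lit 0x1671f61b5a5756612695552) (.w (nat_lit 30) .nil))))))),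
  .der (nat_lit 0) (nat_lit 0) (.w (nat_lit 30) (.m (nat_lit 619) (nat_lit 0) (nat_lit 0x6d88dc69c71785c592824) (.w (nat_lit 30) (.m (nat_lit 618) (nat_lit 0x15614f15615414f157) (nat_lit 0x65d59c8996636db49a7dc) (.w (nat_lit 30) (.m (nat_lit 677) (nat_lit 0x270272271) (nat_lit 0x6d869c8d85997604944db) (.w (nat_lit 30) .nil))))))),
  .der (nat_lit 0) (nat_lit 0) (.w (nat_lit 30) (.m (nat_lit 678) (nat_lit 0x26e26e27027227026f26f270) (nat_lit 0x89b61a6a17d66d2518892) (.w (nat_lit 30) (.m (nat_lit 666) (nat_lit 0x18117c18118117d) (nat_lit 0x1969d6a662071749a598) (.w (nat_lit 30) (.m (nat_lit 629) (nat_lit 0x17d18017f17c17c) (nat_lit 0x1969c59a71c7215e4617) (.w (nat_lit 30) .nil))))))),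
  .der (nat_lit 0) (nat_lit 0) (.w (nat_lit 30) (.m (nat_lit 628) (nat_lit 0) (nat_lit 0x166e159d5dc5da612817693) (.w (nat_lit 30) (.m (nat_lit 653) (nat_lit 0x17d181) (nat_lit 0x1c95766171c65269f712) (.w (nat_lit 30) (.m (nat_lit 659) (nat_lit 0x2011fc1ff1fd1fd) (nat_lit 0x5da6a369c9587d26a2) (.w (nat_lit 30) .nil))))))),
  .der (nat_lit 0) (nat_lit 0) (.w (nat_lit 30) (.m (nat_lit 678) (nat_lit 0x26e27027327026e26e) (nat_lit 0x6db5d785b766656494497) (.w (nat_lit 30) (.m (nat_lit 611) (nat_lit 0x17c17e17d18117d18117f) (nat_lit 0x1b71c5987187567194926d3) (.w (nat_lit 30) (.m (nat_lit 610) (nat_lit 0x2002001ff2001ff201) (nat_lit 0x1b8176e16dc65a7d649451a) (.w (nat_lit 30) .nil))))))),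
  .der (nat_lit 0) (nat_lit 0) (.w (nat_lit 30) (.m (nat_lit 676) (nat_lit 0) (nat_lit 0x1986661b65661b59255d5d3) (.w (nat_lit 30) (.m (nat_lit 674) (nat_lit 0x26e27226e26e270270) (nat_lit 0x166987e085895a5d749a594) (.w (nat_lit 30) (.m (nat_lit 675) (nat_lit 0x1aa1aa1ac1ae1ae1ad) (nat_lit 0x1876271b5d76a15928184da) (.w (nat_lit 30) .nil))))))),
  .der (nat_lit 0) (nat_lit 0) (.w (nat_lit 30) (.m (nat_lit 658) (nat_lit 0x27027327026e270) (nat_lit 0x1a7d889c59d75765649a51c) (.w (nat_lit 30) (.m (nat_lit 655) (nat_lit 0x2011fe2001fe1fd) (nat_lit 0x186dc89b757999692492492) (.w (nat_lit 30) (.m (nat_lit 669) (nat_lit 0x17d18017e17e17c17c) (nat_lit 0x1769659c66661a89649a525) (.w (nat_lit 30) .nil))))))),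
  .der (nat_lit 0) (nat_lit 0) (.w (nat_lit 30) (.m (nat_lit 684) (nat_lit 0x26e27026e272) (nat_lit 0x69959a6a065c6d6592553) (.w (nat_lit 30) (.m (nat_lit 666) (nat_lit 0x18017d180180) (nat_lit 0x1b75f7607e765d592517514) (.w (nat_lit 30) (.m (nat_lit 617) (nat_lit 0x17d17e17e17d17f) (nat_lit 0x69a71a75d81959c59649a520) (.w (nat_lit 30) .nil))))))),
  .der (nat_lit 0) (nat_lit 0) (.w (nat_lit 30) (.m (nat_lit 675) (nat_lit 0) (nat_lit 0x6625dc7215dd8d749a51c) (.w (nat_lit 30) (.m (nat_lit 636) (nat_lit 0x26e26e26e27026f) (nat_lit 0x5e25dc65a81669269a512) (.w (nat_lit 30) (.m (nat_lit 637) (nat_lit 0x283281285285282280280) (nat_lit 0x1881c6d771f659756495764) (.w (nat_lit 30) .nil))))))),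
  .der (nat_lit 0x2de3e08a534f44b10d40378410e) (nat_lit 0) (.m (nat_lit 692) (nat_lit 0) (nat_lit 0x75d5df71a59859491c) (.m (nat_lit 693) (nat_lit 0x27027326e27226e271271) (nat_lit 0) .nil)),
  .der (nat_lit 0) (nat_lit 0x1af2b7) .nil,
  .der (nat_lit 0) (nat_lit 0x2b61ab1ad) .nil,
  .der (nat_lit 0) (nat_lit 0x2bb2bb2b82ba2b8) .nil,
  .der (nat_lit 0) (nat_lit 0) (.w (nat_lit 30) (.m (nat_lit 687) (nat_lit 0x26e27126f27227226e) (nat_lit 0x1b85996169c6d769251a993) (.w (nat_lit 30) (.m (nat_lit 679) (nat_lit 0x17e17d17f17c17c) (nat_lit 0x71b6db5a171861c49a697) (.w (nat_lit 30) (.m (nat_lit 693) (nat_lit 0x26e27327026f273271) (nat_lit 0x1786559d5da8dc617512623) (.w (nat_lit 30) .nil))))))),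
  .der (nat_lit 0) (nat_lit 0) (.w (nat_lit 30) (.m (nat_lit 687) (nat_lit 0x26e27127326f26f273) (nat_lit 0x186d96a659c6d76d649b5dd) (.w (nat_lit 30) (.m (nat_lit 669) (nat_lit 0x17c17c18118118117f) (nat_lit 0x95895d7597d861b49251d) (.w (nat_lit 30) (.m (nat_lit 608) (nat_lit 0x13913413b13813513913a) (nat_lit 0x1b7dd8e565965a5925d3) (.w (nat_lit 30) .nil))))))),
  .der (nat_lit 0xd84e82234e2cb0850c80e2283) (nat_lit 0) (.m (nat_lit 704) (nat_lit 0) (nat_lit 0) (.m (nat_lit 670) (nat_lit 0x1a41a31a01a41a0) (nat_lit 0x6986d87e6722656495693) .nil)),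
  .der (nat_lit 0) (nat_lit 0) (.m (nat_lit 707) (nat_lit 0) (nat_lit 0x29f78a8cf3263ca0820843903d1) (.m (nat_lit 702) (nat_lit 0) (nat_lit 0) .nil)),
  .der (nat_lit 0) (nat_lit 0) (.m (nat_lit 707) (nat_lit 0) (nat_lit 0x2cc7e33d094e38d0c42c23891d1) (.m (nat_lit 690) (nat_lit 0) (nat_lit 0) .nil)),
  .der (nat_lit 0) (nat_lit 0) (.m (nat_lit 707) (nat_lit 0) (nat_lit 0) (.m (nat_lit 433) (nat_lit 0) (nat_lit 0) .nil)),
  .der (nat_lit 0) (nat_lit 0) (.m (nat_lit 707) (nat_lit 0) (nat_lit 0x32032188e38a30e08b0891e33c2) (.m (nat_lit 599) (nat_lit 0) (nat_lit 0) .nil)),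
  .der (nat_lit 0) (nat_lit 0) (.m (nat_lit 707) (nat_lit 0) (nat_lit 0x31e80a98f3cd40e08f10238538c) (.m (nat_lit 687) (nat_lit 0) (nat_lit 0) .nil)),
  .der (nat_lit 0) (nat_lit 0) (.m (nat_lit 707) (nat_lit 0) (nat_lit 0x31f86629184f40a0ca0ce2c7446) (.m (nat_lit 619) (nat_lit 0) (nat_lit 0) .nil)),
  .der (nat_lit 0) (nat_lit 0) (.m (nat_lit 707) (nat_lit 0) (nat_lit 0x2e04653cc44d98a10a08b80f186) (.m (nat_lit 636) (nat_lit 0) (nat_lit 0) .nil)),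
  .der (nat_lit 0) (nat_lit 0) (.m (nat_lit 707) (nat_lit 0) (nat_lit 0x3613e134d80d0852cd38e443) (.m (nat_lit 658) (nat_lit 0) (nat_lit 0) .nil)),
  .der (nat_lit 0) (nat_lit 0) (.m (nat_lit 707) (nat_lit 0) (nat_lit 0x28a38c78c38c84c08714c46419e) (.m (nat_lit 684) (nat_lit 0) (nat_lit 0) .nil)),
  .der (nat_lit 0) (nat_lit 0) (.m (nat_lit 707) (nat_lit 0) (nat_lit 0x2330e94d98a7cc1040c78e7907) (.m (nat_lit 678) (nat_lit 0) (nat_lit 0) .nil)),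
  .der (nat_lit 0) (nat_lit 0) (.m (nat_lit 707) (nat_lit 0) (nat_lit 0x31f7a298e80e2852853c31a5082) (.m (nat_lit 683) (nat_lit 0) (nat_lit 0) .nil)),
  .der (nat_lit 0) (nat_lit 0) (.m (nat_lit 707) (nat_lit 0) (nat_lit 0x2e53de40e46528c0e6308142288) (.m (nat_lit 693) (nat_lit 0) (nat_lit 0) .nil)),
  .der (nat_lit 0) (nat_lit 0) (.m (nat_lit 707) (nat_lit 0) (nat_lit 0x2cb80e41e4669448261cc88a) (.m (nat_lit 677) (nat_lit 0) (nat_lit 0) .nil)),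
  .der (nat_lit 0) (nat_lit 0) (.m (nat_lit 707) (nat_lit 0) (nat_lit 0xb3d02a088e8113852c48861640c4) (.m (nat_lit 674) (nat_lit 0) (nat_lit 0) .nil)),
  .der (nat_lit 0) (nat_lit 0) (.m (nat_lit 707) (nat_lit 0) (nat_lit 0x84e40d3617cb3043111a13c7) (.m (nat_lit 680) (nat_lit 0) (nat_lit 0) .nil)),
  .der (nat_lit 0) (nat_lit 0) (.m (nat_lit 703) (nat_lit 0) (nat_lit 0) (.m (nat_lit 706) (nat_lit 0) (nat_lit 0x29f78a8cf3263ca0820843903d1) .nil)),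
  .der (nat_lit 0) (nat_lit 0) (.m (nat_lit 691) (nat_lit 0) (nat_lit 0) (.m (nat_lit 706) (nat_lit 0) (nat_lit 0x2cc7e33d094e38d0c42c23891d1) .nil)),
  .der (nat_lit 0) (nat_lit 0) (.m (nat_lit 432) (nat_lit 0) (nat_lit 0) (.m (nat_lit 706) (nat_lit 0) (nat_lit 0) .nil)),
  .der (nat_lit 0) (nat_lit 0) (.m (nat_lit 598) (nat_lit 0) (nat_lit 0) (.m (nat_lit 706) (nat_lit 0) (nat_lit 0x32032188e38a30e08b0891e33c2) .nil)),
  .der (nat_lit 0) (nat_lit 0) (.m (nat_lit 686) (nat_lit 0) (nat_lit 0) (.m (nat_lit 706) (nat_lit 0) (nat_lit 0x31e80a98f3cd40e08f10238538c) .nil)),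
  .der (nat_lit 0) (nat_lit 0) (.m (nat_lit 618) (nat_lit 0) (nat_lit 0) (.m (nat_lit 706) (nat_lit 0) (nat_lit 0x31f86629184f40a0ca0ce2c7446) .nil)),
  .der (nat_lit 0) (nat_lit 0) (.m (nat_lit 637) (nat_lit 0) (nat_lit 0) (.m (nat_lit 706) (nat_lit 0) (nat_lit 0x2e04653cc44d98a10a08b80f186) .nil)),
  .der (nat_lit 0) (nat_lit 0) (.m (nat_lit 659) (nat_lit 0) (nat_lit 0) (.m (nat_lit 706) (nat_lit 0) (nat_lit 0x3613e134d80d0852cd38e443) .nil)),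
  .der (nat_lit 0) (nat_lit 0) (.m (nat_lit 685) (nat_lit 0) (nat_lit 0) (.m (nat_lit 706) (nat_lit 0) (nat_lit 0x28a38c78c38c84c08714c46419e) .nil)),
  .der (nat_lit 0) (nat_lit 0) (.m (nat_lit 679) (nat_lit 0) (nat_lit 0) (.m (nat_lit 706) (nat_lit 0) (nat_lit 0x2330e94d98a7cc1040c78e7907) .nil)),
  .der (nat_lit 0) (nat_lit 0) (.m (nat_lit 682) (nat_lit 0) (nat_lit 0) (.m (nat_lit 706) (nat_lit 0) (nat_lit 0x31f7a298e80e2852853c31a5082) .nil)),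
  .der (nat_lit 0) (nat_lit 0) (.m (nat_lit 692) (nat_lit 0) (nat_lit 0) (.m (nat_lit 706) (nat_lit 0) (nat_lit 0x2e53de40e46528c0e6308142288) .nil)),
  .der (nat_lit 0) (nat_lit 0) (.m (nat_lit 676) (nat_lit 0) (nat_lit 0) (.m (nat_lit 706) (nat_lit 0) (nat_lit 0x2cb80e41e4669448261cc88a) .nil)),
  .der (nat_lit 0) (nat_lit 0) (.m (nat_lit 675) (nat_lit 0) (nat_lit 0) (.m (nat_lit 706) (nat_lit 0) (nat_lit 0xb3d02a088e8113852c48861640c4) .nil)),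
  .der (nat_lit 0) (nat_lit 0) (.m (nat_lit 681) (nat_lit 0) (nat_lit 0) (.m (nat_lit 706) (nat_lit 0) (nat_lit 0x84e40d3617cb3043111a13c7) .nil)),
  .der (nat_lit 0) (nat_lit 0) (.m (nat_lit 689) (nat_lit 0) (nat_lit 0) (.m (nat_lit 706) (nat_lit 0) (nat_lit 0x31f82598f84d7ca1093849463c4) .nil)),
  .der (nat_lit 0) (nat_lit 0) (.w (nat_lit 30) (.m (nat_lit 762) (nat_lit 0) (nat_lit 0x6577e559d69c72549a813) (.w (nat_lit 30) (.m (nat_lit 608) (nat_lit 0x13513b135) (nat_lit 0x198e66d965771859269a652) (.w (nat_lit 30) (.m (nat_lit 605) (nat_lit 0x1a11a51a11a21a41a4) (nat_lit 0x1b61f8e559b6d76144a0) (.w (nat_lit 30) .nil))))))),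
  .der (nat_lit 0) (nat_lit 0) (.w (nat_lit 30) (.m (nat_lit 771) (nat_lit 0x1ef1d41f01d41f11d5) (nat_lit 0x176df75672585a817494857) (.w (nat_lit 30) (.m (nat_lit 651) (nat_lit 0x17c17c17e17c18017f17d) (nat_lit 0x1665a5989566d895b5936d3) (.w (nat_lit 30) (.m (nat_lit 608) (nat_lit 0x13813413a139134138) (nat_lit 0x1b5d95966189587564db4e1) (.w (nat_lit 30) .nil)))))))]
theorem hd330 : CX.chkL dv330 (nat_lit 330) = true := by decide +kernel
def dv387 : List Dv := [.der (nat_lit 0) (nat_lit 0) (.w (nat_lit 30) (.m (nat_lit 771) (nat_lit 0x1ef1f11ef1f11d51f11ef) (nat_lit 0x6666dd65d95889b5a4617) (.w (nat_lit 30) (.m (nat_lit 746) (nat_lit 0x17e17c17c18017c17c) (nat_lit 0x1a85a71a85975875649471c) (.w (nat_lit 30) (.m (nat_lit 649) (nat_lit 0x13a13a13913913a13913a) (nat_lit 0x6d959a6989596574925d3) (.w (nat_lit 30) .nil))))))),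
  .der (nat_lit 0) (nat_lit 0) (.w (nat_lit 30) (.m (nat_lit 771) (nat_lit 0x1d51f01f01d41ee1ee1f11d5) (nat_lit 0x1d616899660593664) (.w (nat_lit 30) (.m (nat_lit 611) (nat_lit 0x17c18018017f181) (nat_lit 0x176226d785c9575d25666d3) (.w (nat_lit 30) (.m (nat_lit 752) (nat_lit 0x2002001fe1fe) (nat_lit 0x1a69d59c66559a5985926d7) (.w (nat_lit 30) .nil))))))),
  .der (nat_lit 0) (nat_lit 0) (.w (nat_lit 30) (.m (nat_lit 771) (nat_lit 0x1f11d41ef1d41f0) (nat_lit 0x5a56a15a29dd65a5926df) (.w (nat_lit 30) (.m (nat_lit 648) (nat_lit 0x17c17c18117d17e) (nat_lit 0x59a8e665d5a57d85d255d592) (.w (nat_lit 30) (.m (nat_lit 722) (nat_lit 0x13413413813a13913913513a) (nat_lit 0x2181b6598d966549a712) (.w (nat_lit 30) .nil))))))),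
  .der (nat_lit 0) (nat_lit 0) (.w (nat_lit 30) (.m (nat_lit 774) (nat_lit 0x1ef1d41f01d51f01ee1f0) (nat_lit 0x1885c6e161f716756913558) (.w (nat_lit 30) (.m (nat_lit 648) (nat_lit 0x17d18117c17c18117e) (nat_lit 0x65695769895a6994954dc) (.w (nat_lit 30) (.m (nat_lit 716) (nat_lit 0x13813a13913b138138134) (nat_lit 0x1b65685b61c61f612556596) (.w (nat_lit 30) .nil))))))),
  .der (nat_lit 0) (nat_lit 0) (.w (nat_lit 30) (.m (nat_lit 604) (nat_lit 0x1ee1d41f11ee1f1) (nat_lit 0x6a37187d86d795c59249b592) (.w (nat_lit 30) (.m (nat_lit 609) (nat_lit 0x1a01a01a41a21a51a01a31a0) (nat_lit 0x72671a99665c69649b8d3) (.w (nat_lit 30) (.m (nat_lit 718) (nat_lit 0x139134134138138134) (nat_lit 0x1959b7567595dd61851c717) (.w (nat_lit 30) .nil))))))),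
  .der (nat_lit 0) (nat_lit 0) (.w (nat_lit 30) (.m (nat_lit 780) (nat_lit 0x1ee1d41f01ef1f0) (nat_lit 0x1869f697959997492615) (.w (nat_lit 30) (.m (nat_lit 614) (nat_lit 0x17e18017e18117d) (nat_lit 0x1a6568175df7668125d7) (.w (nat_lit 30) (.m (nat_lit 628) (nat_lit 0x14f15614f15415715414e) (nat_lit 0x99b75975669d8d6498) (.w (nat_lit 30) .nil))))))),
  .der (nat_lit 0) (nat_lit 0) (.w (nat_lit 30) (.m (nat_lit 771) (nat_lit 0x1f11d51ef1f01f0) (nat_lit 0x5986a071959a61f592595) (.w (nat_lit 30) (.m (nat_lit 666) (nat_lit 0x17f17f18117d181) (nat_lit 0x176dd6186dc65b494958) (.w (nat_lit 30) (.m (nat_lit 657) (nat_lit 0x18017e18117c17e) (nat_lit 0x6996d789971659a5964947e4) (.w (nat_lit 30) .nil))))))),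
  .der (nat_lit 0) (nat_lit 0) (.w (nat_lit 30) (.m (nat_lit 774) (nat_lit 0x1d41ef1ef1d5) (nat_lit 0x6265db85871a8564db4db) (.w (nat_lit 30) (.m (nat_lit 653) (nat_lit 0x17f18018018017f) (nat_lit 0x69c86676661c616494693) (.w (nat_lit 30) (.m (nat_lit 652) (nat_lit 0x1ff2002001fd201) (nat_lit 0x1a65965c8da75a7164954dc) (.w (nat_lit 30) .nil))))))),
  .der (nat_lit 0) (nat_lit 0) (.w (nat_lit 30) (.m (nat_lit 771) (nat_lit 0x1ee1d51ef1f01d41f01f0) (nat_lit 0x166d96596596616125178d3) (.w (nat_lit 30) (.m (nat_lit 666) (nat_lit 0x17c17c18017e17d17f180) (nat_lit 0x1b71f61c99c95f4947e1) (.w (nat_lit 30) (.m (nat_lit 617) (nat_lit 0x17c17e17c18017f18117e) (nat_lit 0x6657576d6821698712559656) (.w (nat_lit 30) .nil))))))),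
  .der (nat_lit 0) (nat_lit 0) (.w (nat_lit 30) (.m (nat_lit 317) (nat_lit 0) (nat_lit 0x61f5d75e269c6575d4497) (.w (nat_lit 30) (.m (nat_lit 472) (nat_lit 0x3d03e04003e03c03f) (nat_lit 0x1659f8e26e35d85d75128e2) (.w (nat_lit 30) (.m (nat_lit 610) (nat_lit 0x1fc1fe2011fe1fc) (nat_lit 0x1b75b6e66168596964db4d9) (.w (nat_lit 30) .nil))))))),
  .der (nat_lit 0) (nat_lit 0) (.w (nat_lit 30) (.m (nat_lit 610) (nat_lit 0x2001fe1fe2011ff) (nat_lit 0x59c8606596616994926d8) (.w (nat_lit 30) (.m (nat_lit 614) (nat_lit 0x18117e17d180) (nat_lit 0x6dd75669789c660592556) (.w (nat_lit 30) (.m (nat_lit 748) (nat_lit 0x15415414e14e15715415614f) (nat_lit 0x1b59a6a67579615926df) (.w (nat_lit 30) .nil))))))),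
  .der (nat_lit 0) (nat_lit 0) (.w (nat_lit 30) (.m (nat_lit 610) (nat_lit 0x1fd1fd2011fc201) (nat_lit 0x185db6d789999c6d74d7612) (.w (nat_lit 30) (.m (nat_lit 673) (nat_lit 0x17f18018017e) (nat_lit 0x1869c6266a765b6d2498) (.w (nat_lit 30) (.m (nat_lit 606) (nat_lit 0x1f61eb1f61f81eb) (nat_lit 0x1d5e16d669981a61251d552) (.w (nat_lit 30) .nil))))))),
  .der (nat_lit 0x1e34e29130e38b14b18d20f846) (nat_lit 0) (.m (nat_lit 796) (nat_lit 0) (nat_lit 0) (.m (nat_lit 607) (nat_lit 0x1a01a01a51a51a11a31a5) (nat_lit 0x1999889b59975d8d94a055b) .nil)),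
  .der (nat_lit 0) (nat_lit 0) (.m (nat_lit 798) (nat_lit 0) (nat_lit 0xb98f79f34f84d3432c31e510b143) (.m (nat_lit 791) (nat_lit 0) (nat_lit 0) .nil)),
  .der (nat_lit 0) (nat_lit 0) (.m (nat_lit 798) (nat_lit 0) (nat_lit 0x2de41e8912cc38e10734e34494a) (.m (nat_lit 740) (nat_lit 0) (nat_lit 0) .nil)),
  .der (nat_lit 0) (nat_lit 0) (.m (nat_lit 798) (nat_lit 0) (nat_lit 0x2cb44e45e7ca28d0e19880a13c4) (.m (nat_lit 672) (nat_lit 0) (nat_lit 0) .nil)),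
  .der (nat_lit 0) (nat_lit 0) (.m (nat_lit 798) (nat_lit 0) (nat_lit 0x28d40b39188e0824492c90d0) (.m (nat_lit 612) (nat_lit 0) (nat_lit 0) .nil)),
  .der (nat_lit 0) (nat_lit 0) (.m (nat_lit 798) (nat_lit 0) (nat_lit 0xb44f98f8268512852cd089946) (.m (nat_lit 616) (nat_lit 0) (nat_lit 0) .nil)),
  .der (nat_lit 0) (nat_lit 0) (.m (nat_lit 798) (nat_lit 0) (nat_lit 0) (.m (nat_lit 483) (nat_lit 0) (nat_lit 0) .nil)),
  .der (nat_lit 0) (nat_lit 0) (.m (nat_lit 790) (nat_lit 0) (nat_lit 0) (.m (nat_lit 799) (nat_lit 0) (nat_lit 0xb98f79f34f84d3432c31e510b143) .nil)),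
  .der (nat_lit 0) (nat_lit 0) (.m (nat_lit 710) (nat_lit 0) (nat_lit 0) (.m (nat_lit 799) (nat_lit 0) (nat_lit 0x2de41e8912cc38e10734e34494a) .nil)),
  .der (nat_lit 0) (nat_lit 0) (.m (nat_lit 673) (nat_lit 0) (nat_lit 0) (.m (nat_lit 799) (nat_lit 0) (nat_lit 0x2cb44e45e7ca28d0e19880a13c4) .nil)),
  .der (nat_lit 0) (nat_lit 0) (.m (nat_lit 613) (nat_lit 0) (nat_lit 0) (.m (nat_lit 799) (nat_lit 0) (nat_lit 0x28d40b39188e0824492c90d0) .nil)),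
  .der (nat_lit 0) (nat_lit 0) (.m (nat_lit 617) (nat_lit 0) (nat_lit 0) (.m (nat_lit 799) (nat_lit 0) (nat_lit 0xb44f98f8268512852cd089946) .nil)),
  .der (nat_lit 0) (nat_lit 0) (.m (nat_lit 607) (nat_lit 0) (nat_lit 0) (.m (nat_lit 799) (nat_lit 0) (nat_lit 0x107903e328e94c0e7247791102) .nil)),
  .der (nat_lit 0) (nat_lit 0) (.m (nat_lit 482) (nat_lit 0) (nat_lit 0) (.m (nat_lit 799) (nat_lit 0) (nat_lit 0) .nil)),
  .der (nat_lit 0) (nat_lit 0) (.w (nat_lit 30) (.m (nat_lit 655) (nat_lit 0x1fd1fe2011fd1fe) (nat_lit 0x2065f6966a35994946e3) (.w (nat_lit 30) (.m (nat_lit 666) (nat_lit 0x17c17c17e18017e17e17d) (nat_lit 0x1a69a89d5da69a657918553) (.w (nat_lit 30) (.m (nat_lit 648) (nat_lit 0x17c17c18017c18018017d) (nat_lit 0x185dc8d861f59d5d2518) (.w (nat_lit 30) .nil))))))),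
  .der (nat_lit 0) (nat_lit 0) (.w (nat_lit 30) (.m (nat_lit 796) (nat_lit 0x1fd1fe1fe1fd) (nat_lit 0x71a5d861c6d769c49a5a7) (.w (nat_lit 30) (.m (nat_lit 665) (nat_lit 0x1a11a21a41a41a31a01a5) (nat_lit 0x61b5d765f6578165924976d2) (.w (nat_lit 30) (.m (nat_lit 648) (nat_lit 0x18018017f17d18117f) (nat_lit 0x59671c7dc59969c59649a757) (.w (nat_lit 30) .nil))))))),
  .der (nat_lit 0) (nat_lit 0) (.w (nat_lit 30) (.m (nat_lit 752) (nat_lit 0x1fd2001fc1ff200200) (nat_lit 0x59665d69f69c5d9592626712) (.w (nat_lit 30) (.m (nat_lit 724) (nat_lit 0x13813413813a139134) (nat_lit 0x1a5d765c61a696696495765) (.w (nat_lit 30) (.m (nat_lit 648) (nat_lit 0x17c17c17e17e18117e) (nat_lit 0x2669871969d5dd612699713) (.w (nat_lit 30) .nil))))))),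
  .der (nat_lit 0) (nat_lit 0) (.w (nat_lit 30) (.m (nat_lit 722) (nat_lit 0) (nat_lit 0x1975b8255dc6a3656495759) (.w (nat_lit 30) (.m (nat_lit 826) (nat_lit 0x1fc1ff1fc1ff2011ff2011fe) (nat_lit 0x1b65c5a095699d596494956) (.w (nat_lit 30) (.m (nat_lit 716) (nat_lit 0x13a13913a13913413b138) (nat_lit 0x66165969f5da69c6d691665b) (.w (nat_lit 30) .nil))))))),
  .der (nat_lit 0) (nat_lit 0) (.w (nat_lit 30) (.m (nat_lit 655) (nat_lit 0x1fe1fe1fd1fe1fc1ff) (nat_lit 0x85b7606267175d849a7dc) (.w (nat_lit 30) (.m (nat_lit 746) (nat_lit 0x17c17c18017c17c18117c17e) (nat_lit 0x1a69d6d995965b65749569a) (.w (nat_lit 30) (.m (nat_lit 649) (nat_lit 0x13913913413813a13913a134) (nat_lit 0x1a76659b7d659a49655f) (.w (nat_lit 30) .nil))))))),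
  .der (nat_lit 0) (nat_lit 0) (.w (nat_lit 30) (.m (nat_lit 754) (nat_lit 0) (nat_lit 0x185e669a71a85a7d64945a1) (.w (nat_lit 30) (.m (nat_lit 714) (nat_lit 0x13b13813813413a139) (nat_lit 0x59d59c61c7187d9494623) (.w (nat_lit 30) (.m (nat_lit 826) (nat_lit 0x1fd1fe2002001ff200) (nat_lit 0x1b65d8166a165a85749b499) (.w (nat_lit 30) .nil))))))),
  .der (nat_lit 0) (nat_lit 0) (.w (nat_lit 30) (.m (nat_lit 796) (nat_lit 0x1fd2011fe200200) (nat_lit 0x1676575f5995db6d6494621) (.w (nat_lit 30) (.m (nat_lit 822) (nat_lit 0x1a41a41a01a41a31a41a2) (nat_lit 0x61a95875985a7576525125d2) (.w (nat_lit 30) (.m (nat_lit 830) (nat_lit 0x1fc1ff1fd1fd2001fc200) (nat_lit 0x6996596999d75df49269c) (.w (nat_lit 30) .nil))))))),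
  .der (nat_lit 0) (nat_lit 0) (.w (nat_lit 30) (.m (nat_lit 752) (nat_lit 0x1fd1fd1fe1fd2001ff) (nat_lit 0x186a659a71f6db5d24976d2) (.w (nat_lit 30) (.m (nat_lit 732) (nat_lit 0x139134134139134139134139) (nat_lit 0x188e55d76277dc51d) (.w (nat_lit 30) (.m (nat_lit 754) (nat_lit 0x17c17c17e18017c18117c17c) (nat_lit 0x1776059a59959b59c51c616) (.w (nat_lit 30) .nil))))))),
  .der (nat_lit 0) (nat_lit 0) (.w (nat_lit 30) (.m (nat_lit 752) (nat_lit 0x1fc1fe1fd1fe2001fe) (nat_lit 0x6d88165a359c7db494592) (.w (nat_lit 30) (.m (nat_lit 795) (nat_lit 0x13813813513813a139134) (nat_lit 0x6a09596db7606e2494892) (.w (nat_lit 30) (.m (nat_lit 655) (nat_lit 0x1fe1fd2011fd1fd1ff) (nat_lit 0x61889795765f812517514) (.w (nat_lit 30) .nil))))))),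
  .der (nat_lit 0) (nat_lit 0) (.w (nat_lit 30) (.m (nat_lit 826) (nat_lit 0x2001fc1ff2011fe200200) (nat_lit 0x6d761765975999c4947e3) (.w (nat_lit 30) (.m (nat_lit 724) (nat_lit 0x13913a13913413913413b138) (nat_lit 0x1671861f59c6a6594) (.w (nat_lit 30) (.m (nat_lit 653) (nat_lit 0x17c17e17d17f17c17c) (nat_lit 0x8175e062789d5a4614594) (.w (nat_lit 30) .nil))))))),
  .der (nat_lit 0) (nat_lit 0) (.w (nat_lit 30) (.m (nat_lit 826) (nat_lit 0x1fd2011fe2001fe200) (nat_lit 0x1f5d995771a69d49a5a4) (.w (nat_lit 30) (.m (nat_lit 827) (nat_lit 0x13813813513813a139139135) (nat_lit 0x167606d699a8596d7495552) (.w (nat_lit 30) (.m (nat_lit 808) (nat_lit 0x1fc2011fe2001ff) (nat_lit 0x66065d9989dc7da653659) (.w (nat_lit 30) .nil))))))),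
  .der (nat_lit 0) (nat_lit 0) (.w (nat_lit 30) (.m (nat_lit 830) (nat_lit 0x1ff2002001ff1fc201) (nat_lit 0x6998db818622818492696) (.w (nat_lit 30) (.m (nat_lit 827) (nat_lit 0x13813413413913513813b138) (nat_lit 0x616666759897956495718) (.w (nat_lit 30) (.m (nat_lit 826) (nat_lit 0x1fd1fe1fd1fd1ff1fd200) (nat_lit 0x7dc6606599a359649b5d9) (.w (nat_lit 30) .nil)))))))]
theorem hd387 : CX.chkL dv387 (nat_lit 387) = true := by decide +kernel
def dv425 : List Dv := [.der (nat_lit 0) (nat_lit 0) (.w (nat_lit 30) (.m (nat_lit 830) (nat_lit 0x1fe2001fc1fe2001ff) (nat_lit 0x169979665dc7dc49559a) (.w (nat_lit 30) (.m (nat_lit 795) (nat_lit 0x13813413813413913913b135) (nat_lit 0x5a159d65c59f75f4944db) (.w (nat_lit 30) (.m (nat_lit 744) (nat_lit 0x2011fc1ff2001fe) (nat_lit 0x1766675b6d9756896592492692) (.w (nat_lit 30) .nil))))))),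
  .der (nat_lit 0) (nat_lit 0) (.w (nat_lit 30) (.m (nat_lit 653) (nat_lit 0) (nat_lit 0x1a6577205d75d87d7494519) (.w (nat_lit 30) (.m (nat_lit 826) (nat_lit 0x1fe2001fc2001fd1fe201) (nat_lit 0x1871c61c61876265649b7d6) (.w (nat_lit 30) (.m (nat_lit 649) (nat_lit 0x13813813513813b13813b13813813a) (nat_lit 0x176608a65db5a2494598) (.w (nat_lit 30) .nil))))))),
  .der (nat_lit 0) (nat_lit 0) (.w (nat_lit 30) (.m (nat_lit 652) (nat_lit 0x1ff1fd2001fe2002001fe) (nat_lit 0x1985c61a6576999974a0) (.w (nat_lit 30) (.m (nat_lit 611) (nat_lit 0x17c18017d18117d) (nat_lit 0x1859871965775b954916) (.w (nat_lit 30) (.m (nat_lit 850) (nat_lit 0x1fe1fc1fe1fe) (nat_lit 0x1f5dc71f6987135a4) (.w (nat_lit 30) .nil))))))),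
  .der (nat_lit 0) (nat_lit 0) (.w (nat_lit 30) (.m (nat_lit 652) (nat_lit 0x2011fe2001ff201) (nat_lit 0x176db6db61b6df61651c717) (.w (nat_lit 30) (.m (nat_lit 648) (nat_lit 0x17c17c17f17c18117c17c) (nat_lit 0x7da7187587176d6496562) (.w (nat_lit 30) (.m (nat_lit 656) (nat_lit 0x13913a13913413a) (nat_lit 0x206db7d761d5d9652697) (.w (nat_lit 30) .nil))))))),
  .der (nat_lit 0) (nat_lit 0) (.w (nat_lit 30) (.m (nat_lit 655) (nat_lit 0x1fc1fe2001ff2011fe) (nat_lit 0x197176595e15db59249d6d6) (.w (nat_lit 30) (.m (nat_lit 653) (nat_lit 0x17d17e18117e17c) (nat_lit 0x61b61d856626616596494757) (.w (nat_lit 30) (.m (nat_lit 848) (nat_lit 0x1fd2011fe2011fd1ff) (nat_lit 0x5df6a669a6a36256564925dc) (.w (nat_lit 30) .nil))))))),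
  .der (nat_lit 0) (nat_lit 0) (.w (nat_lit 30) (.m (nat_lit 834) (nat_lit 0x1fc2011fc2002001ff) (nat_lit 0x6596dd66265d75b494526) (.w (nat_lit 30) (.m (nat_lit 648) (nat_lit 0x17d17e18117d17f180) (nat_lit 0x166d685d75f8215964964d6) (.w (nat_lit 30) (.m (nat_lit 716) (nat_lit 0x138134138138135139139134139) (nat_lit 0x95d61a69c717852626712) (.w (nat_lit 30) .nil))))))),
  .der (nat_lit 0) (nat_lit 0) (.w (nat_lit 30) (.m (nat_lit 600) (nat_lit 0x2001fe1fe201) (nat_lit 0x7566656596e3752519) (.w (nat_lit 30) (.m (nat_lit 600) (nat_lit 0x1fe1fc1fc2011fd1ff201) (nat_lit 0x5a05df9576dd5d2821492) (.w (nat_lit 30) (.m (nat_lit 610) (nat_lit 0x1ff2011fd2011fc1fe) (nat_lit 0x59b75971b8db612499696) (.w (nat_lit 30) .nil))))))),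
  .der (nat_lit 0) (nat_lit 0) (.w (nat_lit 30) (.m (nat_lit 610) (nat_lit 0x1fc1fc2002001fe2011ff) (nat_lit 0x6966a57606d77e0494654) (.w (nat_lit 30) (.m (nat_lit 657) (nat_lit 0x17c18017f17f17c18017c) (nat_lit 0x1b71661b5d769d6d849461a) (.w (nat_lit 30) (.m (nat_lit 708) (nat_lit 0x13813813813a) (nat_lit 0x1675d65d6576166db512) (.w (nat_lit 30) .nil))))))),
  .der (nat_lit 0) (nat_lit 0) (.w (nat_lit 30) (.m (nat_lit 794) (nat_lit 0x1fc1fc2001fc2011fc201) (nat_lit 0x65a71c8e6696616495553) (.w (nat_lit 30) (.m (nat_lit 646) (nat_lit 0x13b13813813a) (nat_lit 0x2062565f66085a7525666d3) (.w (nat_lit 30) (.m (nat_lit 666) (nat_lit 0x17f18117d18017f) (nat_lit 0x61a5db89c69c6185969164d5) (.w (nat_lit 30) .nil))))))),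
  .der (nat_lit 0) (nat_lit 0) (.w (nat_lit 30) (.m (nat_lit 794) (nat_lit 0x1ff2002001fe1fc1fe) (nat_lit 0x6186d78dd7d66964945dd) (.w (nat_lit 30) (.m (nat_lit 827) (nat_lit 0x138134139134134138138138) (nat_lit 0x1971c6d78997d67164925d3) (.w (nat_lit 30) (.m (nat_lit 864) (nat_lit 0x1fe1fc1ff1fc2001fd1fd) (nat_lit 0x1b5dc7d89597177175125df) (.w (nat_lit 30) .nil))))))),
  .der (nat_lit 0) (nat_lit 0) (.w (nat_lit 30) (.m (nat_lit 856) (nat_lit 0x1fd2002001ff2001ff200) (nat_lit 0x1a72659669d896716496512) (.w (nat_lit 30) (.m (nat_lit 833) (nat_lit 0x17e17c17e18017c) (nat_lit 0x1f8e671a9da756494718) (.w (nat_lit 30) (.m (nat_lit 728) (nat_lit 0x13913913413813813b) (nat_lit 0x1859a69a65d5987d95944a6) (.w (nat_lit 30) .nil))))))),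
  .der (nat_lit 0) (nat_lit 0) (.w (nat_lit 30) (.m (nat_lit 862) (nat_lit 0x1fe2001fe1fe1fd1fd1ff) (nat_lit 0x6d989b75d9db666512822) (.w (nat_lit 30) (.m (nat_lit 754) (nat_lit 0x17c17e18017e17c17f181) (nat_lit 0x61f61d6a671a65959249a713) (.w (nat_lit 30) (.m (nat_lit 795) (nat_lit 0x13a13413913a) (nat_lit 0x66195669c718696494622) (.w (nat_lit 30) .nil))))))),
  .der (nat_lit 0) (nat_lit 0) (.w (nat_lit 30) (.m (nat_lit 652) (nat_lit 0x2001fc) (nat_lit 0x61d6d872181a5d9494514) (.w (nat_lit 30) (.m (nat_lit 611) (nat_lit 0x17c18017e17c17f17d) (nat_lit 0x2071899d75669a752518812) (.w (nat_lit 30) (.m (nat_lit 864) (nat_lit 0x2011fe1fc1fe2001ff) (nat_lit 0x1c6d975f6d769f494595) (.w (nat_lit 30) .nil))))))),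
  .der (nat_lit 0) (nat_lit 0) (.w (nat_lit 30) (.m (nat_lit 837) (nat_lit 0) (nat_lit 0x185d78db7656d6716495758) (.w (nat_lit 30) (.m (nat_lit 654) (nat_lit 0x18017f18118117f) (nat_lit 0x6a18db5967da5d75e4593552) (.w (nat_lit 30) (.m (nat_lit 826) (nat_lit 0x1fd1ff2002001fd1fd1ff) (nat_lit 0x5d761b76099b7dd495714) (.w (nat_lit 30) .nil))))))),
  .der (nat_lit 0) (nat_lit 0) (.w (nat_lit 30) (.m (nat_lit 794) (nat_lit 0x1fc1ff2011fd2011ff) (nat_lit 0x69d6d97236a05986125955d3) (.w (nat_lit 30) (.m (nat_lit 827) (nat_lit 0x13413a134139) (nat_lit 0x6d861f61d8975dc5a4617752) (.w (nat_lit 30) (.m (nat_lit 864) (nat_lit 0x1fe1fc2001fc2002001fc) (nat_lit 0x1a65d6d97587da5925d2) (.w (nat_lit 30) .nil))))))),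
  .der (nat_lit 0) (nat_lit 0) (.w (nat_lit 30) (.m (nat_lit 862) (nat_lit 0x1fc1fc1ff) (nat_lit 0x6d66a265a7d9762494723) (.w (nat_lit 30) (.m (nat_lit 651) (nat_lit 0x17c17c17e17e) (nat_lit 0x1b61b6656967e05964974d7) (.w (nat_lit 30) (.m (nat_lit 827) (nat_lit 0x138138134138134139134138) (nat_lit 0x1859a5967615a069749565d) (.w (nat_lit 30) .nil))))))),
  .der (nat_lit 0) (nat_lit 0) (.w (nat_lit 30) (.m (nat_lit 770) (nat_lit 0) (nat_lit 0x1765661d65661b757495992) (.w (nat_lit 30) (.m (nat_lit 778) (nat_lit 0x1ee1d41f01d41d41f11d4) (nat_lit 0x2199b8565967174db559) (.w (nat_lit 30) (.m (nat_lit 862) (nat_lit 0x1fc2001fc201) (nat_lit 0x9597167db65a996494857) (.w (nat_lit 30) .nil))))))),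
  .der (nat_lit 0) (nat_lit 0) (.w (nat_lit 30) (.m (nat_lit 610) (nat_lit 0x1fc1fc1ff2001ff1fc201) (nat_lit 0x197666db7db61d6164925e7) (.w (nat_lit 30) (.m (nat_lit 666) (nat_lit 0x17c17f18117d17e) (nat_lit 0x6d87d87dd89d6d949a594) (.w (nat_lit 30) (.m (nat_lit 754) (nat_lit 0x17e18118117e18017d) (nat_lit 0x621959717718953599) (.w (nat_lit 30) .nil))))))),
  .der (nat_lit 0) (nat_lit 0) (.w (nat_lit 30) (.m (nat_lit 848) (nat_lit 0x1fc2011fe2011fc1ff) (nat_lit 0x5d87d875b75d59a6164987d6) (.w (nat_lit 30) (.m (nat_lit 724) (nat_lit 0x13913413b138138134134) (nat_lit 0x1a85a59662795b495598) (.w (nat_lit 30) (.m (nat_lit 857) (nat_lit 0x17e17e17e17c17f181) (nat_lit 0x1b65b6dd6177176985936d5) (.w (nat_lit 30) .nil))))))),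
  .der (nat_lit 0) (nat_lit 0) (.w (nat_lit 30) (.m (nat_lit 652) (nat_lit 0x1fe1fc2001fc2001ff) (nat_lit 0x7d765669c61a717494667) (.w (nat_lit 30) (.m (nat_lit 629) (nat_lit 0x17e17e17d17f17c) (nat_lit 0x1681b9996a0663816592696912) (.w (nat_lit 30) (.m (nat_lit 615) (nat_lit 0x15615614e15714e) (nat_lit 0x1a71b6d75dc61d818494524) (.w (nat_lit 30) .nil))))))),
  .der (nat_lit 0) (nat_lit 0) (.w (nat_lit 30) (.m (nat_lit 848) (nat_lit 0x2001fd2011fe2011fd) (nat_lit 0x167d871f69f6576d64948a5) (.w (nat_lit 30) (.m (nat_lit 795) (nat_lit 0x13413b13513813b138) (nat_lit 0x189576a359a65d7d659269a7d7) (.w (nat_lit 30) (.m (nat_lit 874) (nat_lit 0x1ff1fc1ff1fd1fd200) (nat_lit 0x185df69761a69695649461b) (.w (nat_lit 30) .nil))))))),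
  .der (nat_lit 0) (nat_lit 0) (.w (nat_lit 30) (.m (nat_lit 655) (nat_lit 0x2001fd2011fd2011fe) (nat_lit 0x5986d95dc71765649a816) (.w (nat_lit 30) (.m (nat_lit 657) (nat_lit 0x17e17c18017f17d) (nat_lit 0x5985a66df65c85b59251d492) (.w (nat_lit 30) (.m (nat_lit 722) (nat_lit 0x13913513813b13813b138) (nat_lit 0x1899a69f59d81985649569d) (.w (nat_lit 30) .nil))))))),
  .der (nat_lit 0) (nat_lit 0) (.w (nat_lit 30) (.m (nat_lit 655) (nat_lit 0x2001ff2011fd1fd) (nat_lit 0x5a06d77d79978174948a4) (.w (nat_lit 30) (.m (nat_lit 820) (nat_lit 0x17e17d17e17e17c) (nat_lit 0x62565a89d85889a49475b) (.w (nat_lit 30) (.m (nat_lit 874) (nat_lit 0x1ff2002001fe200) (nat_lit 0x6998dc61b856759592512513) (.w (nat_lit 30) .nil))))))),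
  .der (nat_lit 0) (nat_lit 0) (.w (nat_lit 30) (.m (nat_lit 752) (nat_lit 0x1fe1fd1ff2001ff1fd) (nat_lit 0x5d76db65a617696592699713) (.w (nat_lit 30) (.m (nat_lit 827) (nat_lit 0x13813413a13913413913b138) (nat_lit 0x6dc99965d5a67176d25d7) (.w (nat_lit 30) (.m (nat_lit 874) (nat_lit 0x1fe2002001fc1fe200) (nat_lit 0x195d76d97d765f71649571b) (.w (nat_lit 30) .nil))))))),
  .der (nat_lit 0) (nat_lit 0) (.w (nat_lit 30) (.m (nat_lit 610) (nat_lit 0x2002001fd2011fd1ff) (nat_lit 0x5e08db75b762697495655) (.w (nat_lit 30) (.m (nat_lit 746) (nat_lit 0x17f18118117c17f181) (nat_lit 0x1795982371859c59649a657) (.w (nat_lit 30) (.m (nat_lit 827) (nat_lit 0x13913413a13a13913a13913413a) (nat_lit 0x65b5a271c5d97625d4) (.w (nat_lit 30) .nil))))))),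
  .der (nat_lit 0) (nat_lit 0) (.w (nat_lit 30) (.m (nat_lit 600) (nat_lit 0x1fe1fc1fc2001fd2011fc) (nat_lit 0x5d985a5e56566d4756) (.w (nat_lit 30) (.m (nat_lit 834) (nat_lit 0x1fd2011fd1fe1fd200200) (nat_lit 0x85b6db99872571849285c) (.w (nat_lit 30) (.m (nat_lit 857) (nat_lit 0x17e18017e181) (nat_lit 0x1769a7dd5a265661649b5d3) (.w (nat_lit 30) .nil))))))),
  .der (nat_lit 0) (nat_lit 0) (.w (nat_lit 30) (.m (nat_lit 856) (nat_lit 0x1fc2011fe1fd2001ff) (nat_lit 0x196e161889d5dd616494893) (.w (nat_lit 30) (.m (nat_lit 746) (nat_lit 0x17c17c17e18117d180180) (nat_lit 0x5d8722999817692594912) (.w (nat_lit 30) (.m (nat_lit 855) (nat_lit 0x13813a139139134139139) (nat_lit 0x1981686671c71651c712) (.w (nat_lit 30) .nil)))))))]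
theorem hd425 : CX.chkL dv425 (nat_lit 425) = true := by decide +kernel
theorem up0 (h : CX.Upto 0) : CX.Upto 452 :=
  (((((((h.add hd0 (m := 100) rfl).add hd100 (m := 194) rfl).add hd194 (m := 270) rfl).add hd270 (m := 330) rfl).add hd330 (m := 387) rfl).add hd387 (m := 425) rfl).add hd425 (m := 452) rfl)
end H46.P1
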