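import Cfsg.Agent.H46.P1C
/-! Derivations of the facts. -/
set_option maxRecDepth 1000000
set_option Elab.async false
namespace H46.P1
open H71
def dv452 : List Dv := [.der (nat_lit 0) (nat_lit 0) (.w (nat_lit 30) (.m (nat_lit 171) (nat_lit 0) (nat_lit 0x1981b5a561895661651d594) (.w (nat_lit 30) (.m (nat_lit 472) (nat_lit 0x3c04003d04004003f03d) (nat_lit 0x1a9996966df8176a45997d3) (.w (nat_lit 30) (.m (nat_lit 794) (nat_lit 0x2001fe1fc1fc1ff200) (nat_lit 0x59689c6168da6185925d5852) (.w (nat_lit 30) .nil))))))),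
  .der (nat_lit 0) (nat_lit 0) (.w (nat_lit 30) (.m (nat_lit 614) (nat_lit 0) (nat_lit 0x617657660998495712) (.w (nat_lit 30) (.m (nat_lit 317) (nat_lit 0x155156) (nat_lit 0x188606226d6596696494652) (.w (nat_lit 30) (.m (nat_lit 472) (nat_lit 0x3c03c03f03f03d04003e) (nat_lit 0x61c62171b6d97da5d2615852) (.w (nat_lit 30) .nil))))))),
  .der (nat_lit 0) (nat_lit 0) (.w (nat_lit 30) (.m (nat_lit 793) (nat_lit 0) (nat_lit 0x71b8a159665a698492655) (.w (nat_lit 30) (.m (nat_lit 630) (nat_lit 0x15514e15414f) (nat_lit 0x1881b5d88e66968a051289b) (.w (nat_lit 30) (.m (nat_lit 390) (nat_lit 0x3f04004003e040) (nat_lit 0x72189b65b998812817) (.w (nat_lit 30) .nil))))))),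
  .der (nat_lit 0) (nat_lit 0) (.w (nat_lit 30) (.m (nat_lit 473) (nat_lit 0) (nat_lit 0x1d5db6e66e285849749a) (.w (nat_lit 30) (.m (nat_lit 472) (nat_lit 0x3e03d03e04003f03c03f041) (nat_lit 0x1869c65c71f69c956495654) (.w (nat_lit 30) (.m (nat_lit 828) (nat_lit 0x1fd1fe1fe2011fc1ff200) (nat_lit 0x1a65a6a26e15da51c616) (.w (nat_lit 30) .nil))))))),
  .der (nat_lit 0) (nat_lit 0) (.w (nat_lit 30) (.m (nat_lit 473) (nat_lit 0) (nat_lit 0x5a271f5da99a598592492614) (.w (nat_lit 30) (.m (nat_lit 578) (nat_lit 0x4103d) (nat_lit 0x99d66695689d6604a04a4) (.w (nat_lit 30) (.m (nat_lit 742) (nat_lit 0x3c03c04103c03e03d041041) (nat_lit 0x1771f61d65d6dd757496557) (.w (nat_lit 30) .nil))))))),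
  .der (nat_lit 0) (nat_lit 0) (.w (nat_lit 30) (.m (nat_lit 712) (nat_lit 0) (nat_lit 0x5d785b6d6758618492524) (.w (nat_lit 30) (.m (nat_lit 472) (nat_lit 0x3e04004003d04003c04003e) (nat_lit 0x59a72095975689a656913) (.w (nat_lit 30) (.m (nat_lit 610) (nat_lit 0x1ff2001fc2011fc1ff1fd) (nat_lit 0x6a58575d975d897916559) (.w (nat_lit 30) .nil))))))),
  .der (nat_lit 0) (nat_lit 0) (.w (nat_lit 30) (.m (nat_lit 608) (nat_lit 0) (nat_lit 0x6a169669a5a58a09134d5) (.w (nat_lit 30) (.m (nat_lit 391) (nat_lit 0x1a51a51a0) (nat_lit 0x1799959b61a81c59649a595) (.w (nat_lit 30) (.m (nat_lit 472) (nat_lit 0x3c04104103c03c03e03e) (nat_lit 0x71f8d669c95f599495598) (.w (nat_lit 30) .nil))))))),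
  .der (nat_lit 0) (nat_lit 0) (.w (nat_lit 30) (.m (nat_lit 720) (nat_lit 0) (nat_lit 0x6d86a26968d9656496) (.w (nat_lit 30) (.m (nat_lit 355) (nat_lit 0x280285281283) (nat_lit 0x6a566575d8db657498998) (.w (nat_lit 30) (.m (nat_lit 368) (nat_lit 0x3f04003c04003c040) (nat_lit 0x59665f75b8d971a6125955d3) (.w (nat_lit 30) .nil))))))),
  .der (nat_lit 0) (nat_lit 0) (.w (nat_lit 30) (.m (nat_lit 423) (nat_lit 0) (nat_lit 0x59d6575d78e06dd492656) (.w (nat_lit 30) (.m (nat_lit 472) (nat_lit 0x3f03c03c04104103d03d040) (nat_lit 0x7db6dd620857756497) (.w (nat_lit 30) (.m (nat_lit 794) (nat_lit 0x1fc2011fc2011fd200) (nat_lit 0x1875f95a6a25df5964945e5) (.w (nat_lit 30) .nil))))))),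
  .der (nat_lit 0) (nat_lit 0) (.w (nat_lit 30) (.m (nat_lit 369) (nat_lit 0) (nat_lit 0x176a061c5e36d76d949659a) (.w (nat_lit 30) (.m (nat_lit 472) (nat_lit 0x3d03d04003c03c03f041) (nat_lit 0x69c6265dd75671765649449c) (.w (nat_lit 30) (.m (nat_lit 808) (nat_lit 0x1fc1ff2011fe200) (nat_lit 0x6d77e161b5a275a5d2918692) (.w (nat_lit 30) .nil))))))),
  .der (nat_lit 0) (nat_lit 0) (.w (nat_lit 30) (.m (nat_lit 160) (nat_lit 0) (nat_lit 0x1a5d861769871a696496923) (.w (nat_lit 30) (.m (nat_lit 824) (nat_lit 0x8b08e08c08e08e08a) (nat_lit 0x6d77d995d99d660592626712) (.w (nat_lit 30) (.m (nat_lit 910) (nat_lit 0x2001fe1fd2011fc2001fd) (nat_lit 0x188586e565785869251a) (.w (nat_lit 30) .nil))))))),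
  .der (nat_lit 0) (nat_lit 0) (.w (nat_lit 30) (.m (nat_lit 289) (nat_lit 0) (nat_lit 0x69869862395a71a51265c) (.w (nat_lit 30) (.m (nat_lit 824) (nat_lit 0x8e08e08a08f08a08e08b08e) (nat_lit 0x59875695675d5da5925d5) (.w (nat_lit 30) (.m (nat_lit 744) (nat_lit 0x2001fe2001fc1fe2011ff) (nat_lit 0x65f59861f89d76351d517) (.w (nat_lit 30) .nil))))))),
  .der (nat_lit 0) (nat_lit 0) (.w (nat_lit 30) (.m (nat_lit 455) (nat_lit 0) (nat_lit 0x6dd75d81f66599a5926946d2) (.w (nat_lit 30) (.m (nat_lit 824) (nat_lit 0x8b08e08d08a08f08c08a08c) (nat_lit 0x1861a81889c7dc6d64975d7) (.w (nat_lit 30) (.m (nat_lit 884) (nat_lit 0x1fe2002001fd200) (nat_lit 0x1a7d96df65c8dc61649a593) (.w (nat_lit 30) .nil))))))),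
  .der (nat_lit 0) (nat_lit 0) (.w (nat_lit 30) (.m (nat_lit 333) (nat_lit 0) (nat_lit 0x1d89a76575b6d77125187d2) (.w (nat_lit 30) (.m (nat_lit 824) (nat_lit 0x8d08d08b08e08a08d) (nat_lit 0x187185a061f59a6574947d4) (.w (nat_lit 30) (.m (nat_lit 910) (nat_lit 0x1fe2001fd1fe2001fc1fe) (nat_lit 0x59b72169a59c71b6164987d2) (.w (nat_lit 30) .nil))))))),
  .der (nat_lit 0) (nat_lit 0) (.w (nat_lit 30) (.m (nat_lit 911) (nat_lit 0) (nat_lit 0x65659671c5dd621624593553) (.w (nat_lit 30) (.m (nat_lit 810) (nat_lit 512) (nat_lit 0x185a35a062389b5d849b61c) (.w (nat_lit 30) (.m (nat_lit 306) (nat_lit 0x8d08a08c08f08b) (nat_lit 0x217577d871b596812523892) (.w (nat_lit 30) .nil))))))),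
  .der (nat_lit 0) (nat_lit 0) (.w (nat_lit 30) (.m (nat_lit 307) (nat_lit 0) (nat_lit 0x59a6a59967216db6d2513) (.w (nat_lit 30) (.m (nat_lit 824) (nat_lit 0x8f08f08b08d08a08c08a) (nat_lit 0x69895a5e369659d4987d2) (.w (nat_lit 30) (.m (nat_lit 744) (nat_lit 0x1fd2011fd1fe) (nat_lit 0x69a89c5dd596617913) (.w (nat_lit 30) .nil))))))),
  .der (nat_lit 0) (nat_lit 0) (.w (nat_lit 30) (.m (nat_lit 269) (nat_lit 0) (nat_lit 0x197567dc6d76574926d3) (.w (nat_lit 30) (.m (nat_lit 824) (nat_lit 0x8e08e08b08b08f08c08e) (nat_lit 0x1b8565985dd6df698494958) (.w (nat_lit 30) (.m (nat_lit 844) (nat_lit 0x1fc1ff1fc200) (nat_lit 0x1b5997595a16d86969134d5) (.w (nat_lit 30) .nil))))))),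
  .der (nat_lit 0x2089032330c2838833e63c2) (nat_lit 0) (.m (nat_lit 936) (nat_lit 0) (nat_lit 0) (.m (nat_lit 810) (nat_lit 0x1ff201) (nat_lit 0x178576db6e36d97d74987d2) .nil)),
  .der (nat_lit 0) (nat_lit 0) (.m (nat_lit 268) (nat_lit 0) (nat_lit 0) (.m (nat_lit 938) (nat_lit 0) (nat_lit 0) .nil)),
  .der (nat_lit 0) (nat_lit 0) (.w (nat_lit 30) (.m (nat_lit 905) (nat_lit 0) (nat_lit 0x59965795985d656592556553) (.w (nat_lit 30) (.m (nat_lit 160) (nat_lit 0xa70a40a70a4) (nat_lit 0x1871a5d8621817713656612) (.w (nat_lit 30) (.m (nat_lit 161) (nat_lit 0x8f08a08c08c08a08e08a) (nat_lit 0x5da7e17588d8616592492614) (.w (nat_lit 30) .nil))))))),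
  .der (nat_lit 0) (nat_lit 0) (.w (nat_lit 30) (.m (nat_lit 712) (nat_lit 0) (nat_lit 0x1876669a99861a5d2694) (.w (nat_lit 30) (.m (nat_lit 170) (nat_lit 0x3e03c03e04103c) (nat_lit 0x7216996566166a04a05dc) (.w (nat_lit 30) (.m (nat_lit 904) (nat_lit 0xa50a80a40a80a80a40a9) (nat_lit 0x61d7597d765675a49b519) (.w (nat_lit 30) .nil))))))),
  .der (nat_lit 0) (nat_lit 0) (.w (nat_lit 30) (.m (nat_lit 908) (nat_lit 0) (nat_lit 0x7226987dd6668d2560) (.w (nat_lit 30) (.m (nat_lit 586) (nat_lit 0x1a41a01a2) (nat_lit 0x61b61c7e299761b494663) (.w (nat_lit 30) (.m (nat_lit 568) (nat_lit 0xa80a60a40a80a80a40a4) (nat_lit 0x1a75a71975965b5d7512817) (.w (nat_lit 30) .nil))))))),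
  .der (nat_lit 0) (nat_lit 0) (.w (nat_lit 30) (.m (nat_lit 588) (nat_lit 0) (nat_lit 0x65d8976db5e581a4a05d9) (.w (nat_lit 30) (.m (nat_lit 924) (nat_lit 0xa70a40a40a40a60a40a6) (nat_lit 0x72369a5dc957692614) (.w (nat_lit 30) (.m (nat_lit 929) (nat_lit 0x13813a13913413913a139) (nat_lit 0x5db6df65d85875d49a698) (.w (nat_lit 30) .nil))))))),
  .der (nat_lit 0) (nat_lit 0) (.w (nat_lit 30) (.m (nat_lit 925) (nat_lit 0) (nat_lit 0x6d96dd6e05969595d44e5) (.w (nat_lit 30) (.m (nat_lit 904) (nat_lit 0xa70a50a80a40a60a90a70a4) (nat_lit 0x1661c61d7e765d61649485d) (.w (nat_lit 30) (.m (nat_lit 827) (nat_lit 0x13913b13813813413413813a139) (nat_lit 0x166a56597dc6125196d2) (.w (nat_lit 30) .nil))))))),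
  .der (nat_lit 0) (nat_lit 0) (.w (nat_lit 30) (.m (nat_lit 590) (nat_lit 0) (nat_lit 0x1a7227198195965964954d6) (.w (nat_lit 30) (.m (nat_lit 904) (nat_lit 0xa60a50a70a40a40a60a80a5) (nat_lit 0x7585985e37d9659495659) (.w (nat_lit 30) (.m (nat_lit 732) (nat_lit 0x13813813513a13a139134138) (nat_lit 0x59a85c71675d6e3494693) (.w (nat_lit 30) .nil))))))),
  .der (nat_lit 0) (nat_lit 0) (.w (nat_lit 30) (.m (nat_lit 905) (nat_lit 0) (nat_lit 0x59859965c6d78db6164a05e6) (.w (nat_lit 30) (.m (nat_lit 904) (nat_lit 0xa40a40a70a80a80a80a50a6) (nat_lit 0x1b6d67165995d75d85926d4) (.w (nat_lit 30) (.m (nat_lit 649) (nat_lit 0x13a13913413913913a139) (nat_lit 0x6566255a575869959255d653) (.w (nat_lit 30) .nil))))))),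
  .der (nat_lit 0) (nat_lit 0) (.w (nat_lit 30) (.m (nat_lit 584) (nat_lit 0) (nat_lit 0x1d76065d9986d2813) (.w (nat_lit 30) (.m (nat_lit 924) (nat_lit 0xa50a70a90a90a90a40a6) (nat_lit 0x1871869d61b656896492761) (.w (nat_lit 30) (.m (nat_lit 768) (nat_lit 0x138134134138138138) (nat_lit 0x185a29567e06595d2527) (.w (nat_lit 30) .nil))))))),
  .der (nat_lit 0) (nat_lit 0) (.w (nat_lit 30) (.m (nat_lit 568) (nat_lit 0xa50a90a70a50a90a70a5) (nat_lit 0x1a89c6e5620718698592499592) (.w (nat_lit 30) (.m (nat_lit 816) (nat_lit 0x17e18017f17c) (nat_lit 0x176967178276db5d3659557) (.w (nat_lit 30) (.m (nat_lit 864) (nat_lit 0x2001ff2001fe1fd) (nat_lit 0x196d959b7276e349a6a6) (.w (nat_lit 30) .nil))))))),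
  .der (nat_lit 0) (nat_lit 0) (.w (nat_lit 30) (.m (nat_lit 943) (nat_lit 0xa60a50a90a90a90a4) (nat_lit 0x1a6985db5a359c5125df) (.w (nat_lit 30) (.m (nat_lit 944) (nat_lit 0x13813413913913a13a139) (nat_lit 0x59669969889b9584926e1) (.w (nat_lit 30) (.m (nat_lit 795) (nat_lit 0x13813413913913413a13913a) (nat_lit 0x1999a6969967168165128d4) (.w (nat_lit 30) .nil))))))),
  .der (nat_lit 0) (nat_lit 0) (.w (nat_lit 30) (.m (nat_lit 924) (nat_lit 0xa50a70a50a50a50a80a6) (nat_lit 0x166e161c7dc5986d649a49c) (.w (nat_lit 30) (.m (nat_lit 722) (nat_lit 0x13413813413913913a134) (nat_lit 0x166a295669d5995944a3) (.w (nat_lit 30) (.m (nat_lit 874) (nat_lit 0x2001fd2011fd1ff) (nat_lit 0x1b6266d86d89a06d65128d4) (.w (nat_lit 30) .nil))))))),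
  .der (nat_lit 0) (nat_lit 0) (.w (nat_lit 30) (.m (nat_lit 473) (nat_lit 0) (nat_lit 0x195e36d76d67568994d3) (.w (nat_lit 30) (.m (nat_lit 235) (nat_lit 0x3c041041041) (nat_lit 0x197625e16e661b6d2559592) (.w (nat_lit 30) (.m (nat_lit 958) (nat_lit 0xa80a60a50a50a7) (nat_lit 0x61f6db7589a559b612559712) (.w (nat_lit 30) .nil))))))),
  .der (nat_lit 0) (nat_lit 0) (.w (nat_lit 30) (.m (nat_lit 924) (nat_lit 0xa60a90a50a70a80a60a90a7) (nat_lit 0x2661771a65f6635d2512912) (.w (nat_lit 30) (.m (nat_lit 944) (nat_lit 0x13b13513813813a139) (nat_lit 0x178d869d956819592496) (.w (nat_lit 30) (.m (nat_lit 905) (nat_lit 0) (nat_lit 0x185986df6596985d74987d6) (.w (nat_lit 30) .nil))))))),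
  .der (nat_lit 0) (nat_lit 0) (.w (nat_lit 30) (.m (nat_lit 891) (nat_lit 0) (nat_lit 0x176dc5a359c5d971649a5a0) (.w (nat_lit 30) (.m (nat_lit 610) (nat_lit 0x1fc1fe1fd2001fd) (nat_lit 0x76065d5e77266d25d9852) (.w (nat_lit 30) (.m (nat_lit 596) (nat_lit 382) (nat_lit 0x1a6598e265b759592512512) (.w (nat_lit 30) .nil))))))),
  .der (nat_lit 0) (nat_lit 0) (.w (nat_lit 30) (.m (nat_lit 602) (nat_lit 0x11b11d11a11e11a11c) (nat_lit 0x1771b89c72665d5d74944d7) (.w (nat_lit 30) (.m (nat_lit 665) (nat_lit 0x1a21a41a31a51a11a3) (nat_lit 0x1775999c6a79986964a05dc) (.w (nat_lit 30) (.m (nat_lit 746) (nat_lit 0x17c17f17f18117d181181) (nat_lit 0x199966d971c618596492523) (.w (nat_lit 30) .nil))))))),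
  .der (nat_lit 0x202cb7913cd2c4443846948302) (nat_lit 0) (.m (nat_lit 970) (nat_lit 0) (nat_lit 0) (.m (nat_lit 931) (nat_lit 0x13813813813a134) (nat_lit 0x6a161f6db59a99b6164a06d9) .nil)),
  .der (nat_lit 0) (nat_lit 0) (.m (nat_lit 972) (nat_lit 0) (nat_lit 0) (.m (nat_lit 317) (nat_lit 0) (nat_lit 0) .nil)),
  .der (nat_lit 0) (nat_lit 0) (.m (nat_lit 972) (nat_lit 0) (nat_lit 0x84c84e2e1960120305204282) (.m (nat_lit 630) (nat_lit 0) (nat_lit 0) .nil))]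
theorem hd452 : CX.chkL dv452 (nat_lit 452) = true := by decide +kernel
def dv489 : List Dv := [.der (nat_lit 0) (nat_lit 0) (.m (nat_lit 972) (nat_lit 0) (nat_lit 0x28e40f31040f8c40e4184845) (.m (nat_lit 748) (nat_lit 0) (nat_lit 0) .nil)),
  .der (nat_lit 0) (nat_lit 0) (.m (nat_lit 972) (nat_lit 0) (nat_lit 0xa31e3cf44e78d7840e39c30cd) (.m (nat_lit 871) (nat_lit 0) (nat_lit 0) .nil)),
  .der (nat_lit 0) (nat_lit 0) (.m (nat_lit 972) (nat_lit 0) (nat_lit 0xc28c2d034f2de1261cb42120c) (.m (nat_lit 628) (nat_lit 0) (nat_lit 0) .nil)),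
  .der (nat_lit 0) (nat_lit 0) (.m (nat_lit 972) (nat_lit 0) (nat_lit 0x2cc80a3cd99188518e29e842) (.m (nat_lit 333) (nat_lit 0) (nat_lit 0) .nil)),
  .der (nat_lit 0) (nat_lit 0) (.m (nat_lit 972) (nat_lit 0) (nat_lit 0x31095030e94d40a10b40f90324d) (.m (nat_lit 783) (nat_lit 0) (nat_lit 0) .nil)),
  .der (nat_lit 0) (nat_lit 0) (.m (nat_lit 972) (nat_lit 0) (nat_lit 0xb7e230e2a544e0c610c8ce927) (.m (nat_lit 663) (nat_lit 0) (nat_lit 0) .nil)),
  .der (nat_lit 0) (nat_lit 0) (.m (nat_lit 972) (nat_lit 0) (nat_lit 0xc30f88e40f81e4051621460cd) (.m (nat_lit 615) (nat_lit 0) (nat_lit 0) .nil)),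
  .der (nat_lit 0) (nat_lit 0) (.m (nat_lit 972) (nat_lit 0) (nat_lit 0x7a63e08a63d114d343184184) (.m (nat_lit 661) (nat_lit 0) (nat_lit 0) .nil)),
  .der (nat_lit 0) (nat_lit 0) (.m (nat_lit 972) (nat_lit 0) (nat_lit 0x45e3903a68a03c534f183848) (.m (nat_lit 766) (nat_lit 0) (nat_lit 0) .nil)),
  .der (nat_lit 0) (nat_lit 0) (.m (nat_lit 972) (nat_lit 0) (nat_lit 0xb80e3253cb8e240508f1097c6) (.m (nat_lit 758) (nat_lit 0) (nat_lit 0) .nil)),
  .der (nat_lit 0) (nat_lit 0) (.m (nat_lit 972) (nat_lit 0) (nat_lit 0xb7cf7a388e40b10484d225) (.m (nat_lit 792) (nat_lit 0) (nat_lit 0) .nil)),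
  .der (nat_lit 0) (nat_lit 0) (.m (nat_lit 316) (nat_lit 0) (nat_lit 0) (.m (nat_lit 973) (nat_lit 0) (nat_lit 0) .nil)),
  .der (nat_lit 0) (nat_lit 0) (.m (nat_lit 931) (nat_lit 0) (nat_lit 0) (.m (nat_lit 973) (nat_lit 0) (nat_lit 0xc7913d198d791282089111283) .nil)),
  .der (nat_lit 0) (nat_lit 0) (.m (nat_lit 634) (nat_lit 0) (nat_lit 0) (.m (nat_lit 973) (nat_lit 0) (nat_lit 0x3113619902a03c23c23d038d) .nil)),
  .der (nat_lit 0) (nat_lit 0) (.m (nat_lit 718) (nat_lit 0) (nat_lit 0) (.m (nat_lit 973) (nat_lit 0) (nat_lit 0x28e40f31040f8c40e4184845) .nil)),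
  .der (nat_lit 0) (nat_lit 0) (.m (nat_lit 870) (nat_lit 0) (nat_lit 0) (.m (nat_lit 973) (nat_lit 0) (nat_lit 0xa31e3cf44e78d7840e39c30cd) .nil)),
  .der (nat_lit 0) (nat_lit 0) (.m (nat_lit 629) (nat_lit 0) (nat_lit 0) (.m (nat_lit 973) (nat_lit 0) (nat_lit 0xc28c2d034f2de1261cb42120c) .nil)),
  .der (nat_lit 0) (nat_lit 0) (.m (nat_lit 332) (nat_lit 0) (nat_lit 0) (.m (nat_lit 973) (nat_lit 0) (nat_lit 0x2cc80a3cd99188518e29e842) .nil)),
  .der (nat_lit 0) (nat_lit 0) (.m (nat_lit 782) (nat_lit 0) (nat_lit 0) (.m (nat_lit 973) (nat_lit 0) (nat_lit 0x31095030e94d40a10b40f90324d) .nil)),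
  .der (nat_lit 0) (nat_lit 0) (.m (nat_lit 662) (nat_lit 0) (nat_lit 0) (.m (nat_lit 973) (nat_lit 0) (nat_lit 0xb7e230e2a544e0c610c8ce927) .nil)),
  .der (nat_lit 0) (nat_lit 0) (.m (nat_lit 614) (nat_lit 0) (nat_lit 0) (.m (nat_lit 973) (nat_lit 0) (nat_lit 0xc30f88e40f81e4051621460cd) .nil)),
  .der (nat_lit 0) (nat_lit 0) (.m (nat_lit 660) (nat_lit 0) (nat_lit 0) (.m (nat_lit 973) (nat_lit 0) (nat_lit 0x7a63e08a63d114d343184184) .nil)),
  .der (nat_lit 0) (nat_lit 0) (.m (nat_lit 736) (nat_lit 0) (nat_lit 0) (.m (nat_lit 973) (nat_lit 0) (nat_lit 0x45e3903a68a03c534f183848) .nil)),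
  .der (nat_lit 0) (nat_lit 0) (.m (nat_lit 728) (nat_lit 0) (nat_lit 0) (.m (nat_lit 973) (nat_lit 0) (nat_lit 0xb80e3253cb8e240508f1097c6) .nil)),
  .der (nat_lit 0) (nat_lit 0) (.m (nat_lit 793) (nat_lit 0) (nat_lit 0) (.m (nat_lit 973) (nat_lit 0) (nat_lit 0xb7cf7a388e40b10484d225) .nil)),
  .der (nat_lit 0) (nat_lit 0) (.w (nat_lit 30) (.m (nat_lit 978) (nat_lit 0x11a11a11c11e11a11a11a11d) (nat_lit 0x1985659d7627176164954d5) (.w (nat_lit 30) (.m (nat_lit 914) (nat_lit 0x13813413913913a139) (nat_lit 0x17999763696625617496516) (.w (nat_lit 30) (.m (nat_lit 648) (nat_lit 0x17e17c18018017f17d) (nat_lit 0x1771f8187186e25965174d9) (.w (nat_lit 30) .nil))))))),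
  .der (nat_lit 0) (nat_lit 0) (.w (nat_lit 30) (.m (nat_lit 982) (nat_lit 0x11c11e11a11c11e11b) (nat_lit 0x61c85861a85f756495764) (.w (nat_lit 30) (.m (nat_lit 836) (nat_lit 0x17c17f17c17c17e17d) (nat_lit 0x5e56566d695a656596498714) (.w (nat_lit 30) (.m (nat_lit 720) (nat_lit 0x13813813813413b) (nat_lit 0x69c9966a275a65659649269a) (.w (nat_lit 30) .nil))))))),
  .der (nat_lit 0) (nat_lit 0) (.w (nat_lit 30) (.m (nat_lit 978) (nat_lit 0x11a11a11f11a11f11b11d11a11a) (nat_lit 0x6966597db65c5dc49555d) (.w (nat_lit 30) (.m (nat_lit 668) (nat_lit 0x13413913513813813513a) (nat_lit 0x65a8a65da9a25dc49a517) (.w (nat_lit 30) (.m (nat_lit 647) (nat_lit 0x18117c17f17c180) (nat_lit 0x1a7d659b5e36e249a55b) (.w (nat_lit 30) .nil))))))),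
  .der (nat_lit 0) (nat_lit 0) (.w (nat_lit 30) (.m (nat_lit 990) (nat_lit 0x11a11d11b11b11c) (nat_lit 0x1a69871a59d6d77d649571a) (.w (nat_lit 30) (.m (nat_lit 882) (nat_lit 0x17c17f17f18117c) (nat_lit 0x8a159f61871f5d259b) (.w (nat_lit 30) (.m (nat_lit 0x3fa) (nat_lit 0x17f18017e18117f) (nat_lit 0x195d959b85859849659a) (.w (nat_lit 30) .nil))))))),
  .der (nat_lit 0) (nat_lit 0) (.w (nat_lit 30) (.m (nat_lit 970) (nat_lit 0x11f11b11b11f11d11a) (nat_lit 0x1665b99d5965a2617512662) (.w (nat_lit 30) (.m (nat_lit 914) (nat_lit 0x138134139139134138) (nat_lit 0x267578e665f657498525) (.w (nat_lit 30) (.m (nat_lit 0x3fa) (nat_lit 0x17e18017f181) (nat_lit 0x99d5969a58566125d9592) (.w (nat_lit 30) .nil))))))),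
  .der (nat_lit 0) (nat_lit 0) (.w (nat_lit 30) (.m (nat_lit 996) (nat_lit 0x11a11e11a11f11c11a11a) (nat_lit 0x61675d7da9e059b4925db) (.w (nat_lit 30) (.m (nat_lit 849) (nat_lit 0x138138138135139139) (nat_lit 0x6e17576db5db89f494724) (.w (nat_lit 30) (.m (nat_lit 910) (nat_lit 0x1ff1fc2001fc1fe1fd2011fe) (nat_lit 0x65b5d966065f5dd4924a3) (.w (nat_lit 30) .nil))))))),
  .der (nat_lit 0) (nat_lit 0) (.w (nat_lit 30) (.m (nat_lit 982) (nat_lit 0x11a11c11a11e11e11a11d) (nat_lit 0x89d6576a369d8da4a04d9) (.w (nat_lit 30) (.m (nat_lit 836) (nat_lit 0x17c17c18117f) (nat_lit 0x6d881b99671b659592497) (.w (nat_lit 30) (.m (nat_lit 716) (nat_lit 0x13813513813a13913a) (nat_lit 0x1a65999959c6e5692521492) (.w (nat_lit 30) .nil))))))),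
  .der (nat_lit 0) (nat_lit 0) (.w (nat_lit 30) (.m (nat_lit 996) (nat_lit 0x11b11d11a11e) (nat_lit 0x5da5a659c897719494666) (.w (nat_lit 30) (.m (nat_lit 911) (nat_lit 0x13b13813b138135139139) (nat_lit 0x1876061c8e77da6645997d3) (.w (nat_lit 30) (.m (nat_lit 864) (nat_lit 0x1fc2011fc1fe1fd1ff) (nat_lit 0x6a175771871659d5924928d2) (.w (nat_lit 30) .nil))))))),
  .der (nat_lit 0) (nat_lit 0) (.w (nat_lit 30) (.m (nat_lit 978) (nat_lit 0x11b11e11b11f11f11d11f) (nat_lit 0x257576e55dc71c7126d4) (.w (nat_lit 30) (.m (nat_lit 944) (nat_lit 0x134139134139134138138138) (nat_lit 0x69999b5df76059a596494613) (.w (nat_lit 30) (.m (nat_lit 0x3fe) (nat_lit 0x138134139139) (nat_lit 0x65965a7655e57dd49a6a6) (.w (nat_lit 30) .nil))))))),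
  .der (nat_lit 0) (nat_lit 0) (.w (nat_lit 30) (.m (nat_lit 0x404) (nat_lit 0x11b11f11b11c11f11d11b) (nat_lit 0x197e585769695669255b853) (.w (nat_lit 30) (.m (nat_lit 795) (nat_lit 0x13813813513b135138135) (nat_lit 0x177178975db95f756494759) (.w (nat_lit 30) (.m (nat_lit 888) (nat_lit 0x2001ff2001fe201) (nat_lit 0x165986e06d86d7616495717) (.w (nat_lit 30) .nil))))))),
  .der (nat_lit 0) (nat_lit 0) (.w (nat_lit 30) (.m (nat_lit 0x40e) (nat_lit 0x11a11d11b11b11d) (nat_lit 0x65f61c65c818959492761) (.w (nat_lit 30) (.m (nat_lit 0x40f) (nat_lit 0x13a134139134) (nat_lit 0x1675765761f760757494616) (.w (nat_lit 30) (.m (nat_lit 0x414) (nat_lit 0x11d11f11f11c) (nat_lit 0x1b6d785795d7d66d8492864) (.w (nat_lit 30) .nil))))))),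
  .der (nat_lit 0) (nat_lit 0) (.w (nat_lit 30) (.m (nat_lit 455) (nat_lit 0) (nat_lit 0x65b61a8596e65d269f712) (.w (nat_lit 30) (.m (nat_lit 288) (nat_lit 0x8b08c08f08d08b) (nat_lit 0x1899d5dc6d685a59649a694) (.w (nat_lit 30) (.m (nat_lit 926) (nat_lit 0x15e16015e16015f16115d) (nat_lit 0x5e285c71999c6d94a461c) (.w (nat_lit 30) .nil))))))),
  .der (nat_lit 0) (nat_lit 0) (.w (nat_lit 30) (.m (nat_lit 927) (nat_lit 0) (nat_lit 0x1869771b5e781a692552592) (.w (nat_lit 30) (.m (nat_lit 926) (nat_lit 0x15c15e15d15f16116115f15c) (nat_lit 0x5e675b6e66e25d849655f) (.w (nat_lit 30) (.m (nat_lit 730) (nat_lit 0x13913913513813513b135) (nat_lit 0x176d769971c61c7d6512867) (.w (nat_lit 30) .nil))))))),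
  .der (nat_lit 0) (nat_lit 0) (.w (nat_lit 30) (.m (nat_lit 926) (nat_lit 0x15d16015c15c16116116115f) (nat_lit 0x1a75669c8227d75d24947d7) (.w (nat_lit 30) (.m (nat_lit 954) (nat_lit 0x139139134134) (nat_lit 0x6187db76661c8a0494516) (.w (nat_lit 30) (.m (nat_lit 664) (nat_lit 0x17e17c17e17d) (nat_lit 0x8dc5dd66369965c4956d5) (.w (nat_lit 30) .nil))))))),
  .der (nat_lit 0) (nat_lit 0) (.w (nat_lit 30) (.m (nat_lit 926) (nat_lit 0x15c15f15f16015f16116115e) (nat_lit 0x1b6d861c7186266d261c492) (.w (nat_lit 30) (.m (nat_lit 849) (nat_lit 0x13413813813413913913a) (nat_lit 0x1b66599985d81b5d2560) (.w (nat_lit 30) (.m (nat_lit 890) (nat_lit 0x2001ff1fc1fc1ff) (nat_lit 0x5a575965c65a6984d7519) (.w (nat_lit 30) .nil))))))),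
  .der (nat_lit 0) (nat_lit 0) (.w (nat_lit 30) (.m (nat_lit 926) (nat_lit 0x15e15c15f16115e15d15d) (nat_lit 0x1a818718618617696492864) (.w (nat_lit 30) (.m (nat_lit 730) (nat_lit 0x13913413a13413913b138135) (nat_lit 0x169596db65d8db59261c512) (.w (nat_lit 30) (.m (nat_lit 0x421) (nat_lit 0x2ba2bd) (nat_lit 0x5e15da69a71761f612812) (.w (nat_lit 30) .nil))))))),
  .der (nat_lit 0) (nat_lit 0) (.w (nat_lit 30) (.m (nat_lit 929) (nat_lit 0) (nat_lit 0x1a75b65a82171771649569a) (.w (nat_lit 30) (.m (nat_lit 455) (nat_lit 0x1ee1f01ef) (nat_lit 0x5d872169a8e1756495995) (.w (nat_lit 30) (.m (nat_lit 306) (nat_lit 0x8e08a08d08a08f08c) (nat_lit 0x5a07e27596e66174984e2) (.w (nat_lit 30) .nil))))))),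
  .der (nat_lit 0) (nat_lit 0) (.w (nat_lit 30) (.m (nat_lit 760) (nat_lit 0) (nat_lit 0x2265c6d76dc7164d75d9) (.w (nat_lit 30) (.m (nat_lit 934) (nat_lit 0x138138138) (nat_lit 0x176996db6e75a2494655) (.w (nat_lit 30) (.m (nat_lit 932) (nat_lit 0x13813813513b138134139134) (nat_lit 0x6d975d61a71971a716492852) (.w (nat_lit 30) .nil))))))),
  .der (nat_lit 0) (nat_lit 0) (.w (nat_lit 30) (.m (nat_lit 932) (nat_lit 0) (nat_lit 0x75f6a361872361d918516) (.w (nat_lit 30) (.m (nat_lit 668) (nat_lit 0x13913b135138135139139) (nat_lit 0x1869869d7566998d7494718) (.w (nat_lit 30) (.m (nat_lit 657) (nat_lit 0x17f18117d17f180) (nat_lit 0x187596d87e57566a4) (.w (nat_lit 30) .nil))))))),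
  .der (nat_lit 0) (nat_lit 0) (.w (nat_lit 30) (.m (nat_lit 908) (nat_lit 0) (nat_lit 0x198176e085861f6d8494494) (.w (nat_lit 30) (.m (nat_lit 609) (nat_lit 0x1a51a51a11a21a51a5) (nat_lit 0x1b59b5dc6a685c69849459c) (.w (nat_lit 30) (.m (nat_lit 730) (nat_lit 0x13b13813413913913413913a) (nat_lit 0x176998597578db75749471c) (.w (nat_lit 30) .nil))))))),
  .der (nat_lit 0) (nat_lit 0) (.w (nat_lit 30) (.m (nat_lit 716) (nat_lit 0x13913913413913b138134) (nat_lit 0x1c5dc71f69965f4d7753) (.w (nat_lit 30) (.m (nat_lit 852) (nat_lit 0x17e17d18017e18117d) (nat_lit 0x1975671871965d59a4d9598) (.w (nat_lit 30) (.m (nat_lit 746) (nat_lit 0x17c17e18017f17c18017f) (nat_lit 0x69982371c6255985d2512712) (.w (nat_lit 30) .nil))))))),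
  .der (nat_lit 0) (nat_lit 0) (.w (nat_lit 30) (.m (nat_lit 651) (nat_lit 0) (nat_lit 0x5988a659689d5d84974d6) (.w (nat_lit 30) (.m (nat_lit 911) (nat_lit 0x13413913413b13813813a134) (nat_lit 0x59675965b8587195d491c) (.w (nat_lit 30) (.m (nat_lit 912) (nat_lit 0x2001ff1fc1fc1fe201) (nat_lit 0x1b75769a89a5969574d761f) (.w (nat_lit 30) .nil))))))),
  .der (nat_lit 0) (nat_lit 0) (.w (nat_lit 30) (.m (nat_lit 653) (nat_lit 0) (nat_lit 0x186176d66a159d61649a598) (.w (nat_lit 30) (.m (nat_lit 838) (nat_lit 0x1fd1fd2011fd1fe) (nat_lit 0x1789975885c6265935d4492) (.w (nat_lit 30) (.m (nat_lit 944) (nat_lit 0x13813413913413913513813b) (nat_lit 0x8636d871f69a7214db4d9) (.w (nat_lit 30) .nil)))))))]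
theorem hd489 : CX.chkL dv489 (nat_lit 489) = true := by decide +kernel
def dv537 : List Dv := [.der (nat_lit 0) (nat_lit 0) (.w (nat_lit 30) (.m (nat_lit 656) (nat_lit 0x13b135138135) (nat_lit 0x1899985d6db89b5965935d8993) (.w (nat_lit 30) (.m (nat_lit 653) (nat_lit 0x17c17c18118117e) (nat_lit 0x71f5db6e66e66604956dc) (.w (nat_lit 30) (.m (nat_lit 878) (nat_lit 0x1fd2001fc2001fe1fe) (nat_lit 0x197578dc6188198174945e3) (.w (nat_lit 30) .nil))))))),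
  .der (nat_lit 0) (nat_lit 0) (.w (nat_lit 30) (.m (nat_lit 820) (nat_lit 0) (nat_lit 0x6627615968a35965926d8893) (.w (nat_lit 30) (.m (nat_lit 473) (nat_lit 0x1fc1fc1ff) (nat_lit 0x186d862559b5dc716495556) (.w (nat_lit 30) (.m (nat_lit 742) (nat_lit 0x3e04103e04104103d) (nat_lit 0x176dc5dc5e671f5d8492698) (.w (nat_lit 30) .nil))))))),
  .der (nat_lit 0) (nat_lit 0) (.w (nat_lit 30) (.m (nat_lit 0x426) (nat_lit 0) (nat_lit 0x1d9665967257d9495656) (.w (nat_lit 30) (.m (nat_lit 944) (nat_lit 0x13413b13813413913413b138) (nat_lit 0x1f5e57599da65a7d25149da) (.w (nat_lit 30) (.m (nat_lit 944) (nat_lit 0x13813813413913413a13913913413a) (nat_lit 0x59d59c6e29585d7497661) (.w (nat_lit 30) .nil))))))),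
  .der (nat_lit 0) (nat_lit 0) (.w (nat_lit 30) (.m (nat_lit 0x405) (nat_lit 0) (nat_lit 0x59f61661f6d9596494666) (.w (nat_lit 30) (.m (nat_lit 994) (nat_lit 0x11a11c11b11d11f11c) (nat_lit 0x166db7595df65c6564987da) (.w (nat_lit 30) (.m (nat_lit 649) (nat_lit 0x13813413a13413913413b138138) (nat_lit 0x6188dc5db9d78db5d291a) (.w (nat_lit 30) .nil))))))),
  .der (nat_lit 0) (nat_lit 0) (.w (nat_lit 30) (.m (nat_lit 944) (nat_lit 0x13413913413b13813813413b) (nat_lit 0x1999a69a5a78196d8592494912) (.w (nat_lit 30) (.m (nat_lit 730) (nat_lit 0x13813413813413913913b) (nat_lit 0x1786275969d5e57144a2) (.w (nat_lit 30) (.m (nat_lit 0x426) (nat_lit 0x2ba2bc2b82bc2bb2bd) (nat_lit 0x1b71671c61f61681749559c492) (.w (nat_lit 30) .nil))))))),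
  .der (nat_lit 0) (nat_lit 0) (.w (nat_lit 30) (.m (nat_lit 734) (nat_lit 0x13813413a139134139139134) (nat_lit 0x1a75976369a7dd612512) (.w (nat_lit 30) (.m (nat_lit 0x436) (nat_lit 0x2b92bb2b82bd2bd2bd) (nat_lit 0x168da59f69a8975d74948e2) (.w (nat_lit 30) (.m (nat_lit 730) (nat_lit 0x13813413b135138135138138) (nat_lit 0x8a169999b7dd6d44988d2) (.w (nat_lit 30) .nil))))))),
  .der (nat_lit 0) (nat_lit 0) (.w (nat_lit 30) (.m (nat_lit 851) (nat_lit 0x13913a13913413913a139) (nat_lit 0x5a659c85b5da7225d2516) (.w (nat_lit 30) (.m (nat_lit 752) (nat_lit 0x1fd2001fd2001fe200) (nat_lit 0x6d799b997766616494625) (.w (nat_lit 30) (.m (nat_lit 944) (nat_lit 0x138138135138135138135138138) (nat_lit 0x69f65969d9d96985925178d3) (.w (nat_lit 30) .nil))))))),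
  .der (nat_lit 0) (nat_lit 0) (.w (nat_lit 30) (.m (nat_lit 653) (nat_lit 0) (nat_lit 0x69861f5a69566df494892) (.w (nat_lit 30) (.m (nat_lit 912) (nat_lit 0x1fc1fe1fd1ff1fd) (nat_lit 0x1a61889b86061a699494715) (.w (nat_lit 30) (.m (nat_lit 0x431) (nat_lit 0x13813413413913413913a) (nat_lit 0x197597567635a0612492) (.w (nat_lit 30) .nil))))))),
  .der (nat_lit 0) (nat_lit 0) (.w (nat_lit 30) (.m (nat_lit 915) (nat_lit 0) (nat_lit 0x185d761f9a7697495714) (.w (nat_lit 30) (.m (nat_lit 944) (nat_lit 0x13413a13913413813a139) (nat_lit 0x1965c9579986d4) (.w (nat_lit 30) (.m (nat_lit 837) (nat_lit 0x13813a13413b138) (nat_lit 0x168195d871659a59261c512) (.w (nat_lit 30) .nil))))))),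
  .der (nat_lit 0) (nat_lit 0) (.w (nat_lit 30) (.m (nat_lit 714) (nat_lit 0x13413413913413b13813b) (nat_lit 0x168997596a27665d24a7) (.w (nat_lit 30) (.m (nat_lit 844) (nat_lit 0x1fd1fd2011fd200) (nat_lit 0x75f6628667565128d4) (.w (nat_lit 30) (.m (nat_lit 868) (nat_lit 0x1fe2001ff1fd200) (nat_lit 0x5df85b59d8197144a0) (.w (nat_lit 30) .nil))))))),
  .der (nat_lit 0) (nat_lit 0) (.w (nat_lit 30) (.m (nat_lit 916) (nat_lit 0) (nat_lit 0x1a71b620723899656492497) (.w (nat_lit 30) (.m (nat_lit 0x3f0) (nat_lit 0x1fd1ff2011fc1ff) (nat_lit 0x1b7186d959689a5944988d4) (.w (nat_lit 30) (.m (nat_lit 0x40e) (nat_lit 0x11d11f11f11b11f) (nat_lit 0x6a15a08999976594926d5) (.w (nat_lit 30) .nil))))))),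
  .der (nat_lit 0) (nat_lit 0) (.w (nat_lit 30) (.m (nat_lit 762) (nat_lit 0) (nat_lit 0x5dd89959c5dd99f49251f) (.w (nat_lit 30) (.m (nat_lit 911) (nat_lit 0x13b13813513813813813a139) (nat_lit 0x65b59695a6a275a4948a7) (.w (nat_lit 30) (.m (nat_lit 910) (nat_lit 0x2002001fe1fd1fe) (nat_lit 0x1b59665c61a81c9585944a6) (.w (nat_lit 30) .nil))))))),
  .der (nat_lit 0) (nat_lit 0) (.w (nat_lit 30) (.m (nat_lit 911) (nat_lit 0x13513813813513b13813413913a) (nat_lit 0x8176995d79596d9495598) (.w (nat_lit 30) (.m (nat_lit 910) (nat_lit 0x1ff2001fc2011fd1ff1fc) (nat_lit 0x5da9987599a35d7494495) (.w (nat_lit 30) (.m (nat_lit 0x424) (nat_lit 0x13413913913a139) (nat_lit 0x6d75db59a95d8d94945e2) (.w (nat_lit 30) .nil))))))),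
  .der (nat_lit 0) (nat_lit 0) (.w (nat_lit 30) (.m (nat_lit 724) (nat_lit 0x13413913913a13413913413b135) (nat_lit 0x1c8da69a7d6618612817693) (.w (nat_lit 30) (.m (nat_lit 654) (nat_lit 0x17e18017d17e17d17e) (nat_lit 0x197175d969685c6d2499696) (.w (nat_lit 30) (.m (nat_lit 846) (nat_lit 0x1fc1fc2011ff1fd) (nat_lit 0x1d9576dd85a763494627) (.w (nat_lit 30) .nil))))))),
  .der (nat_lit 0) (nat_lit 0) (.w (nat_lit 30) (.m (nat_lit 954) (nat_lit 0) (nat_lit 0x1b62275b6655a66164947e1) (.w (nat_lit 30) (.m (nat_lit 0x440) (nat_lit 0x18117d17e180180) (nat_lit 0x1861f81769d757816592516) (.w (nat_lit 30) (.m (nat_lit 756) (nat_lit 0x17c17c17f18017c18117c) (nat_lit 0x6567176df759592594912) (.w (nat_lit 30) .nil))))))),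
  .der (nat_lit 0) (nat_lit 0) (.w (nat_lit 30) (.m (nat_lit 835) (nat_lit 0) (nat_lit 0x69661859d61c95a59251f852) (.w (nat_lit 30) (.m (nat_lit 844) (nat_lit 0x1ff1fc1fc2011fc) (nat_lit 0x6d671f6999a2699592518713) (.w (nat_lit 30) (.m (nat_lit 744) (nat_lit 0x1fc2011fe2011ff2001ff) (nat_lit 0x89d65f71c6258df49691b) (.w (nat_lit 30) .nil))))))),
  .der (nat_lit 0) (nat_lit 0) (.w (nat_lit 30) (.m (nat_lit 0x429) (nat_lit 0x13513813b138135) (nat_lit 0x1a61b7db66575d897498692) (.w (nat_lit 30) (.m (nat_lit 0x44e) (nat_lit 0x13913413413b138138134) (nat_lit 0x1871772266169a5128e2) (.w (nat_lit 30) (.m (nat_lit 730) (nat_lit 0x13413413913913a134) (nat_lit 0x6266d885a69a5984947d6) (.w (nat_lit 30) .nil))))))),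
  .der (nat_lit 0) (nat_lit 0) (.w (nat_lit 30) (.m (nat_lit 648) (nat_lit 0) (nat_lit 0x71875689c6a071a495995) (.w (nat_lit 30) (.m (nat_lit 0x44e) (nat_lit 0x138135138138135) (nat_lit 0x61a69a85c65d6525666d3) (.w (nat_lit 30) (.m (nat_lit 914) (nat_lit 0x13913413a13413913413b) (nat_lit 0x65671795785a65a5d2556596) (.w (nat_lit 30) .nil))))))),
  .der (nat_lit 0) (nat_lit 0) (.w (nat_lit 30) (.m (nat_lit 653) (nat_lit 0) (nat_lit 0x85981781b61a7d26e3) (.w (nat_lit 30) (.m (nat_lit 802) (nat_lit 0x2001fd1fe1fd) (nat_lit 0x5dc69c5a575772649251d) (.w (nat_lit 30) (.m (nat_lit 932) (nat_lit 0x13a13913413a) (nat_lit 0x65a61665d7d76994db4d9) (.w (nat_lit 30) .nil))))))),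
  .der (nat_lit 0) (nat_lit 0) (.w (nat_lit 30) (.m (nat_lit 955) (nat_lit 0) (nat_lit 0x175df5a26d871b494621) (.w (nat_lit 30) (.m (nat_lit 0x457) (nat_lit 0x13413a139139) (nat_lit 0x165995da61c71f5d2595) (.w (nat_lit 30) (.m (nat_lit 946) (nat_lit 0x17e17d18117e17d180) (nat_lit 0x1b7186167196d85d25d7) (.w (nat_lit 30) .nil))))))),
  .der (nat_lit 0) (nat_lit 0) (.w (nat_lit 30) (.m (nat_lit 0x436) (nat_lit 0) (nat_lit 0x1669f856722659716513) (.w (nat_lit 30) (.m (nat_lit 827) (nat_lit 0x13913513b138138134134138) (nat_lit 0x5d76666e161b6266525d3752) (.w (nat_lit 30) (.m (nat_lit 794) (nat_lit 0x1fc1fe2011fe2011ff200200) (nat_lit 0x5db61c5d85a27136d5) (.w (nat_lit 30) .nil))))))),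
  .der (nat_lit 0) (nat_lit 0) (.w (nat_lit 30) (.m (nat_lit 928) (nat_lit 0) (nat_lit 0x1971861f8d86a265649489b) (.w (nat_lit 30) (.m (nat_lit 0x427) (nat_lit 0x134139139135138135) (nat_lit 0x1b9588175dc5db495759) (.w (nat_lit 30) (.m (nat_lit 0x426) (nat_lit 0x2ba2bd2ba2b92b9) (nat_lit 0x1899795a61b6d765651c717) (.w (nat_lit 30) .nil))))))),
  .der (nat_lit 0) (nat_lit 0) (.w (nat_lit 30) (.m (nat_lit 768) (nat_lit 0x13813813413413913a) (nat_lit 0x1761d82575b5dc5d251f492) (.w (nat_lit 30) (.m (nat_lit 849) (nat_lit 0x13813513813a13913b) (nat_lit 0x8a56609995d75dd494761) (.w (nat_lit 30) (.m (nat_lit 910) (nat_lit 0x1fe1fd1ff2011fc201) (nat_lit 0x1986061859c6e1599497654) (.w (nat_lit 30) .nil))))))),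
  .der (nat_lit 0) (nat_lit 0) (.w (nat_lit 30) (.m (nat_lit 0x436) (nat_lit 0) (nat_lit 0x195a66d775861d5925168d2) (.w (nat_lit 30) (.m (nat_lit 933) (nat_lit 0x13b13813b13813813b138) (nat_lit 0x1b5e57578999616d6494664) (.w (nat_lit 30) (.m (nat_lit 0x427) (nat_lit 0x139139135138135138135) (nat_lit 0x6db7dc61881f61a5964945e2) (.w (nat_lit 30) .nil))))))),
  .der (nat_lit 0) (nat_lit 0) (.w (nat_lit 30) (.m (nat_lit 897) (nat_lit 0) (nat_lit 0x5986e661b62085f496524) (.w (nat_lit 30) (.m (nat_lit 910) (nat_lit 0x1fc1fe1fe1fd1fd) (nat_lit 0x1a65d5dc719763696496915) (.w (nat_lit 30) (.m (nat_lit 734) (nat_lit 0x13413413b) (nat_lit 0x168265a061861c617494616) (.w (nat_lit 30) .nil))))))),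
  .der (nat_lit 0) (nat_lit 0) (.w (nat_lit 30) (.m (nat_lit 0x3fa) (nat_lit 0) (nat_lit 0x1a65b59d69a69c6d6513699) (.w (nat_lit 30) (.m (nat_lit 978) (nat_lit 0x11b11f11b11f11b11e) (nat_lit 0x5df9597db61a5d269c) (.w (nat_lit 30) (.m (nat_lit 0x42c) (nat_lit 0x138134134138) (nat_lit 0x165a27255d76226d6492692) (.w (nat_lit 30) .nil))))))),
  .der (nat_lit 0) (nat_lit 0) (.w (nat_lit 30) (.m (nat_lit 919) (nat_lit 0) (nat_lit 0x1a65b59885b65f81651d594) (.w (nat_lit 30) (.m (nat_lit 716) (nat_lit 0x13413b13813513913913413b) (nat_lit 0x1b76399861871a692517) (.w (nat_lit 30) (.m (nat_lit 666) (nat_lit 0x17c17e18017c17f180) (nat_lit 0x6255d989d65b494916) (.w (nat_lit 30) .nil))))))),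
  .der (nat_lit 0) (nat_lit 0) (.w (nat_lit 30) (.m (nat_lit 760) (nat_lit 0) (nat_lit 0x6997187597619566564d9494) (.w (nat_lit 30) (.m (nat_lit 0x43e) (nat_lit 0x138138134139134) (nat_lit 0x69f8186d95d86d849251f) (.w (nat_lit 30) (.m (nat_lit 0x42f) (nat_lit 0x13413813a139139) (nat_lit 0x197d871c7d86db7d64a45e1) (.w (nat_lit 30) .nil))))))),
  .der (nat_lit 0) (nat_lit 0) (.w (nat_lit 30) (.m (nat_lit 0x42b) (nat_lit 0) (nat_lit 0x59a99a7597db65c4954d6) (.w (nat_lit 30) (.m (nat_lit 0x458) (nat_lit 0x17e17d18117d18117c) (nat_lit 0x6567db5a05d749a712) (.w (nat_lit 30) (.m (nat_lit 647) (nat_lit 0x17c17e18117e) (nat_lit 0x2171899b75f69649575d) (.w (nat_lit 30) .nil))))))),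
  .der (nat_lit 0) (nat_lit 0) (.w (nat_lit 30) (.m (nat_lit 0x442) (nat_lit 0x17d18017e17e181) (nat_lit 0x1969c65c6185a1652517556) (.w (nat_lit 30) (.m (nat_lit 754) (nat_lit 0x17d17e18017f17f17d) (nat_lit 0x1a8d87dc5a261a49471a) (.w (nat_lit 30) (.m (nat_lit 668) (nat_lit 0x13913513813813a139) (nat_lit 0x197d79598e65dc5d74a06e1) (.w (nat_lit 30) .nil)))))))]
theorem hd537 : CX.chkL dv537 (nat_lit 537) = true := by decide +kernel
def dv567 : List Dv := [.der (nat_lit 0) (nat_lit 0) (.w (nat_lit 30) (.m (nat_lit 0x438) (nat_lit 0) (nat_lit 0x1a65d7db7d97166d2915) (.w (nat_lit 30) (.m (nat_lit 956) (nat_lit 0x17c18117e17c18017e) (nat_lit 0x7625da69676675b497) (.w (nat_lit 30) (.m (nat_lit 716) (nat_lit 0x13813413913413913a13a139134) (nat_lit 0x61d62089761b756592693) (.w (nat_lit 30) .nil))))))),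
  .der (nat_lit 0) (nat_lit 0) (.w (nat_lit 30) (.m (nat_lit 649) (nat_lit 0x13413913913413913a134139) (nat_lit 0x7da6595a169c59c49549c) (.w (nat_lit 30) (.m (nat_lit 956) (nat_lit 0x18117d17e18017f) (nat_lit 0x1875999885d7577d7495661) (.w (nat_lit 30) (.m (nat_lit 0x46b) (nat_lit 0x13813a13913b13813813b138) (nat_lit 0x69775985859675a59649265a) (.w (nat_lit 30) .nil))))))),
  .der (nat_lit 0) (nat_lit 0) (.w (nat_lit 30) (.m (nat_lit 933) (nat_lit 0x13813813413b13813b138134134) (nat_lit 0x1b5dc69685771871649251c) (.w (nat_lit 30) (.m (nat_lit 0x44e) (nat_lit 0x13413b138135139139134138) (nat_lit 0x1689d5d87e56125d4) (.w (nat_lit 30) (.m (nat_lit 0x470) (nat_lit 0x13413813413913413a) (nat_lit 0x69c7168167165925149da) (.w (nat_lit 30) .nil))))))),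
  .der (nat_lit 0) (nat_lit 0) (.w (nat_lit 30) (.m (nat_lit 669) (nat_lit 0) (nat_lit 0x61c999763756696512621) (.w (nat_lit 30) (.m (nat_lit 877) (nat_lit 0x13513913913a134) (nat_lit 0x166d8720718698696496918) (.w (nat_lit 30) (.m (nat_lit 0x465) (nat_lit 0x13813513a13a139) (nat_lit 0x6e66216596d69994a461c) (.w (nat_lit 30) .nil))))))),
  .der (nat_lit 0) (nat_lit 0) (.w (nat_lit 30) (.m (nat_lit 657) (nat_lit 0) (nat_lit 0x6df7576e19e28d6592615) (.w (nat_lit 30) (.m (nat_lit 716) (nat_lit 0x13513813813513b135138) (nat_lit 0x1b7576d871659a9964a4617) (.w (nat_lit 30) (.m (nat_lit 746) (nat_lit 0x17c17c17f18117f18017e17d) (nat_lit 0x8dd76561a6598d2512912) (.w (nat_lit 30) .nil))))))),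
  .der (nat_lit 0) (nat_lit 0) (.w (nat_lit 30) (.m (nat_lit 760) (nat_lit 0) (nat_lit 0x1a6595d88d89a2612696813) (.w (nat_lit 30) (.m (nat_lit 876) (nat_lit 0x13813413b13813b138) (nat_lit 0x6d68215db7d771b592559692) (.w (nat_lit 30) (.m (nat_lit 0x427) (nat_lit 0x13413413b138134139) (nat_lit 0x69a81f6576d6899513699) (.w (nat_lit 30) .nil))))))),
  .der (nat_lit 0) (nat_lit 0) (.w (nat_lit 30) (.m (nat_lit 746) (nat_lit 0) (nat_lit 0x1a6566a361b71a696492657) (.w (nat_lit 30) (.m (nat_lit 827) (nat_lit 0x13813413413913913413913b) (nat_lit 0x195db89c6989987da4d9494) (.w (nat_lit 30) (.m (nat_lit 610) (nat_lit 0x1fc1fe1fe2011fe2011fc) (nat_lit 0x5db9596a39595d751d59d) (.w (nat_lit 30) .nil))))))),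
  .der (nat_lit 0) (nat_lit 0) (.w (nat_lit 30) (.m (nat_lit 827) (nat_lit 0x13813813413b13813b138134134) (nat_lit 0x69d8666d75db9a349485d) (.w (nat_lit 30) (.m (nat_lit 878) (nat_lit 0x1fc2001fc1fe2011ff2011fe) (nat_lit 0x165a06d975b99d6d44d7) (.w (nat_lit 30) (.m (nat_lit 0x460) (nat_lit 0x2b92bd2bd2b92bd2b8) (nat_lit 0x6968da81669681f49571c) (.w (nat_lit 30) .nil))))))),
  .der (nat_lit 0) (nat_lit 0) (.w (nat_lit 30) (.m (nat_lit 0x42b) (nat_lit 0) (nat_lit 0x1b5e199b75981b5d749b5d3) (.w (nat_lit 30) (.m (nat_lit 833) (nat_lit 0x18017c) (nat_lit 0x1661c8998da65a69649a6a7) (.w (nat_lit 30) (.m (nat_lit 0x45e) (nat_lit 0x139135139139135138135) (nat_lit 0x1b6d86e25dc6215944a7) (.w (nat_lit 30) .nil))))))),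
  .der (nat_lit 0) (nat_lit 0) (.w (nat_lit 30) (.m (nat_lit 836) (nat_lit 0) (nat_lit 0x61789c95971875949a699) (.w (nat_lit 30) (.m (nat_lit 0x437) (nat_lit 0x135138138135139139) (nat_lit 0x177d86168dc698696592521) (.w (nat_lit 30) (.m (nat_lit 0x42b) (nat_lit 0x2b82bb2bc2bb2bd2bd2b9) (nat_lit 0x65a69d69c65a69a656495763) (.w (nat_lit 30) .nil))))))),
  .der (nat_lit 0) (nat_lit 0) (.w (nat_lit 30) (.m (nat_lit 0x42a) (nat_lit 0) (nat_lit 0x59659d8189a26164944e4) (.w (nat_lit 30) (.m (nat_lit 0x41d) (nat_lit 0x2b92bb2bc2b82b8) (nat_lit 0x99c85a71b6668d6494697) (.w (nat_lit 30) (.m (nat_lit 668) (nat_lit 0x13413a13413913413a13a) (nat_lit 0x59c65d6269d862059251f852) (.w (nat_lit 30) .nil))))))),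
  .der (nat_lit 0) (nat_lit 0) (.w (nat_lit 30) (.m (nat_lit 669) (nat_lit 0) (nat_lit 0x5985a05d85a069c494853) (.w (nat_lit 30) (.m (nat_lit 916) (nat_lit 0x13813513813513913a) (nat_lit 0x1966575b61f76059649549a) (.w (nat_lit 30) (.m (nat_lit 796) (nat_lit 0x1fc1fe1fd1fd2011fd) (nat_lit 0x1b75b7e269a5d76164954e1) (.w (nat_lit 30) .nil))))))),
  .der (nat_lit 0) (nat_lit 0) (.w (nat_lit 30) (.m (nat_lit 865) (nat_lit 0) (nat_lit 0x165a06dd59f8165964946dd) (.w (nat_lit 30) (.m (nat_lit 828) (nat_lit 0x2001ff1fc2001fe) (nat_lit 0x1669a6166235d761649b626) (.w (nat_lit 30) (.m (nat_lit 957) (nat_lit 0x13813813b13813b13813b138138) (nat_lit 0x69895a65989771c592818) (.w (nat_lit 30) .nil))))))),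
  .der (nat_lit 0) (nat_lit 0) (.w (nat_lit 30) (.m (nat_lit 795) (nat_lit 0) (nat_lit 0x1b6167605d861c61659249d595) (.w (nat_lit 30) (.m (nat_lit 917) (nat_lit 0x1ff2001ff1fd2011fe) (nat_lit 0x1a62061d8e5598612918) (.w (nat_lit 30) (.m (nat_lit 929) (nat_lit 0x13913413913413a13913a134) (nat_lit 0x197595d861f71a656494517) (.w (nat_lit 30) .nil))))))),
  .der (nat_lit 0) (nat_lit 0) (.w (nat_lit 30) (.m (nat_lit 827) (nat_lit 0x13513913913a13913a) (nat_lit 0x1761c719696618692555) (.w (nat_lit 30) (.m (nat_lit 856) (nat_lit 0x1fd2001fc1fe1fc1fe201) (nat_lit 0x1669d9978db5e66d3659) (.w (nat_lit 30) (.m (nat_lit 0x469) (nat_lit 0x17e18017e17d180) (nat_lit 0x5db65f69999a656498494) (.w (nat_lit 30) .nil))))))),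
  .der (nat_lit 0) (nat_lit 0) (.w (nat_lit 30) (.m (nat_lit 0x41a) (nat_lit 0) (nat_lit 0x5da65b5a05dc5dc9164d5) (.w (nat_lit 30) (.m (nat_lit 0x46b) (nat_lit 0x13813813513813b13813b138135) (nat_lit 0x1659b5a27577da6944e5) (.w (nat_lit 30) (.m (nat_lit 0x460) (nat_lit 0x2b82bc2b92ba2b92ba2bc2bc) (nat_lit 0x5dc6dd8a66178135d8592) (.w (nat_lit 30) .nil))))))),
  .der (nat_lit 0) (nat_lit 0) (.w (nat_lit 30) (.m (nat_lit 611) (nat_lit 0) (nat_lit 0x2665969d6e37db652818752) (.w (nat_lit 30) (.m (nat_lit 830) (nat_lit 0x1fc1ff1fc1fc1fe1fd) (nat_lit 0x5df6185969db7d659269f) (.w (nat_lit 30) (.m (nat_lit 0x45b) (nat_lit 0x139139134139135) (nat_lit 0x1965b6e396661a5964956e1) (.w (nat_lit 30) .nil))))))),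
  .der (nat_lit 0) (nat_lit 0) (.w (nat_lit 30) (.m (nat_lit 933) (nat_lit 0x13513813a139134) (nat_lit 0x197d6598721958696592559712) (.w (nat_lit 30) (.m (nat_lit 0x45d) (nat_lit 0x13813a13413b138138134) (nat_lit 0x957723625858612566) (.w (nat_lit 30) (.m (nat_lit 0x48c) (nat_lit 0x1f11d51f11ee1d51ef) (nat_lit 0x6dd8a671765d5e6492692) (.w (nat_lit 30) .nil))))))),
  .der (nat_lit 0) (nat_lit 0) (.w (nat_lit 30) (.m (nat_lit 914) (nat_lit 0x13413b135138138134134) (nat_lit 0x6666dd61a8d681f65649475a) (.w (nat_lit 30) (.m (nat_lit 0x484) (nat_lit 0x17c17e18018017d17e) (nat_lit 0x59d7dd6639a159a4946d3) (.w (nat_lit 30) (.m (nat_lit 609) (nat_lit 0x1a51a01a51a21a41a31a5) (nat_lit 0x5d86e37206db5dd49599b) (.w (nat_lit 30) .nil))))))),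
  .der (nat_lit 0) (nat_lit 0) (.w (nat_lit 30) (.m (nat_lit 911) (nat_lit 0x13413913913413a139139) (nat_lit 0x187da6576276d44977d2) (.w (nat_lit 30) (.m (nat_lit 910) (nat_lit 0x1fd1fd2011fe2001fd) (nat_lit 0x59c6187d87d75d75d26969d2) (.w (nat_lit 30) (.m (nat_lit 0x427) (nat_lit 0x13813413b135138135) (nat_lit 0x1a6595dc7e669c5d2560) (.w (nat_lit 30) .nil))))))),
  .der (nat_lit 0) (nat_lit 0) (.w (nat_lit 30) (.m (nat_lit 911) (nat_lit 0x13a13413913b138134139139) (nat_lit 0x69861a59a71f8195125df) (.w (nat_lit 30) (.m (nat_lit 826) (nat_lit 0x1fd2011ff1fd1fd1fe1fc) (nat_lit 0x69976661681a6985925666d3) (.w (nat_lit 30) (.m (nat_lit 933) (nat_lit 0x139134139134139134139134) (nat_lit 0x6207197585df51d) (.w (nat_lit 30) .nil))))))),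
  .der (nat_lit 0) (nat_lit 0) (.w (nat_lit 30) (.m (nat_lit 0x41a) (nat_lit 0) (nat_lit 0x1862295d99771775249a593) (.w (nat_lit 30) (.m (nat_lit 0x405) (nat_lit 0x13913b138134) (nat_lit 0x59d8197e359d65c6124a4) (.w (nat_lit 30) (.m (nat_lit 970) (nat_lit 0x11c11c11b11f11b11e) (nat_lit 0x1a61a75b6e075d6d64948a7) (.w (nat_lit 30) .nil))))))),
  .der (nat_lit 0) (nat_lit 0) (.w (nat_lit 30) (.m (nat_lit 0x437) (nat_lit 0x13513813813513813a134139) (nat_lit 0x5d97d871b9d681269a512) (.w (nat_lit 30) (.m (nat_lit 0x471) (nat_lit 0x2b82ba2bc2b92b92b9) (nat_lit 0x197197d669765d6164945d2) (.w (nat_lit 30) (.m (nat_lit 0x43c) (nat_lit 0x138135139) (nat_lit 0x5dc6db8e675861a49461b) (.w (nat_lit 30) .nil))))))),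
  .der (nat_lit 0) (nat_lit 0) (.w (nat_lit 30) (.m (nat_lit 865) (nat_lit 0) (nat_lit 0x1b5e25d76607588974924a4) (.w (nat_lit 30) (.m (nat_lit 951) (nat_lit 0x1fd1ff2011ff2001fe) (nat_lit 0x69885d95d59d8d75d34d5) (.w (nat_lit 30) (.m (nat_lit 0x437) (nat_lit 0x13b138138) (nat_lit 0x65b6db7dd5987d652459c) (.w (nat_lit 30) .nil))))))),
  .der (nat_lit 0) (nat_lit 0) (.w (nat_lit 30) (.m (nat_lit 865) (nat_lit 0) (nat_lit 0x1b6dd5d75db5dc657512627) (.w (nat_lit 30) (.m (nat_lit 848) (nat_lit 0x1fd2001ff1fd2011fd1fd) (nat_lit 0x1d6dd6e565c6a2592553553) (.w (nat_lit 30) (.m (nat_lit 716) (nat_lit 0x13413913a139134139) (nat_lit 0x6176d98586dd5db59269d5d3) (.w (nat_lit 30) .nil))))))),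
  .der (nat_lit 0) (nat_lit 0) (.w (nat_lit 30) (.m (nat_lit 920) (nat_lit 0) (nat_lit 0x65f6615969da752512512) (.w (nat_lit 30) (.m (nat_lit 0x446) (nat_lit 0x13813413913413913413413b) (nat_lit 0x178605da6206167d25189d2) (.w (nat_lit 30) (.m (nat_lit 0x47c) (nat_lit 0x13913913413413b) (nat_lit 0x6575df6d86a695c5d251d552) (.w (nat_lit 30) .nil))))))),
  .der (nat_lit 0) (nat_lit 0) (.w (nat_lit 30) (.m (nat_lit 764) (nat_lit 0) (nat_lit 0x69999c95a59861c6164a0613) (.w (nat_lit 30) (.m (nat_lit 0x44e) (nat_lit 0x13513b13813413913913a13a) (nat_lit 0x5e05da59a71675d5d2818752) (.w (nat_lit 30) (.m (nat_lit 726) (nat_lit 0x13513b13813513913a) (nat_lit 0x59d6d85968576d7495714) (.w (nat_lit 30) .nil))))))),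
  .der (nat_lit 0) (nat_lit 0) (.w (nat_lit 30) (.m (nat_lit 944) (nat_lit 0x13813813813413413b138135) (nat_lit 0x6d78998d661a699656492492) (.w (nat_lit 30) (.m (nat_lit 0x446) (nat_lit 0x13813a13413b138138135139) (nat_lit 0x5966189616dd6db5944a1) (.w (nat_lit 30) (.m (nat_lit 944) (nat_lit 0x13813413b13813813a13913413b) (nat_lit 0x5df6997629d769849565d) (.w (nat_lit 30) .nil))))))),
  .der (nat_lit 0) (nat_lit 0) (.w (nat_lit 30) (.m (nat_lit 865) (nat_lit 0) (nat_lit 0x186a099795965689261c) (.w (nat_lit 30) (.m (nat_lit 840) (nat_lit 0x1fc1fc2011ff) (nat_lit 0x7dc85c62361d5d29d4592) (.w (nat_lit 30) (.m (nat_lit 0x451) (nat_lit 0x13b138138135138138) (nat_lit 0x6e061c71c6996654db4db) (.w (nat_lit 30) .nil)))))))]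
theorem hd567 : CX.chkL dv567 (nat_lit 567) = true := by decide +kernel
def dv596 : List Dv := [.der (nat_lit 0) (nat_lit 0) (.w (nat_lit 30) (.m (nat_lit 654) (nat_lit 0) (nat_lit 0x5dc5d769a65d59b49b5d9) (.w (nat_lit 30) (.m (nat_lit 850) (nat_lit 0x1fc2011fe1fc) (nat_lit 0x1b6577179586205964a05dc) (.w (nat_lit 30) (.m (nat_lit 0x41c) (nat_lit 0x13813a13913a139) (nat_lit 0x166d87d66187188544a2512) (.w (nat_lit 30) .nil))))))),
  .der (nat_lit 0) (nat_lit 0) (.w (nat_lit 30) (.m (nat_lit 932) (nat_lit 0x13a13913913413813a) (nat_lit 0x1b65a65b9a76227564945a3) (.w (nat_lit 30) (.m (nat_lit 911) (nat_lit 0x13913413a13413913413b) (nat_lit 0x176225da6a285a495765) (.w (nat_lit 30) (.m (nat_lit 912) (nat_lit 0x1ff2001ff2001ff) (nat_lit 0x65d59a61881a5985926d2) (.w (nat_lit 30) .nil))))))),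
  .der (nat_lit 0) (nat_lit 0) (.w (nat_lit 30) (.m (nat_lit 911) (nat_lit 0x13413b13813813413a139) (nat_lit 0x1a69f5da5a66a35964964d6) (.w (nat_lit 30) (.m (nat_lit 796) (nat_lit 0x1fc1fc2011fd1fd1fe) (nat_lit 0x177d85a269671f6964975d7) (.w (nat_lit 30) (.m (nat_lit 0x485) (nat_lit 0x1a11a11a31a01a41a11a11a4) (nat_lit 0x198e66df61a712692) (.w (nat_lit 30) .nil))))))),
  .der (nat_lit 0) (nat_lit 0) (.w (nat_lit 30) (.m (nat_lit 827) (nat_lit 0x13813813813413413813813b) (nat_lit 0x6a569a71999b7d25178d3) (.w (nat_lit 30) (.m (nat_lit 910) (nat_lit 0x1fc2001ff1fc2001ff2011ff) (nat_lit 0x69a6a65e37575db5d2696516) (.w (nat_lit 30) (.m (nat_lit 0x452) (nat_lit 0x13a13413913a) (nat_lit 0x1969a7217176e14966d2) (.w (nat_lit 30) .nil))))))),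
  .der (nat_lit 0) (nat_lit 0) (.w (nat_lit 30) (.m (nat_lit 875) (nat_lit 0) (nat_lit 0x6977205988977564945e7) (.w (nat_lit 30) (.m (nat_lit 854) (nat_lit 0x1ff1fc200) (nat_lit 0x186dd65965f6567d64924a6) (.w (nat_lit 30) (.m (nat_lit 837) (nat_lit 0x139139134139139) (nat_lit 0x1a8578e55e55d7652523) (.w (nat_lit 30) .nil))))))),
  .der (nat_lit 0) (nat_lit 0) (.w (nat_lit 30) (.m (nat_lit 670) (nat_lit 0) (nat_lit 0x176e371762585b596495498) (.w (nat_lit 30) (.m (nat_lit 646) (nat_lit 0x13913b13513813813b138) (nat_lit 0x1c99861c5e561a49a712) (.w (nat_lit 30) (.m (nat_lit 0x47b) (nat_lit 0x17c17e17d18117d18017e) (nat_lit 0x1f59a95971a71f612918693) (.w (nat_lit 30) .nil))))))),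
  .der (nat_lit 0) (nat_lit 0) (.w (nat_lit 30) (.m (nat_lit 786) (nat_lit 0) (nat_lit 0x6d76d88229db6e659269a652) (.w (nat_lit 30) (.m (nat_lit 795) (nat_lit 0x13813413913413813a) (nat_lit 0x5df6998265db8d749559c) (.w (nat_lit 30) (.m (nat_lit 878) (nat_lit 0x1fc2002001ff1fd201) (nat_lit 0x5da76665c9dc7d649869a) (.w (nat_lit 30) .nil))))))),
  .der (nat_lit 0) (nat_lit 0) (.w (nat_lit 30) (.m (nat_lit 884) (nat_lit 0) (nat_lit 0x69d759823899592525513) (.w (nat_lit 30) (.m (nat_lit 911) (nat_lit 0x13513813813a13913a134) (nat_lit 0x59671a7d67256184948d2) (.w (nat_lit 30) (.m (nat_lit 874) (nat_lit 0x2011ff2011fd2011fd) (nat_lit 0x1a99d6619966174984d6) (.w (nat_lit 30) .nil))))))),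
  .der (nat_lit 0) (nat_lit 0) (.w (nat_lit 30) (.m (nat_lit 911) (nat_lit 0x134134139139135) (nat_lit 0x5996dc61659f6d8592517514) (.w (nat_lit 30) (.m (nat_lit 802) (nat_lit 0x1fd1fe1fe1fc) (nat_lit 0x5e659b65a69c5d9594494) (.w (nat_lit 30) (.m (nat_lit 0x470) (nat_lit 0x13813a13413b138138134139) (nat_lit 0x5e062375871665a494497) (.w (nat_lit 30) .nil))))))),
  .der (nat_lit 0) (nat_lit 0) (.w (nat_lit 30) (.m (nat_lit 957) (nat_lit 0x13813513b13813b138135138138) (nat_lit 0x208576db6db759712494) (.w (nat_lit 30) (.m (nat_lit 648) (nat_lit 0x17c17c18117c17f18017d) (nat_lit 0x1b5dc61c6676db6164948d8) (.w (nat_lit 30) (.m (nat_lit 716) (nat_lit 0x13413913a13913413b138138135) (nat_lit 0x7e369975b6db4947d2) (.w (nat_lit 30) .nil))))))),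
  .der (nat_lit 0) (nat_lit 0) (.w (nat_lit 30) (.m (nat_lit 858) (nat_lit 0) (nat_lit 0x5d98e585b6596576138e4) (.w (nat_lit 30) (.m (nat_lit 795) (nat_lit 0x13813813513813a139) (nat_lit 0x1665f69a61b5dc6165a46135d2) (.w (nat_lit 30) (.m (nat_lit 878) (nat_lit 0x1fd1fd1ff200) (nat_lit 0x196e161c85771f652499696) (.w (nat_lit 30) .nil))))))),
  .der (nat_lit 0) (nat_lit 0) (.w (nat_lit 30) (.m (nat_lit 968) (nat_lit 0) (nat_lit 0x6a37205a275d85b5a44d5) (.w (nat_lit 30) (.m (nat_lit 996) (nat_lit 0x11c11b11f11b11c11c) (nat_lit 0x1d6186266206987126d8) (.w (nat_lit 30) (.m (nat_lit 0x47f) (nat_lit 0x13813413413b138) (nat_lit 0x1989c71c5e669c6564a05da) (.w (nat_lit 30) .nil))))))),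
  .der (nat_lit 0) (nat_lit 0) (.w (nat_lit 30) (.m (nat_lit 738) (nat_lit 0) (nat_lit 0x1989d65966571b65649b61b) (.w (nat_lit 30) (.m (nat_lit 0x465) (nat_lit 0x13413913913a13913a139) (nat_lit 0x1b6575dc8a369d816494516) (.w (nat_lit 30) (.m (nat_lit 0x4a8) (nat_lit 0x17d18117d18017c17c) (nat_lit 0x1b61695689d5e5656592693) (.w (nat_lit 30) .nil))))))),
  .der (nat_lit 0) (nat_lit 0) (.w (nat_lit 30) (.m (nat_lit 750) (nat_lit 0) (nat_lit 0x2559a7d995d65f512497) (.w (nat_lit 30) (.m (nat_lit 0x4aa) (nat_lit 0x13913913a13913413a) (nat_lit 0x5dc7dc71665959c4944db) (.w (nat_lit 30) (.m (nat_lit 0x438) (nat_lit 0x13813513b13813413a139) (nat_lit 0x166d775f661717754718592) (.w (nat_lit 30) .nil))))))),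
  .der (nat_lit 0) (nat_lit 0) (.w (nat_lit 30) (.m (nat_lit 0x3f2) (nat_lit 0) (nat_lit 0x1899b6596599976565125d9) (.w (nat_lit 30) (.m (nat_lit 0x408) (nat_lit 0x11c11b11d) (nat_lit 0x6dd6d971659f717492923) (.w (nat_lit 30) (.m (nat_lit 0x41c) (nat_lit 0x13813813413913913413813a) (nat_lit 0x6205966995a66a059269f712) (.w (nat_lit 30) .nil))))))),
  .der (nat_lit 0) (nat_lit 0) (.w (nat_lit 30) (.m (nat_lit 950) (nat_lit 0x13813813b13813b) (nat_lit 0x1a5d765a8656216544988d4) (.w (nat_lit 30) (.m (nat_lit 810) (nat_lit 0x1fc2001fe) (nat_lit 0x1999785c5e675b61649a813) (.w (nat_lit 30) (.m (nat_lit 123) (nat_lit 0x8a08f08f08a08f) (nat_lit 0x6d67e18975e55dc49251c) (.w (nat_lit 30) .nil))))))),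
  .der (nat_lit 0) (nat_lit 0) (.w (nat_lit 30) (.m (nat_lit 0x451) (nat_lit 0x13913913b138134) (nat_lit 0x1b6187e28da618896512525) (.w (nat_lit 30) (.m (nat_lit 756) (nat_lit 0x18118118117c17c) (nat_lit 0x1966065f69965b5964964d8) (.w (nat_lit 30) (.m (nat_lit 0x429) (nat_lit 0x13413413b13813413a) (nat_lit 0x1666665775b61849a7d5) (.w (nat_lit 30) .nil))))))),
  .der (nat_lit 0) (nat_lit 0) (.w (nat_lit 30) (.m (nat_lit 0x413) (nat_lit 0) (nat_lit 0x1b65a5e07e569a59649a655) (.w (nat_lit 30) (.m (nat_lit 976) (nat_lit 0x11e11c) (nat_lit 0x61a7d66d66187da497561) (.w (nat_lit 30) (.m (nat_lit 354) (nat_lit 0x4104104103c03e) (nat_lit 0x5dc89b8236d96574d761f) (.w (nat_lit 30) .nil))))))),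
  .der (nat_lit 0) (nat_lit 0) (.w (nat_lit 30) (.m (nat_lit 0x4a0) (nat_lit 0x2b82bb2bd2bb2bc2bb2bc) (nat_lit 0x6e071c72286559a49b5da) (.w (nat_lit 30) (.m (nat_lit 0x436) (nat_lit 0x2bb2bc2b92b92bc2b82bc) (nat_lit 0x177db76659a9a55d44d3) (.w (nat_lit 30) (.m (nat_lit 720) (nat_lit 0x13813413913a134) (nat_lit 0x1f85861b61671b49451f) (.w (nat_lit 30) .nil))))))),
  .der (nat_lit 0) (nat_lit 0) (.w (nat_lit 30) (.m (nat_lit 0x4c3) (nat_lit 0) (nat_lit 0x76661b5dc5dc59851c712) (.w (nat_lit 30) (.m (nat_lit 0x4cd) (nat_lit 0x280285280283280285) (nat_lit 0x1b7607dd6dd59b6564984d9) (.w (nat_lit 30) (.m (nat_lit 0x42b) (nat_lit 0x2bb2bc2bc2b82bc) (nat_lit 0x6a26d86a06575e149571b) (.w (nat_lit 30) .nil))))))),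
  .der (nat_lit 0) (nat_lit 0) (.w (nat_lit 30) (.m (nat_lit 750) (nat_lit 0x285280284280282282282) (nat_lit 0x6d66a559f95d7594956e1) (.w (nat_lit 30) (.m (nat_lit 832) (nat_lit 0x13913413413913a13413a) (nat_lit 0x1b7d6618818856612595) (.w (nat_lit 30) (.m (nat_lit 0x4b1) (nat_lit 0x17c17e17c17e18017f) (nat_lit 0x6627626a275d656496524) (.w (nat_lit 30) .nil))))))),
  .der (nat_lit 0) (nat_lit 0) (.w (nat_lit 30) (.m (nat_lit 750) (nat_lit 0x282281284283283281) (nat_lit 0x1f71c596696722614494) (.w (nat_lit 30) (.m (nat_lit 0x4aa) (nat_lit 0x134139) (nat_lit 0x1a71c8d899d9a159249a593) (.w (nat_lit 30) (.m (nat_lit 732) (nat_lit 0x13813813a13913913513a) (nat_lit 0x1971a8dc7e571a594718592) (.w (nat_lit 30) .nil))))))),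
  .der (nat_lit 0) (nat_lit 0) (.w (nat_lit 30) (.m (nat_lit 750) (nat_lit 0x283285283284282280283283) (nat_lit 0x1a7e06596e0756596512652) (.w (nat_lit 30) (.m (nat_lit 730) (nat_lit 0x13413a13a139139134134) (nat_lit 0x6186e66e399b6256965128e2) (.w (nat_lit 30) (.m (nat_lit 0x4b0) (nat_lit 0x2b82bd2bd2bb2b8) (nat_lit 0x6a36dd85669971c49565d) (.w (nat_lit 30) .nil))))))),
  .der (nat_lit 0) (nat_lit 0) (.w (nat_lit 30) (.m (nat_lit 750) (nat_lit 0x283284280285282284283285) (nat_lit 0x59b75d6df96065c5d471c) (.w (nat_lit 30) (.m (nat_lit 730) (nat_lit 0x13413413b13813b) (nat_lit 0x1b61875d86371b6d255b652) (.w (nat_lit 30) (.m (nat_lit 0x4d1) (nat_lit 0x2b82bd2bb2b8) (nat_lit 0x59959d5dd6176d76126a2) (.w (nat_lit 30) .nil))))))),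
  .der (nat_lit 0) (nat_lit 0) (.w (nat_lit 30) (.m (nat_lit 0x434) (nat_lit 0) (nat_lit 0x197d95dc65f495) (.w (nat_lit 30) (.m (nat_lit 712) (nat_lit 0) (nat_lit 0x61d6db71981d4d7918) (.w (nat_lit 30) (.m (nat_lit 368) (nat_lit 0x3c04103c04103f04003d) (nat_lit 0x2275d81889f817497) (.w (nat_lit 30) .nil))))))),
  .der (nat_lit 0) (nat_lit 0) (.w (nat_lit 30) (.m (nat_lit 647) (nat_lit 0) (nat_lit 0x1695871781b71971649465d) (.w (nat_lit 30) (.m (nat_lit 656) (nat_lit 0x13813813a13913413b) (nat_lit 0x195dd75775f817652525513) (.w (nat_lit 30) (.m (nat_lit 0x469) (nat_lit 0x17c17e17d18117d180) (nat_lit 0x166db7dd6df7196574d9916) (.w (nat_lit 30) .nil))))))),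
  .der (nat_lit 0) (nat_lit 0) (.w (nat_lit 30) (.m (nat_lit 746) (nat_lit 0x17c17c18118117d17f18017c) (nat_lit 0x6d98625d77576924a7) (.w (nat_lit 30) (.m (nat_lit 932) (nat_lit 0x13413913413913413913513a) (nat_lit 0x5d861b5e36e265a5926a2) (.w (nat_lit 30) (.m (nat_lit 730) (nat_lit 0x13413913413813a139) (nat_lit 0x5dd5dc6dd859696494916) (.w (nat_lit 30) .nil))))))),
  .der (nat_lit 0) (nat_lit 0) (.w (nat_lit 30) (.m (nat_lit 0x454) (nat_lit 0x17c17c17e18018017d181) (nat_lit 0x6177e26596dd9934d5) (.w (nat_lit 30) (.m (nat_lit 746) (nat_lit 0x17c17e17d18017e18117e) (nat_lit 0x69659f95661c7d7494626) (.w (nat_lit 30) (.m (nat_lit 918) (nat_lit 0x13413913b) (nat_lit 0x95a7196e695b59281b652) (.w (nat_lit 30) .nil))))))),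
  .der (nat_lit 0) (nat_lit 0) (.w (nat_lit 30) (.m (nat_lit 956) (nat_lit 0x18117f18017d) (nat_lit 0x6df59a75795a7184945d4) (.w (nat_lit 30) (.m (nat_lit 656) (nat_lit 0x13913b13513b138138134) (nat_lit 0x6dd86662181b5d8592492614) (.w (nat_lit 30) (.m (nat_lit 0x480) (nat_lit 0x18118117c17f) (nat_lit 0x1a7636dd61c696512623) (.w (nat_lit 30) .nil))))))),
  .der (nat_lit 0) (nat_lit 0) (.w (nat_lit 30) (.m (nat_lit 0x468) (nat_lit 0) (nat_lit 0x62695a599718898592558) (.w (nat_lit 30) (.m (nat_lit 651) (nat_lit 0x17e18018017e181) (nat_lit 0x1675661a75869d592696) (.w (nat_lit 30) (.m (nat_lit 646) (nat_lit 0x13413913513813813413a) (nat_lit 0x65981c71f5db6604947e3) (.w (nat_lit 30) .nil)))))))]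
theorem hd596 : CX.chkL dv596 (nat_lit 596) = true := by decide +kernel
def dv626 : List Dv := [.der (nat_lit 0) (nat_lit 0) (.w (nat_lit 30) (.m (nat_lit 846) (nat_lit 0) (nat_lit 0x186dd5d95da7d659649a) (.w (nat_lit 30) (.m (nat_lit 0x441) (nat_lit 0x17d17e18117c18017d) (nat_lit 0x59c69671a7597624947d3) (.w (nat_lit 30) (.m (nat_lit 0x4a3) (nat_lit 0x17c17e18117c17f) (nat_lit 0x177dd6575e56a2593659557) (.w (nat_lit 30) .nil))))))),
  .der (nat_lit 0) (nat_lit 0) (.w (nat_lit 30) (.m (nat_lit 0x4df) (nat_lit 0) (nat_lit 0x1971975d7dd89775261c) (.w (nat_lit 30) (.m (nat_lit 853) (nat_lit 0x17f17c18117e17d) (nat_lit 0x1861f75b81c6575d7495553) (.w (nat_lit 30) (.m (nat_lit 0x469) (nat_lit 0x17d17f18118117e17c) (nat_lit 0x61d8dd66099a65d5d26d8492) (.w (nat_lit 30) .nil))))))),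
  .der (nat_lit 0) (nat_lit 0) (.w (nat_lit 30) (.m (nat_lit 923) (nat_lit 0) (nat_lit 0x5a061671c8dc61b495757) (.w (nat_lit 30) (.m (nat_lit 946) (nat_lit 0x17c17c17f17c17c18017c) (nat_lit 0x1869d85799a99c6e44e3) (.w (nat_lit 30) (.m (nat_lit 0x42a) (nat_lit 0x17c17c18017f17c18017c17c) (nat_lit 0x6226d871785b5e65936d5652) (.w (nat_lit 30) .nil))))))),
  .der (nat_lit 0) (nat_lit 0) (.w (nat_lit 30) (.m (nat_lit 0x4de) (nat_lit 0x17c18017f17d17f17c) (nat_lit 0x6db5dd95696075255d594) (.w (nat_lit 30) (.m (nat_lit 915) (nat_lit 0x17c17e18117d17e17e17c) (nat_lit 0x1971b65a71965c4a05db) (.w (nat_lit 30) (.m (nat_lit 668) (nat_lit 0x13913413913b138135138135) (nat_lit 0x167dd8da71a696996592512817) (.w (nat_lit 30) .nil))))))),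
  .der (nat_lit 0) (nat_lit 0) (.w (nat_lit 30) (.m (nat_lit 0x49f) (nat_lit 0) (nat_lit 0x6e16e159a5db6d64954a4) (.w (nat_lit 30) (.m (nat_lit 0x48d) (nat_lit 0x2bb2b82bd2ba) (nat_lit 0x7dd5dc6975e58604954d8) (.w (nat_lit 30) (.m (nat_lit 784) (nat_lit 0x1d41d41ee1d5) (nat_lit 0x7e066159a6996d2615852) (.w (nat_lit 30) .nil))))))),
  .der (nat_lit 0) (nat_lit 0) (.w (nat_lit 30) (.m (nat_lit 0x469) (nat_lit 0) (nat_lit 0x1a66371659c8a16d85945d3) (.w (nat_lit 30) (.m (nat_lit 0x46a) (nat_lit 0x2bb2b82bb2bb2b9) (nat_lit 0x7e065689b6e3852499696) (.w (nat_lit 30) (.m (nat_lit 716) (nat_lit 0x13513813813413a) (nat_lit 0x185a272165d99b7564a05d9) (.w (nat_lit 30) .nil))))))),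
  .der (nat_lit 0) (nat_lit 0) (.w (nat_lit 30) (.m (nat_lit 0x4a0) (nat_lit 0x2b82bb2bd2bb2bc2bb2bc) (nat_lit 0x185db61c9975e16974946d2) (.w (nat_lit 30) (.m (nat_lit 0x4c5) (nat_lit 0x2b82b82bb) (nat_lit 0x167215df817717657496523) (.w (nat_lit 30) (.m (nat_lit 0x42a) (nat_lit 0x17c17e17e18117c181181) (nat_lit 0x7607dd5da89d59b495556) (.w (nat_lit 30) .nil))))))),
  .der (nat_lit 0) (nat_lit 0) (.w (nat_lit 30) (.m (nat_lit 0x49e) (nat_lit 0) (nat_lit 0x1769659d5d86d86d25178d3) (.w (nat_lit 30) (.m (nat_lit 955) (nat_lit 0x17c18018017c18017f180) (nat_lit 0x59895a66159665b512621) (.w (nat_lit 30) (.m (nat_lit 730) (nat_lit 0x13913a13913913b135) (nat_lit 0x69896165d65c721592559592) (.w (nat_lit 30) .nil))))))),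
  .der (nat_lit 0) (nat_lit 0) (.w (nat_lit 30) (.m (nat_lit 0x468) (nat_lit 0) (nat_lit 0x1a59d5dc62361661649b5dc) (.w (nat_lit 30) (.m (nat_lit 0x42a) (nat_lit 0x17e18117f17c17f17f) (nat_lit 0x85d75b5db7578da4db4d8) (.w (nat_lit 30) (.m (nat_lit 0x4a0) (nat_lit 0x2bb2b92b92b92bd2bd) (nat_lit 0x5a16df6596d659f5926d7) (.w (nat_lit 30) .nil))))))),
  .der (nat_lit 0) (nat_lit 0) (.w (nat_lit 30) (.m (nat_lit 0x458) (nat_lit 0x17e17d17e17e17c17c17f) (nat_lit 0x198da7dd996618592518812) (.w (nat_lit 30) (.m (nat_lit 648) (nat_lit 0x17c17e17c17f18018017c) (nat_lit 0x1975889d81b6616d2492696) (.w (nat_lit 30) (.m (nat_lit 724) (nat_lit 0x13813413a13a13913a134) (nat_lit 0x1a59d6616997d661b494953) (.w (nat_lit 30) .nil))))))),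
  .der (nat_lit 0) (nat_lit 0) (.w (nat_lit 30) (.m (nat_lit 669) (nat_lit 0) (nat_lit 0x2171976059a7dd49899c) (.w (nat_lit 30) (.m (nat_lit 954) (nat_lit 0x13813b138135139) (nat_lit 0x65f6a275b5a15db592527) (.w (nat_lit 30) (.m (nat_lit 0x4ef) (nat_lit 0x17c18017f181) (nat_lit 0x6e05db5df75d75651c722) (.w (nat_lit 30) .nil))))))),
  .der (nat_lit 0) (nat_lit 0) (.w (nat_lit 30) (.m (nat_lit 653) (nat_lit 0x17d18017d18017c) (nat_lit 0x59c6df6d699c71749a59a) (.w (nat_lit 30) (.m (nat_lit 600) (nat_lit 0x1fc2011ff2001fc1fe201) (nat_lit 0x176266d9859657716494652) (.w (nat_lit 30) (.m (nat_lit 864) (nat_lit 0x1fe1fc2001fd1fe201) (nat_lit 0x7216d86e37587d2497) (.w (nat_lit 30) .nil))))))),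
  .der (nat_lit 0) (nat_lit 0) (.w (nat_lit 30) (.m (nat_lit 0x442) (nat_lit 0x17c18117f17d18017c17c) (nat_lit 0x5a565b59659c5d85935d7) (.w (nat_lit 30) (.m (nat_lit 0x474) (nat_lit 0x17f18117c17f17d) (nat_lit 0x6d671c958857625592595552) (.w (nat_lit 30) (.m (nat_lit 0x475) (nat_lit 0x17c18117c18117e17e) (nat_lit 0x61d5e06db6607574d3) (.w (nat_lit 30) .nil))))))),
  .der (nat_lit 0) (nat_lit 0) (.w (nat_lit 30) (.m (nat_lit 0x4ee) (nat_lit 0) (nat_lit 0x6dd6a169d7d7959594722) (.w (nat_lit 30) (.m (nat_lit 0x46c) (nat_lit 0x17c17f17c17f17d) (nat_lit 0x82659a9987e0524594) (.w (nat_lit 30) (.m (nat_lit 0x4f6) (nat_lit 0x17c17f18117e17d180) (nat_lit 0x1a69f6d68db6d64d665b) (.w (nat_lit 30) .nil))))))),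
  .der (nat_lit 0) (nat_lit 0) (.w (nat_lit 30) (.m (nat_lit 0x4b0) (nat_lit 0) (nat_lit 0x65995a8e265a65f6165174d9) (.w (nat_lit 30) (.m (nat_lit 0x47a) (nat_lit 0x17c17f17f181181) (nat_lit 0x1a82565d59c61a75649a813) (.w (nat_lit 30) (.m (nat_lit 0x454) (nat_lit 0x17c180180) (nat_lit 0x168da75b7d97dd5964946d4) (.w (nat_lit 30) .nil))))))),
  .der (nat_lit 0) (nat_lit 0) (.w (nat_lit 30) (.m (nat_lit 0x47b) (nat_lit 0) (nat_lit 0x7d86d769771b897492753) (.w (nat_lit 30) (.m (nat_lit 0x42e) (nat_lit 0x17d18117c) (nat_lit 0x265a175b75f7614a4559) (.w (nat_lit 30) (.m (nat_lit 0x470) (nat_lit 0x13913913413413b) (nat_lit 0x5987d68dc99b61d59649571c) (.w (nat_lit 30) .nil))))))),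
  .der (nat_lit 0) (nat_lit 0) (.w (nat_lit 30) (.m (nat_lit 0x48b) (nat_lit 0) (nat_lit 0x1771a71a8d681b5d2817693) (.w (nat_lit 30) (.m (nat_lit 0x46e) (nat_lit 0x13913413913b) (nat_lit 0x6a19976dd9d761659251f8d2) (.w (nat_lit 30) (.m (nat_lit 0x469) (nat_lit 0x17e17c17c18117d181) (nat_lit 0x6d77657578977da916654) (.w (nat_lit 30) .nil))))))),
  .der (nat_lit 0) (nat_lit 0) (.w (nat_lit 30) (.m (nat_lit 909) (nat_lit 0) (nat_lit 0x65c61a61b7635d7512624) (.w (nat_lit 30) (.m (nat_lit 666) (nat_lit 0x17d17f) (nat_lit 0x95971f5df6976964925d4) (.w (nat_lit 30) (.m (nat_lit 0x501) (nat_lit 0x17d17f17c17f17f180) (nat_lit 0x1a65b61861861661649275b) (.w (nat_lit 30) .nil))))))),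
  .der (nat_lit 0) (nat_lit 0) (.w (nat_lit 30) (.m (nat_lit 0x436) (nat_lit 0) (nat_lit 0x197197dc6236e1616494954) (.w (nat_lit 30) (.m (nat_lit 905) (nat_lit 0x13913a) (nat_lit 0x8db6d789d6269525189d4) (.w (nat_lit 30) (.m (nat_lit 574) (nat_lit 0xa40a90a40a80a40a8) (nat_lit 0x66269d75b99895b592626613) (.w (nat_lit 30) .nil))))))),
  .der (nat_lit 0) (nat_lit 0) (.w (nat_lit 30) (.m (nat_lit 0x480) (nat_lit 0x17f18117c18117c) (nat_lit 0x1669981f59672569649b4d6) (.w (nat_lit 30) (.m (nat_lit 0x501) (nat_lit 0x17f17c18117d17e) (nat_lit 0x5a695a6a65e55d851c61c) (.w (nat_lit 30) (.m (nat_lit 0x460) (nat_lit 0x2b92ba2b82ba2bd2bd2ba) (nat_lit 0x1b666596665697495760) (.w (nat_lit 30) .nil))))))),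
  .der (nat_lit 0) (nat_lit 0) (.w (nat_lit 30) (.m (nat_lit 0x42b) (nat_lit 0) (nat_lit 0x1a75671c61b59c69649249a) (.w (nat_lit 30) (.m (nat_lit 952) (nat_lit 0x17f17d18017d181) (nat_lit 0x6d882285c7177db5d25596d3) (.w (nat_lit 30) (.m (nat_lit 0x42a) (nat_lit 0x17c18117c18018017c180) (nat_lit 0x1669d6d78167d665251d492) (.w (nat_lit 30) .nil))))))),
  .der (nat_lit 0) (nat_lit 0) (.w (nat_lit 30) (.m (nat_lit 968) (nat_lit 0) (nat_lit 0x1899b661696725892518) (.w (nat_lit 30) (.m (nat_lit 990) (nat_lit 0x11f11f11d11a11d) (nat_lit 0x5db8dd5989d775661649b5d3) (.w (nat_lit 30) (.m (nat_lit 857) (nat_lit 0x17d18117e17c18017e) (nat_lit 0x1a85765d61c5e5716495553) (.w (nat_lit 30) .nil))))))),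
  .der (nat_lit 0) (nat_lit 0) (.w (nat_lit 30) (.m (nat_lit 0x4cc) (nat_lit 0) (nat_lit 0x6a565d8187226d9494659) (.w (nat_lit 30) (.m (nat_lit 0x4c2) (nat_lit 0x281284282285280282284) (nat_lit 0x81671a61b95f6d2919) (.w (nat_lit 30) (.m (nat_lit 0x49f) (nat_lit 0x18017f180) (nat_lit 0x61f6d762675b61749871c) (.w (nat_lit 30) .nil))))))),
  .der (nat_lit 0) (nat_lit 0) (.w (nat_lit 30) (.m (nat_lit 0x458) (nat_lit 0x17e17d17e18017c18117f) (nat_lit 0x196598196a369a7d65924a1512) (.w (nat_lit 30) (.m (nat_lit 0x4a7) (nat_lit 0x17e18017e17e) (nat_lit 0x75b59d6e075d5e54d9655) (.w (nat_lit 30) (.m (nat_lit 0x4db) (nat_lit 0x2bd2ba2bd2b8) (nat_lit 0x1a75659a89d7d749a894) (.w (nat_lit 30) .nil))))))),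
  .der (nat_lit 0) (nat_lit 0) (.w (nat_lit 30) (.m (nat_lit 670) (nat_lit 0x1a21a11a31a01a31a0) (nat_lit 0x1c6d766295a61849b) (.w (nat_lit 30) (.m (nat_lit 0x446) (nat_lit 0x13913913513813a134139) (nat_lit 0x8579a55df718592499592) (.w (nat_lit 30) (.m (nat_lit 608) (nat_lit 0x13913b135139139) (nat_lit 0x59665776175b61c51c61c) (.w (nat_lit 30) .nil))))))),
  .der (nat_lit 0) (nat_lit 0) (.w (nat_lit 30) (.m (nat_lit 0x485) (nat_lit 0x1a51a51a11a41a41a1) (nat_lit 0x186df61a6a35986964926a7) (.w (nat_lit 30) (.m (nat_lit 0x450) (nat_lit 0x17e17d18017d) (nat_lit 0x61b5e569d7616985d2523893) (.w (nat_lit 30) (.m (nat_lit 0x41c) (nat_lit 0x13913913513b138138) (nat_lit 0x1b8187da69a9a16d7494499) (.w (nat_lit 30) .nil))))))),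
  .der (nat_lit 0) (nat_lit 0) (.w (nat_lit 30) (.m (nat_lit 609) (nat_lit 0x1a01a41a21a21a11a41a41a2) (nat_lit 0x236d86db8996d94a05d3) (.w (nat_lit 30) (.m (nat_lit 0x494) (nat_lit 0x13813813813413813413913a) (nat_lit 0x1b6d881881f59d61749571c) (.w (nat_lit 30) (.m (nat_lit 0x49c) (nat_lit 0x2b82bb2b82bb2bd2b9) (nat_lit 0x1b8176236a0622594756756) (.w (nat_lit 30) .nil))))))),
  .der (nat_lit 0) (nat_lit 0) (.w (nat_lit 30) (.m (nat_lit 822) (nat_lit 0x1a01a51a01a41a01a31a51a5) (nat_lit 0x1989c7da6a58176564925d9) (.w (nat_lit 30) (.m (nat_lit 610) (nat_lit 0x2001fc2001fc1fc2011fd) (nat_lit 0x5d771a5a575671a592517556) (.w (nat_lit 30) (.m (nat_lit 0x4a8) (nat_lit 0x17c17c17f17d18017c) (nat_lit 0x1775d5e57576d88585135dd) (.w (nat_lit 30) .nil))))))),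
  .der (nat_lit 0) (nat_lit 0) (.w (nat_lit 30) (.m (nat_lit 0x4e7) (nat_lit 0) (nat_lit 0x69a99c71f6d86df5d26a2) (.w (nat_lit 30) (.m (nat_lit 946) (nat_lit 0x17c17f17c18117c17c) (nat_lit 0x1d5a671c617666592492614) (.w (nat_lit 30) (.m (nat_lit 0x487) (nat_lit 0x18017e181) (nat_lit 0x185dc7216a66615d3593613) (.w (nat_lit 30) .nil))))))),
  .der (nat_lit 0) (nat_lit 0) (.w (nat_lit 30) (.m (nat_lit 0x4f4) (nat_lit 0x2b92bb2bc) (nat_lit 0x59d5d76e05a56976138e4) (.w (nat_lit 30) (.m (nat_lit 0x436) (nat_lit 0x2b82bb2bc2b8) (nat_lit 0x69d7e065f65d59c4946e1) (.w (nat_lit 30) (.m (nat_lit 0x427) (nat_lit 0x13413b138134139134138) (nat_lit 0x177588636d77d761649a7dc) (.w (nat_lit 30) .nil))))))),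
  .der (nat_lit 0) (nat_lit 0) (.w (nat_lit 30) (.m (nat_lit 760) (nat_lit 0x2bd2b92bc2bc2b8) (nat_lit 0x6d68177d9716599592553553) (.w (nat_lit 30) (.m (nat_lit 0x437) (nat_lit 0x13813413913413913913a134139) (nat_lit 0x59d76269f59971251b) (.w (nat_lit 30) (.m (nat_lit 0x462) (nat_lit 0x2ba2b92ba2ba2b82b82b8) (nat_lit 0x7dc7215d7759659495556) (.w (nat_lit 30) .nil)))))))]
theorem hd626 : CX.chkL dv626 (nat_lit 626) = true := by decide +kernel
def dv657 : List Dv := [.der (nat_lit 0) (nat_lit 0) (.w (nat_lit 30) (.m (nat_lit 920) (nat_lit 0x2bb2b92b92ba) (nat_lit 0x59d7e265d59b652518) (.w (nat_lit 30) (.m (nat_lit 650) (nat_lit 0x13b135138135) (nat_lit 0x5966598a36d76d6524599) (.w (nat_lit 30) (.m (nat_lit 0x42a) (nat_lit 0x17c17e18017e) (nat_lit 0x1671a59a9976a1592492614) (.w (nat_lit 30) .nil))))))),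
  .der (nat_lit 0) (nat_lit 0) (.w (nat_lit 30) (.m (nat_lit 0x4f0) (nat_lit 0x2b82bc2b82bc2b92b9) (nat_lit 0x6a371f81c7d875d5a44d6) (.w (nat_lit 30) (.m (nat_lit 0x4a0) (nat_lit 0x2b92ba2bd2b82bb2b92bc) (nat_lit 0x6d871a59869d61f5964945a7) (.w (nat_lit 30) (.m (nat_lit 0x462) (nat_lit 0x2b92bb2b82b82bd2bb) (nat_lit 0x6d76996d97dc5994954d5) (.w (nat_lit 30) .nil))))))),
  .der (nat_lit 0) (nat_lit 0) (.w (nat_lit 30) (.m (nat_lit 0x426) (nat_lit 0x2b82b82bc2b82bc2bb2bb) (nat_lit 0x1761b59c61f762756495753) (.w (nat_lit 30) (.m (nat_lit 0x437) (nat_lit 0x13913413913a13a13913413b) (nat_lit 0x69c7e371885b65a4945e6) (.w (nat_lit 30) (.m (nat_lit 0x460) (nat_lit 0x2b82bd2ba2ba2b92b92ba) (nat_lit 0x195a672665d59d69491c) (.w (nat_lit 30) .nil))))))),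
  .der (nat_lit 0) (nat_lit 0) (.w (nat_lit 30) (.m (nat_lit 772) (nat_lit 0) (nat_lit 0x6a399869f69672349471a) (.w (nat_lit 30) (.m (nat_lit 609) (nat_lit 0x1a01a01a51a01a41a11a1) (nat_lit 0x1a76085861f6d86164946dd) (.w (nat_lit 30) (.m (nat_lit 0x488) (nat_lit 0x13413a13a139134) (nat_lit 0x6a55d7758958616592595892) (.w (nat_lit 30) .nil))))))),
  .der (nat_lit 0) (nat_lit 0) (.w (nat_lit 30) (.m (nat_lit 263) (nat_lit 0) (nat_lit 0x226996e66dd81b612492614) (.w (nat_lit 30) (.m (nat_lit 354) (nat_lit 0x3e03c03f03d03f03d) (nat_lit 0x1b59f6a56968934d5) (.w (nat_lit 30) (.m (nat_lit 0x4d0) (nat_lit 0x280284284284280284283) (nat_lit 0x1b6d8617822759654494953) (.w (nat_lit 30) .nil))))))),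
  .der (nat_lit 0x2544d3cd3502c2189111088) (nat_lit 0) (.m (nat_lit 0x52a) (nat_lit 0) (nat_lit 0) (.m (nat_lit 423) (nat_lit 696) (nat_lit 0x1a5e06d97668586964db4d9) .nil)),
  .der (nat_lit 0) (nat_lit 0) (.m (nat_lit 262) (nat_lit 0) (nat_lit 0) (.m (nat_lit 0x52c) (nat_lit 0) (nat_lit 0) .nil)),
  .der (nat_lit 0) (nat_lit 0) (.w (nat_lit 30) (.m (nat_lit 0x4c7) (nat_lit 0x80084081081085082081081) (nat_lit 0x1765d8627675df59649a595) (.w (nat_lit 30) (.m (nat_lit 0x4ac) (nat_lit 0x139134134139134138) (nat_lit 0x176266db5e181f592552912) (.w (nat_lit 30) (.m (nat_lit 0x3f8) (nat_lit 0x17c18017f18117f) (nat_lit 0x69f6e65da69f61249b) (.w (nat_lit 30) .nil))))))),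
  .df,
  .der (nat_lit 0) (nat_lit 0) (.m (nat_lit 0x533) (nat_lit 0) (nat_lit 0x265e159675871b7526d8893) (.m (nat_lit 0x532) (nat_lit 0xb20600b30600b10b10b30b30600b10610b30610b30b30b10b10b30b1) (nat_lit 0) .nil)),
  .der (nat_lit 0) (nat_lit 0) (.m (nat_lit 0x533) (nat_lit 0) (nat_lit 0x62561c61d61c719494598) (.m (nat_lit 0x532) (nat_lit 0x600b30b30b10b20b00600b00610610b10610b20610b00b20600600b1) (nat_lit 0) .nil)),
  .der (nat_lit 0) (nat_lit 0) (.m (nat_lit 0x533) (nat_lit 0) (nat_lit 0x6165a359a85a7d6913) (.m (nat_lit 0x532) (nat_lit 0x610b20610b30b00610b30b30610b10610b00b00b3) (nat_lit 0) .nil)),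
  .der (nat_lit 0) (nat_lit 0x538535537) .nil,
  .der (nat_lit 0) (nat_lit 0) (.w (nat_lit 30) (.m (nat_lit 0x533) (nat_lit 0) (nat_lit 0x59a65f61861d618594492856) (.w (nat_lit 30) (.m (nat_lit 93) (nat_lit 0xb20610b00b00b3) (nat_lit 0x66371a7236256174a0) (.w (nat_lit 30) (.m (nat_lit 472) (nat_lit 0x3e03c03e03d03e03c04003c) (nat_lit 0x178176e375b5e06935996d3) (.w (nat_lit 30) .nil))))))),
  .der (nat_lit 0x30f30a94d88a38a08278844c) (nat_lit 0) (.m (nat_lit 0x53c) (nat_lit 0) (nat_lit 0x6966dd5988566d6496516) (.m (nat_lit 0x53d) (nat_lit 0x2002001ff2002002012011ff) (nat_lit 0) .nil)),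
  .der (nat_lit 0x30f30a94d88a38a08278844c) (nat_lit 0) (.m (nat_lit 0x53c) (nat_lit 0) (nat_lit 0x1b6e161a65669c49471a) (.m (nat_lit 0x53d) (nat_lit 0x1fe2012012011ff1fc1fc1fe2001fd) (nat_lit 0) .nil)),
  .der (nat_lit 0) (nat_lit 0x53f540) .nil,
  .der (nat_lit 0) (nat_lit 0x53b53b54253a542) .nil,
  .der (nat_lit 0) (nat_lit 0) (.w (nat_lit 30) (.m (nat_lit 369) (nat_lit 0) (nat_lit 0x6d77db8dc99861a5d26d87d2) (.w (nat_lit 30) (.m (nat_lit 92) (nat_lit 62) (nat_lit 0x7605e065c618616495712) (.w (nat_lit 30) (.m (nat_lit 0x532) (nat_lit 0x600b00b20b10b2061) (nat_lit 0x1775b7d871a6187d69134d5) (.w (nat_lit 30) .nil))))))),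
  .der (nat_lit 0) (nat_lit 0) (.w (nat_lit 30) (.m (nat_lit 588) (nat_lit 0) (nat_lit 0x6997dd656757718692492492) (.w (nat_lit 30) (.m (nat_lit 576) (nat_lit 0) (nat_lit 0x5a576369d9e159959649a59a) (.w (nat_lit 30) (.m (nat_lit 0x532) (nat_lit 0xb00600b20600b10b20b10b1) (nat_lit 0x6988598e65df5964945e5) (.w (nat_lit 30) .nil))))))),
  .der (nat_lit 0) (nat_lit 0) (.w (nat_lit 30) (.m (nat_lit 0x549) (nat_lit 0) (nat_lit 0x61c85b6188176564945dc) (.w (nat_lit 30) (.m (nat_lit 822) (nat_lit 0x1a01a41a11a41a31a51a0) (nat_lit 0x1b75d8626967d6897495661) (.w (nat_lit 30) (.m (nat_lit 0x3f0) (nat_lit 0x1fc1fc1fe1fe) (nat_lit 0x6996d67db5e67184da) (.w (nat_lit 30) .nil))))))),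
  .der (nat_lit 0) (nat_lit 0) (.w (nat_lit 30) (.m (nat_lit 990) (nat_lit 0x11c11b11b11f11b11b11c11b) (nat_lit 0x1971a89d7597dc4a06d7) (.w (nat_lit 30) (.m (nat_lit 0x4ef) (nat_lit 0x17f18117c18117d) (nat_lit 0x5967586166d76975d25146d2) (.w (nat_lit 30) (.m (nat_lit 0x546) (nat_lit 0x17d181) (nat_lit 0x69f61a99c6a181b495618) (.w (nat_lit 30) .nil))))))),
  .der (nat_lit 0) (nat_lit 0) (.w (nat_lit 30) (.m (nat_lit 0x547) (nat_lit 0) (nat_lit 0x175db6e27256d89564a0613) (.w (nat_lit 30) (.m (nat_lit 0x469) (nat_lit 0x17f17f17c) (nat_lit 0x1761a5a28665dc6965924a4) (.w (nat_lit 30) (.m (nat_lit 0x433) (nat_lit 0x2b82b82ba2b82b82ba2bd) (nat_lit 0x178996665a559661659251f492) (.w (nat_lit 30) .nil))))))),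
  .der (nat_lit 0) (nat_lit 0) (.w (nat_lit 30) (.m (nat_lit 0x465) (nat_lit 0x13413b13513813b) (nat_lit 0x1a5db6186d66d6896495759) (.w (nat_lit 30) (.m (nat_lit 648) (nat_lit 0x17c17c18118117d181181) (nat_lit 0x61a6a675871b75649b612) (.w (nat_lit 30) (.m (nat_lit 0x54f) (nat_lit 0x13813b138138) (nat_lit 0x6a56607d95d7862592522) (.w (nat_lit 30) .nil))))))),
  .der (nat_lit 0) (nat_lit 0) (.w (nat_lit 30) (.m (nat_lit 0x547) (nat_lit 0) (nat_lit 0x1899671f7167dd5d74956d6) (.w (nat_lit 30) (.m (nat_lit 956) (nat_lit 0x17d18017f17d) (nat_lit 0x65f59875995c5dc49565d) (.w (nat_lit 30) (.m (nat_lit 720) (nat_lit 0x13813413913413413913a) (nat_lit 0x5d97216965a2852514) (.w (nat_lit 30) .nil))))))),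
  .der (nat_lit 0) (nat_lit 0) (.w (nat_lit 30) (.m (nat_lit 0x547) (nat_lit 0) (nat_lit 0x81c61b5dc72181b49465d) (.w (nat_lit 30) (.m (nat_lit 955) (nat_lit 0x17c18117d18117c17e17e) (nat_lit 0x61a62361b65c7225d249d6d6) (.w (nat_lit 30) (.m (nat_lit 0x427) (nat_lit 0x13913513813a134139) (nat_lit 0x5d85a359a7196d2499) (.w (nat_lit 30) .nil))))))),
  .der (nat_lit 0) (nat_lit 0) (.w (nat_lit 30) (.m (nat_lit 0x54e) (nat_lit 0) (nat_lit 0x65a5da8185a26165925d3752) (.w (nat_lit 30) (.m (nat_lit 0x435) (nat_lit 0x13a13a139) (nat_lit 0x85669d95881b7574945db) (.w (nat_lit 30) (.m (nat_lit 664) (nat_lit 0x17e18117c180) (nat_lit 0x1659c6e562085f653659557) (.w (nat_lit 30) .nil))))))),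
  .der (nat_lit 0) (nat_lit 0) (.w (nat_lit 30) (.m (nat_lit 0x554) (nat_lit 0) (nat_lit 0x65b99859d6d6996492696) (.w (nat_lit 30) (.m (nat_lit 0x471) (nat_lit 0x2b82bb2bb2b82b82bc) (nat_lit 0x2369861a69a69a492527) (.w (nat_lit 30) (.m (nat_lit 911) (nat_lit 0x13813813413a13413913913a139) (nat_lit 0x1a7d671859d81999649249c) (.w (nat_lit 30) .nil))))))),
  .df,
  .der (nat_lit 0) (nat_lit 0) (.m (nat_lit 0x55b) (nat_lit 0) (nat_lit 0x61c99b75b61f49a815) (.m (nat_lit 0x55a) (nat_lit 0xb30600b10600b20b20b00b30610b30600600600b10b30b30b30b0) (nat_lit 0) .nil)),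
  .der (nat_lit 0) (nat_lit 0) (.m (nat_lit 0x55b) (nat_lit 0) (nat_lit 0x5a265975d7665964db) (.m (nat_lit 0x55a) (nat_lit 0x600b10600b10600b00600b10b00600b10b10b30b30b0) (nat_lit 0) .nil)),
  .der (nat_lit 0) (nat_lit 0) (.m (nat_lit 0x55b) (nat_lit 0) (nat_lit 0x6575db623699725592519512) (.m (nat_lit 0x55a) (nat_lit 0x600b20b20600600b20b20610b30610b30610b30b00b20b00b3) (nat_lit 0) .nil)),
  .der (nat_lit 0) (nat_lit 0x55c55f55e) .nil,
  .der (nat_lit 0) (nat_lit 0x563563560562560) .nil,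
  .der (nat_lit 0) (nat_lit 0) (.w (nat_lit 30) (.m (nat_lit 0x55b) (nat_lit 0) (nat_lit 0x9a55986d87228d7495654) (.w (nat_lit 30) (.m (nat_lit 93) (nat_lit 0xb20610b00b30b30b3) (nat_lit 0x175d76a36a78a365649461b) (.w (nat_lit 30) (.m (nat_lit 472) (nat_lit 0x3e03d03e03d04003c03e040) (nat_lit 0x196986a159a6598d649475a) (.w (nat_lit 30) .nil))))))),
  .der (nat_lit 0) (nat_lit 0) (.w (nat_lit 30) (.m (nat_lit 391) (nat_lit 0) (nat_lit 0x1861a99a71995859649869a) (.w (nat_lit 30) (.m (nat_lit 472) (nat_lit 0x3e03e03d03d04103e03c03e) (nat_lit 0x5d78db75b5e66226164a45dd) (.w (nat_lit 30) (.m (nat_lit 0x567) (nat_lit 0x1fe1fd1fd2001fd) (nat_lit 0x5d795859861c6d95e44d6) (.w (nat_lit 30) .nil))))))),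
  .der (nat_lit 0) (nat_lit 0) (.w (nat_lit 30) (.m (nat_lit 234) (nat_lit 0) (nat_lit 0x59c956818817659596494524) (.w (nat_lit 30) (.m (nat_lit 472) (nat_lit 0x3d04003f03c04003c03e040) (nat_lit 0x6a675d65f59d5da5d291c) (.w (nat_lit 30) (.m (nat_lit 0x567) (nat_lit 0x1fe2001fc2011fd1fd) (nat_lit 0x186999566268dc612498) (.w (nat_lit 30) .nil))))))),
  .der (nat_lit 0) (nat_lit 0) (.w (nat_lit 30) (.m (nat_lit 122) (nat_lit 0) (nat_lit 0x6db76195869f69c49a759) (.w (nat_lit 30) (.m (nat_lit 161) (nat_lit 0x8e08e08b08e08e08c08b) (nat_lit 0x61c6df8586d67576d44d7694) (.w (nat_lit 30) (.m (nat_lit 0x56a) (nat_lit 0xa40a40a40a90a40a8) (nat_lit 0x177e265771885b856592522) (.w (nat_lit 30) .nil))))))),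
  .der (nat_lit 0) (nat_lit 0) (.w (nat_lit 30) (.m (nat_lit 976) (nat_lit 0) (nat_lit 0x198195db59f65d996496516) (.w (nat_lit 30) (.m (nat_lit 92) (nat_lit 62) (nat_lit 0x197dc69c723616613593613) (.w (nat_lit 30) (.m (nat_lit 0x55a) (nat_lit 0x600b30b30600b00b00600600b1) (nat_lit 0x1a75b6d67e25dd6d25147d6) (.w (nat_lit 30) .nil))))))),
  .der (nat_lit 0) (nat_lit 0) (.w (nat_lit 30) (.m (nat_lit 0x55b) (nat_lit 0) (nat_lit 0x2566375b5a069f6d4498) (.w (nat_lit 30) (.m (nat_lit 0x532) (nat_lit 0x600b00b00b00600b30b0) (nat_lit 0x65f6596dd8e085c5a459d) (.w (nat_lit 30) (.m (nat_lit 0x53c) (nat_lit 0x54554553a542542544544) (nat_lit 0x1b7e059f5a559c5964925e7) (.w (nat_lit 30) .nil))))))),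
  .der (nat_lit 0) (nat_lit 0) (.w (nat_lit 30) (.m (nat_lit 0x546) (nat_lit 0) (nat_lit 0x1b75b5a265995a8525a5) (.w (nat_lit 30) (.m (nat_lit 0x533) (nat_lit 0x54254453b) (nat_lit 0x6d771c6e29595965964d9498) (.w (nat_lit 30) (.m (nat_lit 0x55a) (nat_lit 0x610b30600b10b10b30600b3) (nat_lit 0x6a085c6dd758616696495) (.w (nat_lit 30) .nil))))))),
  .der (nat_lit 0) (nat_lit 0) (.w (nat_lit 30) (.m (nat_lit 590) (nat_lit 0) (nat_lit 0x6a59988186186a2592497) (.w (nat_lit 30) (.m (nat_lit 576) (nat_lit 0) (nat_lit 0x7d785a69d5dc8525d9) (.w (nat_lit 30) (.m (nat_lit 0x55a) (nat_lit 0xb20610b00610b30b10b30b0060) (nat_lit 0x5d76d775b66681c5d26969d2) (.w (nat_lit 30) .nil))))))),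
  .der (nat_lit 0) (nat_lit 0) (.w (nat_lit 30) (.m (nat_lit 145) (nat_lit 0) (nat_lit 0x1a6576e26df5d9716495765) (.w (nat_lit 30) (.m (nat_lit 114) (nat_lit 0x3003202b03302a02a033) (nat_lit 0x195db5a369a5a26529d4692) (.w (nat_lit 30) (.m (nat_lit 0x56c) (nat_lit 0x85085085081084084080) (nat_lit 0x65789761c5df76059269d5d3) (.w (nat_lit 30) .nil)))))))]
theorem hd657 : CX.chkL dv657 (nat_lit 657) = true := by decide +kernel
theorem up1 (h : CX.Upto 452) : CX.Upto 700 :=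
  (((((((h.add hd452 (m := 489) rfl).add hd489 (m := 537) rfl).add hd537 (m := 567) rfl).add hd567 (m := 596) rfl).add hd596 (m := 626) rfl).add hd626 (m := 657) rfl).add hd657 (m := 700) rfl)
end H46.P1
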