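import Cfsg.Agent.H46.P1C
/-! Derivations of the facts. -/
set_option maxRecDepth 1000000
set_option Elab.async false
namespace H46.P1
open H71
def dv700 : List Dv := [.der (nat_lit 0) (nat_lit 0) (.w (nat_lit 30) (.m (nat_lit 455) (nat_lit 0) (nat_lit 0x1885d65f7276d67564d7755) (.w (nat_lit 30) (.m (nat_lit 123) (nat_lit 0x8a08e08c08c08f) (nat_lit 0x6566186a5699726592512) (.w (nat_lit 30) (.m (nat_lit 0x56c) (nat_lit 0x80080082080080085083085) (nat_lit 0x1d8dd5987dd659713599) (.w (nat_lit 30) .nil))))))),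
  .der (nat_lit 0) (nat_lit 0) (.w (nat_lit 30) (.m (nat_lit 0x56d) (nat_lit 0) (nat_lit 0x186d75e1817696498693) (.w (nat_lit 30) (.m (nat_lit 122) (nat_lit 0x80080084080084081082) (nat_lit 0x1695966565b5966d281b5d3) (.w (nat_lit 30) (.m (nat_lit 824) (nat_lit 0x8e08b08b08e08c08f08f08d) (nat_lit 0x5a07d86189587d66164948d2) (.w (nat_lit 30) .nil))))))),
  .der (nat_lit 0) (nat_lit 0) (.w (nat_lit 30) (.m (nat_lit 0x464) (nat_lit 0) (nat_lit 0x197db66071a99659649849a) (.w (nat_lit 30) (.m (nat_lit 0x4c6) (nat_lit 0) (nat_lit 0x65c71c5a17625a04d761b) (.w (nat_lit 30) (.m (nat_lit 0x56c) (nat_lit 0x82084082085080) (nat_lit 0x175db9966189635d7496923) (.w (nat_lit 30) .nil))))))),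
  .der (nat_lit 0) (nat_lit 0) (.w (nat_lit 30) (.m (nat_lit 0x3f8) (nat_lit 0) (nat_lit 0x1859669f6965a2599495656) (.w (nat_lit 30) (.m (nat_lit 0x531) (nat_lit 0) (nat_lit 0x2195969c9d75d7713652) (.w (nat_lit 30) (.m (nat_lit 0x56c) (nat_lit 0x80080084082082085083085) (nat_lit 0x7e06598195e36526d8) (.w (nat_lit 30) .nil))))))),
  .der (nat_lit 0) (nat_lit 0) (.w (nat_lit 30) (.m (nat_lit 271) (nat_lit 0) (nat_lit 0x185dc65d7d861c6975124a1) (.w (nat_lit 30) (.m (nat_lit 144) (nat_lit 0x3203103303002a031) (nat_lit 0x5a195975d65785d4987d6) (.w (nat_lit 30) (.m (nat_lit 0x576) (nat_lit 0xa50a60a80a40a80a80a8) (nat_lit 0x199978656a26d6612917) (.w (nat_lit 30) .nil))))))),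
  .der (nat_lit 0) (nat_lit 0) (.w (nat_lit 30) (.m (nat_lit 160) (nat_lit 0) (nat_lit 0x1d8266d7722821594718712) (.w (nat_lit 30) (.m (nat_lit 161) (nat_lit 0x8f08d08a08e08c08a08c) (nat_lit 0x198a559d75f59a7d6495759) (.w (nat_lit 30) (.m (nat_lit 0x56a) (nat_lit 0xa50a50a70a50a80a8) (nat_lit 0x1a7d69a55968a05d26d7) (.w (nat_lit 30) .nil))))))),
  .der (nat_lit 0) (nat_lit 0) (.w (nat_lit 30) (.m (nat_lit 473) (nat_lit 0) (nat_lit 0x1a69c61f76785949a692) (.w (nat_lit 30) (.m (nat_lit 170) (nat_lit 0x3e04003f04003f04003d) (nat_lit 0x59965f8996d76db494917) (.w (nat_lit 30) (.m (nat_lit 0x576) (nat_lit 0xa80a80a50a50a60a80a6) (nat_lit 0x59a6997e67236565925168d2) (.w (nat_lit 30) .nil))))))),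
  .der (nat_lit 0) (nat_lit 0) (.w (nat_lit 30) (.m (nat_lit 0x577) (nat_lit 0) (nat_lit 0x6218dc85871a69251f712) (.w (nat_lit 30) (.m (nat_lit 904) (nat_lit 0xa90a50a70a40a40a90a60a5) (nat_lit 0x1b5995d765c6a34d75d9) (.w (nat_lit 30) (.m (nat_lit 827) (nat_lit 0x13813413913913b138134134) (nat_lit 0x166619566e76165964d7626) (.w (nat_lit 30) .nil))))))),
  .der (nat_lit 0) (nat_lit 0) (.w (nat_lit 30) (.m (nat_lit 0x55b) (nat_lit 0) (nat_lit 0x59871c5dd6596d25d7) (.w (nat_lit 30) (.m (nat_lit 592) (nat_lit 0xb00600b00b00b0060) (nat_lit 0x59c71c82285f612512912) (.w (nat_lit 30) (.m (nat_lit 574) (nat_lit 0xa40a70a80a60a50a8) (nat_lit 0x5a575b6d885c6575d3593613) (.w (nat_lit 30) .nil))))))),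
  .der (nat_lit 0) (nat_lit 0) (.w (nat_lit 30) (.m (nat_lit 671) (nat_lit 0) (nat_lit 0x6596e26607186df5d24928d2) (.w (nat_lit 30) (.m (nat_lit 586) (nat_lit 0x1a51a11a1) (nat_lit 0x176599a56a75986985925596d3) (.w (nat_lit 30) (.m (nat_lit 0x576) (nat_lit 0xa40a80a60a90a40a40a60a50a6) (nat_lit 0x9976df61c5dd89d494) (.w (nat_lit 30) .nil))))))),
  .der (nat_lit 0) (nat_lit 0) (.w (nat_lit 30) (.m (nat_lit 908) (nat_lit 0) (nat_lit 0x5a189b6d87176174944a6) (.w (nat_lit 30) (.m (nat_lit 588) (nat_lit 0x1a41a11a41a21a5) (nat_lit 0x65b8265e06d969a594756512) (.w (nat_lit 30) (.m (nat_lit 0x576) (nat_lit 0xa40a40a70a80a70a50a50a6) (nat_lit 0x6d675885b8d76d6592692492) (.w (nat_lit 30) .nil))))))),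
  .der (nat_lit 0) (nat_lit 0) (.w (nat_lit 30) (.m (nat_lit 762) (nat_lit 0) (nat_lit 0x1699d59861a99c616496524) (.w (nat_lit 30) (.m (nat_lit 925) (nat_lit 0x13513913913a) (nat_lit 0x176e08576e261a49b4d6) (.w (nat_lit 30) (.m (nat_lit 0x576) (nat_lit 0xa40a80a70a90a70a40a9) (nat_lit 0x1a69c6206236e2494657) (.w (nat_lit 30) .nil))))))),
  .der (nat_lit 0) (nat_lit 0) (.w (nat_lit 30) (.m (nat_lit 955) (nat_lit 0) (nat_lit 0x166a57596a6897697494592) (.w (nat_lit 30) (.m (nat_lit 942) (nat_lit 0x139139) (nat_lit 0x1695d61d76365d6d251d) (.w (nat_lit 30) (.m (nat_lit 0x582) (nat_lit 0xa90a90a70a90a6) (nat_lit 0x62169c8215dc596494616) (.w (nat_lit 30) .nil))))))),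
  .der (nat_lit 0) (nat_lit 0) (.w (nat_lit 30) (.m (nat_lit 0x49e) (nat_lit 0) (nat_lit 0x2559c8586dd61f49491b) (.w (nat_lit 30) (.m (nat_lit 584) (nat_lit 0x17d18017d) (nat_lit 0x165996e059b59d5945d3) (.w (nat_lit 30) (.m (nat_lit 0x576) (nat_lit 0xa50a70a90a50a80a4) (nat_lit 0x1669986599871b5964d75dc) (.w (nat_lit 30) .nil))))))),
  .der (nat_lit 0) (nat_lit 0) (.w (nat_lit 30) (.m (nat_lit 0x592) (nat_lit 0) (nat_lit 0x65c69a6a359f7185d44a4) (.w (nat_lit 30) (.m (nat_lit 0x56b) (nat_lit 0x565561563561) (nat_lit 0x1a99d6669578d76d2595) (.w (nat_lit 30) (.m (nat_lit 0x576) (nat_lit 0xa60a50a60a80a70a90a40a70a9) (nat_lit 0x167d76df6576606565929d4592) (.w (nat_lit 30) .nil))))))),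
  .der (nat_lit 0) (nat_lit 0) (.w (nat_lit 30) (.m (nat_lit 0x49c) (nat_lit 0) (nat_lit 0x65972269c71c65a59649a697) (.w (nat_lit 30) (.m (nat_lit 959) (nat_lit 0) (nat_lit 0x1965969c6d86216964a461a) (.w (nat_lit 30) (.m (nat_lit 0x576) (nat_lit 0xa50a70a50a90a5) (nat_lit 0x1885a7575d995c712626712) (.w (nat_lit 30) .nil))))))),
  .der (nat_lit 0) (nat_lit 0) (.w (nat_lit 30) (.m (nat_lit 843) (nat_lit 0) (nat_lit 0x179a566189d81649a657) (.w (nat_lit 30) (.m (nat_lit 961) (nat_lit 0x1fd1fe) (nat_lit 0x5a565f6996a0697494725) (.w (nat_lit 30) (.m (nat_lit 0x582) (nat_lit 0xa80a70a50a50a7) (nat_lit 0x95d99769c65d59c49b5d3) (.w (nat_lit 30) .nil))))))),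
  .der (nat_lit 0) (nat_lit 0) (.w (nat_lit 30) (.m (nat_lit 355) (nat_lit 0) (nat_lit 0x59a5965a55a675749565c) (.w (nat_lit 30) (.m (nat_lit 235) (nat_lit 0x3f03f041041) (nat_lit 0x5a059b71766065b5964db4d8) (.w (nat_lit 30) (.m (nat_lit 0x56a) (nat_lit 0xa80a70a90a40a40a9) (nat_lit 0x7d87169a75d2918693) (.w (nat_lit 30) .nil))))))),
  .der (nat_lit 0) (nat_lit 0) (.w (nat_lit 30) (.m (nat_lit 925) (nat_lit 0) (nat_lit 0x1a65d5dc5e261d49471c) (.w (nat_lit 30) (.m (nat_lit 966) (nat_lit 0xa40a90a6) (nat_lit 0x166989588186d77d64956d6) (.w (nat_lit 30) (.m (nat_lit 0x576) (nat_lit 0xa40a80a50a90a70a50a50a50a9) (nat_lit 0x196d785859d5d8756494653) (.w (nat_lit 30) .nil))))))),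
  .der (nat_lit 0) (nat_lit 0) (.w (nat_lit 30) (.m (nat_lit 0x577) (nat_lit 0) (nat_lit 0x196df6636df7615964a4) (.w (nat_lit 30) (.m (nat_lit 145) (nat_lit 0xa90a6) (nat_lit 0x5d966175d6d969c494527) (.w (nat_lit 30) (.m (nat_lit 270) (nat_lit 0x2a03202b03203203002b) (nat_lit 0x6605d761f718918) (.w (nat_lit 30) .nil))))))),
  .der (nat_lit 0) (nat_lit 0) (.w (nat_lit 30) (.m (nat_lit 0x579) (nat_lit 0) (nat_lit 0x1772089b5e27d869649a55b) (.w (nat_lit 30) (.m (nat_lit 0x578) (nat_lit 0x1d41ef1ef1d4) (nat_lit 0x1871a66671c6d66174926d6) (.w (nat_lit 30) (.m (nat_lit 0x581) (nat_lit 0x561561563561564) (nat_lit 0x59d6596d76999a54a7516) (.w (nat_lit 30) .nil))))))),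
  .der (nat_lit 0) (nat_lit 0) (.w (nat_lit 30) (.m (nat_lit 0x579) (nat_lit 0) (nat_lit 0x1869c5d771a71c593696) (.w (nat_lit 30) (.m (nat_lit 455) (nat_lit 0x1ee1d51d51d5) (nat_lit 0x1895971969c7216164926a7) (.w (nat_lit 30) (.m (nat_lit 0x3f4) (nat_lit 0x8b08b08c08e08d08f) (nat_lit 0x1a71a61861b6d95d949b616) (.w (nat_lit 30) .nil))))))),
  .der (nat_lit 0) (nat_lit 0) (.w (nat_lit 30) (.m (nat_lit 862) (nat_lit 0) (nat_lit 0x1a9966996607d7692522) (.w (nat_lit 30) (.m (nat_lit 596) (nat_lit 0x18017f17f) (nat_lit 0x59b5d88a565765949b612) (.w (nat_lit 30) (.m (nat_lit 0x56e) (nat_lit 0x11a11a11f11d11e11c11c) (nat_lit 0x1a75a72565671a8d2923) (.w (nat_lit 30) .nil))))))),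
  .der (nat_lit 0) (nat_lit 0) (.w (nat_lit 30) (.m (nat_lit 0x43a) (nat_lit 0x13813513b13813813b135) (nat_lit 0x197dd6e65d765f718497654) (.w (nat_lit 30) (.m (nat_lit 0x3ea) (nat_lit 0x13913413413b138) (nat_lit 0x65b5db8606d872149b5dc) (.w (nat_lit 30) (.m (nat_lit 0x5a3) (nat_lit 0x11b11e11e11b11e) (nat_lit 0x1a7606dd8e6697616512497) (.w (nat_lit 30) .nil))))))),
  .der (nat_lit 0) (nat_lit 0) (.w (nat_lit 30) (.m (nat_lit 0x56f) (nat_lit 0) (nat_lit 0x96672661c6986db4945e6) (.w (nat_lit 30) (.m (nat_lit 996) (nat_lit 0x11c11f11b11b11f) (nat_lit 0x6df62659a72559a4a05e6) (.w (nat_lit 30) (.m (nat_lit 911) (nat_lit 0x13813813413a13413913913513b) (nat_lit 0x1886265959c95b657496559) (.w (nat_lit 30) .nil))))))),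
  .der (nat_lit 0) (nat_lit 0) (.w (nat_lit 30) (.m (nat_lit 908) (nat_lit 0) (nat_lit 0x6266d969699c5e35d25178d2) (.w (nat_lit 30) (.m (nat_lit 603) (nat_lit 0x1a11a21a51a51a2) (nat_lit 0x197176db81699659651c616) (.w (nat_lit 30) (.m (nat_lit 0x56e) (nat_lit 0x11d11b11e11e11c11a11a) (nat_lit 0x185da8976a25d76164987da) (.w (nat_lit 30) .nil))))))),
  .der (nat_lit 0) (nat_lit 0) (.w (nat_lit 30) (.m (nat_lit 666) (nat_lit 0x17e17d17f18017f180) (nat_lit 0x1c71b75d9db65d652523) (.w (nat_lit 30) (.m (nat_lit 0x3fa) (nat_lit 0x18017e17d180) (nat_lit 0x99885c6a66606d94975d3) (.w (nat_lit 30) (.m (nat_lit 0x56e) (nat_lit 0x11a11c11e11c11b11f11b11d) (nat_lit 0x2562061a69d5db952497) (.w (nat_lit 30) .nil))))))),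
  .der (nat_lit 0) (nat_lit 0) (.w (nat_lit 30) (.m (nat_lit 848) (nat_lit 0) (nat_lit 0x166db7e566069c61849559b) (.w (nat_lit 30) (.m (nat_lit 0x3ee) (nat_lit 0x134139135138138134139) (nat_lit 0x1b75b89c5e57da49489b) (.w (nat_lit 30) (.m (nat_lit 0x59f) (nat_lit 0x11a11e11d11e11c11f) (nat_lit 0x1671c71969969661649565c) (.w (nat_lit 30) .nil))))))),
  .der (nat_lit 0) (nat_lit 0) (.w (nat_lit 30) (.m (nat_lit 0x586) (nat_lit 0) (nat_lit 0x1a95765d6606d97134d3552) (.w (nat_lit 30) (.m (nat_lit 744) (nat_lit 0x1fe2001fc2001fc) (nat_lit 0x65971771a71f5e349571c) (.w (nat_lit 30) (.m (nat_lit 0x400) (nat_lit 0x13813b13513b138138135) (nat_lit 0x5db856598996818495565) (.w (nat_lit 30) .nil))))))),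
  .der (nat_lit 0) (nat_lit 0) (.w (nat_lit 30) (.m (nat_lit 744) (nat_lit 0) (nat_lit 0x7197d766571769471c9d2) (.w (nat_lit 30) (.m (nat_lit 0x3fe) (nat_lit 0x139134138) (nat_lit 0x1a85675995a71f8144977d2) (.w (nat_lit 30) (.m (nat_lit 0x5a3) (nat_lit 0x11a11e11a11a11d11b) (nat_lit 0x1965965a71981d756494663) (.w (nat_lit 30) .nil))))))),
  .der (nat_lit 0) (nat_lit 0) (.w (nat_lit 30) (.m (nat_lit 0x58b) (nat_lit 0) (nat_lit 0x1a6a15a675995c8564954da) (.w (nat_lit 30) (.m (nat_lit 0x405) (nat_lit 0x13a13a139) (nat_lit 0x1b7da71c5e66db6164947e3) (.w (nat_lit 30) (.m (nat_lit 0x580) (nat_lit 0x11d11a11d11f11b11d) (nat_lit 0x61d89c71871f698592626) (.w (nat_lit 30) .nil))))))),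
  .der (nat_lit 0) (nat_lit 0) (.w (nat_lit 30) (.m (nat_lit 0x57f) (nat_lit 0) (nat_lit 0x6a559c6d969c61d596494759) (.w (nat_lit 30) (.m (nat_lit 0x3f2) (nat_lit 0x18117c18117c) (nat_lit 0x61b71a59d5a1699594916512) (.w (nat_lit 30) (.m (nat_lit 602) (nat_lit 0x11a11a11a11d11b) (nat_lit 0x5d885b75b75681949465b) (.w (nat_lit 30) .nil))))))),
  .der (nat_lit 0) (nat_lit 0) (.w (nat_lit 30) (.m (nat_lit 0x552) (nat_lit 0) (nat_lit 0x59862569d5dc59a49a6a2) (.w (nat_lit 30) (.m (nat_lit 0x407) (nat_lit 0x280284280280) (nat_lit 0x1975985d69a66065649569d) (.w (nat_lit 30) (.m (nat_lit 0x580) (nat_lit 0x11a11c11b11f11c11a) (nat_lit 0x1a5e295d99659659a49b5dd) (.w (nat_lit 30) .nil))))))),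
  .der (nat_lit 0) (nat_lit 0) (.w (nat_lit 30) (.m (nat_lit 0x409) (nat_lit 0) (nat_lit 0x1981682159695c61749569a) (.w (nat_lit 30) (.m (nat_lit 996) (nat_lit 0x11b11b11e11e11a11e11b11f) (nat_lit 0x1a71a5da6168195935d8993) (.w (nat_lit 30) (.m (nat_lit 0x58a) (nat_lit 0x13813813513913913413913b) (nat_lit 0x75b7dd75f65a85d4964d8) (.w (nat_lit 30) .nil)))))))]
theorem hd700 : CX.chkL dv700 (nat_lit 700) = true := by decide +kernel
def dv734 : List Dv := [.der (nat_lit 0) (nat_lit 0) (.w (nat_lit 30) (.m (nat_lit 0x3ee) (nat_lit 0) (nat_lit 0x6d76dd65f757697495715) (.w (nat_lit 30) (.m (nat_lit 0x40a) (nat_lit 0x11c11a11e) (nat_lit 0x176577597e36db5928184da) (.w (nat_lit 30) (.m (nat_lit 0x56e) (nat_lit 0x11e11c11c11f11d11a11f) (nat_lit 0x6218187196967d2514) (.w (nat_lit 30) .nil))))))),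
  .der (nat_lit 0) (nat_lit 0) (.w (nat_lit 30) (.m (nat_lit 990) (nat_lit 0x11d11e11d11e11d) (nat_lit 0x5a199685969a69959251f8d2) (.w (nat_lit 30) (.m (nat_lit 857) (nat_lit 0x17d17e18017c180180) (nat_lit 0x198626d76db59649a65f) (.w (nat_lit 30) (.m (nat_lit 0x5ae) (nat_lit 0x1fd2001fd1fe1fc1ff) (nat_lit 0x61a89d5d77176d2556596) (.w (nat_lit 30) .nil))))))),
  .der (nat_lit 0) (nat_lit 0) (.w (nat_lit 30) (.m (nat_lit 771) (nat_lit 0) (nat_lit 0x167d85a66188a35d35d8) (.w (nat_lit 30) (.m (nat_lit 0x411) (nat_lit 0x18017e) (nat_lit 0x166606e061b6d85964d761b) (.w (nat_lit 30) (.m (nat_lit 0x56e) (nat_lit 0x11a11f11d11a11a11a11d) (nat_lit 0x1b59d6db61b59d6974d7755) (.w (nat_lit 30) .nil))))))),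
  .der (nat_lit 0) (nat_lit 0) (.w (nat_lit 30) (.m (nat_lit 0x546) (nat_lit 0) (nat_lit 0x1882265c5da6a66524a7) (.w (nat_lit 30) (.m (nat_lit 0x54d) (nat_lit 0x54254554554553a) (nat_lit 0x61c6177187dc69a49285a) (.w (nat_lit 30) (.m (nat_lit 0x5a1) (nat_lit 0x11f11c11b11b11c11f) (nat_lit 0x1b5db71771b6e56d749459b) (.w (nat_lit 30) .nil))))))),
  .der (nat_lit 0) (nat_lit 0) (.w (nat_lit 30) (.m (nat_lit 0x5a2) (nat_lit 0) (nat_lit 0x168977187195d9656592560) (.w (nat_lit 30) (.m (nat_lit 0x414) (nat_lit 0x11a11a11e11a) (nat_lit 0x1869869859d760692694) (.w (nat_lit 30) (.m (nat_lit 990) (nat_lit 0x11b11d11b11e11e11d11f11a) (nat_lit 0x69965c69c5e58e1592627) (.w (nat_lit 30) .nil))))))),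
  .der (nat_lit 0) (nat_lit 0) (.w (nat_lit 30) (.m (nat_lit 0x417) (nat_lit 0) (nat_lit 0x197d86d875b6d859649565d) (.w (nat_lit 30) (.m (nat_lit 0x56e) (nat_lit 0x11a11c11b11b11e11c11f11a) (nat_lit 0x5a395d6597d97214d75dc) (.w (nat_lit 30) (.m (nat_lit 0x5b4) (nat_lit 0x561561562565) (nat_lit 0x1b75959d5988a35d2518812) (.w (nat_lit 30) .nil))))))),
  .der (nat_lit 0) (nat_lit 0) (.w (nat_lit 30) (.m (nat_lit 0x56d) (nat_lit 0) (nat_lit 0x5e17265da69d8e2592523893) (.w (nat_lit 30) (.m (nat_lit 0x530) (nat_lit 0x85081) (nat_lit 0x1889a59881875771649285c) (.w (nat_lit 30) (.m (nat_lit 986) (nat_lit 0x11f11f11c11e11a) (nat_lit 0x59869a59699b6d64a0) (.w (nat_lit 30) .nil))))))),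
  .der (nat_lit 0) (nat_lit 0) (.w (nat_lit 30) (.m (nat_lit 0x5b0) (nat_lit 0) (nat_lit 0x178dc61669a7596d6592521492) (.w (nat_lit 30) (.m (nat_lit 0x418) (nat_lit 0) (nat_lit 0x6667587dd65775b5d26a0) (.w (nat_lit 30) (.m (nat_lit 0x412) (nat_lit 0x11c11e11d11a11a11e11c) (nat_lit 0x6576d87dc85c71b495992) (.w (nat_lit 30) .nil))))))),
  .der (nat_lit 0) (nat_lit 0) (.w (nat_lit 30) (.m (nat_lit 0x59d) (nat_lit 0) (nat_lit 0x1675b7575e17dc8965a4599) (.w (nat_lit 30) (.m (nat_lit 0x43a) (nat_lit 0x13513813513813513913a) (nat_lit 0x61875d65a9df5db49275b) (.w (nat_lit 30) (.m (nat_lit 827) (nat_lit 0x13813b135139139134138138) (nat_lit 0x2085a6976d861c49a695) (.w (nat_lit 30) .nil))))))),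
  .der (nat_lit 0) (nat_lit 0) (.w (nat_lit 30) (.m (nat_lit 0x577) (nat_lit 0) (nat_lit 0x6db6e065681981255b) (.w (nat_lit 30) (.m (nat_lit 171) (nat_lit 0xa70a80a7) (nat_lit 0x6186a25d85d971a4947e3) (.w (nat_lit 30) (.m (nat_lit 742) (nat_lit 0x3c03f03f04103e04103d) (nat_lit 0x1a72071799971f71649a815) (.w (nat_lit 30) .nil))))))),
  .der (nat_lit 0) (nat_lit 0) (.w (nat_lit 30) (.m (nat_lit 0x5a7) (nat_lit 0) (nat_lit 0x1b5d85a672566165269c492) (.w (nat_lit 30) (.m (nat_lit 911) (nat_lit 0x13a13913913513b13813813a134) (nat_lit 0x186d771b5a059b6d6916559) (.w (nat_lit 30) (.m (nat_lit 0x57b) (nat_lit 0x2011fe2011fc1ff) (nat_lit 0x1d99b6dd5995e5752517852) (.w (nat_lit 30) .nil))))))),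
  .der (nat_lit 0) (nat_lit 0) (.w (nat_lit 30) (.m (nat_lit 912) (nat_lit 0) (nat_lit 0x8db59d5db5d965649b612) (.w (nat_lit 30) (.m (nat_lit 0x400) (nat_lit 0x13813813413813a) (nat_lit 0x7d771895d89a762494753) (.w (nat_lit 30) (.m (nat_lit 0x5a3) (nat_lit 0x11b11e11c11e11c11b) (nat_lit 0x1a59b76089769c69849b499) (.w (nat_lit 30) .nil))))))),
  .der (nat_lit 0) (nat_lit 0) (.w (nat_lit 30) (.m (nat_lit 0x445) (nat_lit 0) (nat_lit 0x6617186dd9636d251f91a) (.w (nat_lit 30) (.m (nat_lit 932) (nat_lit 0x138138134139135138) (nat_lit 0x1765b5d775699d5e4615) (.w (nat_lit 30) (.m (nat_lit 0x5bc) (nat_lit 0x13913913b13513b138) (nat_lit 0x185d765b6219586d6494918) (.w (nat_lit 30) .nil))))))),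
  .der (nat_lit 0) (nat_lit 0) (.w (nat_lit 30) (.m (nat_lit 0x58b) (nat_lit 0) (nat_lit 0x5e165b6d95d765c4984a0) (.w (nat_lit 30) (.m (nat_lit 0x451) (nat_lit 0x13b138134139) (nat_lit 0x59659d5d96569a259649a9d4) (.w (nat_lit 30) (.m (nat_lit 648) (nat_lit 0x18018017f17d181) (nat_lit 0x185e569c69875f5a45997d3) (.w (nat_lit 30) .nil))))))),
  .der (nat_lit 0) (nat_lit 0) (.w (nat_lit 30) (.m (nat_lit 0x3f2) (nat_lit 0) (nat_lit 0x59859a6576268d7494516) (.w (nat_lit 30) (.m (nat_lit 978) (nat_lit 0x11b11f11b11b11c11f11d) (nat_lit 0x1b75965d65971b49a59a) (.w (nat_lit 30) (.m (nat_lit 0x58a) (nat_lit 0x13813513b135139139) (nat_lit 0x195d785881f5d74925d4) (.w (nat_lit 30) .nil))))))),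
  .der (nat_lit 0) (nat_lit 0) (.w (nat_lit 30) (.m (nat_lit 0x58b) (nat_lit 0) (nat_lit 0x166975db665816618492517) (.w (nat_lit 30) (.m (nat_lit 0x492) (nat_lit 0x13513b138138) (nat_lit 0x1a6a265a5db618816592821492) (.w (nat_lit 30) (.m (nat_lit 933) (nat_lit 0x13413813813813413413b) (nat_lit 0x187e05a671c5dd494656) (.w (nat_lit 30) .nil))))))),
  .der (nat_lit 0) (nat_lit 0) (.w (nat_lit 30) (.m (nat_lit 0x579) (nat_lit 0) (nat_lit 0x176188db6dd8a06169134d8) (.w (nat_lit 30) (.m (nat_lit 0x498) (nat_lit 0x1ee1d51ee1f01d41f01ee) (nat_lit 0x177db6e161f759596495813) (.w (nat_lit 30) (.m (nat_lit 0x45b) (nat_lit 0x13913913a13913913a) (nat_lit 0x1975d5d761d6608564e3) (.w (nat_lit 30) .nil))))))),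
  .der (nat_lit 0) (nat_lit 0) (.w (nat_lit 30) (.m (nat_lit 762) (nat_lit 0) (nat_lit 0x1965a5e08a36d9717492697) (.w (nat_lit 30) (.m (nat_lit 0x4aa) (nat_lit 0x134139139134134138) (nat_lit 0x6995da71c65689b5926d3) (.w (nat_lit 30) (.m (nat_lit 0x5d7) (nat_lit 0x13813513813a13a) (nat_lit 0x59a59a6a169986249249b) (.w (nat_lit 30) .nil))))))),
  .der (nat_lit 0) (nat_lit 0) (.w (nat_lit 30) (.m (nat_lit 670) (nat_lit 0) (nat_lit 0x61c69a82275959269f) (.w (nat_lit 30) (.m (nat_lit 0x470) (nat_lit 0x13513b13813813513b138134) (nat_lit 0x197577166597d8696592821492) (.w (nat_lit 30) (.m (nat_lit 0x596) (nat_lit 0x2ba2b82bc2b82bb2bd) (nat_lit 0x1971775876569a6964925d8) (.w (nat_lit 30) .nil))))))),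
  .der (nat_lit 0) (nat_lit 0) (.w (nat_lit 30) (.m (nat_lit 750) (nat_lit 0) (nat_lit 0x1a89b95d75f6966164964d6) (.w (nat_lit 30) (.m (nat_lit 911) (nat_lit 0x134138138134139139) (nat_lit 0x1875676159a75b599495752) (.w (nat_lit 30) (.m (nat_lit 0x587) (nat_lit 0x1fd1fe2001fc1fe1fd) (nat_lit 0x5a69598d66a659a492854) (.w (nat_lit 30) .nil))))))),
  .der (nat_lit 0) (nat_lit 0) (.w (nat_lit 30) (.m (nat_lit 0x5ad) (nat_lit 0) (nat_lit 0x69f72195861c656496562) (.w (nat_lit 30) (.m (nat_lit 0x47a) (nat_lit 0x17e17d18117d) (nat_lit 0x1771b8566a76a359269a652) (.w (nat_lit 30) (.m (nat_lit 654) (nat_lit 0x17d17e17d18117f) (nat_lit 0x5a071765771b8566125187d2) (.w (nat_lit 30) .nil))))))),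
  .der (nat_lit 0) (nat_lit 0) (.w (nat_lit 30) (.m (nat_lit 0x591) (nat_lit 0) (nat_lit 0x1659969c7e6598495758) (.w (nat_lit 30) (.m (nat_lit 0x4f6) (nat_lit 0x17f17f17c18017f) (nat_lit 0x167dc8975db6dc6574d9) (.w (nat_lit 30) (.m (nat_lit 0x5ac) (nat_lit 0x17c17f18018017e) (nat_lit 0x176575d76a3626596495724) (.w (nat_lit 30) .nil))))))),
  .der (nat_lit 0) (nat_lit 0) (.w (nat_lit 30) (.m (nat_lit 653) (nat_lit 0x17e17d17f17f) (nat_lit 0x1881b5d76986df652525992) (.w (nat_lit 30) (.m (nat_lit 874) (nat_lit 0x1fe1fc1fe2002001ff) (nat_lit 0x1761f5a166769d5d74946d3) (.w (nat_lit 30) (.m (nat_lit 0x596) (nat_lit 0x2bc2b82ba2b82bc2bb) (nat_lit 0x179595dd59a7d695269d) (.w (nat_lit 30) .nil))))))),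
  .der (nat_lit 0) (nat_lit 0) (.w (nat_lit 30) (.m (nat_lit 0x549) (nat_lit 0) (nat_lit 0x69985c85b61671b5926a2652) (.w (nat_lit 30) (.m (nat_lit 609) (nat_lit 0x1a01a51a01a31a51a51a11a3) (nat_lit 0x1675b59d8a15a65d2695) (.w (nat_lit 30) (.m (nat_lit 0x5a6) (nat_lit 0x13913a13413b138) (nat_lit 0x2661c5df6d6961694713) (.w (nat_lit 30) .nil))))))),
  .der (nat_lit 0) (nat_lit 0) (.w (nat_lit 30) (.m (nat_lit 0x57a) (nat_lit 0) (nat_lit 0x1d61861f95c59b494722) (.w (nat_lit 30) (.m (nat_lit 878) (nat_lit 0x1fe2002001fe2011ff) (nat_lit 0x1995861686075b49485d) (.w (nat_lit 30) (.m (nat_lit 0x520) (nat_lit 0x2b82b82b82ba2bd) (nat_lit 0x6a06e05a671c8d74947d6) (.w (nat_lit 30) .nil))))))),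
  .der (nat_lit 0) (nat_lit 0) (.w (nat_lit 30) (.m (nat_lit 0x5dc) (nat_lit 0x560560565560565561) (nat_lit 0x1871b6607da7587d6495813) (.w (nat_lit 30) (.m (nat_lit 875) (nat_lit 0x2b82b82bb2b92b9) (nat_lit 0x6dc71a7229e15db5926969d2) (.w (nat_lit 30) (.m (nat_lit 0x587) (nat_lit 0x1fc2002001fe1fc1fc) (nat_lit 0x7dc6d872795c61649a59c) (.w (nat_lit 30) .nil))))))),
  .der (nat_lit 0) (nat_lit 0) (.w (nat_lit 30) (.m (nat_lit 0x59d) (nat_lit 0x560562560560560562) (nat_lit 0x6576966e16187e06144a6) (.w (nat_lit 30) (.m (nat_lit 0x43e) (nat_lit 0x13913913513913b) (nat_lit 0x168dc6d761d858957492) (.w (nat_lit 30) (.m (nat_lit 0x59c) (nat_lit 0x13813413a13913413b) (nat_lit 0x69699c8977da89d624) (.w (nat_lit 30) .nil))))))),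
  .df,
  .der (nat_lit 0) (nat_lit 0) (.m (nat_lit 0x5f3) (nat_lit 0) (nat_lit 0x69d6e66e266065649a753) (.m (nat_lit 0x5f2) (nat_lit 0x15e15d15f16115f15d15e15c15f16115e161) (nat_lit 0) .nil)),
  .der (nat_lit 0) (nat_lit 0) (.m (nat_lit 0x5f3) (nat_lit 0) (nat_lit 0x1a81871b75972675649b61b) (.m (nat_lit 0x5f2) (nat_lit 0x15e15e16115d16015e16015d15f16115c) (nat_lit 0) .nil)),
  .der (nat_lit 0) (nat_lit 0x5f7) .nil,
  .der (nat_lit 0) (nat_lit 0x5f5) .nil,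
  .der (nat_lit 0) (nat_lit 0x5fb5fb5f85fa5f8) .nil,
  .der (nat_lit 0) (nat_lit 0) (.w (nat_lit 30) (.m (nat_lit 0x5f3) (nat_lit 0) (nat_lit 0x1b6186dc61a8d89584925d4) (.w (nat_lit 30) (.m (nat_lit 926) (nat_lit 0x16015f15c15c16115e15d160) (nat_lit 0x6db59c71c85b596495993) (.w (nat_lit 30) (.m (nat_lit 0x437) (nat_lit 0x13813a13913b13813813a13a) (nat_lit 0x59c72565976159f4947e3) (.w (nat_lit 30) .nil))))))),
  .der (nat_lit 0x102a041f2de2831918c838a) (nat_lit 0) (.m (nat_lit 0x5fe) (nat_lit 0) (nat_lit 0x1969761f99c69875649a59d) (.m (nat_lit 0x5ff) (nat_lit 0x2b82bc2ba2bc2bb2b82b8) (nat_lit 0) .nil)),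
  .der (nat_lit 0) (nat_lit 0x5fc5fc) .nil,
  .der (nat_lit 0) (nat_lit 0x603603600602600) .nil,
  .der (nat_lit 0) (nat_lit 0) (.w (nat_lit 30) (.m (nat_lit 0x4a3) (nat_lit 0x17d17e17d18118117c) (nat_lit 0x5db6628db59d5d95d2499592) (.w (nat_lit 30) (.m (nat_lit 0x460) (nat_lit 0x2b82b82bc2b92bd2b82bc) (nat_lit 0x59899671c5e68975e46135d2) (.w (nat_lit 30) (.m (nat_lit 0x5ff) (nat_lit 0x2b82bb2b82b8) (nat_lit 0x186d681f69f5dc6126999d2) (.w (nat_lit 30) .nil))))))),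
  .der (nat_lit 0) (nat_lit 0) (.w (nat_lit 30) (.m (nat_lit 776) (nat_lit 0x1ef1d41f01ee1d5) (nat_lit 0x186e161669d598697498518) (.w (nat_lit 30) (.m (nat_lit 0x427) (nat_lit 0x13813413913413b) (nat_lit 0x5e089c61d61c89c4d9916) (.w (nat_lit 30) (.m (nat_lit 0x5ff) (nat_lit 0x2bd2b92bc) (nat_lit 0x1959d69a71a71669281b) (.w (nat_lit 30) .nil)))))))]
theorem hd734 : CX.chkL dv734 (nat_lit 734) = true := by decide +kernel
def dv773 : List Dv := [.der (nat_lit 0) (nat_lit 0) (.w (nat_lit 30) (.m (nat_lit 0x5fe) (nat_lit 0x603605600600604601604600600) (nat_lit 0x1959d61a9577db495552) (.w (nat_lit 30) (.m (nat_lit 0x460) (nat_lit 0x2b82ba2b92ba2b82bc2b8) (nat_lit 0x1989b6d77656d97525d5) (.w (nat_lit 30) (.m (nat_lit 0x5ff) (nat_lit 0x2bc2bc) (nat_lit 0x61a71a69f66369d5925948d2) (.w (nat_lit 30) .nil))))))),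
  .df,
  .der (nat_lit 0) (nat_lit 0) (.m (nat_lit 0x60d) (nat_lit 0) (nat_lit 0x61a72371a71a99849269c) (.m (nat_lit 0x60c) (nat_lit 0x81085081085082081084083084080085085085) (nat_lit 0) .nil)),
  .der (nat_lit 0) (nat_lit 0) (.m (nat_lit 0x60d) (nat_lit 0) (nat_lit 0x1871c8976d659671749475d) (.m (nat_lit 0x60c) (nat_lit 0x81082085081081084084083083083081085082085080082085085) (nat_lit 0) .nil)),
  .der (nat_lit 0) (nat_lit 0) (.m (nat_lit 0x60d) (nat_lit 0) (nat_lit 0x1a5db6e36d89a3819495712) (.m (nat_lit 0x60c) (nat_lit 0x84083081083085082084084080082084081084082) (nat_lit 0) .nil)),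
  .der (nat_lit 0) (nat_lit 0) (.m (nat_lit 0x60d) (nat_lit 0) (nat_lit 0x65785b956819498561) (.m (nat_lit 0x60c) (nat_lit 0x84082080085083084081082080083083080080083083080) (nat_lit 0) .nil)),
  .der (nat_lit 0) (nat_lit 0x61160f614) .nil,
  .der (nat_lit 0) (nat_lit 0x612611) .nil,
  .der (nat_lit 0) (nat_lit 0) (.w (nat_lit 30) (.m (nat_lit 0x60d) (nat_lit 0) (nat_lit 0x189585985e06e1716492917) (.w (nat_lit 30) (.m (nat_lit 115) (nat_lit 0x81083085083) (nat_lit 0x1761b99986771871649251f) (.w (nat_lit 30) (.m (nat_lit 144) (nat_lit 0x3003303102a032031033031) (nat_lit 0x6e07d65968da712494) (.w (nat_lit 30) .nil))))))),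
  .der (nat_lit 0xa3d03a084e40e2c4387983344) (nat_lit 0) (.m (nat_lit 0x61a) (nat_lit 0) (nat_lit 0x5da81c71669661b494697) (.m (nat_lit 0x61b) (nat_lit 0xa50a90a70a70a90a50a70a40a90a50a50a90a50a8) (nat_lit 0) .nil)),
  .der (nat_lit 0) (nat_lit 0x61661c) .nil,
  .der (nat_lit 0) (nat_lit 0x61c619) .nil,
  .der (nat_lit 0) (nat_lit 0x62162161e62061e) .nil,
  .der (nat_lit 0) (nat_lit 0) (.w (nat_lit 30) (.m (nat_lit 0x60d) (nat_lit 0) (nat_lit 0x7e55dc62259a8194946d2) (.w (nat_lit 30) (.m (nat_lit 122) (nat_lit 0x80082081) (nat_lit 0x1672665d5e771c718498557) (.w (nat_lit 30) (.m (nat_lit 454) (nat_lit 0x8b08c08c08f08d08f08b) (nat_lit 0x5a18977dc9d681761651d) (.w (nat_lit 30) .nil))))))),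
  .der (nat_lit 0) (nat_lit 0) (.w (nat_lit 30) (.m (nat_lit 160) (nat_lit 0) (nat_lit 0x186df6db9976575d251d552) (.w (nat_lit 30) (.m (nat_lit 161) (nat_lit 0x8a08c08f08f08f08a) (nat_lit 0x65675b66165c8564945e6) (.w (nat_lit 30) (.m (nat_lit 0x61b) (nat_lit 0xa50a50a80a60a90a4) (nat_lit 0x5dd5a599b8d761a49459f) (.w (nat_lit 30) .nil))))))),
  .der (nat_lit 0) (nat_lit 0) (.w (nat_lit 30) (.m (nat_lit 455) (nat_lit 0) (nat_lit 0x59c5a07d965d856494620) (.w (nat_lit 30) (.m (nat_lit 161) (nat_lit 0x8e08d08a08f08d08a08c) (nat_lit 0x175e26e15a062661649269c) (.w (nat_lit 30) (.m (nat_lit 0x626) (nat_lit 0xa40a40a70a40a40a8) (nat_lit 0x1b7d8618697816492498) (.w (nat_lit 30) .nil))))))),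
  .der (nat_lit 0) (nat_lit 0) (.w (nat_lit 30) (.m (nat_lit 0x60d) (nat_lit 0) (nat_lit 0x1b7e565c85c5e56595925d5) (.w (nat_lit 30) (.m (nat_lit 0x56c) (nat_lit 0x80083080080085085081081) (nat_lit 0x5a565b61f718717495656) (.w (nat_lit 30) (.m (nat_lit 0x5ad) (nat_lit 0x560563563563560563) (nat_lit 0x5a66575db5a271f512623) (.w (nat_lit 30) .nil))))))),
  .der (nat_lit 0) (nat_lit 0) (.w (nat_lit 30) (.m (nat_lit 0x5ae) (nat_lit 0) (nat_lit 0x65b89a75859d6975d281b) (.w (nat_lit 30) (.m (nat_lit 0x56d) (nat_lit 0x564) (nat_lit 0x1769975b65f61b756494598) (.w (nat_lit 30) (.m (nat_lit 0x60c) (nat_lit 0x80082082085081083080084080) (nat_lit 0x1b5966255d76dd495612) (.w (nat_lit 30) .nil))))))),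
  .der (nat_lit 0) (nat_lit 0) (.w (nat_lit 30) (.m (nat_lit 0x402) (nat_lit 0) (nat_lit 0x1665775d7575d251a993) (.w (nat_lit 30) (.m (nat_lit 0x531) (nat_lit 0) (nat_lit 0x59965d65c8d669959251a993) (.w (nat_lit 30) (.m (nat_lit 0x60c) (nat_lit 0x82081084082081085) (nat_lit 0x166206d96d861749b61b) (.w (nat_lit 30) .nil))))))),
  .der (nat_lit 0) (nat_lit 0) (.w (nat_lit 30) (.m (nat_lit 0x55b) (nat_lit 0) (nat_lit 0x71a5db61a99a65261f595) (.w (nat_lit 30) (.m (nat_lit 592) (nat_lit 0x600b10b10600b20b2) (nat_lit 0x1a62072171a85a65a4954e3) (.w (nat_lit 30) (.m (nat_lit 0x626) (nat_lit 0xa40a80a60a40a40a9) (nat_lit 0x61c5dc5dd99b75f494666) (.w (nat_lit 30) .nil))))))),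
  .der (nat_lit 0) (nat_lit 0) (.w (nat_lit 30) (.m (nat_lit 990) (nat_lit 0x11b11e11a11c11a11d11f) (nat_lit 0x1a8609599996d9494514) (.w (nat_lit 30) (.m (nat_lit 590) (nat_lit 0x180180180) (nat_lit 0x168d86a072365b5d4759) (.w (nat_lit 30) (.m (nat_lit 0x61b) (nat_lit 0xa50a70a80a70a90a4) (nat_lit 0x7d95db62371c5d74945d7) (.w (nat_lit 30) .nil))))))),
  .der (nat_lit 0) (nat_lit 0) (.w (nat_lit 30) (.m (nat_lit 970) (nat_lit 0x11a11d11a11d11f11a) (nat_lit 0x71c85c7e261859649851a) (.w (nat_lit 30) (.m (nat_lit 0x488) (nat_lit 0x13913513b13813813a139) (nat_lit 0x6d95e569d65c598592492692) (.w (nat_lit 30) (.m (nat_lit 0x625) (nat_lit 0x1f01ee1f01d41ef) (nat_lit 0x1a8e67187da71a5926a2652) (.w (nat_lit 30) .nil))))))),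
  .der (nat_lit 0) (nat_lit 0) (.w (nat_lit 30) (.m (nat_lit 0x495) (nat_lit 0x2b82b82bd2bd2b9) (nat_lit 0x1669995765976259649b61f) (.w (nat_lit 30) (.m (nat_lit 795) (nat_lit 0x13b13513813813513b) (nat_lit 0x1769a71c8978656164da553) (.w (nat_lit 30) (.m (nat_lit 0x62c) (nat_lit 0x1fe2011fc201) (nat_lit 0x5987d799765d6e6494621) (.w (nat_lit 30) .nil))))))),
  .der (nat_lit 0) (nat_lit 0) (.w (nat_lit 30) (.m (nat_lit 0x62d) (nat_lit 0) (nat_lit 0x1a69c7186db7616d74a05d3) (.w (nat_lit 30) (.m (nat_lit 796) (nat_lit 0x2011ff1fd2011ff) (nat_lit 0x95a65d75f59a5d251f492) (.w (nat_lit 30) (.m (nat_lit 0x557) (nat_lit 0x1a01a51a01a51a0) (nat_lit 0x5997da59671a8174db4d9) (.w (nat_lit 30) .nil))))))),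
  .df,
  .der (nat_lit 0) (nat_lit 0) (.m (nat_lit 0x63b) (nat_lit 0) (nat_lit 0x89b5d861b5dc69a494655) (.m (nat_lit 0x63a) (nat_lit 0x282281282280284280281283280284) (nat_lit 0) .nil)),
  .der (nat_lit 0) (nat_lit 0) (.m (nat_lit 0x63b) (nat_lit 0) (nat_lit 0x5e561d5969d66d65924947d2) (.m (nat_lit 0x63a) (nat_lit 0x284284283281283283283284282) (nat_lit 0) .nil)),
  .der (nat_lit 0) (nat_lit 0) (.m (nat_lit 0x63b) (nat_lit 0) (nat_lit 0x5996577da59675665649a517) (.m (nat_lit 0x63a) (nat_lit 0x280282282280285283284280284282282280282) (nat_lit 0) .nil)),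
  .der (nat_lit 0) (nat_lit 0x641) .nil,
  .der (nat_lit 0) (nat_lit 0x63e63d) .nil,
  .der (nat_lit 0) (nat_lit 0x645645642644642) .nil,
  .der (nat_lit 0) (nat_lit 0) (.w (nat_lit 30) (.m (nat_lit 473) (nat_lit 0) (nat_lit 0x61c95a7185db5d75126a3) (.w (nat_lit 30) (.m (nat_lit 354) (nat_lit 0x3e04103f03d04003f) (nat_lit 0x1871a69659a7d6656494652) (.w (nat_lit 30) (.m (nat_lit 0x63a) (nat_lit 0x282284282280280) (nat_lit 0x5e15da71c59d8d75d3664) (.w (nat_lit 30) .nil))))))),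
  .der (nat_lit 0) (nat_lit 0) (.w (nat_lit 30) (.m (nat_lit 826) (nat_lit 0) (nat_lit 0x61881b6df8996dd596512897) (.w (nat_lit 30) (.m (nat_lit 720) (nat_lit 0x134139139) (nat_lit 0x6206dd6d685d8d95d3659) (.w (nat_lit 30) (.m (nat_lit 0x63a) (nat_lit 0x284281285280283) (nat_lit 0x1a61771c6a366065269c492) (.w (nat_lit 30) .nil))))))),
  .der (nat_lit 0x45e29034e34b404285363406) (nat_lit 0) (.m (nat_lit 0x64b) (nat_lit 0) (nat_lit 0x5d95a071769d7d65929d4492) (.m (nat_lit 0x64a) (nat_lit 0x2001ff2011ff1fd2001ff2012011ff1fd1fd) (nat_lit 0) .nil)),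
  .der (nat_lit 0) (nat_lit 0x64664c) .nil,
  .der (nat_lit 0) (nat_lit 0x645) .nil,
  .der (nat_lit 0) (nat_lit 0x65165164e65064e) .nil,
  .der (nat_lit 0) (nat_lit 0) (.w (nat_lit 30) (.m (nat_lit 0x63b) (nat_lit 0) (nat_lit 0x167588977595a25d7492657) (.w (nat_lit 30) (.m (nat_lit 750) (nat_lit 0x282281282280283281284281) (nat_lit 0x1d8d676675761749449a) (.w (nat_lit 30) (.m (nat_lit 716) (nat_lit 0x13a13913413913413913913a) (nat_lit 0x1a5dc6d6860716494720) (.w (nat_lit 30) .nil))))))),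
  .der (nat_lit 0) (nat_lit 0) (.w (nat_lit 30) (.m (nat_lit 0x654) (nat_lit 0) (nat_lit 0x65695a6a665b6d749a595) (.w (nat_lit 30) (.m (nat_lit 746) (nat_lit 0x17d17f18117d) (nat_lit 0x81c6259977265d26e3) (.w (nat_lit 30) (.m (nat_lit 656) (nat_lit 0x13413413b138135) (nat_lit 0x1a81c71c6225da618495753) (.w (nat_lit 30) .nil))))))),
  .der (nat_lit 0) (nat_lit 0) (.w (nat_lit 30) (.m (nat_lit 0x654) (nat_lit 0) (nat_lit 0x1b5a389d9985965984974a6) (.w (nat_lit 30) (.m (nat_lit 0x58e) (nat_lit 0x17c17f18117c181) (nat_lit 0x5e375975d61c7da5924947d7) (.w (nat_lit 30) (.m (nat_lit 0x573) (nat_lit 0x560562562561564) (nat_lit 0x166175e172759d6d7512867) (.w (nat_lit 30) .nil))))))),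
  .der (nat_lit 0) (nat_lit 0) (.w (nat_lit 30) (.m (nat_lit 0x4f6) (nat_lit 0x18017c18017e) (nat_lit 0x1659c61899669c692594) (.w (nat_lit 30) (.m (nat_lit 857) (nat_lit 0x17d17e17d17f17f) (nat_lit 0x1a89785c89965d6d7512498) (.w (nat_lit 30) (.m (nat_lit 0x648) (nat_lit 0x2011fc2002001fe1fd) (nat_lit 0x1871b6d67596967d6494596) (.w (nat_lit 30) .nil))))))),
  .der (nat_lit 0) (nat_lit 0) (.w (nat_lit 30) (.m (nat_lit 826) (nat_lit 0) (nat_lit 0x1a72161c69859d6d6495618) (.w (nat_lit 30) (.m (nat_lit 918) (nat_lit 0x13813813813b138134) (nat_lit 0x9988596a25965964966d2) (.w (nat_lit 30) (.m (nat_lit 0x655) (nat_lit 0x17c18117d17f17c181) (nat_lit 0x2285a72559a893664) (.w (nat_lit 30) .nil))))))),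
  .der (nat_lit 0) (nat_lit 0) (.w (nat_lit 30) (.m (nat_lit 0x410) (nat_lit 0) (nat_lit 0x6975d96966db5d85d2919) (.w (nat_lit 30) (.m (nat_lit 0x4d8) (nat_lit 0x18117f17c17c) (nat_lit 0x6d985681889c71269c492) (.w (nat_lit 30) (.m (nat_lit 0x655) (nat_lit 0x17d18017f17f180) (nat_lit 0x65a99a85a958616613659) (.w (nat_lit 30) .nil))))))),
  .der (nat_lit 0) (nat_lit 0) (.w (nat_lit 30) (.m (nat_lit 784) (nat_lit 0) (nat_lit 0x6db6d965c6db75a494724) (.w (nat_lit 30) (.m (nat_lit 0x4f7) (nat_lit 0x18017e17e) (nat_lit 0x71b6dd5e271f59b49469f) (.w (nat_lit 30) (.m (nat_lit 0x657) (nat_lit 0x17e18018017c180) (nat_lit 0x1859d75871871861261f492) (.w (nat_lit 30) .nil))))))),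
  .der (nat_lit 0) (nat_lit 0) (.w (nat_lit 30) (.m (nat_lit 0x473) (nat_lit 0) (nat_lit 0x6d685c6226e16e55a4596) (.w (nat_lit 30) (.m (nat_lit 0x435) (nat_lit 0x13413b13513913a) (nat_lit 0x5d85a575b5a681659261f595) (.w (nat_lit 30) (.m (nat_lit 0x65a) (nat_lit 0x17c17e17e17c) (nat_lit 0x6625dc6616a66925226d2) (.w (nat_lit 30) .nil))))))),
  .der (nat_lit 0) (nat_lit 0) (.w (nat_lit 30) (.m (nat_lit 780) (nat_lit 0) (nat_lit 0x1675d6dd66775b6d649565a) (.w (nat_lit 30) (.m (nat_lit 0x4ef) (nat_lit 0x17f17d17f18017c) (nat_lit 0x59659c71f8da5dc4a7516) (.w (nat_lit 30) (.m (nat_lit 0x657) (nat_lit 0x17d18118117e180) (nat_lit 0x1772181789b6e66d25a4) (.w (nat_lit 30) .nil))))))),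
  .der (nat_lit 0) (nat_lit 0) (.w (nat_lit 30) (.m (nat_lit 0x654) (nat_lit 0) (nat_lit 0x197566a285a5966135d7) (.w (nat_lit 30) (.m (nat_lit 955) (nat_lit 0x18117f18018017c) (nat_lit 0x1b5dd6d6699763812494712) (.w (nat_lit 30) (.m (nat_lit 777) (nat_lit 0x13913913513a) (nat_lit 0x265986226dd5a14948a7) (.w (nat_lit 30) .nil))))))),
  .der (nat_lit 0) (nat_lit 0) (.w (nat_lit 30) (.m (nat_lit 716) (nat_lit 0) (nat_lit 0x5d965d8976e28564946d7) (.w (nat_lit 30) (.m (nat_lit 0x47b) (nat_lit 0x17c17c18117e181181) (nat_lit 0x5966175dc95a5db5926135d2) (.w (nat_lit 30) (.m (nat_lit 0x659) (nat_lit 0x17c17f17f18117c) (nat_lit 0x5dc5dc86265a71a5d2494) (.w (nat_lit 30) .nil))))))),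
  .der (nat_lit 0) (nat_lit 0) (.w (nat_lit 30) (.m (nat_lit 574) (nat_lit 0) (nat_lit 0x95a5d87267187144d7692) (.w (nat_lit 30) (.m (nat_lit 0x4e8) (nat_lit 0x17c17c17e181) (nat_lit 0x95965b5e775d7525189d2) (.w (nat_lit 30) (.m (nat_lit 0x662) (nat_lit 0x2b92ba2ba2b82b82ba) (nat_lit 0x186d965966571f716492523) (.w (nat_lit 30) .nil)))))))]
theorem hd773 : CX.chkL dv773 (nat_lit 773) = true := by decide +kernel
def dv822 : List Dv := [.der (nat_lit 0) (nat_lit 0) (.w (nat_lit 30) (.m (nat_lit 597) (nat_lit 0) (nat_lit 0x167d75d98a165d6d4756752) (.w (nat_lit 30) (.m (nat_lit 0x4b1) (nat_lit 0x18117c17e180180) (nat_lit 0x5dd5e099c6207d6596494762) (.w (nat_lit 30) (.m (nat_lit 0x662) (nat_lit 0x2ba2bc2b92b92bc) (nat_lit 0x6d78d86d781871649a558) (.w (nat_lit 30) .nil))))))),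
  .der (nat_lit 0) (nat_lit 0) (.w (nat_lit 30) (.m (nat_lit 0x65d) (nat_lit 0) (nat_lit 0x59f8996d87177d9494495) (.w (nat_lit 30) (.m (nat_lit 796) (nat_lit 0x1fc2001ff1fd201) (nat_lit 0x66661c61799a9995926135d2) (.w (nat_lit 30) (.m (nat_lit 0x485) (nat_lit 0x1a01a51a51a01a41a31a0) (nat_lit 0x2675869c71981c517) (.w (nat_lit 30) .nil))))))),
  .der (nat_lit 0) (nat_lit 0) (.w (nat_lit 30) (.m (nat_lit 0x654) (nat_lit 0) (nat_lit 0x59d99d61f72169c498518) (.w (nat_lit 30) (.m (nat_lit 0x4ce) (nat_lit 0x17e17e17c17f) (nat_lit 0x5e67176a195a716496923) (.w (nat_lit 30) (.m (nat_lit 611) (nat_lit 0x17c17e18017f17c17c181) (nat_lit 0x185dc65b5d795b5964925d5) (.w (nat_lit 30) .nil))))))),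
  .der (nat_lit 0) (nat_lit 0) (.w (nat_lit 30) (.m (nat_lit 732) (nat_lit 0) (nat_lit 0x6617175db89a7d95d251c) (.w (nat_lit 30) (.m (nat_lit 0x469) (nat_lit 0x17c17c18017e18017e180) (nat_lit 0x6966567616976184947d4) (.w (nat_lit 30) (.m (nat_lit 0x662) (nat_lit 0x2bb2bd2bb2b8) (nat_lit 0x6dc7db5da85b752697) (.w (nat_lit 30) .nil))))))),
  .der (nat_lit 0) (nat_lit 0) (.w (nat_lit 30) (.m (nat_lit 776) (nat_lit 0) (nat_lit 0x1a59c81c71a5db95649459c) (.w (nat_lit 30) (.m (nat_lit 0x465) (nat_lit 0x13513b135139) (nat_lit 0x1665a75981f71861859249b592) (.w (nat_lit 30) (.m (nat_lit 0x655) (nat_lit 0x17c18017c18117c) (nat_lit 0x5996df72285861c4a0613) (.w (nat_lit 30) .nil))))))),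
  .der (nat_lit 0) (nat_lit 0) (.w (nat_lit 30) (.m (nat_lit 0x500) (nat_lit 0) (nat_lit 0x1969d6d981c5e56d64d665b) (.w (nat_lit 30) (.m (nat_lit 0x474) (nat_lit 0x18017f18117c17c) (nat_lit 0x65d99b6208995db59269a7d7) (.w (nat_lit 30) (.m (nat_lit 0x657) (nat_lit 0x17c18117d180) (nat_lit 0x1d7d66999d7697527) (.w (nat_lit 30) .nil))))))),
  .der (nat_lit 0) (nat_lit 0) (.w (nat_lit 30) (.m (nat_lit 669) (nat_lit 0x17f17c18117f17d) (nat_lit 0x1875659895a716724596) (.w (nat_lit 30) (.m (nat_lit 841) (nat_lit 0x13913a13a139) (nat_lit 0x5e26db7d75df5a55944e5) (.w (nat_lit 30) (.m (nat_lit 0x648) (nat_lit 0x1fe2011fe) (nat_lit 0x89c61b5d86d689f49471c) (.w (nat_lit 30) .nil))))))),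
  .der (nat_lit 0) (nat_lit 0) (.w (nat_lit 30) (.m (nat_lit 572) (nat_lit 0) (nat_lit 0x1885a71c62561d494761) (.w (nat_lit 30) (.m (nat_lit 948) (nat_lit 0x1a01a21a51a51a51a2) (nat_lit 0x165a089781f69d5d249b) (.w (nat_lit 30) (.m (nat_lit 0x664) (nat_lit 0x1f01ee1f01ee) (nat_lit 0x5997d881b6e149489d) (.w (nat_lit 30) .nil))))))),
  .der (nat_lit 0) (nat_lit 0) (.w (nat_lit 30) (.m (nat_lit 570) (nat_lit 0) (nat_lit 0x66659861b5d8621494918) (.w (nat_lit 30) (.m (nat_lit 909) (nat_lit 0x1a01a51a01a51a11a21a1) (nat_lit 0x6d87dd6629db61b5925d4) (.w (nat_lit 30) (.m (nat_lit 0x66f) (nat_lit 0x17c17e17d) (nat_lit 0x1a81b66569985d5925d3752) (.w (nat_lit 30) .nil))))))),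
  .der (nat_lit 0) (nat_lit 0) (.w (nat_lit 30) (.m (nat_lit 0x556) (nat_lit 0) (nat_lit 0x5df85671a66665749a816) (.w (nat_lit 30) (.m (nat_lit 822) (nat_lit 0x1a01a01a21a51a11a31a01a3) (nat_lit 0x1766659a9a795a69949a593) (.w (nat_lit 30) (.m (nat_lit 0x65c) (nat_lit 0x1fc2001fe2001ff) (nat_lit 0x99a5986176978db494492) (.w (nat_lit 30) .nil))))))),
  .der (nat_lit 0) (nat_lit 0) (.w (nat_lit 30) (.m (nat_lit 0x41e) (nat_lit 0) (nat_lit 0x1b7dd5dc69c718892813652) (.w (nat_lit 30) (.m (nat_lit 605) (nat_lit 0x1a11a51a01a41a11a4) (nat_lit 0x65995675b660495999) (.w (nat_lit 30) (.m (nat_lit 0x664) (nat_lit 0x1ee1ee1f11d41f11d4) (nat_lit 0x197577265e77198d649269a) (.w (nat_lit 30) .nil))))))),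
  .der (nat_lit 0) (nat_lit 0) (.w (nat_lit 30) (.m (nat_lit 0x662) (nat_lit 0x2bd2b92b92bb) (nat_lit 0x65681f6185dc5d95925d7) (.w (nat_lit 30) (.m (nat_lit 0x649) (nat_lit 0x64e65264e65165365364e65364e) (nat_lit 0x226569989db5e5612596) (.w (nat_lit 30) (.m (nat_lit 0x648) (nat_lit 0x1fe2001ff1fd2002001fe) (nat_lit 0x6d66175d86a3596596495565) (.w (nat_lit 30) .nil))))))),
  .der (nat_lit 0) (nat_lit 0) (.w (nat_lit 30) (.m (nat_lit 0x663) (nat_lit 0) (nat_lit 0x185dc99a81861c6d949249a) (.w (nat_lit 30) (.m (nat_lit 0x413) (nat_lit 0x2b92ba2b82bc2bc) (nat_lit 0x65c81671b5d76dd49461a) (.w (nat_lit 30) (.m (nat_lit 0x5a3) (nat_lit 0x11a11c11f11f11a11f11c11f) (nat_lit 0x6a271c61d75b61a4da595) (.w (nat_lit 30) .nil))))))),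
  .der (nat_lit 0) (nat_lit 0) (.w (nat_lit 30) (.m (nat_lit 0x436) (nat_lit 0x2b82b82ba2bc2bb2bc2b8) (nat_lit 0x1b65b6667166db49251d) (.w (nat_lit 30) (.m (nat_lit 829) (nat_lit 0x13813413b13513813813513b) (nat_lit 0x59a71a85995c699512498) (.w (nat_lit 30) (.m (nat_lit 0x648) (nat_lit 0x1fd200) (nat_lit 0x6186dc6e18166174948d8) (.w (nat_lit 30) .nil))))))),
  .der (nat_lit 0) (nat_lit 0) (.w (nat_lit 30) (.m (nat_lit 0x61b) (nat_lit 0) (nat_lit 0x59669a71769d5da592492612) (.w (nat_lit 30) (.m (nat_lit 0x629) (nat_lit 0x61e62361e61e62261f) (nat_lit 0x176d986665d5a2592525552) (.w (nat_lit 30) (.m (nat_lit 0x660) (nat_lit 0x1d41ee1ee1f01ee1f01ef) (nat_lit 0x1666271c6d9956494925) (.w (nat_lit 30) .nil))))))),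
  .der (nat_lit 0) (nat_lit 0) (.w (nat_lit 30) (.m (nat_lit 668) (nat_lit 0) (nat_lit 0x6db6dd75d75a61a524599) (.w (nat_lit 30) (.m (nat_lit 818) (nat_lit 0x17c17c17f18117d17f180) (nat_lit 0x1969c71c897756757496562) (.w (nat_lit 30) (.m (nat_lit 0x648) (nat_lit 0x1fc2001fd2001ff) (nat_lit 0x6a371c61d7578575125df) (.w (nat_lit 30) .nil))))))),
  .der (nat_lit 0) (nat_lit 0) (.w (nat_lit 30) (.m (nat_lit 0x65d) (nat_lit 0) (nat_lit 0x1671b99b758860593) (.w (nat_lit 30) (.m (nat_lit 866) (nat_lit 0x2011fe1fd2001fe) (nat_lit 0x6dd75d8576e16d94945dc) (.w (nat_lit 30) (.m (nat_lit 0x546) (nat_lit 0x17f17c181) (nat_lit 0x6597dc69a6605a15944a0893) (.w (nat_lit 30) .nil))))))),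
  .der (nat_lit 0) (nat_lit 0) (.w (nat_lit 30) (.m (nat_lit 0x56c) (nat_lit 0) (nat_lit 0x6a066375d8df6994954a4) (.w (nat_lit 30) (.m (nat_lit 0x5a0) (nat_lit 0x561564563) (nat_lit 0x5996a099a9d86d7616494724) (.w (nat_lit 30) (.m (nat_lit 0x65e) (nat_lit 0x11a11a11a11f11c11e11d) (nat_lit 0x69a69f75b85b6665a44e3) (.w (nat_lit 30) .nil))))))),
  .der (nat_lit 0) (nat_lit 0) (.w (nat_lit 30) (.m (nat_lit 0x666) (nat_lit 0x65164e65164e653653) (nat_lit 0x1a69f7197226d95a44d6) (.w (nat_lit 30) (.m (nat_lit 928) (nat_lit 0x1ee1d51ef1f01ee1f1) (nat_lit 0x6e05966567226d949b4d3) (.w (nat_lit 30) (.m (nat_lit 0x672) (nat_lit 0x13813413913513a13a) (nat_lit 0x5968219578db5d8495717) (.w (nat_lit 30) .nil))))))),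
  .df,
  .der (nat_lit 0) (nat_lit 0) (.m (nat_lit 0x693) (nat_lit 0) (nat_lit 0x69a6978d869f65a592612516) (.m (nat_lit 0x692) (nat_lit 0x1ee1d41d41f11f11ee1f0) (nat_lit 0) .nil)),
  .der (nat_lit 0) (nat_lit 0) (.m (nat_lit 0x693) (nat_lit 0) (nat_lit 0x6176e26db5e6757) (.m (nat_lit 0x692) (nat_lit 0x1d51f01ee1f01ef1ef1f11ee) (nat_lit 0) .nil)),
  .der (nat_lit 0) (nat_lit 0) (.m (nat_lit 0x693) (nat_lit 0) (nat_lit 0x69d5e661b9a55d38e4) (.m (nat_lit 0x692) (nat_lit 0x1ee1f11d41ee1d41f01f11d51f1) (nat_lit 0) .nil)),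
  .der (nat_lit 0) (nat_lit 0) (.m (nat_lit 0x693) (nat_lit 0) (nat_lit 0x59b59a69d59a5a6) (.m (nat_lit 0x692) (nat_lit 0x1ee1f11d51ef1ef1d41ef1f11d5) (nat_lit 0) .nil)),
  .der (nat_lit 0) (nat_lit 0x69569869b) .nil,
  .der (nat_lit 0) (nat_lit 0x69a696694) .nil,
  .der (nat_lit 0) (nat_lit 0) (.w (nat_lit 30) (.m (nat_lit 0x3f0) (nat_lit 0) (nat_lit 0x188d861c858722592512513) (.w (nat_lit 30) (.m (nat_lit 986) (nat_lit 0x11d11b11e11a) (nat_lit 0x6db59d5a695959a4975d2) (.w (nat_lit 30) (.m (nat_lit 0x692) (nat_lit 0) (nat_lit 0x1a71b61a81761a6564a05dc) (.w (nat_lit 30) .nil))))))),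
  .der (nat_lit 0x30e44f3cb41e34430b3e4285) (nat_lit 0) (.m (nat_lit 0x6a1) (nat_lit 0) (nat_lit 0x59d59c8576a65985935d8993) (.m (nat_lit 0x6a0) (nat_lit 0x2012011fd1fd1ff2001fe1fe1fd2011fd2001fc) (nat_lit 0) .nil)),
  .der (nat_lit 0) (nat_lit 0x69c6a3) .nil,
  .der (nat_lit 0) (nat_lit 0x69f69f6a469e6a4) .nil,
  .der (nat_lit 0) (nat_lit 0) (.w (nat_lit 30) (.m (nat_lit 0x693) (nat_lit 0) (nat_lit 0x5d88dc6219d85995d269d) (.w (nat_lit 30) (.m (nat_lit 771) (nat_lit 0x1d51ee1f11ee1ee1d41f01f0) (nat_lit 0x65d75f6a19d76d859269a892) (.w (nat_lit 30) (.m (nat_lit 0x4e3) (nat_lit 0x18117e17e17c) (nat_lit 0x59d6215e171761a49a558) (.w (nat_lit 30) .nil))))))),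
  .der (nat_lit 0) (nat_lit 0) (.w (nat_lit 30) (.m (nat_lit 0x489) (nat_lit 0x1ee1ee1ee1f11d41ee1f0) (nat_lit 0x61869d7616db99f4945db) (.w (nat_lit 30) (.m (nat_lit 827) (nat_lit 0x13b13813513813813b135) (nat_lit 0x1a69a8d66a7718612693) (.w (nat_lit 30) (.m (nat_lit 0x6a0) (nat_lit 0x1fe1fd1ff) (nat_lit 0x59a85a71c6206dd59649b8d3) (.w (nat_lit 30) .nil))))))),
  .der (nat_lit 0) (nat_lit 0) (.w (nat_lit 30) (.m (nat_lit 0x6a1) (nat_lit 0) (nat_lit 0x71a6996668d66245997d5) (.w (nat_lit 30) (.m (nat_lit 752) (nat_lit 0x1fc2001fe1fc) (nat_lit 0x5a66d875d6665dc492656) (.w (nat_lit 30) (.m (nat_lit 911) (nat_lit 0x138134134139135138135138138) (nat_lit 0x1999d7565a67595d7494598) (.w (nat_lit 30) .nil))))))),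
  .der (nat_lit 0) (nat_lit 0) (.w (nat_lit 30) (.m (nat_lit 0x6a8) (nat_lit 0) (nat_lit 0x1689985a7dd7577d2525) (.w (nat_lit 30) (.m (nat_lit 0x4a9) (nat_lit 0x2b82b82bc2b92ba2b82bc) (nat_lit 0x59a71859695d5e649849a) (.w (nat_lit 30) (.m (nat_lit 611) (nat_lit 0x18017d18017f18017e) (nat_lit 0x66675881b6e665761251a993) (.w (nat_lit 30) .nil))))))),
  .der (nat_lit 0) (nat_lit 0) (.w (nat_lit 30) (.m (nat_lit 830) (nat_lit 0x1fc1fe1fc2001fe1fd201) (nat_lit 0x69d99b99b75b6595924976d2) (.w (nat_lit 30) (.m (nat_lit 0x427) (nat_lit 0x13813413413b138135138138138) (nat_lit 0x6567576d79595d75d44d6) (.w (nat_lit 30) (.m (nat_lit 0x6a9) (nat_lit 0x2bb2b92bc2bc) (nat_lit 0x1671959a75b6217544925d2) (.w (nat_lit 30) .nil))))))),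
  .der (nat_lit 0) (nat_lit 0) (.w (nat_lit 30) (.m (nat_lit 0x436) (nat_lit 0) (nat_lit 0x1675b6626db6db61649a595) (.w (nat_lit 30) (.m (nat_lit 916) (nat_lit 0x13813813413913913b) (nat_lit 0x61665d76565f7585d251d492) (.w (nat_lit 30) (.m (nat_lit 0x6af) (nat_lit 0x2001fc2011fe1fc) (nat_lit 0x7d761a8167595db495612) (.w (nat_lit 30) .nil))))))),
  .der (nat_lit 0) (nat_lit 0) (.w (nat_lit 30) (.m (nat_lit 0x57e) (nat_lit 0) (nat_lit 0x5d96a37256965a259251f712) (.w (nat_lit 30) (.m (nat_lit 0x566) (nat_lit 0x561562561564561) (nat_lit 0x5d76656987664945e5) (.w (nat_lit 30) (.m (nat_lit 0x6b0) (nat_lit 0x1ff2011fe2001fd) (nat_lit 0x66199685d75d5d765649a653) (.w (nat_lit 30) .nil))))))),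
  .der (nat_lit 0) (nat_lit 0) (.w (nat_lit 30) (.m (nat_lit 0x47d) (nat_lit 0) (nat_lit 0x5db6db75b7577d659649755b) (.w (nat_lit 30) (.m (nat_lit 829) (nat_lit 0x138134134139134138138) (nat_lit 0x99869859a65681651c514) (.w (nat_lit 30) (.m (nat_lit 0x6b0) (nat_lit 0x1fe2002001fd2001ff201) (nat_lit 0x65989d59a99c659492753) (.w (nat_lit 30) .nil))))))),
  .der (nat_lit 0) (nat_lit 0) (.w (nat_lit 30) (.m (nat_lit 0x6a8) (nat_lit 0) (nat_lit 0x1c6e66db9a3759497561) (.w (nat_lit 30) (.m (nat_lit 0x42b) (nat_lit 0x2b92bb2bc2ba2bd) (nat_lit 0x59d5e061b62069c4945e1) (.w (nat_lit 30) (.m (nat_lit 906) (nat_lit 0x17c17c18117e17c180) (nat_lit 0x61861781975b5d95d29d4) (.w (nat_lit 30) .nil)))))))]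
theorem hd822 : CX.chkL dv822 (nat_lit 822) = true := by decide +kernel
def dv861 : List Dv := [.der (nat_lit 0) (nat_lit 0) (.w (nat_lit 30) (.m (nat_lit 722) (nat_lit 0) (nat_lit 0x6226d669999871a4a7514) (.w (nat_lit 30) (.m (nat_lit 880) (nat_lit 0x2002001fd2001fe1fe) (nat_lit 0x1a8167206188186994946d4) (.w (nat_lit 30) (.m (nat_lit 0x6af) (nat_lit 0x1fe2001fe1fd200) (nat_lit 0x1765a5da8577226d6497) (.w (nat_lit 30) .nil))))))),
  .der (nat_lit 0) (nat_lit 0) (.w (nat_lit 30) (.m (nat_lit 0x468) (nat_lit 0) (nat_lit 0x1b59a71c6277627564944a0) (.w (nat_lit 30) (.m (nat_lit 835) (nat_lit 0x17c17e17e17c18017e) (nat_lit 0x6d76265dc6e659a4a4612) (.w (nat_lit 30) (.m (nat_lit 0x6b9) (nat_lit 0x2011fe2001ff2011fd) (nat_lit 0x61769965d6216e24945a1) (.w (nat_lit 30) .nil))))))),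
  .der (nat_lit 0) (nat_lit 0) (.w (nat_lit 30) (.m (nat_lit 950) (nat_lit 0) (nat_lit 0x59d5d765d6e261b5925596d3) (.w (nat_lit 30) (.m (nat_lit 864) (nat_lit 0x2011fe2011fc1fc201) (nat_lit 0x167e159a8978187144a2512) (.w (nat_lit 30) (.m (nat_lit 0x6bc) (nat_lit 0x2b82ba2bd2bd2ba2bc) (nat_lit 0x225d76a25e649a696) (.w (nat_lit 30) .nil))))))),
  .der (nat_lit 0) (nat_lit 0) (.w (nat_lit 30) (.m (nat_lit 0x6ae) (nat_lit 0) (nat_lit 0x255d761685d6d89525955d3) (.w (nat_lit 30) (.m (nat_lit 844) (nat_lit 0x2011fd1fd1fe) (nat_lit 0x5d86976d96575d84d7512) (.w (nat_lit 30) (.m (nat_lit 0x4b6) (nat_lit 0x1fc2001fe2001fc1fc) (nat_lit 0x61d89b9566a259959471c9d2) (.w (nat_lit 30) .nil))))))),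
  .der (nat_lit 0) (nat_lit 0) (.w (nat_lit 30) (.m (nat_lit 0x66a) (nat_lit 0) (nat_lit 0x1f65f6dd6d95d44a0) (.w (nat_lit 30) (.m (nat_lit 0x64b) (nat_lit 0x65164f64f652651653) (nat_lit 0x266616996666e649a656) (.w (nat_lit 30) (.m (nat_lit 0x6b0) (nat_lit 0x1fe1fc1ff2001fe1fe1fd) (nat_lit 0x5e585a59f75d7625e46135d2) (.w (nat_lit 30) .nil))))))),
  .der (nat_lit 0) (nat_lit 0) (.w (nat_lit 30) (.m (nat_lit 956) (nat_lit 0) (nat_lit 0x6256996d689b95c494653) (.w (nat_lit 30) (.m (nat_lit 851) (nat_lit 0x13913913a13413a) (nat_lit 0x1d66265d8da6164d761f) (.w (nat_lit 30) (.m (nat_lit 0x6b0) (nat_lit 0x2001ff2011fd1fd) (nat_lit 0x5d85e26596dd89649461c) (.w (nat_lit 30) .nil))))))),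
  .der (nat_lit 0) (nat_lit 0) (.w (nat_lit 30) (.m (nat_lit 0x6b5) (nat_lit 0) (nat_lit 0x1799d8db62761b65d51d) (.w (nat_lit 30) (.m (nat_lit 653) (nat_lit 0x18117e17d181) (nat_lit 0x6597256608d66975e44d6) (.w (nat_lit 30) (.m (nat_lit 828) (nat_lit 0x1fe2011ff2001ff1fd) (nat_lit 0x59671c61659665f494867) (.w (nat_lit 30) .nil))))))),
  .der (nat_lit 0) (nat_lit 0) (.w (nat_lit 30) (.m (nat_lit 861) (nat_lit 0) (nat_lit 0x1b61c72299981765251f914) (.w (nat_lit 30) (.m (nat_lit 808) (nat_lit 0x1fd1fe1fc1ff1fd) (nat_lit 0x1b5db5da8da7da6164945a1) (.w (nat_lit 30) (.m (nat_lit 0x6c4) (nat_lit 0x17c17c18017c17c) (nat_lit 0x1b6578236d871661471c5d2) (.w (nat_lit 30) .nil))))))),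
  .der (nat_lit 0) (nat_lit 0) (.w (nat_lit 30) (.m (nat_lit 0x454) (nat_lit 0x17c17c17e18018017d181) (nat_lit 0x1686599a6187db6d749871c) (.w (nat_lit 30) (.m (nat_lit 867) (nat_lit 0x17c17f18117f18017c) (nat_lit 0x1871a7d75d795975649a59c) (.w (nat_lit 30) (.m (nat_lit 0x6b9) (nat_lit 0x1fc2011fd2001fe200) (nat_lit 0x255db75861661c494954) (.w (nat_lit 30) .nil))))))),
  .der (nat_lit 0) (nat_lit 0) (.w (nat_lit 30) (.m (nat_lit 980) (nat_lit 0) (nat_lit 0x1a71b5df718718596496557) (.w (nat_lit 30) (.m (nat_lit 600) (nat_lit 0x1fd1fe1fc2001ff201) (nat_lit 0x69a65d65c59689949b616) (.w (nat_lit 30) (.m (nat_lit 0x6a0) (nat_lit 0x1fc1fe1fd201) (nat_lit 0x59c7197666dc59b596496555) (.w (nat_lit 30) .nil))))))),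
  .der (nat_lit 0) (nat_lit 0) (.w (nat_lit 30) (.m (nat_lit 0x6bd) (nat_lit 0) (nat_lit 0x71c6d68178d965b494599) (.w (nat_lit 30) (.m (nat_lit 875) (nat_lit 0x2bc2ba2bd2bd2bd) (nat_lit 0x66059b99c69a718592699) (.w (nat_lit 30) (.m (nat_lit 842) (nat_lit 0x1fd1fe1fe2011ff) (nat_lit 0x8dc5db6e65dd5d849449a) (.w (nat_lit 30) .nil))))))),
  .der (nat_lit 0) (nat_lit 0) (.w (nat_lit 30) (.m (nat_lit 0x6c9) (nat_lit 0) (nat_lit 0x1776165a7666164a4612) (.w (nat_lit 30) (.m (nat_lit 654) (nat_lit 0x18018017c17c) (nat_lit 0x6998225db757696592697) (.w (nat_lit 30) (.m (nat_lit 0x6ad) (nat_lit 0x1fc1fe1fc1ff) (nat_lit 0x69989a8266966d749491b) (.w (nat_lit 30) .nil))))))),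
  .der (nat_lit 0) (nat_lit 0) (.w (nat_lit 30) (.m (nat_lit 0x6b7) (nat_lit 0) (nat_lit 0x185d75e55e675881649459b) (.w (nat_lit 30) (.m (nat_lit 879) (nat_lit 0x2bb2b82bd2bd2b8) (nat_lit 0x168d661871f69d89249d) (.w (nat_lit 30) (.m (nat_lit 0x6af) (nat_lit 0x2011fd2011fd1ff) (nat_lit 0x176176dd99d6205d449b) (.w (nat_lit 30) .nil))))))),
  .der (nat_lit 0) (nat_lit 0) (.w (nat_lit 30) (.m (nat_lit 0x6b8) (nat_lit 0) (nat_lit 0x5dc5df76159d6995926a2652) (.w (nat_lit 30) (.m (nat_lit 886) (nat_lit 0x1fc2001fc2011ff) (nat_lit 0x62399881b7d765b49489b) (.w (nat_lit 30) (.m (nat_lit 874) (nat_lit 0x1fc1ff200200) (nat_lit 0x1959a7e171c61a712553553) (.w (nat_lit 30) .nil))))))),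
  .der (nat_lit 0) (nat_lit 0) (.w (nat_lit 30) (.m (nat_lit 910) (nat_lit 0x2011ff1fc2001fc1fe201) (nat_lit 0x187d88a37587d6657498557) (.w (nat_lit 30) (.m (nat_lit 957) (nat_lit 0x13813a13413b138138) (nat_lit 0x2089b65a9596a6592552) (.w (nat_lit 30) (.m (nat_lit 0x6b4) (nat_lit 0x18017f17f) (nat_lit 0x6dd5a671899a8d2695612) (.w (nat_lit 30) .nil))))))),
  .der (nat_lit 0) (nat_lit 0) (.w (nat_lit 30) (.m (nat_lit 895) (nat_lit 0) (nat_lit 0x69769f81761a69659269a652) (.w (nat_lit 30) (.m (nat_lit 834) (nat_lit 0x1fe2002001fd2011ff) (nat_lit 0x6597dc8dc99b7595926a2) (.w (nat_lit 30) (.m (nat_lit 0x6cf) (nat_lit 0x17e17c17c) (nat_lit 0x1d7655a16d75d765261a492) (.w (nat_lit 30) .nil))))))),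
  .der (nat_lit 0) (nat_lit 0) (.w (nat_lit 30) (.m (nat_lit 794) (nat_lit 0x2011fd2002001fd1fe) (nat_lit 0x5db6e675d69c61f592517) (.w (nat_lit 30) (.m (nat_lit 795) (nat_lit 0x13413a13413913413b13513913a) (nat_lit 0x1699a59f8175dd496553) (.w (nat_lit 30) (.m (nat_lit 0x6b0) (nat_lit 0x1fe1fc1fe1fd1ff1fd200) (nat_lit 0x5d781795a59869f49b499) (.w (nat_lit 30) .nil))))))),
  .der (nat_lit 0) (nat_lit 0) (.w (nat_lit 30) (.m (nat_lit 0x553) (nat_lit 0) (nat_lit 0x85d6d67d76d77d749285a) (.w (nat_lit 30) (.m (nat_lit 0x547) (nat_lit 0x54554354553a54453a543) (nat_lit 0x6166215d75da859592512852) (.w (nat_lit 30) (.m (nat_lit 0x6c4) (nat_lit 0x17c181181) (nat_lit 0x1a5e06df81c65a5964d7918) (.w (nat_lit 30) .nil))))))),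
  .der (nat_lit 0) (nat_lit 0) (.w (nat_lit 30) (.m (nat_lit 0x6cd) (nat_lit 0) (nat_lit 0x69d8a369a71c59859249d595) (.w (nat_lit 30) (.m (nat_lit 0x54c) (nat_lit 0x11b11c11f) (nat_lit 0x5e566065d6d665f49451a) (.w (nat_lit 30) (.m (nat_lit 0x547) (nat_lit 0x54254253a54554553b54354553b) (nat_lit 0x1a65b6185a58da89251f914) (.w (nat_lit 30) .nil))))))),
  .der (nat_lit 0) (nat_lit 0) (.w (nat_lit 30) (.m (nat_lit 0x5b9) (nat_lit 0) (nat_lit 0x169585da61c6d6592696) (.w (nat_lit 30) (.m (nat_lit 0x551) (nat_lit 0x53b54554253a54554254553a) (nat_lit 0x1675a5e671859c5925a5) (.w (nat_lit 30) (.m (nat_lit 0x6be) (nat_lit 0x135139139135138) (nat_lit 0x1995659b7565a65d749a65c) (.w (nat_lit 30) .nil))))))),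
  .der (nat_lit 0) (nat_lit 0) (.w (nat_lit 30) (.m (nat_lit 0x6dd) (nat_lit 0) (nat_lit 0x59a7225dc6a36574a45e1) (.w (nat_lit 30) (.m (nat_lit 0x59a) (nat_lit 0x280280285280283280284) (nat_lit 0x69669f75d5e15db49b5dd) (.w (nat_lit 30) (.m (nat_lit 0x5ab) (nat_lit 0x561562565560562564563) (nat_lit 0x1b65659695682159649475d) (.w (nat_lit 30) .nil))))))),
  .der (nat_lit 0) (nat_lit 0) (.w (nat_lit 30) (.m (nat_lit 0x589) (nat_lit 0) (nat_lit 0x1f5d965999659881251f852) (.w (nat_lit 30) (.m (nat_lit 0x585) (nat_lit 0x561563565562561565560) (nat_lit 0x5986a565b5e36564d75d3) (.w (nat_lit 30) (.m (nat_lit 0x6b0) (nat_lit 0x1fe2001ff2011fc1fc) (nat_lit 0x1d75f89a5dd61c9164d5) (.w (nat_lit 30) .nil))))))),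
  .der (nat_lit 0) (nat_lit 0) (.w (nat_lit 30) (.m (nat_lit 0x568) (nat_lit 0) (nat_lit 0x166a159a722656812695552) (.w (nat_lit 30) (.m (nat_lit 0x591) (nat_lit 0x564561565562560564) (nat_lit 0x65b99881b9db5dc5128d4) (.w (nat_lit 30) (.m (nat_lit 0x6c4) (nat_lit 0x17c17e17d18017f17f) (nat_lit 0x59d99b5e07d86d66164947dc) (.w (nat_lit 30) .nil))))))),
  .der (nat_lit 0) (nat_lit 0) (.w (nat_lit 30) (.m (nat_lit 0x5be) (nat_lit 0) (nat_lit 0x6df5d76dd61a75d49459a) (.w (nat_lit 30) (.m (nat_lit 0x57a) (nat_lit 0x563561563563565) (nat_lit 0x6dc5dc5dc6e5652559552) (.w (nat_lit 30) (.m (nat_lit 0x6b9) (nat_lit 0x1fc2011fc1fe2011fc) (nat_lit 0x61d89b5d78dd5da5964975d7) (.w (nat_lit 30) .nil))))))),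
  .der (nat_lit 0) (nat_lit 0) (.w (nat_lit 30) (.m (nat_lit 0x578) (nat_lit 0) (nat_lit 0x69665a89b81985c49559a) (.w (nat_lit 30) (.m (nat_lit 0x5ab) (nat_lit 0x560560564560563560565562) (nat_lit 0x5db66169f6598174a06e1) (.w (nat_lit 30) (.m (nat_lit 0x6c4) (nat_lit 0x17d17e17c17f180) (nat_lit 0x5db65761b75d65f59251f91a) (.w (nat_lit 30) .nil))))))),
  .der (nat_lit 0) (nat_lit 0) (.w (nat_lit 30) (.m (nat_lit 0x6e5) (nat_lit 0) (nat_lit 0x1899b99772259c4a05dc) (.w (nat_lit 30) (.m (nat_lit 0x448) (nat_lit 0x18117d18017c) (nat_lit 0x1761c69d5a0759596494663) (.w (nat_lit 30) (.m (nat_lit 0x5d7) (nat_lit 0x13913513813a13a) (nat_lit 0x186dc81b5e0698616492698) (.w (nat_lit 30) .nil))))))),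
  .der (nat_lit 0) (nat_lit 0) (.w (nat_lit 30) (.m (nat_lit 0x6c6) (nat_lit 0) (nat_lit 0x7d66a085c8dc49b8d3) (.w (nat_lit 30) (.m (nat_lit 0x400) (nat_lit 0x139135) (nat_lit 0x6596e36e695d6d64948d2) (.w (nat_lit 30) (.m (nat_lit 0x5b1) (nat_lit 0x11a11d11f11d) (nat_lit 0x195a69596d66d8996497563) (.w (nat_lit 30) .nil))))))),
  .der (nat_lit 0) (nat_lit 0) (.w (nat_lit 30) (.m (nat_lit 0x6d2) (nat_lit 0x6a669e6a76a46a6) (nat_lit 0x6d761a66171c852553613) (.w (nat_lit 30) (.m (nat_lit 0x6e1) (nat_lit 0x69e69e69e6a56a5) (nat_lit 0x1d61d5965a16dd49a697) (.w (nat_lit 30) (.m (nat_lit 0x597) (nat_lit 0x560562564561564560564) (nat_lit 0x5dc7db6d66db65d494623) (.w (nat_lit 30) .nil))))))),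
  .der (nat_lit 0) (nat_lit 0) (.w (nat_lit 30) (.m (nat_lit 0x6ec) (nat_lit 0) (nat_lit 0x197e08db61c5dd8d649a655) (.w (nat_lit 30) (.m (nat_lit 0x5e6) (nat_lit 0x561563561) (nat_lit 0x186dc89965981d7d74a06d9) (.w (nat_lit 30) (.m (nat_lit 0x595) (nat_lit 0x563560565561562) (nat_lit 0x1972559f71875b59251f8d2) (.w (nat_lit 30) .nil))))))),
  .der (nat_lit 0) (nat_lit 0) (.w (nat_lit 30) (.m (nat_lit 0x5f2) (nat_lit 0) (nat_lit 0x229615969d895b6d2696912) (.w (nat_lit 30) (.m (nat_lit 0x5fe) (nat_lit 0x605603600600605605603600) (nat_lit 0x6d869a59c71b6df49471b) (.w (nat_lit 30) (.m (nat_lit 0x6c1) (nat_lit 0x2b92ba2ba) (nat_lit 0x1b8d86df8197dd913) (.w (nat_lit 30) .nil))))))),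
  .der (nat_lit 0) (nat_lit 0) (.w (nat_lit 30) (.m (nat_lit 0x6c5) (nat_lit 0) (nat_lit 0x1881869a7577175e44e3) (.w (nat_lit 30) (.m (nat_lit 0x4a3) (nat_lit 0x17c18017e18117c17f) (nat_lit 0x1b7d969f71975d6564954e2) (.w (nat_lit 30) (.m (nat_lit 0x5ff) (nat_lit 701) (nat_lit 0x197d869665c7d6716495760) (.w (nat_lit 30) .nil))))))),
  .der (nat_lit 0) (nat_lit 0) (.w (nat_lit 30) (.m (nat_lit 0x634) (nat_lit 0) (nat_lit 0x1a76375959669695749a592) (.w (nat_lit 30) (.m (nat_lit 0x62a) (nat_lit 0x61f61f623621623621622) (nat_lit 0x6997267577196e3495764) (.w (nat_lit 30) (.m (nat_lit 0x6c8) (nat_lit 0x17f17f18117c18117e) (nat_lit 0x6177666dd66675d494598) (.w (nat_lit 30) .nil))))))),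
  .der (nat_lit 0) (nat_lit 0) (.w (nat_lit 30) (.m (nat_lit 0x6c6) (nat_lit 0) (nat_lit 0x165a56985967db49a49c) (.w (nat_lit 30) (.m (nat_lit 0x45e) (nat_lit 0x13813413a13913913413b135) (nat_lit 0x5a66df59a66071761255a) (.w (nat_lit 30) (.m (nat_lit 0x668) (nat_lit 0x13813413913913a) (nat_lit 0x5e09589966186e2593659557) (.w (nat_lit 30) .nil)))))))]
theorem hd861 : CX.chkL dv861 (nat_lit 861) = true := by decide +kernel
def dv894 : List Dv := [.der (nat_lit 0) (nat_lit 0) (.w (nat_lit 30) (.m (nat_lit 0x662) (nat_lit 0) (nat_lit 0x59659d5989e16e149849a) (.w (nat_lit 30) (.m (nat_lit 0x661) (nat_lit 0x64f65164f65264e653) (nat_lit 0x6dd59c5db65b9985d2815) (.w (nat_lit 30) (.m (nat_lit 0x6ea) (nat_lit 0x1ee1ee1d51f11ee1d5) (nat_lit 0x1771c71f5a789b616497654) (.w (nat_lit 30) .nil))))))),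
  .der (nat_lit 0) (nat_lit 0) (.w (nat_lit 30) (.m (nat_lit 944) (nat_lit 0x13413413b13813813513913a) (nat_lit 0x59d6176e57625db494958) (.w (nat_lit 30) (.m (nat_lit 0x41b) (nat_lit 0x13913413913513b138138) (nat_lit 0x188dc7d87d6859692517514) (.w (nat_lit 30) (.m (nat_lit 0x6aa) (nat_lit 0x1f11ee1f01d4) (nat_lit 0x269597d76e67d2612) (.w (nat_lit 30) .nil))))))),
  .der (nat_lit 0) (nat_lit 0) (.w (nat_lit 30) (.m (nat_lit 0x470) (nat_lit 0) (nat_lit 0x5dc61a5a561b5d95d26a04d6) (.w (nat_lit 30) (.m (nat_lit 0x4a0) (nat_lit 0x2bd2ba2b82bc2b8) (nat_lit 0x6dc5dc717718616592553) (.w (nat_lit 30) (.m (nat_lit 0x6b2) (nat_lit 0x2bd2bd2bd) (nat_lit 0x1a71789a8a369661651c61a) (.w (nat_lit 30) .nil))))))),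
  .der (nat_lit 0) (nat_lit 0) (.w (nat_lit 30) (.m (nat_lit 865) (nat_lit 0) (nat_lit 0x69d7578255e195d5964944a1) (.w (nat_lit 30) (.m (nat_lit 0x4b6) (nat_lit 0x2002001ff1fc2001ff200) (nat_lit 0x65a8976a061699a5925189d4) (.w (nat_lit 30) (.m (nat_lit 0x6b6) (nat_lit 0x2b82b82b82bc2b92bd2b8) (nat_lit 0x1b5a66d889b6d7653) (.w (nat_lit 30) .nil))))))),
  .der (nat_lit 0) (nat_lit 0) (.w (nat_lit 30) (.m (nat_lit 0x6c6) (nat_lit 0) (nat_lit 0x1a6a285d5a659871749459b) (.w (nat_lit 30) (.m (nat_lit 722) (nat_lit 0x139139134138) (nat_lit 0x1a95d59d85d766596494492) (.w (nat_lit 30) (.m (nat_lit 0x6ad) (nat_lit 0x1fe1fd1ff200) (nat_lit 0x175db75b7206164a0559) (.w (nat_lit 30) .nil))))))),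
  .der (nat_lit 0) (nat_lit 0) (.w (nat_lit 30) (.m (nat_lit 0x6bd) (nat_lit 0) (nat_lit 0x1775f5dc6e66d6592494912) (.w (nat_lit 30) (.m (nat_lit 0x49e) (nat_lit 0x2b82bd2ba2b92ba2b8) (nat_lit 0x1d65f8586e17185d261f595) (.w (nat_lit 30) (.m (nat_lit 0x6e4) (nat_lit 0x17e17c18017f17c) (nat_lit 0x61a7175db9dd65d496918) (.w (nat_lit 30) .nil))))))),
  .der (nat_lit 0) (nat_lit 0) (.w (nat_lit 30) (.m (nat_lit 0x6d0) (nat_lit 0x6a469f6a66a569e69e) (nat_lit 0x6a16575db99b6216125147d6) (.w (nat_lit 30) (.m (nat_lit 0x6bd) (nat_lit 0x6a76a56a56a669e6a66a6) (nat_lit 0x5dd59a6596e56205d2522) (.w (nat_lit 30) (.m (nat_lit 0x6d5) (nat_lit 0x2ba2bd2b82bc2bc) (nat_lit 0x1a76059a5a165661659291b) (.w (nat_lit 30) .nil))))))),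
  .der (nat_lit 0) (nat_lit 0) (.w (nat_lit 30) (.m (nat_lit 0x6c6) (nat_lit 0x69e6a66a66a6) (nat_lit 0x1a61b6d96597265984954e3) (.w (nat_lit 30) (.m (nat_lit 0x446) (nat_lit 0x13413413913413b13813b138) (nat_lit 0x168167197597566d649451d) (.w (nat_lit 30) (.m (nat_lit 0x449) (nat_lit 0x13413913413b13813b) (nat_lit 0x59b5a669c5996d8495612) (.w (nat_lit 30) .nil))))))),
  .der (nat_lit 0) (nat_lit 0) (.w (nat_lit 30) (.m (nat_lit 0x6d4) (nat_lit 0x6a76a769e6a56a769e) (nat_lit 0x6db65f6a37216575125df) (.w (nat_lit 30) (.m (nat_lit 0x6bc) (nat_lit 0x2ba2bd2bd2b92b9) (nat_lit 0x59c6605d766695b5d261c492) (.w (nat_lit 30) (.m (nat_lit 0x6d2) (nat_lit 0x6a46a76a76a56a66a6) (nat_lit 0x1871671c95a61659649265a) (.w (nat_lit 30) .nil))))))),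
  .der (nat_lit 0) (nat_lit 0) (.w (nat_lit 30) (.m (nat_lit 0x6d9) (nat_lit 0x6a46a769e6a76a76a5) (nat_lit 0x1669a5985999a25935a4) (.w (nat_lit 30) (.m (nat_lit 760) (nat_lit 0x2b82bb2b82bc2bc2bc2ba) (nat_lit 0x1b7dd99b6566dd996524594) (.w (nat_lit 30) (.m (nat_lit 0x6be) (nat_lit 0x13913a13413913413b135139) (nat_lit 0x1781b75859a5da65749b5dd) (.w (nat_lit 30) .nil))))))),
  .der (nat_lit 0) (nat_lit 0) (.w (nat_lit 30) (.m (nat_lit 0x6bf) (nat_lit 0x6a46a76a469f6a669e6a4) (nat_lit 0x226e56576e64924a3) (.w (nat_lit 30) (.m (nat_lit 0x490) (nat_lit 0x138138135139) (nat_lit 0x69965995d7d995a494519) (.w (nat_lit 30) (.m (nat_lit 0x6b6) (nat_lit 0x2b92ba2b82b82ba) (nat_lit 0x59b89a75895c717494693) (.w (nat_lit 30) .nil))))))),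
  .der (nat_lit 0) (nat_lit 0x1801801601601901701701a01701a01801601a016) .nil,
  .der (nat_lit 0) (nat_lit 0x1701b01601901a01801a01601a01901601601901b01b018017) .nil,
  .der (nat_lit 0) (nat_lit 0x713714712715715715713713715715712712712715712712714714714713) .nil,
  .der (nat_lit 0) (nat_lit 0x712712715715712712714713713713715715715712715715712) .nil,
  .der (nat_lit 0) (nat_lit 0x715713715712714714714713713713714713714712712712712715715) .nil,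
  .der (nat_lit 0) (nat_lit 0x3003002b03002a03303103303103102b03002a030032030033030030) .nil,
  .der (nat_lit 0) (nat_lit 0x3003303003303103203203103002a031031033030) .nil,
  .der (nat_lit 0) (nat_lit 0x71c71e71e71c71c71f71c71f71f71f71d71d71f71d71f71d71e71d71d) .nil,
  .der (nat_lit 0) (nat_lit 0x71f71d71d71f71d71d71f71d71e71c71e71d) .nil,
  .der (nat_lit 0) (nat_lit 0x71f71d71f71d71d71f71f71d71e71e71d71f71f) .nil,
  .der (nat_lit 0) (nat_lit 0x4003e03c03c04003e03d03e04103d04003c03c03e03d041) .nil,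
  .der (nat_lit 0) (nat_lit 0x3d04003e03d04003c04103e04004003f04103e) .nil,
  .der (nat_lit 0) (nat_lit 0x3f04104104103c03c04003c03c04003e03e) .nil,
  .der (nat_lit 0) (nat_lit 0x8d08f08a08e08b08f08d08d08d08b08c08a08e08d08b08c08a) .nil,
  .der (nat_lit 0) (nat_lit 0x8e08c08e08c08c08f08f08d08e08d08f08f08f08d08a) .nil,
  .der (nat_lit 0) (nat_lit 0xb20b00b20610b30600b30b00610b20b30b30b10b10b20b10b10b1) .nil,
  .der (nat_lit 0) (nat_lit 0x610b10b10b10b10610b30b00b00600600b10b20b1060060060) .nil,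
  .der (nat_lit 0) (nat_lit 0x731732730733733733733731731733730731733733733730733733731733731731) .nil,
  .der (nat_lit 0) (nat_lit 0x733733731732730732732732730730731733733731733731733731733) .nil,
  .der (nat_lit 0) (nat_lit 0x83084084083083080085082081085081082080083080080083080) .nil,
  .der (nat_lit 0) (nat_lit 0x83085085081085083081081085081085080082084) .nil,
  .der (nat_lit 0) (nat_lit 0x73b73873a73873873873b73b73b73973973b739739739) .nil,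
  .der (nat_lit 0) (nat_lit 0x73a73973973a73973b73973b73b73973b738738) .nil,
  .der (nat_lit 0) (nat_lit 0xa90a90a70a50a60a90a40a60a80a80a80a40a70a5) .nil,
  .der (nat_lit 0) (nat_lit 0xa70a70a80a80a80a60a90a50a80a50a40a80a80a60a90a40a40a7) .nil,
  .der (nat_lit 0) (nat_lit 0x11e11a11f11d11b11b11c11f11e11b11b11d11e11a11d11b) .nil,
  .der (nat_lit 0) (nat_lit 0x11d11f11d11a11a11c11c11b11b11d11e) .nil,
  .der (nat_lit 0) (nat_lit 0x11f11c11e11b11d11a11d11e11d11b11d11f11b11c11a11d) .nil,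
  .der (nat_lit 0) (nat_lit 0x16015e16016015c16015f16016015f15f15d16015c15f) .nil,
  .der (nat_lit 0) (nat_lit 0x16015e15c15e16115c15c16015f15d16016015c16115d) .nil,
  .der (nat_lit 0) (nat_lit 0x15f16015d16115c16015c15f15c15e15c15c16015f16115c) .nil,
  .der (nat_lit 0) (nat_lit 0x284283285282282280282285283284281284283284281) .nil,
  .der (nat_lit 0) (nat_lit 0x281281285285282284283283285282284280285) .nil]
theorem hd894 : CX.chkL dv894 (nat_lit 894) = true := by decide +kernel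
def dv938 : List Dv := [.der (nat_lit 0) (nat_lit 0x1a41a01a41a01a41a31a41a01a11a21a41a21a51a11a1) .nil,
  .der (nat_lit 0) (nat_lit 0x1a11a31a41a41a21a51a01a11a11a51a51a01a3) .nil,
  .der (nat_lit 0) (nat_lit 0x1f11d41ee1f01d41f01ef1f11ef1f01ef1d41f0) .nil,
  .der (nat_lit 0) (nat_lit 0x1f01ef1f11d51ee1d51d51ef1d51f01d41f11ef1ef1d41ee) .nil,
  .der (nat_lit 0) (nat_lit 0x1ff1fc1fc2012011ff1fd1fd1fe2011fe2012011fc) .nil,
  .der (nat_lit 0) (nat_lit 0x1fc2001fc2012011ff1fd2011fe2011fe2011fd) .nil,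
  .der (nat_lit 0) (nat_lit 0x54554354554354453a54453a54254353a54354453a545542) .nil,
  .der (nat_lit 0) (nat_lit 0x54353a54454354354554354554253b53b54354454253a543) .nil,
  .der (nat_lit 0) (nat_lit 0x53b54553a54454254453b542545545545542545) .nil,
  .der (nat_lit 0) (nat_lit 0x562561565565561563560563561564560560560560) .nil,
  .der (nat_lit 0) (nat_lit 0x560560562564564564560565561563565560565) .nil,
  .der (nat_lit 0) (nat_lit 0x604601604604602605605603603605601604602601604602) .nil,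
  .der (nat_lit 0) (nat_lit 0x605602604603600605605603605603604603604600604) .nil,
  .der (nat_lit 0) (nat_lit 0x61f62162361e61e62061e61e62161e623621623621622) .nil,
  .der (nat_lit 0) (nat_lit 0x62062061e62061f61f62062061e62162161e621) .nil,
  .der (nat_lit 0) (nat_lit 0x65065064f65365164f65365365264e65264f650652650) .nil,
  .der (nat_lit 0) (nat_lit 0x64f65165364e65065365064f65364e64e65365364f65264f) .nil,
  .der (nat_lit 0) (nat_lit 0x6a569f6a56a56a669e6a669f6a46a769e) .nil,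
  .der (nat_lit 0) (nat_lit 0x6a669e6a569f6a669f6a76a46a669f6a76a76a4) .nil,
  .ax,
  .ax,
  .ax,
  .ax,
  .ax,
  .ax,
  .ax,
  .ax,
  .ax]
theorem hd938 : CX.chkL dv938 (nat_lit 938) = true := by decide +kernel
theorem up2 (h : CX.Upto 700) : CX.Upto 966 :=
  (((((((h.add hd700 (m := 734) rfl).add hd734 (m := 773) rfl).add hd773 (m := 822) rfl).add hd822 (m := 861) rfl).add hd861 (m := 894) rfl).add hd894 (m := 938) rfl).add hd938 (m := 966) rfl)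
end H46.P1
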