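import Cfsg.Agent.H46.P1Cov
import Cfsg.Agent.H71.Fi23
/-! The alphabet of the enumeration of the double cosets of `Fi₂₃`. -/
set_option maxRecDepth 100000
namespace H46.P1
open H71 Cfsg.Spor

/-- The letters as words in the generators `2, …, 11` of `Fi₂₃`. -/
def AW : List (List ℕ) := [[],
  [],
  [9,5,11,4,6,2,7,10,8,6,5,9,7,4,3,10,6,4,11,5,3,2,9,8,4,7,3,5,8,9,11,10,4,10,9,5,7,2,3,6,8,11],
  [11,8,6,3,2,7,5,9,10,4,10,11,9,8,5,3,7,4,8,9,2,3,5,11,4,6,10,3,4,7,9,5,6,8,10,7,2,6,4,11,5,9],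
  [6,5,7,9,3,2,10,4,3,4,2,11,5,9,10,8,6,2,7,11,10,8,7,10,5,2,4,11,2,5,8,6,3,4,5,3,8,6,9],
  [9,6,8,3,5,4,3,6,8,5,2,11,4,2,5,10,7,8,10,11,7,2,6,8,10,9,5,11,2,4,3,4,10,2,3,9,7,5,6],
  [2,8,5,4,9,10,7,8,11,3,6,5,2,4,3,6,10,9,2,4,7,8,11,6,4,8,10,5,7,3,11,10,2,6,5,10,9,8,7,2,3,11],
  [11,3,2,7,8,9,10,5,6,2,10,11,3,7,5,10,8,4,6,11,8,7,4,2,9,10,6,3,4,2,5,6,3,11,8,7,10,9,4,5,8,2],
  [11,4,7,6,2,10,3,5,8,2,7,5,11,10,8,9,6,7,10,3,9,8,4,10,8,9,3,6,2,4,9,8,5,7,4,10,9,8,3,2,7],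
  [7,2,3,8,9,10,4,7,5,8,9,4,2,6,3,9,8,10,4,8,9,3,10,7,6,9,8,10,11,5,7,2,8,5,3,10,2,6,7,4,11],
  [10,5,4,9,2,3,2,7,4,3,6,5,3,6,4,2,10,9,7,10,9,10,7,9,2,6,4,3,5,7,6,3,4,10,9],
  [9,10,4,3,6,7,5,3,4,6,2,9,7,10,9,10,7,9,10,2,4,6,3,5,6,3,4,7,2,3,2,9,4,5,10],
  [2,9,7,3,4,10,4,6,10,2,3,7,4,9,2,5,6,2,3,9,4,7,10,9,7,4,2,5,10,3],
  [3,10,5,2,4,7,9,10,7,4,9,3,2,6,5,2,9,4,7,3,2,10,6,4,10,4,3,7,9,2],
  [3,2,10,6,4,5,6,5,3,4,2,10,9,5,4,7,3,10,2,4,3,6,9,10,2,4,7,3,5,3,10,2,4,6,9],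
  [9,6,4,2,10,3,5,3,7,4,2,10,9,6,3,4,2,10,3,7,4,5,9,10,2,4,3,5,6,5,4,6,10,2,3],
  [9,2,3,5,4,7,9,3,10,7,5,2,4,10,4,9,3,7,2,5,2,7,6,3,10,9,3,5,6,7],
  [7,6,5,3,9,10,3,6,7,2,5,2,7,3,9,4,10,4,2,5,7,10,3,9,7,4,5,3,2,9],
  [9,6,7,10,4,8,9,8,4,7,11,10,6,3,5,11,6,7,9,4,10,3,8,5,9,6,11,3,8],
  [8,3,11,6,9,5,8,3,10,4,9,7,6,11,5,3,6,10,11,7,4,8,9,8,4,10,7,6,9],
  [4,6,7,3,9,8,4,8,9,7,11,3,6,10,5,11,6,7,4,9,3,10,8,5,4,6,11,10,8],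
  [8,10,11,6,4,5,8,10,3,9,4,7,6,11,5,10,6,3,11,7,9,8,4,8,9,3,7,6,4],
  [8,7,6,5,9,10,11,8,7,6,5,3,11,10,5,7,4,8,5,6,7,9,8,11,4,3,10,5,9,7,8,11,3,4,6,7,11,3,8,6,7,10,9,11,3],
  [3,11,9,10,7,6,8,3,11,7,6,4,3,11,8,7,9,5,10,3,4,11,8,9,7,6,5,8,4,7,5,10,11,3,5,6,7,8,11,10,9,5,6,7,8],
  [8,7,6,5,4,3,11,8,7,6,5,10,11,3,5,7,9,8,5,6,7,4,8,11,9,10,3,5,4,7,8,11,10,9,6,7,11,10,8,6,7,3,4,11,10],
  [10,11,4,3,7,6,8,10,11,7,6,9,10,11,8,7,4,5,3,10,9,11,8,4,7,6,5,8,9,7,5,3,11,10,5,6,7,8,11,3,4,5,6,7,8],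
  [8,7,6,5,4,3,9,5,10,11,8,7,3,11,7,5,4,10,8,6,9,11,7,5,10,3,10,6,11,4,5,3,5,9,7,3,10,8,6,11,5,4,8,10,6],
  [6,10,8,4,5,11,6,8,10,3,7,9,5,3,5,4,11,6,10,3,10,5,7,11,9,6,8,10,4,5,7,11,3,7,8,11,10,5,9,3,4,5,6,7,8],
  [8,7,6,5,9,10,4,5,3,11,8,7,10,11,7,5,9,3,8,6,4,11,7,5,3,10,3,6,11,9,5,10,5,4,7,10,3,8,6,11,5,9,8,3,6],
  [6,3,8,9,5,11,6,8,3,10,7,4,5,10,5,9,11,6,3,10,3,5,7,11,4,6,8,3,9,5,7,11,10,7,8,11,3,5,4,10,9,5,6,7,8],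
  [2],
  [3],
  [4],
  [5],
  [6],
  [7],
  [8],
  [9],
  [10],
  [11],
  [2,3,4,5,6,7,8,11,9,10,5,9,6,7,4,5,6,3,4,5,9,10,7,5,6,3,4,5,9,8,7,6,5,4,3,2,3,4,5,6,7,8,9,5,4,3,6,5,7,10,9,5,4,3,6,5,4,7,6,9,5,10,9,11,8,7,6,5,4,3,2]]

noncomputable def val (l : ℕ) : Fi23 := evw Fi23.val (nth AW [] l)

theorem nth_ge {α : Type*} (L : List α) (d : α) {i : ℕ} (h : L.length ≤ i) : nth L d i = d := by
  rw [nth_eq_getD, List.getD_eq_default _ _ h]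

theorem hv (l : ℕ) : val (linv 30 l) = (val l)⁻¹ := by
  rw [val, val, ← evw_winv Fi23.hv]
  by_cases h : l < 41
  · have : allLt (fun l => nth AW [] (linv 30 l) == winv 2 (nth AW [] l)) 41 = true := by
      decide +kernel
    rw [beq_iff_eq.mp (of_allLt this l h)]
  · rw [linv_eq, if_pos (by omega), nth_ge AW [] (show 41 ≤ l by omega)]; rfl

/-- The letters in `O₈⁺(3):2`. -/
def OM : List ℕ := [0, 0, 0, 0, 0, 0, 0, 0, 0, 0, 0, 0, 0, 0, 0, 0, 0, 0, 18, 19, 20, 21, 22, 23, 24, 25, 26, 27, 28, 29, 0, 31, 32, 33, 34, 35, 36, 37, 38, 39, 0]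
/-- Their images under the graph automorphism. -/
def TU : List ℕ := [0, 0, 0, 0, 0, 0, 0, 0, 0, 0, 0, 0, 0, 0, 0, 0, 0, 0, 20, 21, 18, 19, 24, 25, 22, 23, 28, 29, 26, 27, 0, 38, 37, 33, 34, 35, 36, 32, 31, 39, 0]

noncomputable def vo (l : ℕ) : Fi23 := val (nth OM 0 l)
noncomputable def vt (l : ℕ) : Fi23 := val (nth TU 0 l)

/-- The graph automorphism on the generators `b, …, j`. -/
noncomputable def tn (l : ℕ) : ℕ := nth [0, 1, 2, 10, 9, 5, 6, 7, 8, 4, 3, 11] 0 l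

def SO : List ℕ := [3, 4, 5, 6, 7, 8, 9, 10, 11]

theorem om_spec (l : ℕ) : (∀ x ∈ nth AW [] (nth OM 0 l), x ∈ SO) ∧
    nth AW [] (nth TU 0 l) = (nth AW [] (nth OM 0 l)).map tn := by
  by_cases h : l < 41
  · have : allLt (fun l => subB (maskL (nth AW [] (nth OM 0 l))) (maskL SO) &&
        nth AW [] (nth TU 0 l) == (nth AW [] (nth OM 0 l)).map tn) 41 = true := by decide +kernel
    have h1 := of_allLt this l h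
    rw [Bool.and_eq_true, beq_iff_eq] at h1
    exact ⟨fun x hx => mem_of_maskL (of_subB h1.1 (testBit_maskL hx)), h1.2⟩
  · rw [nth_ge OM 0 (show 41 ≤ l by omega), nth_ge TU 0 (show 41 ≤ l by omega)]
    exact ⟨fun x hx => absurd hx List.not_mem_nil, rfl⟩

theorem vo_mem (l : ℕ) : vo l ∈ gen Fi23.val SO :=
  evw_mem fun x hx => mem_gen _ ((om_spec l).1 x hx)

theorem tau_of {G : Type*} [Group G] {φ : Fi23 →* G} {σ : G}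
    (h : ∀ l ∈ SO, φ (Fi23.val l) * σ = σ * φ (Fi23.val (tn l))) (l : ℕ) :
    φ (vo l) * σ = σ * φ (vt l) := by
  obtain ⟨h1, h2⟩ := om_spec l
  rw [vo, vt, val, val, h2]
  generalize nth AW [] (nth OM 0 l) = w at h1
  induction w with
  | nil => simp
  | cons x w ih =>
    rw [List.map_cons, evw_cons, evw_cons, map_mul, map_mul, mul_assoc,
      ih fun y hy => h1 y (by simp [hy]), ← mul_assoc, h x (h1 x (by simp)), mul_assoc]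

/-- `t` is the table of the inverse of letter `l`. -/
def TabOK (l : ℕ) (t : Tr) : Prop := ∀ p < 32768, lk t p = (Fi23.ρ (val l))⁻¹ p

theorem tabOK {l t0 t1 t2 t3 : ℕ}
    (h : tabChk (fun k => wapp FiH.A (nth AW [] l) (planeN 15 32768 k)) t0 t1 t2 t3 = true) :
    TabOK l (mkT t0 t1 t2 t3) := fun p hp => by
  rw [lk_word FiH.env h hp, val, Fi23.ρ_evw]

/-- The table of the identity. -/
noncomputable def tb0 : Tr := mkT (tabQ (planeN 15 32768) 0 15) (tabQ (planeN 15 32768) 1 15)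
  (tabQ (planeN 15 32768) 2 15) (tabQ (planeN 15 32768) 3 15)

theorem ct0 : TabOK 0 tb0 := tabOK (by
  show tabChk (planeN 15 32768) _ _ _ _ = true
  simp [tabChk])

end H46.P1
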