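import Cfsg.Agent.H46.P1R0
import Cfsg.Agent.H46.P1R1
import Cfsg.Agent.H46.P1R2
import Cfsg.Agent.H46.P1C
import Cfsg.Agent.H46.P1G
/-! The action of `Fi₂₃` on the 137632 cosets of `O₈⁺(3):S₃`. -/
set_option maxRecDepth 1000000
set_option Elab.async false
namespace H46.P1
open H71 Cfsg.Spor

theorem relL : ∀ r ∈ RL, evw πL r = 1 := envL.rels_of_planes hNL (by
  intro k hk
  interval_cases k
  exacts [rL0, rL1, rL2, rL3, rL4, rL5, rL6, rL7, rL8, rL9, rL10, rL11, rL12, rL13, rL14, rL15, rL16, rL17])

theorem relD : ∀ r ∈ RD, evw πL r = 1 := envL.rels_of_planes hNL (by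
  intro k hk
  interval_cases k
  exacts [rD0, rD1, rD2, rD3, rD4, rD5, rD6, rD7, rD8, rD9, rD10, rD11, rD12, rD13, rD14, rD15, rD16, rD17])

noncomputable def ρL : Fi23 →* Equiv.Perm ℕ :=
  PresentedGroup.toGroup (f := fun x => πL (Fi23.code x + 28))
    (cox_lift pinvL (fun x => Fi23.code x + 28) relL (by decide +kernel)
      (extra_lift pinvL (fun x => Fi23.code x + 28) relL (by decide +kernel)))

theorem ρL_node : ∀ l ∈ FiH.S, ρL (Fi23.val l) = πL (Nat.add 28 l) := by
  have h : ∀ x, ρL (Fi23.val (Fi23.code x)) = πL (Fi23.code x + 28) := fun x => by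
    rw [Fi23.hval, ρL, PresentedGroup.toGroup.of]
  intro l hl
  simp only [FiH.S, List.mem_cons, List.not_mem_nil, or_false] at hl
  rcases hl with rfl | rfl | rfl | rfl | rfl | rfl | rfl | rfl | rfl | rfl
  exacts [h .a, h .b, h .c, h .d, h .e, h .f, h .g, h .h, h .i, h .j]

theorem ρL_val (l : ℕ) : ρL (val l) = evw πL ((nth AW [] l).map (Nat.add 28)) := by
  have h : ∀ x ∈ nth AW [] l, x ∈ FiH.S := by
    have : allL (fun w => subB (maskL w) (maskL FiH.S)) AW = true := by decide +kernel
    exact nth_prop (P := fun w => ∀ x ∈ w, x ∈ FiH.S)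
      (fun w hw x hx => mem_of_maskL (of_subB (of_allL this w hw) (testBit_maskL hx))) (by simp) l
  rw [val, map_evw, evw, evw, List.map_map]
  exact congrArg List.prod (List.map_congr_left fun x hx => ρL_node x (h x hx))

theorem ρL_even : ∀ l ∈ [2, 4, 6, 8, 10, 12, 14, 16],
    ρL (val l) = πL l ∧ ρL (val (l + 1)) = πL (l + 1) := by
  intro l hl
  have h1 := relD _ (List.mem_map_of_mem hl)
  have e : linv 30 l = l + 1 := (by decide +kernel :
    ∀ l ∈ [2, 4, 6, 8, 10, 12, 14, 16], linv 30 l = l + 1) l hl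
  rw [evw_cons, ← ρL_val, Nat.succ_eq_add_one, ← e, pinvL, inv_mul_eq_one] at h1
  exact ⟨h1.symm, by rw [← e, hv, pinvL, map_inv, h1]⟩

theorem netsL : Nets ρL val AL (nat_lit 30) (nat_lit 0xffc003fffc) := by
  refine ⟨⟨137632, πL, envL, fun l hl => ?_⟩, hv⟩
  have hl' : l ∈ [2, 3, 4, 5, 6, 7, 8, 9, 10, 11, 12, 13, 14, 15, 16, 17, 30, 31, 32, 33, 34, 35, 36,
    37, 38, 39] := mem_of_maskL (of_subB (by decide +kernel) hl)
  have h : ∀ l ∈ [30, 31, 32, 33, 34, 35, 36, 37, 38, 39], ρL (val l) = πL l := by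
    intro l hl
    rw [ρL_val, (by decide +kernel : ∀ l ∈ [30, 31, 32, 33, 34, 35, 36, 37, 38, 39],
      (nth AW [] l).map (Nat.add 28) = [l]) l hl]
    simp
  simp only [List.mem_cons, List.not_mem_nil, or_false] at hl'
  rcases hl' with rfl | rfl | rfl | rfl | rfl | rfl | rfl | rfl | rfl | rfl | rfl | rfl | rfl | rfl |
    rfl | rfl | hl'
  exacts [(ρL_even 2 (by simp)).1, (ρL_even 2 (by simp)).2, (ρL_even 4 (by simp)).1,
    (ρL_even 4 (by simp)).2, (ρL_even 6 (by simp)).1, (ρL_even 6 (by simp)).2,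
    (ρL_even 8 (by simp)).1, (ρL_even 8 (by simp)).2, (ρL_even 10 (by simp)).1,
    (ρL_even 10 (by simp)).2, (ρL_even 12 (by simp)).1, (ρL_even 12 (by simp)).2,
    (ρL_even 14 (by simp)).1, (ρL_even 14 (by simp)).2, (ρL_even 16 (by simp)).1,
    (ρL_even 16 (by simp)).2, h l (by simpa using hl')]

theorem ρL_lt (h : Fi23) : ρL h 0 < 137632 := by
  by_contra hc
  have h1 : gen Fi23.val FiH.S ≤ stab ρL (ρL h 0) := gen_le fun l hl => by
    rw [mem_stab, ρL_node l hl, envL.fix _ _ (by omega)]
  have h2 : ρL h (ρL h 0) = ρL h 0 := h1 (Fi23.top ▸ Subgroup.mem_top h)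
  have := (ρL h).injective h2
  omega

def O_0 : Lev := ⟨nat_lit 255, nat_lit 109200, [nat_lit 0x30a4213639a1406347, nat_lit 0x2cb38d2d088a406251, nat_lit 0xd8d080c78a0c924a20a], [nat_lit 0, nat_lit 2, nat_lit 4, nat_lit 0, nat_lit 2, nat_lit 4, nat_lit 0, nat_lit 2, nat_lit 4, nat_lit 0, nat_lit 2, nat_lit 4, nat_lit 0, nat_lit 2, nat_lit 4, nat_lit 0, nat_lit 2, nat_lit 4, nat_lit 0, nat_lit 2, nat_lit 4, nat_lit 0, nat_lit 0]⟩
theorem hO_0 : levOK AL (nat_lit 30) (nat_lit 0xffc003fffc) O_0 = true := by decide +kernel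
def O_1 : Lev := ⟨nat_lit 1342, nat_lit 46656, [nat_lit 0x30a4513a12cc4620d018f151, nat_lit 0x32044d84f8e039028215e3c4082, nat_lit 0x31e84f2d198f3443e3949091], [nat_lit 0, nat_lit 2, nat_lit 4, nat_lit 0, nat_lit 2, nat_lit 4, nat_lit 0, nat_lit 2, nat_lit 4, nat_lit 0, nat_lit 2, nat_lit 4, nat_lit 0, nat_lit 2, nat_lit 4, nat_lit 0, nat_lit 2, nat_lit 4, nat_lit 0, nat_lit 2, nat_lit 4, nat_lit 0]⟩
theorem hO_1 : levOK AL (nat_lit 30) (nat_lit 0xffc003fffc) O_1 = true := by decide +kernel
def O_2 : Lev := ⟨nat_lit 2974, nat_lit 1944, [nat_lit 0xd4223a22de44a1a708c142, nat_lit 0x2de3e04223204041e5185791, nat_lit 0x2e18ca81030e4021a71a1], [nat_lit 0, nat_lit 2, nat_lit 4, nat_lit 0, nat_lit 2, nat_lit 4, nat_lit 0, nat_lit 2, nat_lit 4, nat_lit 0, nat_lit 2, nat_lit 4, nat_lit 0, nat_lit 2, nat_lit 4, nat_lit 0, nat_lit 2]⟩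
theorem hO_2 : levOK AL (nat_lit 30) (nat_lit 0xffc003fffc) O_2 = true := by decide +kernel

theorem cardO : 9904359628800 ≤ Nat.card (gen Fi23.val SO) := by
  have h1 : CX.memO [(nat_lit 0x30a4213639a1406347, nat_lit 18), (nat_lit 0x2cb38d2d088a406251, nat_lit 20), (nat_lit 0xd8d080c78a0c924a20a, nat_lit 22), (nat_lit 0x30a4513a12cc4620d018f151, nat_lit 0x6e16d896669c5984d7626), (nat_lit 0x32044d84f8e039028215e3c4082, nat_lit 0x1795a61c717957716592519592), (nat_lit 0x31e84f2d198f3443e3949091, nat_lit 0x167606db65c7175d7496524), (nat_lit 0xd4223a22de44a1a708c142, nat_lit 0x178655d77d75e565255b652), (nat_lit 0x2de3e04223204041e5185791, nat_lit 0x65661c7da99a59849b620), (nat_lit 0x2e18ca81030e4021a71a1, nat_lit 0x6a181c7196d799b49b613)] (([O_0, O_1, O_2]).map Lev.ws).flatten = true := by decide +kernel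
  exact netsL.chain [O_0, O_1, O_2] _ (fun l hl w hw => of_memO tabs vo_mem h1 w
    (List.mem_flatten.2 ⟨_, List.mem_map_of_mem hl, hw⟩)) (allc hO_0 <| allc hO_1 <| all1 hO_2) (by decide +kernel)

theorem transL : covOK AL (nat_lit 30) (nat_lit 0xffc003fffc) 137632 [nat_lit 0x2a12cf84e84d88b1462210e60c3, nat_lit 0xb3223ca3e196010724a148, nat_lit 0x35f39f86340d78410b146121402] [nat_lit 0, nat_lit 4, nat_lit 0, nat_lit 2, nat_lit 4, nat_lit 0, nat_lit 2, nat_lit 4, nat_lit 0, nat_lit 2, nat_lit 4, nat_lit 0, nat_lit 2, nat_lit 4, nat_lit 0, nat_lit 2, nat_lit 4, nat_lit 0, nat_lit 2, nat_lit 4, nat_lit 0, nat_lit 2, nat_lit 4, nat_lit 0] [0] = true := by decide +kernel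

theorem cardS : Nat.card (stab ρL 0) ≤ 3 * 9904359628800 := by
  have h1 : Set.Ico 0 137632 ⊆ orb ρL ⊤ 0 := fun i hi =>
    netsL.cov (B := ⊤) (fun _ _ => trivial) (fun i => i ∈ orb ρL ⊤ 0)
      (fun g _ i ⟨g', _, e⟩ => ⟨g * g', trivial, by rw [map_mul, Equiv.Perm.mul_apply, e]⟩)
      (fun i hi => ⟨1, trivial, by simpa using (List.mem_singleton.1 hi).symm⟩) transL i hi.2
  have h2 := Set.ncard_le_ncard h1 ((Set.finite_Iio 137632).subset (by
    rintro _ ⟨g, -, rfl⟩; exact ρL_lt g))
  have h3 := (stab ρL 0).index_mul_card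
  rw [ncard_Ico'] at h2
  rw [index_stab, Fi23.card] at h3
  have := Nat.mul_le_mul_right (Nat.card (stab ρL 0)) h2
  omega

noncomputable def Δ0 : ℕ := (jn (nat_lit 0x21c03c000000000000000000000000000000000000000000000000000000000000000000000000000000000000000000000000000000000000000000000000000000000000000000000000000000000000000000000000000000000000000000000000000000007fe0007071ffffff0000000000000000000000000000000000000000000000000000000000000000000000000000000000000000000000000000000000000000000000000000000000000000000000000000000000018f01fffe019fc71fe7ffffffffff000000000000000000000000000000000000000000000000000000000000000000000000000000000000000000000000000002000000000000000000bfc7e0fff80fc7f3fcfe7fffffffff00000000000000000000000000000000000000000000000000000000000000000000000000000000000000000367f9f83ff0fe7e7f3f7fffffffc0000000000000000000000000000000000000000000000000000000000000001679fcfc7f9f9fbf7bffffff80000000000000000000000000000000000000000000006e5f3f7e7efdef7fffff80000000000000000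000000000000000038f6fdefbdeffffff8000000000000000000000001edddefeffffff00000000000000000376feffffff000000000001bbfffffc00000001fffff800003fffe0007ffc01ff81fe3f3ddff8000000000000000000000000000000000000000000000000000000000000000000000000000000000000000000000000000000000000000000000000000000000000000000000000000000000000000000000000000000000000000000000000000000000000000000000000000000000000000000000000000000000000000000000000000000000000000000000000000000000000000000000000000000000000000000000000000000000000000000000000000000000000000000000000000000000000000000000000000000000001fe000000000000000000000000000000000000000000000000000000000000000000000007fe000000000000000000000000000000000000000000000000000000000000000001ffe0000000000000000000000000000000000000000000000000000000030cfffffc00000000000000000000000000000000000000000000006a67cfffffffff80000000000000000000000000000000000007bcf9f3effffffff000000000000000000000000003cf9f3ef7fffffe0000000000000000000f9f3ef7ffffe0000000000000f9f7bffff8000000003ef7fff000003dfff0007ff01fc3cef)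 (nat_lit 8192)
 (nat_lit 0x200000000000000000000000000000000000000000000000000000000000000000000000000000000000000000000000000000000000000000000000000000000000000000000000000000000000000000000000000000000000000000000000000000000000000000000000000000000000000000000000000000000000000000000000000000000000000000000000000000030000000000000000000000000000000000000000000000000000000000000000000000000000000))

theorem invΔ : ∀ g ∈ gen Fi23.val SO, ∀ i, Δ0.testBit (Fi23.ρ g i) = Δ0.testBit i :=
  invChk_sound FiH.env Fi23.ρ (fun l _ => Fi23.hρ l) (by decide +kernel)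

theorem notO {w : List ℕ} {p q : ℕ} (h : maps FiH.A w p q = true)
    (h1 : (Δ0.testBit p && !Δ0.testBit q) = true) : evw Fi23.val w ∉ gen Fi23.val SO := fun hc => by
  have := invΔ _ hc p
  rw [Fi23.ρ_evw, FiH.env.of_maps h] at this
  simp [this] at h1

theorem stab3 {G : Type*} [Group G] {φ : Fi23 →* G} {σ : G}
    (hτ : ∀ l ∈ SO, φ (Fi23.val l) * σ = σ * φ (Fi23.val (tn l))) :
    Stab3 ρL val φ σ (nat_lit 40) (nat_lit 0xa27) := by
  intro h hh
  have e1 : evw val (unp (nat_lit 40)) = val 40 := mul_one _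
  have e2 : evw val (unp (nat_lit 0xa27)) = val 39 * val 40 := by
    show evw val [39, 40] = _
    simp
  have hO : gen Fi23.val SO ≤ stab ρL 0 := by
    have := invChk_letter envL (S := SO.map (Nat.add 28)) (I := 1) (by decide +kernel)
    refine gen_le fun l hl => ?_
    have h1 := this _ (List.mem_map_of_mem hl) 0
    rw [mem_stab, ρL_node l ((by decide : SO ⊆ FiH.S) hl)]
    simpa [Nat.testBit_one_eq_true_iff_self_eq_zero] using h1
  have hj : val 39 ∈ gen Fi23.val SO := vo_mem 39
  have hy : val 40 ∈ stab ρL 0 := by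
    rw [mem_stab, ρL_val]; exact envL.of_maps (by decide +kernel)
  have n1 : val 40 ∉ gen Fi23.val SO := notO (p := 1824) (q := 26774) (by decide +kernel) (by decide +kernel)
  have n3 : (val 40)⁻¹ * (val 39 * val 40) ∉ gen Fi23.val SO := by
    rw [← hv, val, val, val, ← evw_append, ← evw_append]
    exact notO (p := 1824) (q := 25592) (by decide +kernel) (by decide +kernel)
  have key : ∀ o ∈ gen Fi23.val SO, ∃ o', φ o * σ = σ * φ o' := by
    have : gen Fi23.val SO ≤ (φ.range.comap (MulAut.conj σ⁻¹).toMonoidHom).comap φ :=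
      gen_le fun l hl => ⟨Fi23.val (tn l), by simp [mul_assoc, hτ l hl]⟩
    intro o ho
    obtain ⟨o', e⟩ := this ho
    exact ⟨o', by simp [e, mul_assoc]⟩
  rcases three_cosets hO (cardS.trans (Nat.mul_le_mul_left 3 cardO)) hy
    (Subgroup.mul_mem _ (hO hj) hy) n1 (fun hc => n1 (by
      simpa using Subgroup.mul_mem _ (Subgroup.inv_mem _ hj) hc)) n3 hh with h1 | h1 | h1
  · obtain ⟨o', e⟩ := key _ h1
    exact ⟨0, Or.inl rfl, h, o', e, by simp [unp_zero]⟩
  · obtain ⟨o', e⟩ := key _ h1
    exact ⟨_, Or.inr (Or.inl rfl), _, o', e, by rw [e1]; simp⟩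
  · obtain ⟨o', e⟩ := key _ h1
    exact ⟨_, Or.inr (Or.inr rfl), _, o', e, by rw [e2]; simp [mul_assoc]⟩

end H46.P1
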