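import Cfsg.Agent.H46.P1C
import Cfsg.Agent.H46.P1E
import Cfsg.Agent.H46.P1G
/-! Covering of the neighbours and orders of the stabilisers. -/
set_option maxRecDepth 1000000
set_option Elab.async false
namespace H46.P1
open H71
def K_0 : Lev := ⟨nat_lit 0, nat_lit 137632, [nat_lit 0x2a12cf84e84d88b1462210e60c3, nat_lit 0xb3223ca3e196010724a148, nat_lit 0x35f39f86340d78410b146121402], [nat_lit 0, nat_lit 4, nat_lit 0, nat_lit 2, nat_lit 4, nat_lit 0, nat_lit 2, nat_lit 4, nat_lit 0, nat_lit 2, nat_lit 4, nat_lit 0, nat_lit 2, nat_lit 4, nat_lit 0, nat_lit 2, nat_lit 4, nat_lit 0, nat_lit 2, nat_lit 4, nat_lit 0, nat_lit 2, nat_lit 4, nat_lit 0]⟩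
theorem hK_0 : levOK AL (nat_lit 30) (nat_lit 0xffc003fffc) K_0 = true := by decide +kernel
def K_1 : Lev := ⟨nat_lit 255, nat_lit 109200, [nat_lit 0xb36029184e40a08b0cd11e, nat_lit 0xb38e7a23e084e3440c790c784882], [nat_lit 0, nat_lit 2, nat_lit 0, nat_lit 2, nat_lit 0, nat_lit 2, nat_lit 0, nat_lit 2, nat_lit 0, nat_lit 2, nat_lit 0, nat_lit 2, nat_lit 0, nat_lit 2, nat_lit 0, nat_lit 2, nat_lit 0, nat_lit 2, nat_lit 0, nat_lit 2, nat_lit 0, nat_lit 2, nat_lit 0, nat_lit 2, nat_lit 0, nat_lit 2, nat_lit 0, nat_lit 2]⟩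
theorem hK_1 : levOK AL (nat_lit 30) (nat_lit 0xffc003fffc) K_1 = true := by decide +kernel
def K_2 : Lev := ⟨nat_lit 1342, nat_lit 46656, [nat_lit 0xa28f80f3603cc782345284345, nat_lit 0xa28c8cf3112cb3030c40e39c8146], [nat_lit 0, nat_lit 2, nat_lit 0, nat_lit 2, nat_lit 0, nat_lit 2, nat_lit 0, nat_lit 2, nat_lit 0, nat_lit 2, nat_lit 0, nat_lit 2, nat_lit 0, nat_lit 2, nat_lit 0, nat_lit 2, nat_lit 0, nat_lit 2, nat_lit 0, nat_lit 2, nat_lit 0, nat_lit 2, nat_lit 0, nat_lit 2, nat_lit 0, nat_lit 2]⟩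
theorem hK_2 : levOK AL (nat_lit 30) (nat_lit 0xffc003fffc) K_2 = true := by decide +kernel
def K_3 : Lev := ⟨nat_lit 2974, nat_lit 5832, [nat_lit 0xb4108ce35f34d40a0851cf24d1cb, nat_lit 0x2e23e330c2ce2cc0cb2021a7087, nat_lit 0x2338e2d184d38a1033891090cf, nat_lit 0x2cb35e8a134d34f0c318e2033c4], [nat_lit 0, nat_lit 2, nat_lit 4, nat_lit 6, nat_lit 0, nat_lit 2, nat_lit 4, nat_lit 6, nat_lit 0, nat_lit 2, nat_lit 4, nat_lit 6, nat_lit 0, nat_lit 2, nat_lit 4, nat_lit 0, nat_lit 2]⟩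
theorem hK_3 : levOK AL (nat_lit 30) (nat_lit 0xffc003fffc) K_3 = true := by decide +kernel
theorem chK : ChOK CX AL (nat_lit 30) (nat_lit 0xffc003fffc) (nat_lit 273) (nat_lit 11) (nat_lit 4089470473293004800) :=
  ⟨[K_0, K_1, K_2, K_3], [nat_lit 128, nat_lit 125, nat_lit 129, nat_lit 265, nat_lit 266, nat_lit 267, nat_lit 268, nat_lit 269, nat_lit 270, nat_lit 271, nat_lit 272], by decide +kernel, allc hK_0 <| allc hK_1 <| allc hK_2 <| all1 hK_3, by decide +kernel, by decide +kernel⟩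
def sd0_0 : List Seed := [⟨nat_lit 0, (nat_lit 0), (.m (nat_lit 12) (nat_lit 0) (nat_lit 0) .nil), (.m (nat_lit 12) (nat_lit 0x7008008008008008008008006) (nat_lit 0x5da62661c61c8d8592693) .nil), (.m (nat_lit 12) (nat_lit 0x600800a00800800600a) (nat_lit 0x168e585a59a8174a05e6) .nil)⟩]
theorem hsd0_0 : allL (CX.seedOK AL (nat_lit 0xffc003fffc) (nat_lit 966) (nat_lit 0x1f80cf7000035f) (nat_lit 40) (nat_lit 0xa27) (nat_lit 0)) sd0_0 = true := by decide +kernel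
theorem cov0 : CovOK CX AL (nat_lit 30) (nat_lit 0xffc003fffc) (nat_lit 137632) (nat_lit 966) (nat_lit 0x1f80cf7000035f) (nat_lit 40) (nat_lit 0xa27) (nat_lit 0) :=
  ⟨[sd0_0], [nat_lit 3, nat_lit 4, nat_lit 5], [nat_lit 7, nat_lit 386, nat_lit 0xc40b2d13df3cf3c50912cc], [nat_lit 0, nat_lit 2, nat_lit 4, nat_lit 0, nat_lit 2, nat_lit 4, nat_lit 0, nat_lit 2, nat_lit 4, nat_lit 0, nat_lit 2, nat_lit 4, nat_lit 0, nat_lit 2, nat_lit 4, nat_lit 0, nat_lit 2, nat_lit 4, nat_lit 0, nat_lit 2, nat_lit 4, nat_lit 0, nat_lit 2, nat_lit 0], all1 hsd0_0, by decide +kernel, by decide +kernel⟩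
def sd1_0 : List Seed := [⟨nat_lit 0, (nat_lit 0), (.m (nat_lit 13) (nat_lit 0) (nat_lit 0) .nil), (.m (nat_lit 560) (nat_lit 0) (nat_lit 0) .nil), (.m (nat_lit 560) (nat_lit 22) (nat_lit 0x6599596e55a271c592512513) .nil)⟩,
  ⟨nat_lit 1, (nat_lit 13), (.m (nat_lit 28) (nat_lit 0) (nat_lit 0x266205a2) .nil), (.m (nat_lit 52) (nat_lit 0x1701701901901701a01a) (nat_lit 0x6575da6236d66d6592523893) .nil), (.m (nat_lit 52) (nat_lit 0x1801701a01901a01701a) (nat_lit 0x8976d77275a2616512894) .nil)⟩,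
  ⟨nat_lit 854, (nat_lit 976), (.m (nat_lit 66) (nat_lit 0x1901601601801a) (nat_lit 0x6d959861c6db75b4924a4) .nil), (.m (nat_lit 66) (nat_lit 0x1601b01701901901901a) (nat_lit 0x61a7665e071b856592499) .nil), (.m (nat_lit 66) (nat_lit 0x1601801a01801b01801601a018) (nat_lit 0x186996666d96a66645997d5) .nil)⟩]
theorem hsd1_0 : allL (CX.seedOK AL (nat_lit 0xffc003fffc) (nat_lit 966) (nat_lit 0x1f80cf7000035f) (nat_lit 40) (nat_lit 0xa27) (nat_lit 1)) sd1_0 = true := by decide +kernel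
theorem cov1 : CovOK CX AL (nat_lit 30) (nat_lit 0xffc003fffc) (nat_lit 137632) (nat_lit 966) (nat_lit 0x1f80cf7000035f) (nat_lit 40) (nat_lit 0xa27) (nat_lit 1) :=
  ⟨[sd1_0], [nat_lit 11, nat_lit 12, nat_lit 13], [nat_lit 0xe8e63a53d0285286950343, nat_lit 0x35042099081e2821074621ca, nat_lit 0x84c7a33d130c2c41c929f085], [nat_lit 0, nat_lit 2, nat_lit 4, nat_lit 0, nat_lit 2, nat_lit 4, nat_lit 0, nat_lit 2, nat_lit 4, nat_lit 0, nat_lit 2, nat_lit 4, nat_lit 0, nat_lit 2, nat_lit 4, nat_lit 0, nat_lit 2, nat_lit 4, nat_lit 0, nat_lit 2, nat_lit 4, nat_lit 0, nat_lit 2], all1 hsd1_0, by decide +kernel, by decide +kernel⟩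
def T1_0 : Lev := ⟨nat_lit 255, nat_lit 109200, [nat_lit 0xe8e63a53d0285286950343, nat_lit 0x35042099081e2821074621ca, nat_lit 0x84c7a33d130c2c41c929f085], [nat_lit 0, nat_lit 2, nat_lit 4, nat_lit 0, nat_lit 2, nat_lit 4, nat_lit 0, nat_lit 2, nat_lit 4, nat_lit 0, nat_lit 2, nat_lit 4, nat_lit 0, nat_lit 2, nat_lit 4, nat_lit 0, nat_lit 2, nat_lit 4, nat_lit 0, nat_lit 2, nat_lit 4, nat_lit 0, nat_lit 2]⟩
theorem hT1_0 : levOK AL (nat_lit 30) (nat_lit 0xffc003fffc) T1_0 = true := by decide +kernel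
def T1_1 : Lev := ⟨nat_lit 1342, nat_lit 46656, [nat_lit 0xc45f98d8cf36328209f805186, nat_lit 0x84e30e2a188b3023441e40ce], [nat_lit 0, nat_lit 2, nat_lit 0, nat_lit 2, nat_lit 0, nat_lit 2, nat_lit 0, nat_lit 2, nat_lit 0, nat_lit 2, nat_lit 0, nat_lit 2, nat_lit 0, nat_lit 2, nat_lit 0, nat_lit 2, nat_lit 0, nat_lit 2, nat_lit 0, nat_lit 2, nat_lit 0, nat_lit 2, nat_lit 0, nat_lit 2, nat_lit 0, nat_lit 2, nat_lit 0]⟩
theorem hT1_1 : levOK AL (nat_lit 30) (nat_lit 0xffc003fffc) T1_1 = true := by decide +kernel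
def T1_2 : Lev := ⟨nat_lit 2974, nat_lit 1944, [nat_lit 0xa3cc2d18a37c5347250905, nat_lit 0xb45f34d78d98b3c520c247885, nat_lit 0x2d138b80d88b40a10d1a0405], [nat_lit 0, nat_lit 2, nat_lit 4, nat_lit 0, nat_lit 2, nat_lit 4, nat_lit 0, nat_lit 2, nat_lit 4, nat_lit 0, nat_lit 2, nat_lit 4, nat_lit 0, nat_lit 2, nat_lit 4, nat_lit 0, nat_lit 4]⟩
theorem hT1_2 : levOK AL (nat_lit 30) (nat_lit 0xffc003fffc) T1_2 = true := by decide +kernel
theorem chT1 : ChOK CX AL (nat_lit 30) (nat_lit 0xffc003fffc) (nat_lit 966) (nat_lit 1) (nat_lit 9904359628800) :=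
  ⟨[T1_0, T1_1, T1_2], [nat_lit 11, nat_lit 12, nat_lit 13, nat_lit 905, nat_lit 906, nat_lit 907, nat_lit 908, nat_lit 909], by decide +kernel, allc hT1_0 <| allc hT1_1 <| all1 hT1_2, by decide +kernel, by decide +kernel⟩
def sd2_0 : List Seed := [⟨nat_lit 0, (nat_lit 0), (.m (nat_lit 29) (nat_lit 0) (nat_lit 0) .nil), (.m (nat_lit 594) (nat_lit 0x2a02a033033) (nat_lit 0x6266db6216997d2519) .nil), (.m (nat_lit 594) (nat_lit 0x2b030033033) (nat_lit 0x5dd65d661722858592525992) .nil)⟩,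
  ⟨nat_lit 223, (nat_lit 5), (.m (nat_lit 114) (nat_lit 0x33030030) (nat_lit 0x1a59c7e182265a624592) .nil), (.m (nat_lit 270) (nat_lit 0x3003203203103103102b) (nat_lit 0x65a99a7255e665c4964d8) .nil), (.m (nat_lit 270) (nat_lit 0x30030032031) (nat_lit 0x7166d76e259a69255d8d3) .nil)⟩,
  ⟨nat_lit 10445, (nat_lit 0x23c8), (.m (nat_lit 144) (nat_lit 0x3202b) (nat_lit 0x1c6226d775b6595924925d2) .nil), (.m (nat_lit 144) (nat_lit 0x3002a03303303003003302b031) (nat_lit 0x1d95669895d896494599) .nil), (.m (nat_lit 144) (nat_lit 0x3203003303003303003302b) (nat_lit 0x59a75d5da6a195959251d492) .nil)⟩]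
theorem hsd2_0 : allL (CX.seedOK AL (nat_lit 0xffc003fffc) (nat_lit 966) (nat_lit 0x1f80cf7000035f) (nat_lit 40) (nat_lit 0xa27) (nat_lit 2)) sd2_0 = true := by decide +kernel
theorem cov2 : CovOK CX AL (nat_lit 30) (nat_lit 0xffc003fffc) (nat_lit 137632) (nat_lit 966) (nat_lit 0x1f80cf7000035f) (nat_lit 40) (nat_lit 0xa27) (nat_lit 2) :=
  ⟨[sd2_0], [nat_lit 24, nat_lit 21, nat_lit 25], [nat_lit 0x8e232180d3ca28422319f, nat_lit 0x2e039194e2e630c2509062c3, nat_lit 0x2e198c80b3d184e0c70cf0e7], [nat_lit 0, nat_lit 4, nat_lit 2, nat_lit 0, nat_lit 4, nat_lit 2, nat_lit 0, nat_lit 4, nat_lit 2, nat_lit 0, nat_lit 4, nat_lit 2, nat_lit 0, nat_lit 4, nat_lit 2, nat_lit 0, nat_lit 4, nat_lit 2, nat_lit 0, nat_lit 4, nat_lit 2, nat_lit 0, nat_lit 0], all1 hsd2_0, by decide +kernel, by decide +kernel⟩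
def T2_0 : Lev := ⟨nat_lit 1375, nat_lit 91800, [nat_lit 0x8e232180d3ca28422319f, nat_lit 0x2e039194e2e630c2509062c3, nat_lit 0x2e198c80b3d184e0c70cf0e7], [nat_lit 0, nat_lit 2, nat_lit 4, nat_lit 0, nat_lit 2, nat_lit 4, nat_lit 0, nat_lit 2, nat_lit 4, nat_lit 0, nat_lit 2, nat_lit 4, nat_lit 0, nat_lit 2, nat_lit 4, nat_lit 0, nat_lit 2, nat_lit 4, nat_lit 0, nat_lit 2, nat_lit 4, nat_lit 0, nat_lit 2]⟩
theorem hT2_0 : levOK AL (nat_lit 30) (nat_lit 0xffc003fffc) T2_0 = true := by decide +kernel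
def T2_1 : Lev := ⟨nat_lit 4394, nat_lit 32256, [nat_lit 0xa3618a630f2cd14518a40b, nat_lit 0xa8912e33a52d00880df98e], [nat_lit 0, nat_lit 2, nat_lit 0, nat_lit 2, nat_lit 0, nat_lit 2, nat_lit 0, nat_lit 2, nat_lit 0, nat_lit 2, nat_lit 0, nat_lit 2, nat_lit 0, nat_lit 2, nat_lit 0, nat_lit 2, nat_lit 0, nat_lit 2, nat_lit 0, nat_lit 2, nat_lit 0, nat_lit 2, nat_lit 0, nat_lit 2, nat_lit 0, nat_lit 2]⟩
theorem hT2_1 : levOK AL (nat_lit 30) (nat_lit 0xffc003fffc) T2_1 = true := by decide +kernel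
def T2_2 : Lev := ⟨nat_lit 6, nat_lit 16, [nat_lit 0xa7a044c98e40e7c42037cd783, nat_lit 0x28c84e88e3508041ca8ca, nat_lit 0x28c85038b8d02cb09f9067e5], [nat_lit 0, nat_lit 2, nat_lit 4, nat_lit 0, nat_lit 4]⟩
theorem hT2_2 : levOK AL (nat_lit 30) (nat_lit 0xffc003fffc) T2_2 = true := by decide +kernel
theorem chT2 : ChOK CX AL (nat_lit 30) (nat_lit 0xffc003fffc) (nat_lit 966) (nat_lit 2) (nat_lit 47377612800) :=
  ⟨[T2_0, T2_1, T2_2], [nat_lit 24, nat_lit 21, nat_lit 25, nat_lit 910, nat_lit 911, nat_lit 912, nat_lit 913, nat_lit 914], by decide +kernel, allc hT2_0 <| allc hT2_1 <| all1 hT2_2, by decide +kernel, by decide +kernel⟩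
def sd3_0 : List Seed := [⟨nat_lit 0, (nat_lit 0), (.m (nat_lit 53) (nat_lit 0) (nat_lit 0) .nil), (.m (nat_lit 582) (nat_lit 0) (nat_lit 0) .nil), (.m (nat_lit 0x52e) (nat_lit 0) (nat_lit 0x6d662559c5df5dd593) .nil)⟩,
  ⟨nat_lit 1, (nat_lit 13), (.m (nat_lit 170) (nat_lit 0x3c04003c03e04003d) (nat_lit 0x6996db76159c621593694) .nil), (.m (nat_lit 422) (nat_lit 0x3e04004003c03c03f) (nat_lit 0x5da7655e565749549a) .nil), (.m (nat_lit 390) (nat_lit 0x4003d03e03e03e03d) (nat_lit 0x61d7567179606965964944a6) .nil)⟩,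
  ⟨nat_lit 223, (nat_lit 5), (.m (nat_lit 0x3e8) (nat_lit 0x3c04003f04004003f03d) (nat_lit 0x176d899b65d756652498) .nil), (.m (nat_lit 368) (nat_lit 0x3d03e03e04103c03c03c) (nat_lit 0x5a071981669d812595) .nil), (.m (nat_lit 354) (nat_lit 0x4003f03f03d04003c) (nat_lit 0x5e672559d65661c5d3656612) .nil)⟩,
  ⟨nat_lit 854, (nat_lit 976), (.m (nat_lit 0x3ec) (nat_lit 0x3d03f03c) (nat_lit 0x175da5988a361f6d649b8d3) .nil), (.m (nat_lit 0x3ec) (nat_lit 0x3d03e04003d03e03e03e) (nat_lit 0x176db7577e071a692559592) .nil), (.m (nat_lit 742) (nat_lit 0x3e03e03d04003c03f040) (nat_lit 0x6595a399c85c6db594754) .nil)⟩,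
  ⟨nat_lit 39862, (nat_lit 135), (.m (nat_lit 472) (nat_lit 0x4003e04003d04003e04103c) (nat_lit 0x185a275f75985d898496524) .nil), (.m (nat_lit 472) (nat_lit 0x3c03c03c03e03d04003d04103f) (nat_lit 0x1a59969c8dc69671749a69f) .nil), (.m (nat_lit 472) (nat_lit 0x3d03e03c03c03c040) (nat_lit 0x1795d61b7566576974926dd) .nil)⟩,
  ⟨nat_lit 1375, (nat_lit 0x382088), (.m (nat_lit 578) (nat_lit 0x3c03f03d040) (nat_lit 0x176e061a9586df59651d59c) .nil), (.m (nat_lit 92) (nat_lit 0x3e040) (nat_lit 0x61675b75b9a15d7918516) .nil), (.m (nat_lit 235) (nat_lit 0x3e03d040) (nat_lit 0x66171c59d9975d749265a) .nil)⟩]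
theorem hsd3_0 : allL (CX.seedOK AL (nat_lit 0xffc003fffc) (nat_lit 966) (nat_lit 0x1f80cf7000035f) (nat_lit 40) (nat_lit 0xa27) (nat_lit 3)) sd3_0 = true := by decide +kernel
theorem cov3 : CovOK CX AL (nat_lit 30) (nat_lit 0xffc003fffc) (nat_lit 137632) (nat_lit 966) (nat_lit 0x1f80cf7000035f) (nat_lit 40) (nat_lit 0xa27) (nat_lit 3) :=
  ⟨[sd3_0], [nat_lit 30, nat_lit 31, nat_lit 32], [nat_lit 0x3223a54632a01a50c9148, nat_lit 0x28d38e8e29518842e11cd19e, nat_lit 0x2ce2a630c3112c329118a842], [nat_lit 0, nat_lit 2, nat_lit 4, nat_lit 0, nat_lit 2, nat_lit 4, nat_lit 0, nat_lit 2, nat_lit 4, nat_lit 0, nat_lit 2, nat_lit 4, nat_lit 0, nat_lit 2, nat_lit 4, nat_lit 0, nat_lit 2, nat_lit 4, nat_lit 0, nat_lit 2, nat_lit 4, nat_lit 2, nat_lit 0], all1 hsd3_0, by decide +kernel, by decide +kernel⟩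
def T3_0 : Lev := ⟨nat_lit 440, nat_lit 75600, [nat_lit 0x3223a54632a01a50c9148, nat_lit 0x28d38e8e29518842e11cd19e, nat_lit 0x2ce2a630c3112c329118a842], [nat_lit 0, nat_lit 2, nat_lit 4, nat_lit 0, nat_lit 2, nat_lit 4, nat_lit 0, nat_lit 2, nat_lit 4, nat_lit 0, nat_lit 2, nat_lit 4, nat_lit 0, nat_lit 2, nat_lit 4, nat_lit 0, nat_lit 2, nat_lit 4, nat_lit 0, nat_lit 2, nat_lit 4, nat_lit 0, nat_lit 0]⟩
theorem hT3_0 : levOK AL (nat_lit 30) (nat_lit 0xffc003fffc) T3_0 = true := by decide +kernel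
def T3_1 : Lev := ⟨nat_lit 17, nat_lit 2304, [nat_lit 0x7cd44d98f94e0d128620c082, nat_lit 0xa41f32144e8a30a124f14c, nat_lit 0xb95088e84e8de2831251a524b], [nat_lit 0, nat_lit 2, nat_lit 4, nat_lit 0, nat_lit 2, nat_lit 4, nat_lit 0, nat_lit 2, nat_lit 4, nat_lit 0, nat_lit 2, nat_lit 4, nat_lit 0, nat_lit 2, nat_lit 4, nat_lit 0, nat_lit 0]⟩
theorem hT3_1 : levOK AL (nat_lit 30) (nat_lit 0xffc003fffc) T3_1 = true := by decide +kernel
theorem chT3 : ChOK CX AL (nat_lit 30) (nat_lit 0xffc003fffc) (nat_lit 966) (nat_lit 3) (nat_lit 174182400) :=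
  ⟨[T3_0, T3_1], [nat_lit 30, nat_lit 31, nat_lit 32, nat_lit 915, nat_lit 916, nat_lit 917], by decide +kernel, allc hT3_0 <| all1 hT3_1, by decide +kernel, by decide +kernel⟩
def sd4_0 : List Seed := [⟨nat_lit 0, (nat_lit 0), (.m (nat_lit 67) (nat_lit 0) (nat_lit 0) .nil), (.m (nat_lit 940) (nat_lit 138) (nat_lit 0x6976266256966d2519592) .nil), (.m (nat_lit 940) (nat_lit 139) (nat_lit 0x69a85a65f69859d49a516) .nil)⟩,
  ⟨nat_lit 1, (nat_lit 13), (.m (nat_lit 123) (nat_lit 0x8e08a08c08e) (nat_lit 0x1c7226d9757657624614) .nil), (.m (nat_lit 306) (nat_lit 0x8a08e08d08d08b08d) (nat_lit 0x69a8197615dc69a4a05dc) .nil), (.m (nat_lit 306) (nat_lit 0x8b08d08b08f08a08f) (nat_lit 0x5d971a5a19986a05d25146d2) .nil)⟩,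
  ⟨nat_lit 20, (nat_lit 6), (.m (nat_lit 161) (nat_lit 0x8a08e08c08e08e08e08b) (nat_lit 0x1a75685d5dc7196525a5) .nil), (.m (nat_lit 824) (nat_lit 0x8c08a08a08d08b08f08b08e) (nat_lit 0x65c85a9566a265a494) .nil), (.m (nat_lit 824) (nat_lit 0x8b08c08c08e08d08d08f08f) (nat_lit 0x69c6a67567595db59649275b) .nil)⟩,
  ⟨nat_lit 2864, (nat_lit 0x334e), (.m (nat_lit 288) (nat_lit 0x8c08c08a08d08f) (nat_lit 0x1795a89a5a77576174a0615) .nil), (.m (nat_lit 288) (nat_lit 0x8a08a) (nat_lit 0x5dd6e15a66a15d86135996d3) .nil), (.m (nat_lit 288) (nat_lit 0x8a08c08a08f08a) (nat_lit 0x69669965b61c89b5964975d7) .nil)⟩,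
  ⟨nat_lit 2884, (nat_lit 144), (.m (nat_lit 454) (nat_lit 0x8d08e08a08c08b08c08e) (nat_lit 0x5a671c7185e07624945e6) .nil), (.m (nat_lit 454) (nat_lit 0x8d08f08a08c08c08b08e08a) (nat_lit 0x69f86065d766894754) .nil), (.m (nat_lit 454) (nat_lit 0x8d08d08f08d08e08b) (nat_lit 0x1b8165a56618985945d3) .nil)⟩,
  ⟨nat_lit 6170, (nat_lit 133), (.m (nat_lit 0x3f4) (nat_lit 0x8d08b08d08a08f) (nat_lit 0x1a75b61f72069c6d6495654) .nil), (.m (nat_lit 0x3f4) (nat_lit 0x8c08f08c08a08a08f) (nat_lit 0x1861a76062681b596916559) .nil), (.m (nat_lit 0x3f4) (nat_lit 0x8f08a08c08a08f08c) (nat_lit 0x5d971c71765965659251a) .nil)⟩]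
theorem hsd4_0 : allL (CX.seedOK AL (nat_lit 0xffc003fffc) (nat_lit 966) (nat_lit 0x1f80cf7000035f) (nat_lit 40) (nat_lit 0xa27) (nat_lit 4)) sd4_0 = true := by decide +kernel
theorem cov4 : CovOK CX AL (nat_lit 30) (nat_lit 0xffc003fffc) (nat_lit 137632) (nat_lit 966) (nat_lit 0x1f80cf7000035f) (nat_lit 40) (nat_lit 0xa27) (nat_lit 4) :=
  ⟨[sd4_0], [nat_lit 69, nat_lit 70, nat_lit 71], [nat_lit 0x4663a040c3e04039c38e4, nat_lit 0xb46045f98e4662c21c57841c4, nat_lit 0x9512e33e17d12851c834f109], [nat_lit 0, nat_lit 2, nat_lit 4, nat_lit 0, nat_lit 2, nat_lit 4, nat_lit 0, nat_lit 2, nat_lit 4, nat_lit 0, nat_lit 2, nat_lit 4, nat_lit 0, nat_lit 2, nat_lit 4, nat_lit 0, nat_lit 2, nat_lit 4, nat_lit 0, nat_lit 2, nat_lit 4, nat_lit 0], all1 hsd4_0, by decide +kernel, by decide +kernel⟩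
def T4_0 : Lev := ⟨nat_lit 20, nat_lit 78732, [nat_lit 0x4663a040c3e04039c38e4, nat_lit 0xb46045f98e4662c21c57841c4, nat_lit 0x9512e33e17d12851c834f109], [nat_lit 0, nat_lit 2, nat_lit 4, nat_lit 0, nat_lit 2, nat_lit 4, nat_lit 0, nat_lit 2, nat_lit 4, nat_lit 0, nat_lit 2, nat_lit 4, nat_lit 0, nat_lit 2, nat_lit 4, nat_lit 0, nat_lit 2, nat_lit 4, nat_lit 0, nat_lit 2, nat_lit 4, nat_lit 0]⟩
theorem hT4_0 : levOK AL (nat_lit 30) (nat_lit 0xffc003fffc) T4_0 = true := by decide +kernel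
def T4_1 : Lev := ⟨nat_lit 105, nat_lit 1536, [nat_lit 0x2a534f40c46034f0883c21a1, nat_lit 0x30c45f85034f4041c390d143], [nat_lit 0, nat_lit 2, nat_lit 0, nat_lit 2, nat_lit 0, nat_lit 2, nat_lit 0, nat_lit 2, nat_lit 0, nat_lit 2, nat_lit 0, nat_lit 2, nat_lit 0, nat_lit 2, nat_lit 0, nat_lit 2, nat_lit 0, nat_lit 2, nat_lit 2, nat_lit 2]⟩
theorem hT4_1 : levOK AL (nat_lit 30) (nat_lit 0xffc003fffc) T4_1 = true := by decide +kernel
theorem chT4 : ChOK CX AL (nat_lit 30) (nat_lit 0xffc003fffc) (nat_lit 966) (nat_lit 4) (nat_lit 120932352) :=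
  ⟨[T4_0, T4_1], [nat_lit 69, nat_lit 70, nat_lit 71, nat_lit 918, nat_lit 919], by decide +kernel, allc hT4_0 <| all1 hT4_1, by decide +kernel, by decide +kernel⟩
def sd6_0 : List Seed := [⟨nat_lit 0, (nat_lit 0), (.m (nat_lit 93) (nat_lit 0) (nat_lit 0) .nil), (.m (nat_lit 93) (nat_lit 0xb10610b00b30600b2) (nat_lit 0x7d96df7598567da494954) .nil), (.m (nat_lit 592) (nat_lit 0x600600b00610b0) (nat_lit 0x1971f7189a56185d9494723) .nil)⟩,
  ⟨nat_lit 2, (nat_lit 4), (.m (nat_lit 0x55a) (nat_lit 0) (nat_lit 0x1b7da5dd6a55d491d) .nil), (.m (nat_lit 0x532) (nat_lit 0xb30b10b10b20b2060060) (nat_lit 0x1a6575e16d79a56544d7692) .nil), (.m (nat_lit 0x55a) (nat_lit 0xb00b20610b20b10b10b30600b2) (nat_lit 0x61b61671c7dc72149a6a2) .nil)⟩]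
theorem hsd6_0 : allL (CX.seedOK AL (nat_lit 0xffc003fffc) (nat_lit 966) (nat_lit 0x1f80cf7000035f) (nat_lit 40) (nat_lit 0xa27) (nat_lit 6)) sd6_0 = true := by decide +kernel
theorem cov6 : CovOK CX AL (nat_lit 30) (nat_lit 0xffc003fffc) (nat_lit 137632) (nat_lit 966) (nat_lit 0x1f80cf7000035f) (nat_lit 40) (nat_lit 0xa27) (nat_lit 6) :=
  ⟨[sd6_0], [nat_lit 88, nat_lit 48, nat_lit 89], [nat_lit 0x29e82298d3cf98a0c38840e5444, nat_lit 0x1e2a246534d28420d1de1c4, nat_lit 0x3103e02cc9612c318e14d3ca442], [nat_lit 0, nat_lit 4, nat_lit 2, nat_lit 0, nat_lit 4, nat_lit 2, nat_lit 0, nat_lit 4, nat_lit 2, nat_lit 0, nat_lit 4, nat_lit 2, nat_lit 0, nat_lit 4, nat_lit 2, nat_lit 0, nat_lit 4, nat_lit 2, nat_lit 0, nat_lit 4, nat_lit 2, nat_lit 0, nat_lit 4], all1 hsd6_0, by decide +kernel, by decide +kernel⟩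
def T6_0 : Lev := ⟨nat_lit 2, nat_lit 129536, [nat_lit 0x29e82298d3cf98a0c38840e5444, nat_lit 0x1e2a246534d28420d1de1c4, nat_lit 0x3103e02cc9612c318e14d3ca442], [nat_lit 0, nat_lit 2, nat_lit 4, nat_lit 0, nat_lit 2, nat_lit 4, nat_lit 0, nat_lit 2, nat_lit 4, nat_lit 0, nat_lit 2, nat_lit 4, nat_lit 0, nat_lit 2, nat_lit 4, nat_lit 0, nat_lit 2, nat_lit 4, nat_lit 0, nat_lit 2, nat_lit 4, nat_lit 0, nat_lit 2, nat_lit 0]⟩
theorem hT6_0 : levOK AL (nat_lit 30) (nat_lit 0xffc003fffc) T6_0 = true := by decide +kernel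
def T6_1 : Lev := ⟨nat_lit 125, nat_lit 40320, [nat_lit 0xc32132344f2a12c43cc151110782, nat_lit 0xa35f35079094f0c5149889], [nat_lit 0, nat_lit 2, nat_lit 0, nat_lit 2, nat_lit 0, nat_lit 2, nat_lit 0, nat_lit 2, nat_lit 0, nat_lit 2, nat_lit 0, nat_lit 2, nat_lit 0, nat_lit 2, nat_lit 0, nat_lit 2, nat_lit 0, nat_lit 2, nat_lit 0, nat_lit 2, nat_lit 0, nat_lit 2, nat_lit 0, nat_lit 2, nat_lit 0, nat_lit 2, nat_lit 0]⟩
theorem hT6_1 : levOK AL (nat_lit 30) (nat_lit 0xffc003fffc) T6_1 = true := by decide +kernel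
def T6_2 : Lev := ⟨nat_lit 0, nat_lit 4, [nat_lit 0xb36128f78d46228440520b188, nat_lit 0x2642539138a88f0df087104], [nat_lit 0, nat_lit 2]⟩
theorem hT6_2 : levOK AL (nat_lit 30) (nat_lit 0xffc003fffc) T6_2 = true := by decide +kernel
theorem chT6 : ChOK CX AL (nat_lit 30) (nat_lit 0xffc003fffc) (nat_lit 966) (nat_lit 6) (nat_lit 20891566080) :=
  ⟨[T6_0, T6_1, T6_2], [nat_lit 88, nat_lit 48, nat_lit 89, nat_lit 920, nat_lit 921, nat_lit 922, nat_lit 923], by decide +kernel, allc hT6_0 <| allc hT6_1 <| all1 hT6_2, by decide +kernel, by decide +kernel⟩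
def sd8_0 : List Seed := [⟨nat_lit 0, (nat_lit 0), (.m (nat_lit 115) (nat_lit 0) (nat_lit 0) .nil), (.m (nat_lit 0x530) (nat_lit 0x81085085083) (nat_lit 0x207d875869a696624617) .nil), (.m (nat_lit 0x530) (nat_lit 0x81085080085083) (nat_lit 0x259966dd7575e55d2919) .nil)⟩,
  ⟨nat_lit 35, (nat_lit 15), (.m (nat_lit 122) (nat_lit 0x80083080084084082) (nat_lit 0x1861d95a65d59859a59249d) .nil), (.m (nat_lit 0x4c7) (nat_lit 0x85085081081084080085) (nat_lit 0x6578db59f71a61b59251c692) .nil), (.m (nat_lit 0x4c7) (nat_lit 0x81084084084081081084081) (nat_lit 0x69a71c5e05e1699592553553) .nil)⟩,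
  ⟨nat_lit 821, (nat_lit 900), (.m (nat_lit 0x60c) (nat_lit 0x80080083084082081) (nat_lit 0x165987d76e75e6616494757) .nil), (.m (nat_lit 0x56c) (nat_lit 0x81085085080080085080) (nat_lit 0x69a95a8997605d86d649a753) .nil), (.m (nat_lit 0x56c) (nat_lit 0x83081081084083085083080) (nat_lit 0x81785c69662585a496512) .nil)⟩,
  ⟨nat_lit 39862, (nat_lit 135), (.m (nat_lit 0x68e) (nat_lit 0x82081082084082084081085) (nat_lit 0x5d775b61a59b71749a553) .nil), (.m (nat_lit 0x68e) (nat_lit 0x82080082084084082085085) (nat_lit 0x1775675871a59f616494625) .nil), (.m (nat_lit 0x68e) (nat_lit 0x82084080085082084082084) (nat_lit 0x6a08639986db9964a055b) .nil)⟩]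
theorem hsd8_0 : allL (CX.seedOK AL (nat_lit 0xffc003fffc) (nat_lit 966) (nat_lit 0x1f80cf7000035f) (nat_lit 40) (nat_lit 0xa27) (nat_lit 8)) sd8_0 = true := by decide +kernel
theorem cov8 : CovOK CX AL (nat_lit 30) (nat_lit 0xffc003fffc) (nat_lit 137632) (nat_lit 966) (nat_lit 0x1f80cf7000035f) (nat_lit 40) (nat_lit 0xa27) (nat_lit 8) :=
  ⟨[sd8_0], [nat_lit 64, nat_lit 65, nat_lit 66], [nat_lit 0x32539f3918a380430535f084, nat_lit 0xc39e89098e2e6110321245, nat_lit 0x2d035194f34f88a10784408e205], [nat_lit 0, nat_lit 2, nat_lit 4, nat_lit 0, nat_lit 2, nat_lit 4, nat_lit 0, nat_lit 2, nat_lit 4, nat_lit 0, nat_lit 2, nat_lit 4, nat_lit 0, nat_lit 2, nat_lit 4, nat_lit 0, nat_lit 2, nat_lit 4, nat_lit 0, nat_lit 2, nat_lit 4, nat_lit 0, nat_lit 0], all1 hsd8_0, by decide +kernel, by decide +kernel⟩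
def T8_0 : Lev := ⟨nat_lit 315, nat_lit 62370, [nat_lit 0x32539f3918a380430535f084, nat_lit 0xc39e89098e2e6110321245, nat_lit 0x2d035194f34f88a10784408e205], [nat_lit 0, nat_lit 2, nat_lit 4, nat_lit 0, nat_lit 2, nat_lit 4, nat_lit 0, nat_lit 2, nat_lit 4, nat_lit 0, nat_lit 2, nat_lit 4, nat_lit 0, nat_lit 2, nat_lit 4, nat_lit 0, nat_lit 2, nat_lit 4, nat_lit 0, nat_lit 2, nat_lit 4, nat_lit 0, nat_lit 0]⟩
theorem hT8_0 : levOK AL (nat_lit 30) (nat_lit 0xffc003fffc) T8_0 = true := by decide +kernel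
def T8_1 : Lev := ⟨nat_lit 52, nat_lit 3840, [nat_lit 0x2d188b8a630f9821c4351345, nat_lit 0x80b30a36228a10b1e630b], [nat_lit 0, nat_lit 2, nat_lit 0, nat_lit 2, nat_lit 0, nat_lit 2, nat_lit 0, nat_lit 2, nat_lit 0, nat_lit 2, nat_lit 0, nat_lit 2, nat_lit 0, nat_lit 2, nat_lit 0, nat_lit 2, nat_lit 0, nat_lit 2, nat_lit 0, nat_lit 2, nat_lit 0]⟩
theorem hT8_1 : levOK AL (nat_lit 30) (nat_lit 0xffc003fffc) T8_1 = true := by decide +kernel
def T8_2 : Lev := ⟨nat_lit 15, nat_lit 2, [nat_lit 0x2cb42330e86546208a19f246, nat_lit 0x2cb42330e86546208a19f246], [nat_lit 0]⟩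
theorem hT8_2 : levOK AL (nat_lit 30) (nat_lit 0xffc003fffc) T8_2 = true := by decide +kernel
theorem chT8 : ChOK CX AL (nat_lit 30) (nat_lit 0xffc003fffc) (nat_lit 966) (nat_lit 8) (nat_lit 479001600) :=
  ⟨[T8_0, T8_1, T8_2], [nat_lit 64, nat_lit 65, nat_lit 66, nat_lit 924, nat_lit 925, nat_lit 926, nat_lit 927], by decide +kernel, allc hT8_0 <| allc hT8_1 <| all1 hT8_2, by decide +kernel, by decide +kernel⟩
def sd9_0 : List Seed := [⟨nat_lit 0, (nat_lit 0), (.m (nat_lit 145) (nat_lit 0) (nat_lit 0) .nil), (.m (nat_lit 966) (nat_lit 169) (nat_lit 0x2372195871c7125948d2) .nil), (.m (nat_lit 966) (nat_lit 0xa40a90a50a5) (nat_lit 0x197e265c95862049a762) .nil)⟩,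
  ⟨nat_lit 2, (nat_lit 4), (.m (nat_lit 160) (nat_lit 0xa60a50a70a8) (nat_lit 0x5996db6569e57db5935a4) .nil), (.m (nat_lit 960) (nat_lit 0xa40a60a40a40a80a7) (nat_lit 0x1965d65d61c59b49461b) .nil), (.m (nat_lit 960) (nat_lit 0xa50a90a70a80a60a9) (nat_lit 0x1675b8225da65c51c615) .nil)⟩,
  ⟨nat_lit 21, (nat_lit 8), (.m (nat_lit 0x626) (nat_lit 0xa50a80a40a80a8) (nat_lit 0x1a89b65c7177257125d7) .nil), (.m (nat_lit 958) (nat_lit 0xa90a40a40a8) (nat_lit 0x66399b65a59f6e3592518992) .nil), (.m (nat_lit 958) (nat_lit 0xa70a90a40a60a9) (nat_lit 0x66399b9975dd59849a757) .nil)⟩,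
  ⟨nat_lit 25, (nat_lit 17), (.m (nat_lit 0x66a) (nat_lit 0xa50a80a70a40a80a4) (nat_lit 0x85d61695659c725494693) .nil), (.m (nat_lit 904) (nat_lit 0xa50a90a60a50a50a50a90a9) (nat_lit 0x61d61c7d7762857612813652) .nil), (.m (nat_lit 904) (nat_lit 0xa70a80a70a90a70a50a5) (nat_lit 0x5986d965b7dd59d6524928d2) .nil)⟩,
  ⟨nat_lit 53, (nat_lit 907), (.m (nat_lit 0x61b) (nat_lit 0xa50a70a80a80a4) (nat_lit 0x196596579616d6724614) .nil), (.m (nat_lit 568) (nat_lit 0xa70a50a90a40a7) (nat_lit 0x1a61f6e162561b6d24a7) .nil), (.m (nat_lit 568) (nat_lit 0xa40a80a40a80a70a5) (nat_lit 0x1a69765965d8e06926d8) .nil)⟩,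
  ⟨nat_lit 957, (nat_lit 516), (.m (nat_lit 0x67c) (nat_lit 0xa60a50a80a50a80a5) (nat_lit 0x5a07175dd6db75d4945e2) .nil), (.m (nat_lit 0x6c2) (nat_lit 0xa40a40a70a50a50a50a6) (nat_lit 0x176a19576997186144d3) .nil), (.m (nat_lit 0x6c2) (nat_lit 0xa40a90a90a90a70a5) (nat_lit 0x1685b5df6227564946e3) .nil)⟩,
  ⟨nat_lit 383, (nat_lit 518), (.m (nat_lit 171) (nat_lit 0xa60a40a60a80a4) (nat_lit 0x6967d685b5a28125a5) .nil), (.m (nat_lit 962) (nat_lit 0xa80a70a5) (nat_lit 0x1d9595db5dc65c4944a4) .nil), (.m (nat_lit 570) (nat_lit 0xa40a80a40a7) (nat_lit 0x6e05dc8db61a718594916) .nil)⟩,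
  ⟨nat_lit 13527, (nat_lit 335), (.m (nat_lit 924) (nat_lit 0xa90a90a60a80a80a6) (nat_lit 0x6d989b75d8997525596d3) .nil), (.m (nat_lit 0x576) (nat_lit 0xa40a60a90a40a70a50a80a40a7) (nat_lit 0x6dc5df71c71875f592492512) .nil), (.m (nat_lit 0x576) (nat_lit 0xa40a90a40a70a50a90a50a8) (nat_lit 0x5a285699665a69f495659) .nil)⟩,
  ⟨nat_lit 1079, (nat_lit 905), (.m (nat_lit 0x688) (nat_lit 0xa80a40a60a80a80a6) (nat_lit 0x6a171b65b5a5817494627) .nil), (.m (nat_lit 574) (nat_lit 0xa40a80a40a80a40a6) (nat_lit 0x89b61c6169a05d751c712) .nil), (.m (nat_lit 0x582) (nat_lit 0xa80a70a40a80a40a4) (nat_lit 0x1b61a75f7656df4a4) .nil)⟩,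
  ⟨nat_lit 1375, (nat_lit 0x382088), (.m (nat_lit 576) (nat_lit 0) (nat_lit 0x1a76266065a75b59649a492) .nil), (.m (nat_lit 234) (nat_lit 0) (nat_lit 0x197d761b5d785c5964d9654) .nil), (.m (nat_lit 234) (nat_lit 164) (nat_lit 0x1959c696863725812518892) .nil)⟩,
  ⟨nat_lit 39862, (nat_lit 135), (.m (nat_lit 0x67a) (nat_lit 0xa50a50a5) (nat_lit 0x6d75df5e18186a049a712) .nil), (.m (nat_lit 943) (nat_lit 0xa60a50a60a50a70a4) (nat_lit 0x6d76e266171b59a656495762) .nil), (.m (nat_lit 943) (nat_lit 0xa40a80a80a80a70a9) (nat_lit 0x6df5df89769a5964db559) .nil)⟩,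
  ⟨nat_lit 14344, (nat_lit 0x2310), (.m (nat_lit 572) (nat_lit 0xa60a40a60a90a60a8) (nat_lit 0x81761c7d785f6994d9916) .nil), (.m (nat_lit 0x56a) (nat_lit 0xa70a50a50a70a80a70a9) (nat_lit 0x1765a71b8d869c712813) .nil), (.m (nat_lit 0x56a) (nat_lit 0xa40a40a80a80a50a6) (nat_lit 0x1a66575b9a55d7992517514) .nil)⟩]
theorem hsd9_0 : allL (CX.seedOK AL (nat_lit 0xffc003fffc) (nat_lit 966) (nat_lit 0x1f80cf7000035f) (nat_lit 40) (nat_lit 0xa27) (nat_lit 9)) sd9_0 = true := by decide +kernel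
theorem cov9 : CovOK CX AL (nat_lit 30) (nat_lit 0xffc003fffc) (nat_lit 137632) (nat_lit 966) (nat_lit 0x1f80cf7000035f) (nat_lit 40) (nat_lit 0xa27) (nat_lit 9) :=
  ⟨[sd9_0], [nat_lit 82, nat_lit 83, nat_lit 84], [nat_lit 0xc39145f8a53a53040881887c6, nat_lit 0xc3a32a32a63cc1062211a1405, nat_lit 0x40f2cc9667830e30e3142], [nat_lit 0, nat_lit 4, nat_lit 2, nat_lit 0, nat_lit 4, nat_lit 2, nat_lit 0, nat_lit 4, nat_lit 2, nat_lit 0, nat_lit 4, nat_lit 2, nat_lit 0, nat_lit 4, nat_lit 2, nat_lit 0, nat_lit 4, nat_lit 2, nat_lit 0, nat_lit 4, nat_lit 2, nat_lit 0], all1 hsd9_0, by decide +kernel, by decide +kernel⟩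
def T9_0 : Lev := ⟨nat_lit 25, nat_lit 53760, [nat_lit 0xc39145f8a53a53040881887c6, nat_lit 0xc3a32a32a63cc1062211a1405, nat_lit 0x40f2cc9667830e30e3142], [nat_lit 0, nat_lit 2, nat_lit 4, nat_lit 0, nat_lit 2, nat_lit 4, nat_lit 0, nat_lit 2, nat_lit 4, nat_lit 0, nat_lit 2, nat_lit 4, nat_lit 0, nat_lit 2, nat_lit 4, nat_lit 0, nat_lit 2, nat_lit 4, nat_lit 0, nat_lit 2, nat_lit 4, nat_lit 0]⟩
theorem hT9_0 : levOK AL (nat_lit 30) (nat_lit 0xffc003fffc) T9_0 = true := by decide +kernel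
def T9_1 : Lev := ⟨nat_lit 45, nat_lit 48, [nat_lit 0x2d14628e546690a, nat_lit 0x78a3a640c38218e365], [nat_lit 0, nat_lit 2, nat_lit 0, nat_lit 2, nat_lit 0, nat_lit 2, nat_lit 0, nat_lit 2, nat_lit 0]⟩
theorem hT9_1 : levOK AL (nat_lit 30) (nat_lit 0xffc003fffc) T9_1 = true := by decide +kernel
theorem chT9 : ChOK CX AL (nat_lit 30) (nat_lit 0xffc003fffc) (nat_lit 966) (nat_lit 9) (nat_lit 2580480) :=
  ⟨[T9_0, T9_1], [nat_lit 82, nat_lit 83, nat_lit 84, nat_lit 928, nat_lit 929], by decide +kernel, allc hT9_0 <| all1 hT9_1, by decide +kernel, by decide +kernel⟩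
def sd28_0 : List Seed := [⟨nat_lit 0, (nat_lit 0), (.m (nat_lit 271) (nat_lit 0) (nat_lit 0) .nil), (.m (nat_lit 0x531) (nat_lit 0) (nat_lit 0x197597188d6816816498557) .nil), (.m (nat_lit 0x418) (nat_lit 0) (nat_lit 0x69d8a5696956818616916559) .nil)⟩,
  ⟨nat_lit 1, (nat_lit 13), (.m (nat_lit 0x632) (nat_lit 0) (nat_lit 0x1a6a16597dd75749a759) .nil), (.m (nat_lit 0x410) (nat_lit 0x11d11a11d11f11d) (nat_lit 0x1a59c7da81f5a57184926dd) .nil), (.m (nat_lit 986) (nat_lit 0x11a11f11b11f11b) (nat_lit 0x7588db6d89976e3494759) .nil)⟩,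
  ⟨nat_lit 11, (nat_lit 7), (.m (nat_lit 0x65e) (nat_lit 0x11a11f11d11b11e11a) (nat_lit 0x1675b5dc8d881c696492656) .nil), (.m (nat_lit 0x412) (nat_lit 0x11a11e11b11e11b) (nat_lit 0x6227187e29db6594945db) .nil), (.m (nat_lit 988) (nat_lit 0x11c11f11f11a11a11d) (nat_lit 0x1a61795d65a6595e4593) .nil)⟩,
  ⟨nat_lit 26, (nat_lit 14), (.m (nat_lit 0x634) (nat_lit 0x11b11f11d11a) (nat_lit 0x1a61c59959d666954494) .nil), (.m (nat_lit 0x54c) (nat_lit 0x11b11e) (nat_lit 0x1899d85a8d66d76164926d8) .nil), (.m (nat_lit 0x414) (nat_lit 0x11c11c11f11c) (nat_lit 0x186d959d7656217536d3653) .nil)⟩,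
  ⟨nat_lit 223, (nat_lit 5), (.m (nat_lit 0x580) (nat_lit 0x11d11e11e11e11e11d) (nat_lit 0x1661d5a17625d95d85925a4) .nil), (.m (nat_lit 998) (nat_lit 0x11e11a11c11a11a) (nat_lit 0x69972569c69a5d84a05da) .nil), (.m (nat_lit 0x6e8) (nat_lit 0x11c11c11f11b11c) (nat_lit 0x5a559d85d85b61b5964a0852) .nil)⟩,
  ⟨nat_lit 35, (nat_lit 15), (.m (nat_lit 0x59f) (nat_lit 0x11a11c11c) (nat_lit 0x65c61d6d899a9985925a5) .nil), (.m (nat_lit 992) (nat_lit 0x11b11b11e11e) (nat_lit 0x61a5db76065a76159291a) .nil), (.m (nat_lit 0x40e) (nat_lit 0x11a11e11d11b11e) (nat_lit 0x65f65d89a9dd8584944a0) .nil)⟩,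
  ⟨nat_lit 255, (nat_lit 0x41cb), (.m (nat_lit 984) (nat_lit 0x11a11a11e11c) (nat_lit 0x1c5d859d5d785c8526945d2) .nil), (.m (nat_lit 0x40c) (nat_lit 286) (nat_lit 0x1775d6df99a61c6d74a0559) .nil), (.m (nat_lit 0x40c) (nat_lit 0x11d11a11f) (nat_lit 0x1859d89c7176a661651c61a) .nil)⟩,
  ⟨nat_lit 1597, (nat_lit 0x44e), (.m (nat_lit 0x66c) (nat_lit 0x11b11b11d11e11c) (nat_lit 0x1b71665d75d8166974926dd) .nil), (.m (nat_lit 982) (nat_lit 0x11a11a11c11e11a11d11f11a) (nat_lit 0x197578978586dd5984954da) .nil), (.m (nat_lit 982) (nat_lit 0x11e11e11a11c11a11e11e) (nat_lit 0x187d661c5e661b5925666d3) .nil)⟩,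
  ⟨nat_lit 1090, (nat_lit 519), (.m (nat_lit 597) (nat_lit 0x11b11e11b) (nat_lit 0x1859c897625697756592923) .nil), (.m (nat_lit 0x6f8) (nat_lit 0x11b11b11d11a11e) (nat_lit 0x1689971775b6e2824617) .nil), (.m (nat_lit 0x5be) (nat_lit 0x11f11a11e11a11a) (nat_lit 0x6d969769d65b99859255d8d3) .nil)⟩,
  ⟨nat_lit 50417, (nat_lit 0x80d0), (.m (nat_lit 970) (nat_lit 0x11d11f11d11f11a11d) (nat_lit 0x5a06db75659d81b4945d4) .nil), (.m (nat_lit 970) (nat_lit 0x11a11a11a11c11a11c11b) (nat_lit 0x186227639976e16d6494764) .nil), (.m (nat_lit 970) (nat_lit 0x11f11a11f) (nat_lit 0x1c85b5a669a9a3712556712) .nil)⟩,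
  ⟨nat_lit 821, (nat_lit 900), (.m (nat_lit 990) (nat_lit 0x11a11a11d11a11a11d) (nat_lit 0x7165a275976685f498712) .nil), (.m (nat_lit 0x56e) (nat_lit 0x11c11b11d11a11a11d) (nat_lit 0x5db5dd6d989b618594499492) .nil), (.m (nat_lit 996) (nat_lit 0x11a11e11a11a11e11a11c) (nat_lit 0x1a71a6977e67595d74a461a) .nil)⟩,
  ⟨nat_lit 678, (nat_lit 0x235e), (.m (nat_lit 602) (nat_lit 0x11a11d11a11a11c11c) (nat_lit 0x5e36986dd95981a592824) .nil), (.m (nat_lit 0x54b) (nat_lit 0x11b11c11b11e) (nat_lit 0x176599987226e2596512662) .nil), (.m (nat_lit 0x5b1) (nat_lit 0x11f11c11e11d) (nat_lit 0x1975771699a59a5944a6) .nil)⟩,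
  ⟨nat_lit 894, (nat_lit 0xf20e), (.m (nat_lit 0x6cc) (nat_lit 0x11b11f11a11e11c11c) (nat_lit 0x2395a61781c6995d261c) .nil), (.m (nat_lit 0x6cc) (nat_lit 0x11a11a11a11e11d11a) (nat_lit 0x1b5da61c62161b5d849a815) .nil), (.m (nat_lit 994) (nat_lit 0x11c11e11a11f) (nat_lit 0x89d59a76565a9a2494524) .nil)⟩,
  ⟨nat_lit 6921, (nat_lit 336), (.m (nat_lit 978) (nat_lit 0x11a11f11a11f11f11c11f11c) (nat_lit 0x59d66169c957817492499) .nil), (.m (nat_lit 978) (nat_lit 0x11d11a11e11a11f11f) (nat_lit 0x59985d99785b5db4954dc) .nil), (.m (nat_lit 978) (nat_lit 0x11b11b11c11f11a11e11a11d) (nat_lit 0x176d675d85d757818494596) .nil)⟩,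
  ⟨nat_lit 37984, (nat_lit 327), (.m (nat_lit 0x5a1) (nat_lit 0x11b11c11c11f11a11d11e) (nat_lit 0x5a359c6d765d5a149569a) .nil), (.m (nat_lit 0x5a1) (nat_lit 0x11d11b11e11e11c11f) (nat_lit 0x85b59f69a9976174966d2) .nil), (.m (nat_lit 980) (nat_lit 0x11c11b11e11a11a11d) (nat_lit 0x1765c8a55966206d4) .nil)⟩,
  ⟨nat_lit 1078, (nat_lit 644), (.m (nat_lit 0x5a3) (nat_lit 0x11a11a11d11f11b11f11a11f) (nat_lit 0x6186dd59c95b6d94db4e1) .nil), (.m (nat_lit 969) (nat_lit 0x11b11b11d11f11a) (nat_lit 0x1889966671c7da7d64987da) .nil), (.m (nat_lit 0x404) (nat_lit 0x11b11f11f11d11f11f) (nat_lit 0x89b5d862581b5dc512497) .nil)⟩,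
  ⟨nat_lit 8774, (nat_lit 0xd3cf), (.m (nat_lit 976) (nat_lit 0x11a11e11a11d) (nat_lit 0x1862165d65c5df81255b) .nil), (.m (nat_lit 0x40a) (nat_lit 286) (nat_lit 0x1659c5e57586997d74944a0) .nil), (.m (nat_lit 0x408) (nat_lit 0x11a11e11c11c) (nat_lit 0x5d75e575861a59d49a652) .nil)⟩,
  ⟨nat_lit 41702, (nat_lit 0x14734a), (.m (nat_lit 0x406) (nat_lit 0x11f11f) (nat_lit 0x1761766566585a59a495717) .nil), (.m (nat_lit 974) (nat_lit 0x11b11e11e) (nat_lit 0x59f8a66d765d61a592699) .nil), (.m (nat_lit 0x416) (nat_lit 0x11b11f11f11f) (nat_lit 0x59d6255968dc69a524594) .nil)⟩]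
theorem hsd28_0 : allL (CX.seedOK AL (nat_lit 0xffc003fffc) (nat_lit 966) (nat_lit 0x1f80cf7000035f) (nat_lit 40) (nat_lit 0xa27) (nat_lit 28)) sd28_0 = true := by decide +kernel
theorem cov28 : CovOK CX AL (nat_lit 30) (nat_lit 0xffc003fffc) (nat_lit 137632) (nat_lit 966) (nat_lit 0x1f80cf7000035f) (nat_lit 40) (nat_lit 0xa27) (nat_lit 28) :=
  ⟨[sd28_0], [nat_lit 141, nat_lit 142, nat_lit 143], [nat_lit 0xc8e298e36280d10984794f3c2, nat_lit 0x30e99128c99178b149086, nat_lit 0x28d84b34f99010720a18c], [nat_lit 0, nat_lit 4, nat_lit 2, nat_lit 0, nat_lit 4, nat_lit 2, nat_lit 0, nat_lit 4, nat_lit 2, nat_lit 0, nat_lit 4, nat_lit 2, nat_lit 0, nat_lit 4, nat_lit 2, nat_lit 0, nat_lit 4, nat_lit 2, nat_lit 0, nat_lit 4, nat_lit 0], all1 hsd28_0, by decide +kernel, by decide +kernel⟩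
def T28_0 : Lev := ⟨nat_lit 617, nat_lit 32400, [nat_lit 0xc8e298e36280d10984794f3c2, nat_lit 0x30e99128c99178b149086, nat_lit 0x28d84b34f99010720a18c], [nat_lit 0, nat_lit 2, nat_lit 4, nat_lit 0, nat_lit 2, nat_lit 4, nat_lit 0, nat_lit 2, nat_lit 4, nat_lit 0, nat_lit 2, nat_lit 4, nat_lit 0, nat_lit 2, nat_lit 4, nat_lit 0, nat_lit 2, nat_lit 4, nat_lit 0, nat_lit 2, nat_lit 0]⟩
theorem hT28_0 : levOK AL (nat_lit 30) (nat_lit 0xffc003fffc) T28_0 = true := by decide +kernel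
def T28_1 : Lev := ⟨nat_lit 2, nat_lit 16, [nat_lit 0x88e81f7a339f1072470e2, nat_lit 0xb78f3e040d9a07c32c53a0945, nat_lit 0x2d198f94b3cf3111039451cc], [nat_lit 0, nat_lit 2, nat_lit 4, nat_lit 0, nat_lit 4]⟩
theorem hT28_1 : levOK AL (nat_lit 30) (nat_lit 0xffc003fffc) T28_1 = true := by decide +kernel
theorem chT28 : ChOK CX AL (nat_lit 30) (nat_lit 0xffc003fffc) (nat_lit 966) (nat_lit 28) (nat_lit 518400) :=
  ⟨[T28_0, T28_1], [nat_lit 141, nat_lit 142, nat_lit 143, nat_lit 930, nat_lit 931, nat_lit 932], by decide +kernel, allc hT28_0 <| all1 hT28_1, by decide +kernel, by decide +kernel⟩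
def sd29_0 : List Seed := [⟨nat_lit 0, (nat_lit 0), (.m (nat_lit 289) (nat_lit 0) (nat_lit 0) .nil), (.m (nat_lit 0x422) (nat_lit 0x15d15e16115e15d) (nat_lit 0x59971769971859c594756) .nil), (.m (nat_lit 0x422) (nat_lit 0x15e15d15f15c) (nat_lit 0x6985a07179d95a04a0614) .nil)⟩,
  ⟨nat_lit 307, (nat_lit 2), (.m (nat_lit 0x680) (nat_lit 0x15d15e16115c15c15c) (nat_lit 0x5db6e16df5966d85d25146d2) .nil), (.m (nat_lit 0x420) (nat_lit 0x15d16115e16115d16115e) (nat_lit 0x6976566186985dc4956dd) .nil), (.m (nat_lit 0x420) (nat_lit 0x15e15d16015e16115e161) (nat_lit 0x6d75db99b89b718495992) .nil)⟩,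
  ⟨nat_lit 6170, (nat_lit 133), (.m (nat_lit 926) (nat_lit 0x16015d16016015f16115e15d) (nat_lit 0x65a961718622617495995) .nil), (.m (nat_lit 926) (nat_lit 0x15d15e15e15e15e15d15e161) (nat_lit 0x5db8a57585dd5965934d5) .nil), (.m (nat_lit 926) (nat_lit 0x15c15c15e16015f15c16015d15e) (nat_lit 0x6236a28565a262071251f91a) .nil)⟩,
  ⟨nat_lit 39862, (nat_lit 135), (.m (nat_lit 0x6f4) (nat_lit 0x15c16115e15d16115f16115e) (nat_lit 0x1789d85b81b5a6594756752) .nil), (.m (nat_lit 0x6f4) (nat_lit 0x15c15e16116115f161) (nat_lit 0x61b75d5db6d96d9596498525) .nil), (.m (nat_lit 0x6f4) (nat_lit 0x15c15f15c16115e) (nat_lit 0x5db65a860896596594756756) .nil)⟩,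
  ⟨nat_lit 52405, (nat_lit 0x2473c6), (.m (nat_lit 0x5f2) (nat_lit 0) (nat_lit 0x62065989b5db5d9495714) .nil), (.m (nat_lit 0x5f2) (nat_lit 0x15e15c15c15c) (nat_lit 0x1a66175b6d79668644d3593) .nil), (.m (nat_lit 0x5f2) (nat_lit 0x15d15d15d15f) (nat_lit 0x59c65c6e675b959494625) .nil)⟩,
  ⟨nat_lit 84501, (nat_lit 0x1c23c6), (.m (nat_lit 0x41e) (nat_lit 0x15d15f161161161) (nat_lit 0x1689b5db75b75b59261a492) .nil), (.m (nat_lit 0x41e) (nat_lit 0x16015e) (nat_lit 0x188975e08666d8592693) .nil), (.m (nat_lit 0x41e) (nat_lit 0x15c16015f160160) (nat_lit 0x1b7db8dd6279966526e3) .nil)⟩]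
theorem hsd29_0 : allL (CX.seedOK AL (nat_lit 0xffc003fffc) (nat_lit 966) (nat_lit 0x1f80cf7000035f) (nat_lit 40) (nat_lit 0xa27) (nat_lit 29)) sd29_0 = true := by decide +kernel
theorem cov29 : CovOK CX AL (nat_lit 30) (nat_lit 0xffc003fffc) (nat_lit 137632) (nat_lit 966) (nat_lit 0x1f80cf7000035f) (nat_lit 40) (nat_lit 0xa27) (nat_lit 29) :=
  ⟨[sd29_0], [nat_lit 174, nat_lit 175, nat_lit 176], [nat_lit 0xb3e23ca31f4512a7, nat_lit 0xd79038b3cf8ca08a19f246, nat_lit 0xa42128d40e425283887207], [nat_lit 0, nat_lit 4, nat_lit 2, nat_lit 0, nat_lit 4, nat_lit 2, nat_lit 0, nat_lit 4, nat_lit 2, nat_lit 0, nat_lit 4, nat_lit 2, nat_lit 0, nat_lit 4, nat_lit 2, nat_lit 0, nat_lit 4, nat_lit 2, nat_lit 0, nat_lit 4, nat_lit 2, nat_lit 0, nat_lit 0], all1 hsd29_0, by decide +kernel, by decide +kernel⟩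
def T29_0 : Lev := ⟨nat_lit 448, nat_lit 78624, [nat_lit 0xb3e23ca31f4512a7, nat_lit 0xd79038b3cf8ca08a19f246, nat_lit 0xa42128d40e425283887207], [nat_lit 0, nat_lit 2, nat_lit 4, nat_lit 0, nat_lit 2, nat_lit 4, nat_lit 0, nat_lit 2, nat_lit 4, nat_lit 0, nat_lit 2, nat_lit 4, nat_lit 0, nat_lit 2, nat_lit 4, nat_lit 0, nat_lit 2, nat_lit 4, nat_lit 0, nat_lit 2, nat_lit 4, nat_lit 0, nat_lit 0]⟩
theorem hT29_0 : levOK AL (nat_lit 30) (nat_lit 0xffc003fffc) T29_0 = true := by decide +kernel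
def T29_1 : Lev := ⟨nat_lit 10, nat_lit 324, [nat_lit 0x2d14613a32a2327, nat_lit 0x28a3624102cc303887207, nat_lit 0x30e7e12a244e403262846], [nat_lit 0, nat_lit 2, nat_lit 4, nat_lit 0, nat_lit 2, nat_lit 4, nat_lit 0, nat_lit 4, nat_lit 2, nat_lit 0, nat_lit 4, nat_lit 2, nat_lit 0]⟩
theorem hT29_1 : levOK AL (nat_lit 30) (nat_lit 0xffc003fffc) T29_1 = true := by decide +kernel
theorem chT29 : ChOK CX AL (nat_lit 30) (nat_lit 0xffc003fffc) (nat_lit 966) (nat_lit 29) (nat_lit 25474176) :=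
  ⟨[T29_0, T29_1], [nat_lit 174, nat_lit 175, nat_lit 176, nat_lit 933, nat_lit 934, nat_lit 935], by decide +kernel, allc hT29_0 <| all1 hT29_1, by decide +kernel, by decide +kernel⟩
def sd30_0 : List Seed := [⟨nat_lit 0, (nat_lit 0), (.m (nat_lit 307) (nat_lit 0) (nat_lit 0) .nil), (.m (nat_lit 0x4c6) (nat_lit 0) (nat_lit 0x5db6187e67176d659251f914) .nil), (.m (nat_lit 0x4c8) (nat_lit 0) (nat_lit 0x1859671861d99a65649655f) .nil)⟩,
  ⟨nat_lit 1, (nat_lit 13), (.m (nat_lit 0x672) (nat_lit 0x13b138134139139) (nat_lit 0x5a195861b9db5d259b) .nil), (.m (nat_lit 885) (nat_lit 0x13413913413b135138) (nat_lit 0x1c5e375981c65c497656) .nil), (.m (nat_lit 777) (nat_lit 0x13913b13813413413b) (nat_lit 0x6db99671899772649a65f) .nil)⟩,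
  ⟨nat_lit 4, (nat_lit 10), (.m (nat_lit 0x59c) (nat_lit 0x134139139134139) (nat_lit 0x59d89765d7d959d494494) .nil), (.m (nat_lit 0x400) (nat_lit 0x13a13913913513b) (nat_lit 0x59689d75795659649449d) .nil), (.m (nat_lit 0x46e) (nat_lit 0x13513b138138134139134) (nat_lit 0x1a59d7dd66669f5969185dd) .nil)⟩,
  ⟨nat_lit 6, (nat_lit 9), (.m (nat_lit 0x424) (nat_lit 0x134138134139) (nat_lit 0x6576a27566189664926dd) .nil), (.m (nat_lit 708) (nat_lit 0x134139135138138) (nat_lit 0x1a71f6a15df6986d2512) .nil), (.m (nat_lit 720) (nat_lit 0x13a139139134) (nat_lit 0x1f59b95d75b7594926db) .nil)⟩,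
  ⟨nat_lit 182, (nat_lit 393), (.m (nat_lit 934) (nat_lit 0x13a13913913413913b) (nat_lit 0x176d662389775f494517) .nil), (.m (nat_lit 0x4b8) (nat_lit 0x138138138) (nat_lit 0x65b95975b6dc61a5964954e7) .nil), (.m (nat_lit 859) (nat_lit 0x13813513b138135) (nat_lit 0x66399871871b6db49b519) .nil)⟩,
  ⟨nat_lit 20, (nat_lit 6), (.m (nat_lit 0x5bc) (nat_lit 0x13413913913b135) (nat_lit 0x6185a359d8db5dc5944a6) .nil), (.m (nat_lit 0x45b) (nat_lit 0x13813813513913a) (nat_lit 0x61a59c72159d5d751c61c) .nil), (.m (nat_lit 0x45d) (nat_lit 0x13913513b13813813a) (nat_lit 0x81959d8975e675b494622) .nil)⟩,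
  ⟨nat_lit 29, (nat_lit 416), (.m (nat_lit 933) (nat_lit 0x13a13413913513813b138) (nat_lit 0x1b6df5e569895d652821) .nil), (.m (nat_lit 849) (nat_lit 0x13413413913a134) (nat_lit 0x5988da65669871c49a51b) .nil), (.m (nat_lit 0x46b) (nat_lit 0x13913a13413913a139134139) (nat_lit 0x5a36a071b61f8125189d4) .nil)⟩,
  ⟨nat_lit 261, (nat_lit 528), (.m (nat_lit 608) (nat_lit 0x134134139135138) (nat_lit 0x6d86d96a69dc65a913) .nil), (.m (nat_lit 851) (nat_lit 0x13913a139134) (nat_lit 0x6d87185a55985da49a813) .nil), (.m (nat_lit 0x4ac) (nat_lit 0x13413413813813b) (nat_lit 0x6626d65a66605d949451c) .nil)⟩,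
  ⟨nat_lit 307, (nat_lit 2), (.m (nat_lit 0x429) (nat_lit 0x139139134139135) (nat_lit 0x6a05d85a575981a612613) .nil), (.m (nat_lit 0x428) (nat_lit 0x13b13813b138) (nat_lit 0x65d8196616576594954e2) .nil), (.m (nat_lit 0x488) (nat_lit 0x13913b138138134) (nat_lit 0x71769a623722592524) .nil)⟩,
  ⟨nat_lit 693, (nat_lit 329), (.m (nat_lit 0x42c) (nat_lit 0x13813813a134) (nat_lit 0x65769969869969a594497) .nil), (.m (nat_lit 841) (nat_lit 0x13913913b135139) (nat_lit 0x6d88db61a59969c5d3652) .nil), (.m (nat_lit 0x4ae) (nat_lit 0x13413413913a139139) (nat_lit 0x5da89d65986061f6d25d2) .nil)⟩,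
  ⟨nat_lit 223, (nat_lit 5), (.m (nat_lit 650) (nat_lit 0x139134134138138) (nat_lit 0x1d5da89b5e67584d6553) .nil), (.m (nat_lit 0x465) (nat_lit 0x13913413413913913a13a) (nat_lit 0x1a75f5a359895659649b626) .nil), (.m (nat_lit 734) (nat_lit 0x138138138134139139135) (nat_lit 0x195dc95881c723616527) .nil)⟩,
  ⟨nat_lit 425, (nat_lit 164), (.m (nat_lit 0x668) (nat_lit 0x13413a13913a) (nat_lit 0x1771f5dc6db7605925666d3) .nil), (.m (nat_lit 905) (nat_lit 0x134134139) (nat_lit 0x65d9588189626d949b5da) .nil), (.m (nat_lit 0x4aa) (nat_lit 0x13b135138) (nat_lit 0x1995d765659699652622) .nil)⟩,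
  ⟨nat_lit 385, (nat_lit 337), (.m (nat_lit 839) (nat_lit 0x13913413a13913b138) (nat_lit 0x5e05986d785c8e05a4592612) .nil), (.m (nat_lit 0x42d) (nat_lit 0x13913913513813a134) (nat_lit 0x6188db65676685c512626) .nil), (.m (nat_lit 921) (nat_lit 0x13413913913513b135) (nat_lit 0x6a27576e67586d2516) .nil)⟩,
  ⟨nat_lit 752, (nat_lit 140), (.m (nat_lit 0x432) (nat_lit 0x13913913413a13a) (nat_lit 0x1999c61861681c6125a0) .nil), (.m (nat_lit 0x6fe) (nat_lit 0x13813b135138) (nat_lit 0x1985c61b5e15d77d649485d) .nil), (.m (nat_lit 950) (nat_lit 0x13913a139139134139) (nat_lit 0x188585a695a7187d849571c) .nil)⟩,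
  ⟨nat_lit 255, (nat_lit 0x41cb), (.m (nat_lit 712) (nat_lit 313) (nat_lit 0x1a71a957626596613593613) .nil), (.m (nat_lit 0x409) (nat_lit 312) (nat_lit 0x66161b6639d6596527) .nil), (.m (nat_lit 0x409) (nat_lit 0x138134) (nat_lit 0x59975972181665b494494) .nil)⟩,
  ⟨nat_lit 628, (nat_lit 912), (.m (nat_lit 0x5cf) (nat_lit 0x13813813413b) (nat_lit 0x166265d75e16a0612556596) .nil), (.m (nat_lit 855) (nat_lit 0x135138135) (nat_lit 0x186d96566db66675269f712) .nil), (.m (nat_lit 855) (nat_lit 0x13a13913413b) (nat_lit 0x186d871b96665f49b8d3) .nil)⟩,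
  ⟨nat_lit 15401, (nat_lit 0x444), (.m (nat_lit 944) (nat_lit 0x139135138135139139134) (nat_lit 0x1b5dc95a69a897712627) .nil), (.m (nat_lit 716) (nat_lit 0x13b13513813813a139) (nat_lit 0x65c81895689b5d959649459c) .nil), (.m (nat_lit 827) (nat_lit 0x13913913a134139135138135) (nat_lit 0x1871c69c6e37187164d6657) .nil)⟩,
  ⟨nat_lit 468, (nat_lit 0x93d0), (.m (nat_lit 0x3fe) (nat_lit 0x138138) (nat_lit 0x196d695a61661b6d6592593) .nil), (.m (nat_lit 0x700) (nat_lit 0x13813a139) (nat_lit 0x1765d61b6dd8d9717498557) .nil), (.m (nat_lit 0x700) (nat_lit 0x139139135138135139) (nat_lit 0x166a25d7959957664595) .nil)⟩,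
  ⟨nat_lit 547, (nat_lit 0x5249), (.m (nat_lit 0x6be) (nat_lit 0x138138138135138) (nat_lit 0x1671665a75b6e26164948d4) .nil), (.m (nat_lit 722) (nat_lit 0x13413913413913413413b) (nat_lit 0x1661c9986a07256d65935d4) .nil), (.m (nat_lit 668) (nat_lit 0x13813413413913913413a) (nat_lit 0x69d69669c69f75b5d44a0893) .nil)⟩,
  ⟨nat_lit 598, (nat_lit 0xe122), (.m (nat_lit 0x5a6) (nat_lit 0x13913a13a13913413813a) (nat_lit 0x69d6609995d86165a4614) .nil), (.m (nat_lit 829) (nat_lit 0x13913513b135) (nat_lit 0x71f65d6e67588984a05dc) .nil), (.m (nat_lit 829) (nat_lit 0x13813413a13913b138135) (nat_lit 0x6988dd59d59d857494966) .nil)⟩,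
  ⟨nat_lit 3707, (nat_lit 0x443), (.m (nat_lit 0x43a) (nat_lit 0x138134139134139135) (nat_lit 0x2569d62271881b5d2518812) .nil), (.m (nat_lit 831) (nat_lit 0x135138138134139135) (nat_lit 0x5a181659c85c7184947d6) .nil), (.m (nat_lit 0x48a) (nat_lit 0x13913b13813813a) (nat_lit 0x66271699b5dc65a4a05d9) .nil)⟩,
  ⟨nat_lit 609, (nat_lit 0xf407), (.m (nat_lit 0x43c) (nat_lit 0) (nat_lit 0x9596a56166d75d24a1512) .nil), (.m (nat_lit 0x47f) (nat_lit 0x13813513b13813813513a) (nat_lit 0x6df81869c8d67615926d8) .nil), (.m (nat_lit 0x47f) (nat_lit 0x13913413a134139) (nat_lit 0x59d65a89b9d7756494722) .nil)⟩,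
  ⟨nat_lit 2168, (nat_lit 0x44f), (.m (nat_lit 0x43e) (nat_lit 0x13913b138138135) (nat_lit 0x1965b7d99a769a75251f752) .nil), (.m (nat_lit 671) (nat_lit 0x13813813a139134) (nat_lit 0x1b7e359a89a59a599592492492) .nil), (.m (nat_lit 787) (nat_lit 0x138138138135139) (nat_lit 0x1999a69a5a1816624614594) .nil)⟩,
  ⟨nat_lit 1762, (nat_lit 643), (.m (nat_lit 913) (nat_lit 0x13913b135138135138) (nat_lit 0x1a8a665a5dd75669649a599) .nil), (.m (nat_lit 0x6c7) (nat_lit 0x13813813813413913413a139) (nat_lit 0x65c69d75981d65a59649461b) .nil), (.m (nat_lit 0x47c) (nat_lit 0x13813413813813513813813b) (nat_lit 0x176e671c6226d95d25d4) .nil)⟩,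
  ⟨nat_lit 821, (nat_lit 900), (.m (nat_lit 914) (nat_lit 0x139134139139135138135) (nat_lit 0x6967d85965a55d9495813) .nil), (.m (nat_lit 0x437) (nat_lit 0x13913413a134139) (nat_lit 0x1c8db6dd819756852497) .nil), (.m (nat_lit 0x437) (nat_lit 0x13a139139134139135138135) (nat_lit 0x1672071a59d8198564db) .nil)⟩,
  ⟨nat_lit 749, (nat_lit 0x2249), (.m (nat_lit 0x444) (nat_lit 0) (nat_lit 0x5d75d785a69f59a6926d2) .nil), (.m (nat_lit 832) (nat_lit 0x13913913b13513b13813813b) (nat_lit 0x6597e669d75b6d4756756) .nil), (.m (nat_lit 832) (nat_lit 0x13513813813b138135) (nat_lit 0x61f6db7d98d96dc49249b) .nil)⟩,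
  ⟨nat_lit 1397, (nat_lit 450), (.m (nat_lit 0x40f) (nat_lit 0x13813a139139135) (nat_lit 0x1965685a6577d75d749249b) .nil), (.m (nat_lit 0x4ba) (nat_lit 0x13913413a139139) (nat_lit 0x6186df5d765b656592525513) .nil), (.m (nat_lit 0x5db) (nat_lit 312) (nat_lit 0x1969975695d896692) .nil)⟩,
  ⟨nat_lit 1221, (nat_lit 969), (.m (nat_lit 732) (nat_lit 0x138138134134) (nat_lit 0x6d87226a371881a612824) .nil), (.m (nat_lit 876) (nat_lit 0x138135138135) (nat_lit 0x59a9976d982171c5d25125d2) .nil), (.m (nat_lit 916) (nat_lit 0x13913a134139) (nat_lit 0x61871c89c5db95749569a) .nil)⟩,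
  ⟨nat_lit 21409, (nat_lit 0x110cf), (.m (nat_lit 0x58a) (nat_lit 0x13913413913a) (nat_lit 0x59b59a8979586d65935d8993) .nil), (.m (nat_lit 0x41b) (nat_lit 0x13413913413a13a139) (nat_lit 0x1975681782665975859449b) .nil), (.m (nat_lit 837) (nat_lit 0x13813813813a139134139) (nat_lit 0x1b61c5e55dc8967564945e6) .nil)⟩]
theorem hsd30_0 : allL (CX.seedOK AL (nat_lit 0xffc003fffc) (nat_lit 966) (nat_lit 0x1f80cf7000035f) (nat_lit 40) (nat_lit 0xa27) (nat_lit 30)) sd30_0 = true := by decide +kernel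
def sd30_1 : List Seed := [⟨nat_lit 1031, (nat_lit 0x3185), (.m (nat_lit 0x44a) (nat_lit 0x139134) (nat_lit 0x225df81c61b6e65d4759) .nil), (.m (nat_lit 942) (nat_lit 0x13413a134) (nat_lit 0x177da65c61f62259281b652) .nil), (.m (nat_lit 0x68a) (nat_lit 0x139134134) (nat_lit 0x6d669895d81f6db6d2812) .nil)⟩,
  ⟨nat_lit 1918, (nat_lit 899), (.m (nat_lit 0x44c) (nat_lit 0x13b135138138138134) (nat_lit 0x1a65a8a161c65a69649a753) .nil), (.m (nat_lit 0x41c) (nat_lit 0x13513913913513813813b) (nat_lit 0x61681869f99859261c) .nil), (.m (nat_lit 0x41c) (nat_lit 0x13413b13813513813b138) (nat_lit 0x61d5db5996d999d59649b4d3) .nil)⟩,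
  ⟨nat_lit 10103, (nat_lit 0xe18a), (.m (nat_lit 726) (nat_lit 0x134139139134139134139) (nat_lit 0x187576d86235985925149da) .nil), (.m (nat_lit 0x449) (nat_lit 0x13813a134139139135138) (nat_lit 0x7d67666db6d75d8495715) .nil), (.m (nat_lit 0x438) (nat_lit 0x13913a13913a139139) (nat_lit 0x1b7568a19596597d749b626) .nil)⟩,
  ⟨nat_lit 993, (nat_lit 0xf25f), (.m (nat_lit 714) (nat_lit 0x13b13813813a139139135) (nat_lit 0x198e67615a57186964a45e1) .nil), (.m (nat_lit 877) (nat_lit 0x13513813813b138134134) (nat_lit 0x1a6605db7626e34d7613) .nil), (.m (nat_lit 656) (nat_lit 0x13913413b138138134139) (nat_lit 0x166a17585a16596d85d25187d2) .nil)⟩,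
  ⟨nat_lit 2864, (nat_lit 0x334e), (.m (nat_lit 0x452) (nat_lit 0x13513a) (nat_lit 0x69a61b75d6a16574954d8) .nil), (.m (nat_lit 0x452) (nat_lit 0x138134138138134134) (nat_lit 0x197567186d76a1497) .nil), (.m (nat_lit 0x452) (nat_lit 0x13a13413913a) (nat_lit 0x89d59c7196996994d761b) .nil)⟩,
  ⟨nat_lit 6797, (nat_lit 0xe2c7), (.m (nat_lit 0x427) (nat_lit 0x13b138135139139135138) (nat_lit 0x59a5d7966622856913) .nil), (.m (nat_lit 649) (nat_lit 0x13a13913b13813813413a) (nat_lit 0x69a61d8626d8719593659) .nil), (.m (nat_lit 649) (nat_lit 0x13813813b13813413913913a13913b) (nat_lit 0x8da6977da5a075255d8d3) .nil)⟩,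
  ⟨nat_lit 12671, (nat_lit 0x6985), (.m (nat_lit 814) (nat_lit 0x13813a139139135) (nat_lit 0x818699656721726612559552) .nil), (.m (nat_lit 0x4a4) (nat_lit 0x13813813b135138) (nat_lit 0x1b6625db5e659b49461c) .nil), (.m (nat_lit 0x550) (nat_lit 0x13b138134) (nat_lit 0x69969f69a65d8165964926d3) .nil)⟩,
  ⟨nat_lit 6784, (nat_lit 527), (.m (nat_lit 954) (nat_lit 0x13413b13813813413913413413b) (nat_lit 0x1675995771659c5d26d2) .nil), (.m (nat_lit 911) (nat_lit 0x13b13813513813813813a) (nat_lit 0x176db65b5d75d761471c) .nil), (.m (nat_lit 0x446) (nat_lit 0x13913913b135138135138) (nat_lit 0x1a65675f6e16d79926d4) .nil)⟩,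
  ⟨nat_lit 3948, (nat_lit 334), (.m (nat_lit 929) (nat_lit 0x13813b138135138) (nat_lit 0x59a8d86d95e65d949451a) .nil), (.m (nat_lit 0x44e) (nat_lit 0x13813813813a13a13913a) (nat_lit 0x5dc61a8996a165a592626) .nil), (.m (nat_lit 0x44e) (nat_lit 0x13813413413913a139134) (nat_lit 0x75659969672671849a592) .nil)⟩,
  ⟨nat_lit 2884, (nat_lit 144), (.m (nat_lit 730) (nat_lit 0x13913513813813a13a) (nat_lit 0x1b7da85769a716697494622) .nil), (.m (nat_lit 932) (nat_lit 0x13813813413413b135) (nat_lit 0x5a165a75b75b59f596494613) .nil), (.m (nat_lit 795) (nat_lit 0x13413813413913413a134139134) (nat_lit 0x1a8597587607244d3593) .nil)⟩,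
  ⟨nat_lit 8130, (nat_lit 0x2162), (.m (nat_lit 768) (nat_lit 0x13513813813513b138) (nat_lit 0x185a565a7675e1956494764) .nil), (.m (nat_lit 0x499) (nat_lit 0x13913913413913b138) (nat_lit 0x59b72169c5dc722594714) .nil), (.m (nat_lit 0x6ba) (nat_lit 0x13813413813813b138) (nat_lit 0x65775d6967627564925e7) .nil)⟩,
  ⟨nat_lit 64399, (nat_lit 0x5149), (.m (nat_lit 0x3ee) (nat_lit 0x13913513813513813a) (nat_lit 0x61c5e36db8605e559649855d) .nil), (.m (nat_lit 0x45e) (nat_lit 0x13913a13a13913913513a13a) (nat_lit 0x1975d7e18176dc6964d9654) .nil), (.m (nat_lit 0x45e) (nat_lit 0x13813b13813b13513913913b) (nat_lit 0x177d79576db5e14d9) .nil)⟩,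
  ⟨nat_lit 6170, (nat_lit 133), (.m (nat_lit 918) (nat_lit 0x13913b13813813413a139) (nat_lit 0x1f85c5da7217174945e2) .nil), (.m (nat_lit 0x49a) (nat_lit 0x13a13913913513a) (nat_lit 0x1659f59d8275a265649459c) .nil), (.m (nat_lit 0x477) (nat_lit 0x13b13513813813513b138) (nat_lit 0x69d5da61689d8e2494513) .nil)⟩,
  ⟨nat_lit 3943, (nat_lit 390), (.m (nat_lit 646) (nat_lit 0x13813813a13913a139134) (nat_lit 0x6966967db61a6965926946d2) .nil), (.m (nat_lit 0x457) (nat_lit 0x13913513b135138138) (nat_lit 0x266615a56a1954494953) .nil), (.m (nat_lit 0x451) (nat_lit 0x13813813413a13a139) (nat_lit 0x69761a8dd9db5db49a517) .nil)⟩,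
  ⟨nat_lit 21232, (nat_lit 0x3404), (.m (nat_lit 724) (nat_lit 0x13913b13813813513b) (nat_lit 0x1975d6568d699b6564925e7) .nil), (.m (nat_lit 724) (nat_lit 0x13413413913413813813b) (nat_lit 0x1665d9976e2599592817693) .nil), (.m (nat_lit 724) (nat_lit 0x13b13513b138138134) (nat_lit 0x5d99998dc89b6165926955d2) .nil)⟩,
  ⟨nat_lit 126873, (nat_lit 0x5087), (.m (nat_lit 957) (nat_lit 0x134139134134139139134134) (nat_lit 0x1772659a65d8dd5964a055b) .nil), (.m (nat_lit 957) (nat_lit 0x13413913413413913413b135) (nat_lit 0x1799b5d79a775749555d) .nil), (.m (nat_lit 957) (nat_lit 0x13913513b135139) (nat_lit 0x1b8576dd95d6d67164947e1) .nil)⟩,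
  ⟨nat_lit 10099, (nat_lit 0x2946), (.m (nat_lit 0x470) (nat_lit 0x13813413813a) (nat_lit 0x1a59d9586206e16d64964d8) .nil), (.m (nat_lit 0x431) (nat_lit 0x13a13913913a134) (nat_lit 0x176965a061a8216d64984e2) .nil), (.m (nat_lit 0x470) (nat_lit 0x13913a13913a139134138) (nat_lit 0x7e061d7d975b99b5126e1) .nil)⟩,
  ⟨nat_lit 4959, (nat_lit 0x9090), (.m (nat_lit 0x472) (nat_lit 0x13813513a13a) (nat_lit 0x8db59c5a065a7d891665d) .nil), (.m (nat_lit 0x472) (nat_lit 0x13a13913b138138134139) (nat_lit 0x59a8996a26975dd592518813) .nil), (.m (nat_lit 0x472) (nat_lit 0x138138138134138134139134) (nat_lit 0x89c69c7197587526d4652) .nil)⟩,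
  ⟨nat_lit 7437, (nat_lit 0x2422e4), (.m (nat_lit 0x5d7) (nat_lit 0x13813513813a13913b) (nat_lit 0x1899b5d95dc6576d35d8556) .nil), (.m (nat_lit 0x5d7) (nat_lit 0x13813813513b138) (nat_lit 0x1775769c71b5a27565936d3) .nil), (.m (nat_lit 925) (nat_lit 0x134139134139) (nat_lit 0x1665c6d86188a36a4617752) .nil)⟩,
  ⟨nat_lit 44705, (nat_lit 0x27c7), (.m (nat_lit 0x5ba) (nat_lit 0x13813813a139134138) (nat_lit 0x1b8587e27599a561651c61a) .nil), (.m (nat_lit 0x490) (nat_lit 0x13813813813b138134) (nat_lit 0x5d95d98215966164946d2) .nil), (.m (nat_lit 0x405) (nat_lit 0x139134139139) (nat_lit 0x6a671c7189df61c49495d) .nil)⟩,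
  ⟨nat_lit 45196, (nat_lit 0x6384), (.m (nat_lit 0x492) (nat_lit 0x135138135) (nat_lit 0x1689c61c69f65a495813) .nil), (.m (nat_lit 927) (nat_lit 0x13a13413a) (nat_lit 0x75972569c8d84947da) .nil), (.m (nat_lit 0x492) (nat_lit 0x13a139134) (nat_lit 0x7d671b5d796249269c) .nil)⟩,
  ⟨nat_lit 27462, (nat_lit 0x8d0c5), (.m (nat_lit 0x42f) (nat_lit 0x134139135) (nat_lit 0x75a71861699a656492923) .nil), (.m (nat_lit 0x54f) (nat_lit 0x13513913913b) (nat_lit 0x1771c59c616759852524) .nil), (.m (nat_lit 0x42f) (nat_lit 0x13813413913913413b) (nat_lit 0x1a7578576d995b65251b752) .nil)⟩,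
  ⟨nat_lit 39021, (nat_lit 0xa146), (.m (nat_lit 0x494) (nat_lit 0x13913913413a13913a) (nat_lit 0x176986df8216d669649471c) .nil), (.m (nat_lit 0x494) (nat_lit 0x13813a13413913a139) (nat_lit 0x8e65dd6598567544d7) .nil), (.m (nat_lit 0x494) (nat_lit 0x13a139134139134138) (nat_lit 0x1659985a5a071c592553553) .nil)⟩,
  ⟨nat_lit 82034, (nat_lit 0x21cf), (.m (nat_lit 0x435) (nat_lit 0x13913913b13813813b135) (nat_lit 0x69d76396169d6db5d2525552) .nil), (.m (nat_lit 0x435) (nat_lit 0x13913913413413b) (nat_lit 0x1b65c59d75d5df71749471c) .nil), (.m (nat_lit 0x435) (nat_lit 0x13b13813813a13913a) (nat_lit 0x81669c59c99a7564926d6) .nil)⟩]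
theorem hsd30_1 : allL (CX.seedOK AL (nat_lit 0xffc003fffc) (nat_lit 966) (nat_lit 0x1f80cf7000035f) (nat_lit 40) (nat_lit 0xa27) (nat_lit 30)) sd30_1 = true := by decide +kernel
def sd30_2 : List Seed := [⟨nat_lit 53169, (nat_lit 0x51d0), (.m (nat_lit 0x496) (nat_lit 0x13813a13913913a) (nat_lit 0x1a7da699860618593664) .nil), (.m (nat_lit 0x3ea) (nat_lit 0x139134134138) (nat_lit 0x6d895971695a6985d2594) .nil), (.m (nat_lit 0x496) (nat_lit 0x13a13413b138) (nat_lit 0x66675d85d5d76a3494857) .nil)⟩]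
theorem hsd30_2 : allL (CX.seedOK AL (nat_lit 0xffc003fffc) (nat_lit 966) (nat_lit 0x1f80cf7000035f) (nat_lit 40) (nat_lit 0xa27) (nat_lit 30)) sd30_2 = true := by decide +kernel
theorem cov30 : CovOK CX AL (nat_lit 30) (nat_lit 0xffc003fffc) (nat_lit 137632) (nat_lit 966) (nat_lit 0x1f80cf7000035f) (nat_lit 40) (nat_lit 0xa27) (nat_lit 30) :=
  ⟨[sd30_0, sd30_1, sd30_2], [nat_lit 156, nat_lit 154, nat_lit 157], [nat_lit 0xb2e628f84d2cd10c7859c8, nat_lit 0xa9513d17cf4102842c48447d0, nat_lit 0xc3df2e298c3212843e63c498f], [nat_lit 0, nat_lit 2, nat_lit 4, nat_lit 0, nat_lit 2, nat_lit 4, nat_lit 0, nat_lit 2, nat_lit 0, nat_lit 4, nat_lit 2, nat_lit 0, nat_lit 4, nat_lit 0, nat_lit 2, nat_lit 4, nat_lit 0, nat_lit 2, nat_lit 0, nat_lit 4, nat_lit 2, nat_lit 0, nat_lit 4, nat_lit 0], allc hsd30_0 <| allc hsd30_1 <| all1 hsd30_2, by decide +kernel, by decide +kernel⟩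
def T30_0 : Lev := ⟨nat_lit 440, nat_lit 15552, [nat_lit 0xb2e628f84d2cd10c7859c8, nat_lit 0xa9513d17cf4102842c48447d0, nat_lit 0xc3df2e298c3212843e63c498f], [nat_lit 0, nat_lit 2, nat_lit 4, nat_lit 0, nat_lit 2, nat_lit 4, nat_lit 0, nat_lit 2, nat_lit 0, nat_lit 4, nat_lit 2, nat_lit 0, nat_lit 4, nat_lit 0, nat_lit 2, nat_lit 4, nat_lit 0, nat_lit 2, nat_lit 0, nat_lit 4, nat_lit 2, nat_lit 0, nat_lit 4, nat_lit 0]⟩
theorem hT30_0 : levOK AL (nat_lit 30) (nat_lit 0xffc003fffc) T30_0 = true := by decide +kernel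
theorem chT30 : ChOK CX AL (nat_lit 30) (nat_lit 0xffc003fffc) (nat_lit 966) (nat_lit 30) (nat_lit 15552) :=
  ⟨[T30_0], [nat_lit 156, nat_lit 154, nat_lit 157], by decide +kernel, all1 hT30_0, by decide +kernel, by decide +kernel⟩
end H46.P1
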