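import Cfsg.Agent.H46.P1C
import Cfsg.Agent.H46.P1E
import Cfsg.Agent.H46.P1G
/-! Covering of the neighbours and orders of the stabilisers. -/
set_option maxRecDepth 1000000
set_option Elab.async false
namespace H46.P1
open H71
def sd32_0 : List Seed := [⟨nat_lit 0, (nat_lit 0), (.m (nat_lit 355) (nat_lit 0) (nat_lit 0) .nil), (.m (nat_lit 0x407) (nat_lit 0x283283) (nat_lit 0x1c69a81f6606db592523893) .nil), (.m (nat_lit 0x4d2) (nat_lit 0x280280282280) (nat_lit 0x1a5a05dc8a161b6d269f) .nil)⟩,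
  ⟨nat_lit 2, (nat_lit 4), (.m (nat_lit 750) (nat_lit 0x282280282285282281282280283) (nat_lit 0x1675675875a59d8d649a69f) .nil), (.m (nat_lit 750) (nat_lit 0x285282284283280285281284) (nat_lit 0x197dc5966e55e04975d2) .nil), (.m (nat_lit 0x4cb) (nat_lit 0x281282280283284283285281) (nat_lit 0x8186967e26995d949869a) .nil)⟩,
  ⟨nat_lit 6, (nat_lit 9), (.m (nat_lit 0x59a) (nat_lit 0x281283285280285281) (nat_lit 0x1a81c8dc89b7596d2615852) .nil), (.m (nat_lit 0x4d4) (nat_lit 0x283284280284) (nat_lit 0x197db6db65a7dd65491d) .nil), (.m (nat_lit 0x4d0) (nat_lit 0x284282280283280285285) (nat_lit 0x62089b8589da6595926d87d2) .nil)⟩,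
  ⟨nat_lit 223, (nat_lit 5), (.m (nat_lit 0x6dc) (nat_lit 0x280280284284280285283285282) (nat_lit 0x6d86185dd7616d849b61b) .nil), (.m (nat_lit 0x6dc) (nat_lit 0x280280283283280283281284283) (nat_lit 0x6d861659675d592525552) .nil), (.m (nat_lit 0x4cd) (nat_lit 0x280280283285281284284282) (nat_lit 0x166d669a7636df5d24947d2) .nil)⟩,
  ⟨nat_lit 26, (nat_lit 14), (.m (nat_lit 0x5e2) (nat_lit 0x281282284280282) (nat_lit 0x1699681659d618692513) .nil), (.m (nat_lit 0x4c2) (nat_lit 0x284282284282282282285) (nat_lit 0x195d761d8da7d9816494913) .nil), (.m (nat_lit 0x4c2) (nat_lit 0x282281284281285280) (nat_lit 0x186186968a761f593593) .nil)⟩,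
  ⟨nat_lit 91, (nat_lit 201), (.m (nat_lit 0x63a) (nat_lit 0x282280284284) (nat_lit 0x6d67db75971a59c596495655) .nil), (.m (nat_lit 0x4d6) (nat_lit 0x285283285282) (nat_lit 0x1966669885871a8564944e4) .nil), (.m (nat_lit 0x553) (nat_lit 0x285285283284281) (nat_lit 0x61f75965d99b6d8496562) .nil)⟩]
theorem hsd32_0 : allL (CX.seedOK AL (nat_lit 0xffc003fffc) (nat_lit 966) (nat_lit 0x1f80cf7000035f) (nat_lit 40) (nat_lit 0xa27) (nat_lit 32)) sd32_0 = true := by decide +kernel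
theorem cov32 : CovOK CX AL (nat_lit 30) (nat_lit 0xffc003fffc) (nat_lit 137632) (nat_lit 966) (nat_lit 0x1f80cf7000035f) (nat_lit 40) (nat_lit 0xa27) (nat_lit 32) :=
  ⟨[sd32_0], [nat_lit 320, nat_lit 321, nat_lit 322], [nat_lit 0x28e29e36144e38a10d14f1e32c3, nat_lit 0x30e2cc7a645e0899433c82cf, nat_lit 0x2a284d38d42278a09f3870c430f], [nat_lit 0, nat_lit 2, nat_lit 4, nat_lit 0, nat_lit 2, nat_lit 4, nat_lit 0, nat_lit 2, nat_lit 4, nat_lit 0, nat_lit 2, nat_lit 4, nat_lit 0, nat_lit 2, nat_lit 4, nat_lit 0, nat_lit 2, nat_lit 4, nat_lit 0, nat_lit 2, nat_lit 4, nat_lit 0], all1 hsd32_0, by decide +kernel, by decide +kernel⟩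
def T32_0 : Lev := ⟨nat_lit 2, nat_lit 61200, [nat_lit 0x28e29e36144e38a10d14f1e32c3, nat_lit 0x30e2cc7a645e0899433c82cf, nat_lit 0x2a284d38d42278a09f3870c430f], [nat_lit 0, nat_lit 2, nat_lit 4, nat_lit 0, nat_lit 2, nat_lit 4, nat_lit 0, nat_lit 2, nat_lit 4, nat_lit 0, nat_lit 2, nat_lit 4, nat_lit 0, nat_lit 2, nat_lit 4, nat_lit 0, nat_lit 2, nat_lit 4, nat_lit 0, nat_lit 2, nat_lit 4, nat_lit 0]⟩
theorem hT32_0 : levOK AL (nat_lit 30) (nat_lit 0xffc003fffc) T32_0 = true := by decide +kernel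
def T32_1 : Lev := ⟨nat_lit 3, nat_lit 64, [nat_lit 0x31f3e644c8113c520e24c243, nat_lit 0xc85180d3a63a22c32e40c834914d], [nat_lit 0, nat_lit 2, nat_lit 0, nat_lit 2, nat_lit 0, nat_lit 2, nat_lit 0, nat_lit 2, nat_lit 0, nat_lit 0]⟩
theorem hT32_1 : levOK AL (nat_lit 30) (nat_lit 0xffc003fffc) T32_1 = true := by decide +kernel
theorem chT32 : ChOK CX AL (nat_lit 30) (nat_lit 0xffc003fffc) (nat_lit 966) (nat_lit 32) (nat_lit 3916800) :=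
  ⟨[T32_0, T32_1], [nat_lit 320, nat_lit 321, nat_lit 322, nat_lit 936, nat_lit 937], by decide +kernel, allc hT32_0 <| all1 hT32_1, by decide +kernel, by decide +kernel⟩
def sd33_0 : List Seed := [⟨nat_lit 0, (nat_lit 0), (.m (nat_lit 369) (nat_lit 0) (nat_lit 0) .nil), (.m (nat_lit 0x417) (nat_lit 0) (nat_lit 0x1b61d95d6db7d97125178d3) .nil), (.m (nat_lit 0x4d3) (nat_lit 0) (nat_lit 0x1a6236db75f5e57da494653) .nil)⟩,
  ⟨nat_lit 1, (nat_lit 13), (.m (nat_lit 0x58e) (nat_lit 0x17f18017f17d) (nat_lit 0x165a06d966189f75649a696) .nil), (.m (nat_lit 835) (nat_lit 0x17c18017f17c17c) (nat_lit 0x1861899a76369c51c717) .nil), (.m (nat_lit 0x4f7) (nat_lit 0x17c18018017e17e) (nat_lit 0x237169986d77586d2917) .nil)⟩,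
  ⟨nat_lit 2, (nat_lit 4), (.m (nat_lit 657) (nat_lit 0x17f18017c17f18017e) (nat_lit 0x187196d659669749581b) .nil), (.m (nat_lit 847) (nat_lit 0x17e180180180) (nat_lit 0x5a06dd6225d9718495724) .nil), (.m (nat_lit 762) (nat_lit 0x17c17e17e17d180) (nat_lit 0x5d771a69c89771f4a0) .nil)⟩,
  ⟨nat_lit 3, (nat_lit 12), (.m (nat_lit 0x572) (nat_lit 0x17d18017f180) (nat_lit 0x196df5dc72685255a) .nil), (.m (nat_lit 843) (nat_lit 0x17c17c17e17d) (nat_lit 0x6db75d75885d7d74db) .nil), (.m (nat_lit 0x487) (nat_lit 0x17d17e17c17f) (nat_lit 0x65b7236d871f59b494958) .nil)⟩,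
  ⟨nat_lit 5, (nat_lit 196), (.m (nat_lit 0x4dc) (nat_lit 0) (nat_lit 0x187588e661a756696494955) .nil), (.m (nat_lit 0x5e8) (nat_lit 0x17e17d) (nat_lit 0x1a59d7d97585dd6d649a816) .nil), (.m (nat_lit 0x4d5) (nat_lit 0x17c181181) (nat_lit 0x6d68d67db5966d649565d) .nil)⟩,
  ⟨nat_lit 9, (nat_lit 456), (.m (nat_lit 0x574) (nat_lit 0x17e17e17c17f17d) (nat_lit 0x6d99666569e27564944a6) .nil), (.m (nat_lit 889) (nat_lit 0x17d17f18117e17c17c) (nat_lit 0x8dc61669671a716494527) .nil), (.m (nat_lit 0x4a7) (nat_lit 0x17c18017c17e17e) (nat_lit 0x5995d765781c61a596913558) .nil)⟩,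
  ⟨nat_lit 26, (nat_lit 14), (.m (nat_lit 0x65a) (nat_lit 0x17d18117c) (nat_lit 0x61a9975d881959255d5d3) .nil), (.m (nat_lit 789) (nat_lit 0x17c17f181) (nat_lit 0x186166d669a5968165935e4) .nil), (.m (nat_lit 0x512) (nat_lit 0x17e17e17e18117d) (nat_lit 0x6db8a65d781965a5d2594) .nil)⟩,
  ⟨nat_lit 11, (nat_lit 7), (.m (nat_lit 0x6e4) (nat_lit 0x17c17f17d18117f) (nat_lit 0x197dd5d79996dd6164925d5) .nil), (.m (nat_lit 0x48e) (nat_lit 0x17c18018017c) (nat_lit 0x1b8176d98dc722596495715) .nil), (.m (nat_lit 0x4e1) (nat_lit 0x17e17d17e) (nat_lit 0x1889965b7dd89a599512698) .nil)⟩,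
  ⟨nat_lit 307, (nat_lit 2), (.m (nat_lit 919) (nat_lit 0x17e17c18017e18117d) (nat_lit 0x1a76159a6a58976164e3) .nil), (.m (nat_lit 0x4b1) (nat_lit 0x17c17c17e18117f180) (nat_lit 0x5d895661a699718612559552) .nil), (.m (nat_lit 0x441) (nat_lit 0x18017c17f17c181) (nat_lit 0x1a85a7605df75b592525752) .nil)⟩,
  ⟨nat_lit 16, (nat_lit 420), (.m (nat_lit 0x589) (nat_lit 0x17c17e18117c) (nat_lit 0x165968a39a57194947dd) .nil), (.m (nat_lit 0x402) (nat_lit 0x18117f) (nat_lit 0x61f59a9576d999b592595) .nil), (.m (nat_lit 0x6e3) (nat_lit 0x17f17f) (nat_lit 0x1c8225db6d9665494718) .nil)⟩,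
  ⟨nat_lit 17, (nat_lit 200), (.m (nat_lit 0x546) (nat_lit 0x18018017e180) (nat_lit 0x6225da71669c69749b616) .nil), (.m (nat_lit 0x42e) (nat_lit 0x17f17f17d180) (nat_lit 0x71681c6db65c61f51265c) .nil), (.m (nat_lit 0x482) (nat_lit 0x17c17e17d17e17e17e) (nat_lit 0x177d975b6df717713692) .nil)⟩,
  ⟨nat_lit 19, (nat_lit 461), (.m (nat_lit 0x4e0) (nat_lit 0) (nat_lit 0x187dc72159d66659b4a055d) .nil), (.m (nat_lit 0x6cf) (nat_lit 0x18017c17c17f17c) (nat_lit 0x59a89a65a6636974a751a) .nil), (.m (nat_lit 0x50a) (nat_lit 0x18017d18117e17c) (nat_lit 0x1765b71b7dd7566d6495659) .nil)⟩,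
  ⟨nat_lit 23, (nat_lit 994), (.m (nat_lit 647) (nat_lit 0x18117e18117e17d) (nat_lit 0x16696698858719598495999) .nil), (.m (nat_lit 923) (nat_lit 0x17c18018017f180) (nat_lit 0x6615a269669c616513699) .nil), (.m (nat_lit 0x4ce) (nat_lit 0x18117c17f18117d) (nat_lit 0x66369d5d76d661c49459b) .nil)⟩,
  ⟨nat_lit 234, (nat_lit 514), (.m (nat_lit 0x440) (nat_lit 0x17f17f17d) (nat_lit 0x1769a6997dd5dd812553612) .nil), (.m (nat_lit 0x476) (nat_lit 0x17d18017e17e17d17f) (nat_lit 0x71a85c61b6d87184a751a) .nil), (.m (nat_lit 0x501) (nat_lit 0x18017d18117e180) (nat_lit 0x65669a65b7576d85964944e4) .nil)⟩,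
  ⟨nat_lit 4226, (nat_lit 389), (.m (nat_lit 852) (nat_lit 0x17c17f17f18117c17f) (nat_lit 0x1a75b65d75959d697495) .nil), (.m (nat_lit 0x464) (nat_lit 0x17f18017d17e17d181) (nat_lit 0x1b5db6d671772571949489d) .nil), (.m (nat_lit 0x4e3) (nat_lit 0x17d18018018017c) (nat_lit 0x1a6a15df69c89b6d649465b) .nil)⟩,
  ⟨nat_lit 626, (nat_lit 910), (.m (nat_lit 0x4da) (nat_lit 0x17d17f17f17c) (nat_lit 0x5d95a265c81b8564948e2) .nil), (.m (nat_lit 0x6df) (nat_lit 0x17c17e17e17c17f180) (nat_lit 0x166636965a361b5d2492692) .nil), (.m (nat_lit 0x4e8) (nat_lit 0x17d18017d181) (nat_lit 0x5d86db5e195d65a59255b592) .nil)⟩,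
  ⟨nat_lit 706, (nat_lit 0x446), (.m (nat_lit 0x4d9) (nat_lit 0x17e18117c17f17c) (nat_lit 0x1a69a7d999a81d664593) .nil), (.m (nat_lit 664) (nat_lit 0x18017f18117e) (nat_lit 0x5db75f89a59671859651d59d) .nil), (.m (nat_lit 0x4d8) (nat_lit 0x17c18018017f) (nat_lit 0x5a271b65661b5dd4974a6) .nil)⟩,
  ⟨nat_lit 223, (nat_lit 5), (.m (nat_lit 922) (nat_lit 0x17c17f18117e17d180) (nat_lit 0x176577205a5998756913) .nil), (.m (nat_lit 0x474) (nat_lit 0x17c17e17d18117c17f) (nat_lit 0x175d965f759757756494496) .nil), (.m (nat_lit 0x450) (nat_lit 0x17d181) (nat_lit 0x5dc71695675661b49a5a5) .nil)⟩,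
  ⟨nat_lit 113, (nat_lit 0x44d), (.m (nat_lit 0x46c) (nat_lit 0x18118117e17e) (nat_lit 0x167e176369965761849575b) .nil), (.m (nat_lit 0x57c) (nat_lit 0x17d17f17c) (nat_lit 0x1b76265b65d75a49475a) .nil), (.m (nat_lit 861) (nat_lit 0x18017c17e17d17e) (nat_lit 0x6967618995a075b4947e3) .nil)⟩,
  ⟨nat_lit 221, (nat_lit 0x2891), (.m (nat_lit 0x4ea) (nat_lit 0) (nat_lit 0x1999c69c59a9977564954d5) .nil), (.m (nat_lit 0x4eb) (nat_lit 0x17c181) (nat_lit 0x1b7606616596df75649899c) .nil), (.m (nat_lit 0x606) (nat_lit 0x17c18017f) (nat_lit 0x177607186d76166964a4559) .nil)⟩,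
  ⟨nat_lit 255, (nat_lit 0x41cb), (.m (nat_lit 833) (nat_lit 0x17c17f18018017f) (nat_lit 0x5a25e55d75dc7e0592517752) .nil), (.m (nat_lit 0x4e6) (nat_lit 0x18117e18017d17e) (nat_lit 0x5e269a69c95785b592613893) .nil), (.m (nat_lit 882) (nat_lit 0x17c18018017c17c) (nat_lit 0x71a6a065d5df65c49489a) .nil)⟩,
  ⟨nat_lit 328, (nat_lit 0x6407), (.m (nat_lit 785) (nat_lit 0x17f17c17f) (nat_lit 0x5a061b9587606d75128e2) .nil), (.m (nat_lit 0x411) (nat_lit 0x17c180180) (nat_lit 0x8dc696662659957494623) .nil), (.m (nat_lit 0x62e) (nat_lit 0x17c18117e) (nat_lit 0x5e271b59c7db6db5d2915) .nil)⟩,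
  ⟨nat_lit 3245, (nat_lit 526), (.m (nat_lit 746) (nat_lit 0x17d18018018017f180) (nat_lit 0x6186d87e69da99949491a) .nil), (.m (nat_lit 746) (nat_lit 0x17d18117d18017f17c) (nat_lit 0x65d8e265d89b614497) .nil), (.m (nat_lit 611) (nat_lit 0x17d17e17d18117c180) (nat_lit 0x65c6d98996577584984e2) .nil)⟩,
  ⟨nat_lit 1079, (nat_lit 905), (.m (nat_lit 0x5aa) (nat_lit 0x18117e17e17c180) (nat_lit 0x5db6d899a596898592613) .nil), (.m (nat_lit 770) (nat_lit 0x17c18117d18018017d) (nat_lit 0x1965b75771675b6d74954e1) .nil), (.m (nat_lit 836) (nat_lit 0x18017e18018017c) (nat_lit 0x1681765d7636175d949b4d3) .nil)⟩,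
  ⟨nat_lit 1142, (nat_lit 331), (.m (nat_lit 946) (nat_lit 0x17c17e17d17e17d180) (nat_lit 0x6176e271c6965a1592622) .nil), (.m (nat_lit 648) (nat_lit 0x17c18018017f18117e) (nat_lit 0x167166a375781b7164d7512) .nil), (.m (nat_lit 0x42a) (nat_lit 0x17e17c18017e) (nat_lit 0x187175d969c7256174946d9) .nil)⟩,
  ⟨nat_lit 821, (nat_lit 900), (.m (nat_lit 0x4fa) (nat_lit 0) (nat_lit 0x65b59c8255986256244d5612) .nil), (.m (nat_lit 0x5ac) (nat_lit 0x18118117c17f17c) (nat_lit 0x1965a7165a68179525146d2) .nil), (.m (nat_lit 857) (nat_lit 0x17d17f17f17d18117f) (nat_lit 0x6df75d6e39d66d74945a7) .nil)⟩,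
  ⟨nat_lit 2884, (nat_lit 144), (.m (nat_lit 651) (nat_lit 0x17e17c17c17e17d17f) (nat_lit 0x61f69a59c81a721692616) .nil), (.m (nat_lit 0x4a8) (nat_lit 0x17e18117c17c17e) (nat_lit 0x99a69c81c71a85c49a517) .nil), (.m (nat_lit 853) (nat_lit 0x17c18118117d180180) (nat_lit 0x2665b59a62566049b612) .nil)⟩,
  ⟨nat_lit 478, (nat_lit 208), (.m (nat_lit 0x434) (nat_lit 0x17c18117d17f17f) (nat_lit 0x1b6db86371869a5965935d8556) .nil), (.m (nat_lit 0x454) (nat_lit 0x17d18017e17e17d) (nat_lit 0x5dd7d68199d95a05964d6657) .nil), (.m (nat_lit 0x454) (nat_lit 0x17e17c17f17d17f) (nat_lit 0x6976d78da897952694) .nil)⟩,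
  ⟨nat_lit 526, (nat_lit 0x33c8), (.m (nat_lit 781) (nat_lit 0x17e17c) (nat_lit 0x5a175b6176596d861649a553) .nil), (.m (nat_lit 0x4b3) (nat_lit 0x17f17c17f181) (nat_lit 0x186176575e566069749655f) .nil), (.m (nat_lit 0x5de) (nat_lit 0x17c17c18117d181) (nat_lit 0x6d96d971c5dd618592815) .nil)⟩,
  ⟨nat_lit 598, (nat_lit 0xe122), (.m (nat_lit 0x657) (nat_lit 0x17c17e17e17d18117d) (nat_lit 0x5dd59f81c6968595935e4) .nil), (.m (nat_lit 775) (nat_lit 0x17d18017c17f) (nat_lit 0x1696175b6db61d616494755) .nil), (.m (nat_lit 0x4fe) (nat_lit 0x17c17f18118117f17c) (nat_lit 0x6616e659a6617584a061d) .nil)⟩,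
  ⟨nat_lit 606, (nat_lit 0x3347), (.m (nat_lit 0x4c4) (nat_lit 0x18117c17f180) (nat_lit 0x65b65a65d85a7574975d3) .nil), (.m (nat_lit 0x3f8) (nat_lit 0x18017d181) (nat_lit 0x65b71965d81f652692492) .nil), (.m (nat_lit 0x66f) (nat_lit 0x17f17c17f17f) (nat_lit 0x5966225dc85c717512521) .nil)⟩,
  ⟨nat_lit 37984, (nat_lit 327), (.m (nat_lit 0x49f) (nat_lit 0x18017f) (nat_lit 0x65d7e169a7d775749a525) .nil), (.m (nat_lit 0x49f) (nat_lit 0x17f18117c17f) (nat_lit 0x66565985a5d881a59261a) .nil), (.m (nat_lit 0x44d) (nat_lit 0x17f18017f17c181) (nat_lit 0x5db89c9587d67164946e1) .nil)⟩,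
  ⟨nat_lit 1597, (nat_lit 0x44e), (.m (nat_lit 915) (nat_lit 0x17d17e18117f) (nat_lit 0x7da69d69761c8d2525552) .nil), (.m (nat_lit 0x469) (nat_lit 0x17c17e18017d18117e) (nat_lit 0x5987db6db9e3752523892) .nil), (.m (nat_lit 0x469) (nat_lit 0x17e17e17c17c18017e) (nat_lit 0x85d61c59d89975b5124a7) .nil)⟩]
theorem hsd33_0 : allL (CX.seedOK AL (nat_lit 0xffc003fffc) (nat_lit 966) (nat_lit 0x1f80cf7000035f) (nat_lit 40) (nat_lit 0xa27) (nat_lit 33)) sd33_0 = true := by decide +kernel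
def sd33_1 : List Seed := [⟨nat_lit 39862, (nat_lit 135), (.m (nat_lit 0x458) (nat_lit 0x17d18118117c17e17d) (nat_lit 0x6d675a69c65f59d592824) .nil), (.m (nat_lit 0x458) (nat_lit 0x17c17c17e18017d17e18017e) (nat_lit 0x69a61d699716598612692492) .nil), (.m (nat_lit 754) (nat_lit 0x18117d17f18017e) (nat_lit 0x1969a5e36e65e049a815) .nil)⟩,
  ⟨nat_lit 636, (nat_lit 0x3420), (.m (nat_lit 0x57e) (nat_lit 0x17c17f18117f17c) (nat_lit 0x1671669c62059971251a993) .nil), (.m (nat_lit 654) (nat_lit 0x17e17c17f17d17f) (nat_lit 0x65659871999c5e65944a7) .nil), (.m (nat_lit 0x4f6) (nat_lit 0x17c18117d181181) (nat_lit 0x1a8586e65db8e275749a655) .nil)⟩,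
  ⟨nat_lit 641, (nat_lit 0x111cb), (.m (nat_lit 0x439) (nat_lit 0x17d18017d18017d17e) (nat_lit 0x1b61b599757997616512695) .nil), (.m (nat_lit 0x47a) (nat_lit 0x17e17d17e17c) (nat_lit 0x195dd85b8266d7612496) .nil), (.m (nat_lit 0x4ef) (nat_lit 0x17f17f17d18117f) (nat_lit 0x59a81c69a81f5df49a520) .nil)⟩,
  ⟨nat_lit 658, (nat_lit 0x72d1), (.m (nat_lit 955) (nat_lit 0x18017e18017d181) (nat_lit 0x6d97db61f8d869d494518) .nil), (.m (nat_lit 955) (nat_lit 0x17c18117d18118118117c) (nat_lit 0x65b99769f9dc71c594492856) .nil), (.m (nat_lit 653) (nat_lit 0x17e17e17e17c17f17c) (nat_lit 0x266d75d87d76d669249b) .nil)⟩,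
  ⟨nat_lit 5129, (nat_lit 0xe0c8), (.m (nat_lit 0x659) (nat_lit 0x18017d18017f) (nat_lit 0x1a69c6178198606126a04d6) .nil), (.m (nat_lit 0x480) (nat_lit 0x17e17c17e) (nat_lit 0x1b7656965986d7992614) .nil), (.m (nat_lit 0x3f2) (nat_lit 0x18017c17e) (nat_lit 0x2269771869a69d8d2694) .nil)⟩,
  ⟨nat_lit 854, (nat_lit 976), (.m (nat_lit 0x598) (nat_lit 0x17c17e17d18017e181) (nat_lit 0x65b7577e09d969c5d251a) .nil), (.m (nat_lit 0x46d) (nat_lit 0x18017c17c181) (nat_lit 0x1b5a39597175db592915) .nil), (.m (nat_lit 867) (nat_lit 0x17e17d18118117c) (nat_lit 0x5a059a5e06256564a4613) .nil)⟩,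
  ⟨nat_lit 3965, (nat_lit 0x442), (.m (nat_lit 0x502) (nat_lit 0x17d18017f180) (nat_lit 0x1785c72599a6966974975db) .nil), (.m (nat_lit 952) (nat_lit 0x17e18117d) (nat_lit 0x5df69659c61f8174974e3) .nil), (.m (nat_lit 0x6ca) (nat_lit 0x18017e17e18117f) (nat_lit 0x1c72199c71869775261c512) .nil)⟩,
  ⟨nat_lit 1918, (nat_lit 899), (.m (nat_lit 0x448) (nat_lit 0x17c17f18117d181) (nat_lit 0x5e19576dd75b593) .nil), (.m (nat_lit 0x4df) (nat_lit 0x17e17d17f17d) (nat_lit 0x5d77566176a07574946d2) .nil), (.m (nat_lit 0x4ee) (nat_lit 0x17c18117e17c180) (nat_lit 0x6d96e26dd8dd8174d75dc) .nil)⟩,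
  ⟨nat_lit 875, (nat_lit 0x608d), (.m (nat_lit 0x4fc) (nat_lit 0) (nat_lit 0x1671c61c61769d49b5e2) .nil), (.m (nat_lit 0x4c3) (nat_lit 0x17f18117c17f) (nat_lit 0x6dc65a6266d76d6512817) .nil), (.m (nat_lit 0x5d8) (nat_lit 0x180180180) (nat_lit 0x178177596967186d35d8993) .nil)⟩,
  ⟨nat_lit 17206, (nat_lit 0x810e), (.m (nat_lit 0x655) (nat_lit 0x17c181181) (nat_lit 0x175e0721721599592552912) .nil), (.m (nat_lit 818) (nat_lit 0x17c18017d17e18017e) (nat_lit 0x59a6177d79585d949a695) .nil), (.m (nat_lit 818) (nat_lit 0x17d17e18117e18017c) (nat_lit 0x65b7dd66265d61c4d7626) .nil)⟩,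
  ⟨nat_lit 6921, (nat_lit 336), (.m (nat_lit 0x47b) (nat_lit 0x17c17f17f17c18017e) (nat_lit 0x1a65c5dd75d5d86d65944a1) .nil), (.m (nat_lit 756) (nat_lit 0x17c18017c17e) (nat_lit 0x69d99d6629dc6165925a5) .nil), (.m (nat_lit 0x4de) (nat_lit 0x17e17d17e18017d) (nat_lit 0x1a65a61695675a8584945a7) .nil)⟩,
  ⟨nat_lit 8873, (nat_lit 0x83df), (.m (nat_lit 0x6c8) (nat_lit 0x17f18017c17e17e17d) (nat_lit 0x1a8175d76dd99975749475b) .nil), (.m (nat_lit 0x466) (nat_lit 0x17c18117e18017d180) (nat_lit 0x1b61a8d896662159291a) .nil), (.m (nat_lit 0x467) (nat_lit 0x17c17e17d18117e) (nat_lit 0x1b5da759727626957498) .nil)⟩,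
  ⟨nat_lit 1078, (nat_lit 644), (.m (nat_lit 669) (nat_lit 0x17f17c18117c181) (nat_lit 0x1b76575889b7566126a2) .nil), (.m (nat_lit 863) (nat_lit 0x17e17d) (nat_lit 0x7567189575e6612556552) .nil), (.m (nat_lit 0x6c4) (nat_lit 0x17f18017d18017e17e) (nat_lit 0x1a8a55a67567188526d8893) .nil)⟩,
  ⟨nat_lit 3707, (nat_lit 0x443), (.m (nat_lit 666) (nat_lit 0x17c18118117c181) (nat_lit 0x196967175d969681949a694) .nil), (.m (nat_lit 956) (nat_lit 0x17c17c18117e17d17e180) (nat_lit 0x65c5e066265d5da5936d3) .nil), (.m (nat_lit 666) (nat_lit 0x17d18017d18017c17c17e) (nat_lit 0x59b61c8dc71675a495498) .nil)⟩,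
  ⟨nat_lit 2406, (nat_lit 0x4383), (.m (nat_lit 0x5c2) (nat_lit 0x17c17f17d180180) (nat_lit 0x167655df75d5df712496) .nil), (.m (nat_lit 0x46f) (nat_lit 0x17c17e17c17c180) (nat_lit 0x1882175669971c596494917) .nil), (.m (nat_lit 0x3fa) (nat_lit 0x18117f) (nat_lit 0x6a565999b6e559a6164954da) .nil)⟩,
  ⟨nat_lit 1243, (nat_lit 142), (.m (nat_lit 0x4ec) (nat_lit 0x17d18118117d180) (nat_lit 0x167635a276375b596496512) .nil), (.m (nat_lit 908) (nat_lit 0x17f17c18117e) (nat_lit 0x6989579988a35d95944a0893) .nil), (.m (nat_lit 0x509) (nat_lit 0x17d17e18017e181) (nat_lit 0x1975d95d65f8186d849571a) .nil)⟩,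
  ⟨nat_lit 1762, (nat_lit 643), (.m (nat_lit 0x475) (nat_lit 0x17f18018017f17d) (nat_lit 0x185a585676765659261c492) .nil), (.m (nat_lit 0x4cf) (nat_lit 0x17e18117d180180) (nat_lit 0x1f5db6e06df757652917) .nil), (.m (nat_lit 0x456) (nat_lit 0x18118117e180) (nat_lit 0x69872669a8198564945db) .nil)⟩,
  ⟨nat_lit 1375, (nat_lit 0x382088), (.m (nat_lit 590) (nat_lit 0x18117d180) (nat_lit 0x1675869995d76271749a762) .nil), (.m (nat_lit 0x58c) (nat_lit 385) (nat_lit 0x1859a7d75e1625712559656) .nil), (.m (nat_lit 0x678) (nat_lit 0x17d180) (nat_lit 0x61675971b8655e549899c) .nil)⟩,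
  ⟨nat_lit 102080, (nat_lit 0xf082), (.m (nat_lit 0x442) (nat_lit 0x17c17e17e17d18017f) (nat_lit 0x1985b6236187187164945a1) .nil), (.m (nat_lit 820) (nat_lit 0x17c18117c17c180180) (nat_lit 0x6db6176a269c4924a4) .nil), (.m (nat_lit 0x590) (nat_lit 0x17c18017f18117f180) (nat_lit 0x187195a569a61b654756) .nil)⟩,
  ⟨nat_lit 17701, (nat_lit 0x27cf), (.m (nat_lit 0x6b4) (nat_lit 0x17c17c18017f17f) (nat_lit 0x5966a65da75b6565925195d2) .nil), (.m (nat_lit 0x6b4) (nat_lit 0x17c17e180180180) (nat_lit 0x6175e16e05d9656492497) .nil), (.m (nat_lit 906) (nat_lit 0x17d17f17f) (nat_lit 0x6e26995d75dc71b495657) .nil)⟩,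
  ⟨nat_lit 1936, (nat_lit 0xe0d1), (.m (nat_lit 0x4a3) (nat_lit 0x17c17e17d18017c17e) (nat_lit 0x1a5a369a697612523893) .nil), (.m (nat_lit 0x4a3) (nat_lit 0x17c18017c17c17f181) (nat_lit 0x165a175d6e77dd6d649a558) .nil), (.m (nat_lit 0x430) (nat_lit 0x18018017e17c) (nat_lit 0x99c5dd8a76e35d8496918) .nil)⟩,
  ⟨nat_lit 2149, (nat_lit 0xc6449), (.m (nat_lit 0x62b) (nat_lit 0x17c180180) (nat_lit 0x61b71771c95659649449d) .nil), (.m (nat_lit 584) (nat_lit 0x17f17d180) (nat_lit 0x1b5d959b71a71c7d2523) .nil), (.m (nat_lit 0x4f8) (nat_lit 0x18117c17f) (nat_lit 0x1b99775d5e65da5125e3) .nil)⟩,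
  ⟨nat_lit 13638, (nat_lit 0x2283), (.m (nat_lit 816) (nat_lit 0x17e17d18117f) (nat_lit 0x69966375d95899a59255d612) .nil), (.m (nat_lit 0x4ad) (nat_lit 0x17d18017e17c) (nat_lit 0x1771971b65f66149249b) .nil), (.m (nat_lit 0x484) (nat_lit 0x17c17f18018017f) (nat_lit 0x8178da69d69a618495595) .nil)⟩,
  ⟨nat_lit 2432, (nat_lit 0x28e24a), (.m (nat_lit 596) (nat_lit 0x18017f17f) (nat_lit 0x65d75b7e58596d95934d3) .nil), (.m (nat_lit 0x5c6) (nat_lit 0x17e17e) (nat_lit 0x66565c7db61c9976d44d7692) .nil), (.m (nat_lit 0x70b) (nat_lit 0x18017f17c) (nat_lit 0x1d61d61a8186224944db) .nil)⟩,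
  ⟨nat_lit 5090, (nat_lit 0x10e451), (.m (nat_lit 0x4bb) (nat_lit 380) (nat_lit 0x198197666e76e3756494958) .nil), (.m (nat_lit 0x5c5) (nat_lit 0x17e17c180) (nat_lit 0x62181975d5db7584924a6) .nil), (.m (nat_lit 0x3fc) (nat_lit 0x17f18017f) (nat_lit 0x1981f75b865596494652) .nil)⟩]
theorem hsd33_1 : allL (CX.seedOK AL (nat_lit 0xffc003fffc) (nat_lit 966) (nat_lit 0x1f80cf7000035f) (nat_lit 40) (nat_lit 0xa27) (nat_lit 33)) sd33_1 = true := by decide +kernel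
theorem cov33 : CovOK CX AL (nat_lit 30) (nat_lit 0xffc003fffc) (nat_lit 137632) (nat_lit 966) (nat_lit 0x1f80cf7000035f) (nat_lit 40) (nat_lit 0xa27) (nat_lit 33) :=
  ⟨[sd33_0, sd33_1], [nat_lit 190, nat_lit 191, nat_lit 192], [nat_lit 0x84c86634f34a30228584e302, nat_lit 0x28c40a9908a310898328a, nat_lit 0x32084c8e53ca2830de30e], [nat_lit 0, nat_lit 2, nat_lit 4, nat_lit 0, nat_lit 2, nat_lit 4, nat_lit 0, nat_lit 2, nat_lit 4, nat_lit 0, nat_lit 2, nat_lit 4, nat_lit 0, nat_lit 2, nat_lit 4, nat_lit 0, nat_lit 2, nat_lit 4, nat_lit 0, nat_lit 0], allc hsd33_0 <| all1 hsd33_1, by decide +kernel, by decide +kernel⟩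
def T33_0 : Lev := ⟨nat_lit 440, nat_lit 14400, [nat_lit 0x84c86634f34a30228584e302, nat_lit 0x28c40a9908a310898328a, nat_lit 0x32084c8e53ca2830de30e], [nat_lit 0, nat_lit 2, nat_lit 4, nat_lit 0, nat_lit 2, nat_lit 4, nat_lit 0, nat_lit 2, nat_lit 4, nat_lit 0, nat_lit 2, nat_lit 4, nat_lit 0, nat_lit 2, nat_lit 4, nat_lit 0, nat_lit 2, nat_lit 4, nat_lit 0, nat_lit 0]⟩
theorem hT33_0 : levOK AL (nat_lit 30) (nat_lit 0xffc003fffc) T33_0 = true := by decide +kernel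
theorem chT33 : ChOK CX AL (nat_lit 30) (nat_lit 0xffc003fffc) (nat_lit 966) (nat_lit 33) (nat_lit 14400) :=
  ⟨[T33_0], [nat_lit 190, nat_lit 191, nat_lit 192], by decide +kernel, all1 hT33_0, by decide +kernel, by decide +kernel⟩
def sd34_0 : List Seed := [⟨nat_lit 0, (nat_lit 0), (.m (nat_lit 391) (nat_lit 0) (nat_lit 0) .nil), (.m (nat_lit 586) (nat_lit 0x1a41a01a01a4) (nat_lit 0x6216d8897865716492595) .nil), (.m (nat_lit 0x51a) (nat_lit 0x1a01a01a0) (nat_lit 0x265da89c6186224d761b) .nil)⟩,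
  ⟨nat_lit 2, (nat_lit 4), (.m (nat_lit 609) (nat_lit 0x1a01a31a41a01a21a41a3) (nat_lit 0x1b5a265c5a659c5d84945e7) .nil), (.m (nat_lit 0x485) (nat_lit 0x1a21a21a51a11a11a41a41a0) (nat_lit 0x1a8976e16d79985d7513699) .nil), (.m (nat_lit 822) (nat_lit 0x1a11a11a51a01a21a11a1) (nat_lit 0x5da8576a575761649559a) .nil)⟩,
  ⟨nat_lit 9, (nat_lit 456), (.m (nat_lit 0x568) (nat_lit 0x1a11a31a41a0) (nat_lit 0x1785b65f69c8dc5d45d3) .nil), (.m (nat_lit 603) (nat_lit 0x1a41a11a1) (nat_lit 0x1665a95659b6d8698494918) .nil), (.m (nat_lit 0x557) (nat_lit 0x1a01a21a01a01a3) (nat_lit 0x1b6d761d5d785c59649a652) .nil)⟩,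
  ⟨nat_lit 13, (nat_lit 204), (.m (nat_lit 0x548) (nat_lit 0x1a21a51a21a01a4) (nat_lit 0x6d659859971a8175d2553853) .nil), (.m (nat_lit 0x518) (nat_lit 0x1a01a01a01a51a11a11a5) (nat_lit 0x71875d6e66225d94946d2) .nil), (.m (nat_lit 0x518) (nat_lit 0x1a11a11a51a31a5) (nat_lit 0x6dd6d77d685b999495813) .nil)⟩,
  ⟨nat_lit 21, (nat_lit 8), (.m (nat_lit 665) (nat_lit 0x1a11a21a11a41a21a11a4) (nat_lit 0x1666159c8a75d75d36d3) .nil), (.m (nat_lit 665) (nat_lit 0x1a01a21a11a41a21a01a21a2) (nat_lit 0x69a75699a71f72161471c5d2) .nil), (.m (nat_lit 665) (nat_lit 0x1a11a11a31a51a51a11a3) (nat_lit 0x1761b7e265c5e549b5e2) .nil)⟩,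
  ⟨nat_lit 6170, (nat_lit 133), (.m (nat_lit 605) (nat_lit 0x1a01a21a51a31a5) (nat_lit 0x5e669862671861b592614) .nil), (.m (nat_lit 0x6e6) (nat_lit 0x1a01a21a51a21a41a1) (nat_lit 0x95672672561b5d8498517) .nil), (.m (nat_lit 0x6e6) (nat_lit 0x1a01a31a41a01a21a51a5) (nat_lit 0x6d76db6e359b99251f8d2) .nil)⟩,
  ⟨nat_lit 53, (nat_lit 907), (.m (nat_lit 0x5b7) (nat_lit 0x1a21a11a31a0) (nat_lit 0x16997718959723596494715) .nil), (.m (nat_lit 0x4b2) (nat_lit 0x1a21a41a41a01a31a5) (nat_lit 0x6217636d8717616596494623) .nil), (.m (nat_lit 773) (nat_lit 0x1a11a21a01a21a41a31a5) (nat_lit 0x186e37185a799869649285c) .nil)⟩,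
  ⟨nat_lit 373, (nat_lit 968), (.m (nat_lit 909) (nat_lit 0x1a01a31a11a51a01a51a2) (nat_lit 0x61b5e565f7626205d2613) .nil), (.m (nat_lit 909) (nat_lit 0x1a11a41a21a51a31a41a4) (nat_lit 0x61a6997e07176d8592512) .nil), (.m (nat_lit 0x506) (nat_lit 0x1a01a31a41a01a01a4) (nat_lit 0x1669a85769c9635964d7616) .nil)⟩,
  ⟨nat_lit 131, (nat_lit 134), (.m (nat_lit 0x514) (nat_lit 0x1a31a01a5) (nat_lit 0x1a9967215dd6634954dc) .nil), (.m (nat_lit 0x41f) (nat_lit 0x1a21a01a2) (nat_lit 0x1b7568266a76968564a06d9) .nil), (.m (nat_lit 0x514) (nat_lit 0x1a01a31a1) (nat_lit 0x62599771c71a81b592695552) .nil)⟩,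
  ⟨nat_lit 123, (nat_lit 0x30d0), (.m (nat_lit 0x516) (nat_lit 0) (nat_lit 0x1869c7d659959b65749a759) .nil), (.m (nat_lit 0x516) (nat_lit 0x1a01a51a51a51a0) (nat_lit 0x199988186225d959649559c) .nil), (.m (nat_lit 0x516) (nat_lit 0x1a01a01a41a21a11a4) (nat_lit 0x167186167576657564944a4) .nil)⟩,
  ⟨nat_lit 270, (nat_lit 137), (.m (nat_lit 0x5e0) (nat_lit 0x1a21a51a21a01a01a2) (nat_lit 0x66561871a96059d5d2492712) .nil), (.m (nat_lit 588) (nat_lit 0x1a11a31a01a31a51a2) (nat_lit 0x61869f6985da8964974d7) .nil), (.m (nat_lit 0x5e0) (nat_lit 0x1a01a21a01a41a21a01a3) (nat_lit 0x1a69795a69c5996564954d6) .nil)⟩,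
  ⟨nat_lit 2240, (nat_lit 642), (.m (nat_lit 670) (nat_lit 0x1a31a01a41a01a01a4) (nat_lit 0x6db5e36169a05d7494513) .nil), (.m (nat_lit 948) (nat_lit 0x1a41a41a11a21a41a4) (nat_lit 0x7586a26db8d98144d7692) .nil), (.m (nat_lit 670) (nat_lit 0x1a31a51a51a21a4) (nat_lit 0x1b65c61a8a67da5964954a4) .nil)⟩]
theorem hsd34_0 : allL (CX.seedOK AL (nat_lit 0xffc003fffc) (nat_lit 966) (nat_lit 0x1f80cf7000035f) (nat_lit 40) (nat_lit 0xa27) (nat_lit 34)) sd34_0 = true := by decide +kernel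
theorem cov34 : CovOK CX AL (nat_lit 30) (nat_lit 0xffc003fffc) (nat_lit 137632) (nat_lit 966) (nat_lit 0x1f80cf7000035f) (nat_lit 40) (nat_lit 0xa27) (nat_lit 34) :=
  ⟨[sd34_0], [nat_lit 208, nat_lit 209, nat_lit 210], [nat_lit 0x2cd3cb80f30f40f0d110b807386, nat_lit 0x29e7cc38a89f3cd0872cb344345, nat_lit 0x2cd3913de3ca4200ce18f242182], [nat_lit 0, nat_lit 2, nat_lit 4, nat_lit 0, nat_lit 2, nat_lit 4, nat_lit 0, nat_lit 2, nat_lit 4, nat_lit 0, nat_lit 2, nat_lit 4, nat_lit 0, nat_lit 2, nat_lit 4, nat_lit 0, nat_lit 2, nat_lit 4, nat_lit 0, nat_lit 2, nat_lit 4, nat_lit 0, nat_lit 0], all1 hsd34_0, by decide +kernel, by decide +kernel⟩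
def T34_0 : Lev := ⟨nat_lit 2, nat_lit 64512, [nat_lit 0x2cd3cb80f30f40f0d110b807386, nat_lit 0x29e7cc38a89f3cd0872cb344345, nat_lit 0x2cd3913de3ca4200ce18f242182], [nat_lit 0, nat_lit 2, nat_lit 4, nat_lit 0, nat_lit 2, nat_lit 4, nat_lit 0, nat_lit 2, nat_lit 4, nat_lit 0, nat_lit 2, nat_lit 4, nat_lit 0, nat_lit 2, nat_lit 4, nat_lit 0, nat_lit 2, nat_lit 4, nat_lit 0, nat_lit 2, nat_lit 4, nat_lit 0, nat_lit 0]⟩
theorem hT34_0 : levOK AL (nat_lit 30) (nat_lit 0xffc003fffc) T34_0 = true := by decide +kernel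
def T34_1 : Lev := ⟨nat_lit 3, nat_lit 12, [nat_lit 0x84e81f8637912c218321f8c2, nat_lit 0x8909612ce2c4885791], [nat_lit 0, nat_lit 2, nat_lit 0, nat_lit 2, nat_lit 0]⟩
theorem hT34_1 : levOK AL (nat_lit 30) (nat_lit 0xffc003fffc) T34_1 = true := by decide +kernel
theorem chT34 : ChOK CX AL (nat_lit 30) (nat_lit 0xffc003fffc) (nat_lit 966) (nat_lit 34) (nat_lit 774144) :=
  ⟨[T34_0, T34_1], [nat_lit 208, nat_lit 209, nat_lit 210, nat_lit 938, nat_lit 939], by decide +kernel, allc hT34_0 <| all1 hT34_1, by decide +kernel, by decide +kernel⟩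
def sd35_0 : List Seed := [⟨nat_lit 0, (nat_lit 0), (.m (nat_lit 423) (nat_lit 0) (nat_lit 0) .nil), (.m (nat_lit 963) (nat_lit 0) (nat_lit 0x168dc5e665c6d7717498512) .nil), (.m (nat_lit 0x51b) (nat_lit 696) (nat_lit 0x187dc8a566769661649749a) .nil)⟩,
  ⟨nat_lit 1, (nat_lit 13), (.m (nat_lit 0x592) (nat_lit 0x2b82b82b82bd2ba2bc2b8) (nat_lit 0x59869c6975d77624948d2) .nil), (.m (nat_lit 0x4fb) (nat_lit 0x2b82bc2bb2bd2bb2bc) (nat_lit 0x6d861a5a16a6594494953) .nil), (.m (nat_lit 875) (nat_lit 0x2b82bc2bc2bc2bb2bb) (nat_lit 0x65f7665d789d59281b) .nil)⟩,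
  ⟨nat_lit 2, (nat_lit 4), (.m (nat_lit 764) (nat_lit 0x2b82bd2bd2bb2b92bc) (nat_lit 0x61f65d5a07d87184954d8) .nil), (.m (nat_lit 0x4e2) (nat_lit 0x2b82b82bd2bd2b92bb2bb) (nat_lit 0x69971a7e171895d592516) .nil), (.m (nat_lit 0x4a9) (nat_lit 0x2b82ba2ba2b92b92bb2b9) (nat_lit 0x65b65f62071a75a5d44a4) .nil)⟩,
  ⟨nat_lit 3, (nat_lit 12), (.m (nat_lit 0x471) (nat_lit 0x2b82b82bb2bd2bb2bc2b8) (nat_lit 0x69f6dd59d9967184da553) .nil), (.m (nat_lit 0x4c0) (nat_lit 0x2b82b82b82b82bc2bb2bd) (nat_lit 0x1b6db61c867718756918516) .nil), (.m (nat_lit 0x4a2) (nat_lit 0x2b82b82b82bb2bb2bc) (nat_lit 0x6dd7dd59a96161749471c) .nil)⟩,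
  ⟨nat_lit 6, (nat_lit 9), (.m (nat_lit 0x682) (nat_lit 0) (nat_lit 0x1861f7168da8217564d761f) .nil), (.m (nat_lit 0x413) (nat_lit 0x2b82b82b82ba) (nat_lit 0x65c6d771c8a07db5d24a1) .nil), (.m (nat_lit 0x4c5) (nat_lit 0x2b82bc2bc2b8) (nat_lit 0x167dc7186987db49b) .nil)⟩,
  ⟨nat_lit 8, (nat_lit 3), (.m (nat_lit 0x49e) (nat_lit 0x2bb2b92bd2ba2bd) (nat_lit 0x1b7d96d7758996692512513) .nil), (.m (nat_lit 0x41d) (nat_lit 0x2b82b82bd2b82b82b8) (nat_lit 0x6999998dc59b5d95964944a4) .nil), (.m (nat_lit 0x4f0) (nat_lit 0x2b82bb2b82bb2bc2b8) (nat_lit 0x185db8195d97175d3) .nil)⟩,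
  ⟨nat_lit 9, (nat_lit 456), (.m (nat_lit 0x5cb) (nat_lit 0x2b82b82b82ba2bd) (nat_lit 0x61b95671761881f592813652) .nil), (.m (nat_lit 897) (nat_lit 0x2b92bd2bb2bc) (nat_lit 0x168177578a575f65649849f) .nil), (.m (nat_lit 0x486) (nat_lit 0x2bb2bd2bb2bd) (nat_lit 0x59a5967d872562549b61b) .nil)⟩,
  ⟨nat_lit 10, (nat_lit 198), (.m (nat_lit 0x594) (nat_lit 0x2b82bc2bb2bb2bc) (nat_lit 0x1d7d66997578da5d4492) .nil), (.m (nat_lit 0x45a) (nat_lit 0x2b82b82bc2bc2ba2b8) (nat_lit 0x6969986db5e6665664615) .nil), (.m (nat_lit 0x48d) (nat_lit 0x2b82ba2bd2bd2bd2ba) (nat_lit 0x6666a666171b5d85d25a5) .nil)⟩,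
  ⟨nat_lit 13, (nat_lit 204), (.m (nat_lit 0x50c) (nat_lit 0x2ba2bc2b92ba2bc) (nat_lit 0x2066659d75965f692523893) .nil), (.m (nat_lit 0x6f1) (nat_lit 0x2bd2ba2ba) (nat_lit 0x59685b7e159a816592492712) .nil), (.m (nat_lit 0x50c) (nat_lit 0x2b82b82b82b82bd2bd) (nat_lit 0x61c5db75762599b49a65b) .nil)⟩,
  ⟨nat_lit 25, (nat_lit 17), (.m (nat_lit 0x6fc) (nat_lit 0x2b92b92bb2bc) (nat_lit 0x1b7db95d61b8966164a751a) .nil), (.m (nat_lit 0x51d) (nat_lit 0x2b82bc) (nat_lit 0x1895861671f65d6d749a712) .nil), (.m (nat_lit 0x4db) (nat_lit 0x2bd2bd2bb) (nat_lit 0x7d68255987d659b49871c) .nil)⟩,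
  ⟨nat_lit 21, (nat_lit 8), (.m (nat_lit 0x6b6) (nat_lit 0x2b82ba2b82ba2bc2bb2b9) (nat_lit 0x1a99c7d965b6165985925149da) .nil), (.m (nat_lit 0x50d) (nat_lit 0x2b82ba2b92bb2bc2b8) (nat_lit 0x1969f65c5a37177dd512627) .nil), (.m (nat_lit 0x4be) (nat_lit 0x2b92ba2b92bb) (nat_lit 0x5a25db865618816495498) .nil)⟩,
  ⟨nat_lit 223, (nat_lit 5), (.m (nat_lit 0x6a9) (nat_lit 0x2b92bb2b82b82bb) (nat_lit 0x59c5986d861765a594499) .nil), (.m (nat_lit 879) (nat_lit 0x2b82ba2ba2b92bb2bc) (nat_lit 0x1965669d7d7718494518) .nil), (.m (nat_lit 0x47d) (nat_lit 0x2ba2b82bc2b8) (nat_lit 0x61c62169c71a7594954e2) .nil)⟩,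
  ⟨nat_lit 208, (nat_lit 903), (.m (nat_lit 0x478) (nat_lit 0x2bb2b82bd2ba2b9) (nat_lit 0x165a669c7255dc7164954d5) .nil), (.m (nat_lit 0x49d) (nat_lit 0x2bc2ba2bd2b82b8) (nat_lit 0x62071869a723656494918) .nil), (.m (nat_lit 0x47e) (nat_lit 0x2b82bd2b92ba2b92bd) (nat_lit 0x1b6d69976d77264925d5) .nil)⟩,
  ⟨nat_lit 65, (nat_lit 774), (.m (nat_lit 920) (nat_lit 0x2b82bc2b92b92bd) (nat_lit 0x185db89a75971c8d3595) .nil), (.m (nat_lit 0x4af) (nat_lit 0x2b82bb2bc2b92bd) (nat_lit 0x5df5e66d889b659494954) .nil), (.m (nat_lit 895) (nat_lit 0x2b92bb2bc2ba) (nat_lit 0x197586e361f718494713) .nil)⟩,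
  ⟨nat_lit 268, (nat_lit 772), (.m (nat_lit 0x49b) (nat_lit 0x2b82b82ba2b82bc2bb) (nat_lit 0x69665b65a99a65a59649575b) .nil), (.m (nat_lit 0x500) (nat_lit 0x2ba2b82bb2bd2ba) (nat_lit 0x1959a6a16658d66965135dd) .nil), (.m (nat_lit 0x4b0) (nat_lit 0x2bb2bc2ba2b9) (nat_lit 0x99d5e15e159d752559692) .nil)⟩,
  ⟨nat_lit 75, (nat_lit 0x2122), (.m (nat_lit 0x4e9) (nat_lit 0x2bc2b92ba2bc) (nat_lit 0x189595dd61d59c69c5926d86d3) .nil), (.m (nat_lit 0x702) (nat_lit 0x2bd2b82bd) (nat_lit 0x1889785a75a6965925218d2) .nil), (.m (nat_lit 0x51c) (nat_lit 0x2b82bd2b8) (nat_lit 0x7566dd6e269681649461a) .nil)⟩,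
  ⟨nat_lit 93, (nat_lit 0x219e), (.m (nat_lit 0x519) (nat_lit 0x2b82bd2bd2bd) (nat_lit 0x5dd61a5dd75d61f592556553) .nil), (.m (nat_lit 0x555) (nat_lit 0x2b82b82bb2b9) (nat_lit 0x198226d9727852695) .nil), (.m (nat_lit 0x526) (nat_lit 0x2b82bb2bd) (nat_lit 0x1b6e06d9866599696513) .nil)⟩,
  ⟨nat_lit 104, (nat_lit 0x31e7), (.m (nat_lit 0x4bd) (nat_lit 0x2b82b82bd2ba2b92b9) (nat_lit 0x1a7d76e06db5995d24a1) .nil), (.m (nat_lit 0x6f3) (nat_lit 0x2b82bb2bc2bb2bc) (nat_lit 0x61681c5e19665dc5925948d2) .nil), (.m (nat_lit 0x433) (nat_lit 0x2b92b92bb2bb) (nat_lit 0x6966989985997da59651c61a) .nil)⟩,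
  ⟨nat_lit 112, (nat_lit 132), (.m (nat_lit 0x6b2) (nat_lit 0x2bd2ba2ba) (nat_lit 0x6215db6db75799d4d9498) .nil), (.m (nat_lit 0x6b2) (nat_lit 0x2b82bc2bc2bc) (nat_lit 0x85a59675f5d87d749449c) .nil), (.m (nat_lit 0x4cc) (nat_lit 0x2bb2bc2b92bc) (nat_lit 0x1696665d69a69c5964a7516) .nil)⟩,
  ⟨nat_lit 348, (nat_lit 386), (.m (nat_lit 0x51e) (nat_lit 0x2bc2b9) (nat_lit 0x69d76389959c61b5d255b) .nil), (.m (nat_lit 0x51e) (nat_lit 0x2b82bb2bd) (nat_lit 0x7165a07216a259a4db) .nil), (.m (nat_lit 0x517) (nat_lit 0x2b82bb2b9) (nat_lit 0x6a599a6187da8d849a6a7) .nil)⟩,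
  ⟨nat_lit 155, (nat_lit 904), (.m (nat_lit 0x4a6) (nat_lit 0x2b92bd2ba2bc) (nat_lit 0x6598176dd6255d749449c) .nil), (.m (nat_lit 0x5d4) (nat_lit 0x2bb2b82bc2b92bd) (nat_lit 0x1a6266d77225df717494892) .nil), (.m (nat_lit 891) (nat_lit 0x2b82bc2bc2bb2bb) (nat_lit 0x1675b6605da81b75649b519) .nil)⟩,
  ⟨nat_lit 242, (nat_lit 0x449), (.m (nat_lit 0x520) (nat_lit 0) (nat_lit 0x1b65661b61c599992559) .nil), (.m (nat_lit 0x5ff) (nat_lit 0x2bc2b9) (nat_lit 0x1b6d761b8e55dd512521) .nil), (.m (nat_lit 0x520) (nat_lit 0x2b82ba2ba2ba2b9) (nat_lit 0x5d97576d896281d49a815) .nil)⟩,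
  ⟨nat_lit 254, (nat_lit 259), (.m (nat_lit 0x522) (nat_lit 0) (nat_lit 0x1a5d775f85681c6974954e7) .nil), (.m (nat_lit 0x686) (nat_lit 0x2b82bb2bb) (nat_lit 0x1969d85b61c5a66125178d3) .nil), (.m (nat_lit 0x421) (nat_lit 0x2b82bd) (nat_lit 0x1659671871875659649451b) .nil)⟩,
  ⟨nat_lit 3965, (nat_lit 0x442), (.m (nat_lit 0x436) (nat_lit 0x2b82b82bd2b92bc2b92bc2ba) (nat_lit 0x1a7e15d775d65a716494623) .nil), (.m (nat_lit 0x468) (nat_lit 0x2b92bb2b92bd2bd2ba) (nat_lit 0x69a8d66e5657654718592) .nil), (.m (nat_lit 0x460) (nat_lit 0x2b82bb2bd2b92bc2b82bb) (nat_lit 0x71a61d5a77db6d2696813) .nil)⟩,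
  ⟨nat_lit 330, (nat_lit 0x2190), (.m (nat_lit 0x48b) (nat_lit 0x2bd2ba2bc2b9) (nat_lit 0x1b5db6dd75859b652523893) .nil), (.m (nat_lit 0x4e5) (nat_lit 0x2b82bc2bc2bb2bb2bd) (nat_lit 0x1675a69972585b91665b) .nil), (.m (nat_lit 0x48b) (nat_lit 0x2b82bb2bc2ba2bd2bd) (nat_lit 0x6636a15d75dc898592559) .nil)⟩,
  ⟨nat_lit 336, (nat_lit 0xf84a), (.m (nat_lit 0x5ed) (nat_lit 0x2ba2b82bc2b8) (nat_lit 0x1a71b61d5db5966565924925d2) .nil), (.m (nat_lit 0x4dd) (nat_lit 0x2b82ba2b9) (nat_lit 0x1f8a56598976966d25186d2) .nil), (.m (nat_lit 0x4d1) (nat_lit 0x2ba2bc) (nat_lit 0x5a17626966a069d5964d7620) .nil)⟩,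
  ⟨nat_lit 449, (nat_lit 0x3249), (.m (nat_lit 0x473) (nat_lit 0x2bc2bb2b82b82ba) (nat_lit 0x1a5d88a569a72581651c717) .nil), (.m (nat_lit 0x462) (nat_lit 0x2bd2b82bd2b92bc2b9) (nat_lit 0x5e26998db6d77e051d59c) .nil), (.m (nat_lit 0x462) (nat_lit 0x2b92bb2bc2b82ba2bd2b8) (nat_lit 0x6d771671862271c592555) .nil)⟩,
  ⟨nat_lit 3217, (nat_lit 387), (.m (nat_lit 760) (nat_lit 0x2b82bd2b82bd2b92b9) (nat_lit 0x265da95d59a6565945d3652) .nil), (.m (nat_lit 0x46a) (nat_lit 0x2b92b92bd2bd2b82ba) (nat_lit 0x5996e295671b61255b) .nil), (.m (nat_lit 865) (nat_lit 0x2b82bd2bd2ba2b92b9) (nat_lit 0x59d5d79978565995964a061d) .nil)⟩,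
  ⟨nat_lit 1079, (nat_lit 905), (.m (nat_lit 0x43d) (nat_lit 0x2b92bb2bb) (nat_lit 0x5e27587dc7198d6494717) .nil), (.m (nat_lit 0x49c) (nat_lit 0x2b82ba2bc2ba2ba2bd2b9) (nat_lit 0x1765c65b65b6d9497563) .nil), (.m (nat_lit 0x49c) (nat_lit 0x2b82bc2b82bd2b92bd2b9) (nat_lit 0x185e5759667817494718) .nil)⟩]
theorem hsd35_0 : allL (CX.seedOK AL (nat_lit 0xffc003fffc) (nat_lit 966) (nat_lit 0x1f80cf7000035f) (nat_lit 40) (nat_lit 0xa27) (nat_lit 35)) sd35_0 = true := by decide +kernel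
def sd35_1 : List Seed := [⟨nat_lit 37984, (nat_lit 327), (.m (nat_lit 0x426) (nat_lit 0x2bc2ba2bc2bc2ba) (nat_lit 0x1a69a9996db99b59849a) .nil), (.m (nat_lit 0x42b) (nat_lit 0x2b82ba2b92bc2b92bc2bb) (nat_lit 0x59d5a176061a7585d2923) .nil), (.m (nat_lit 0x42b) (nat_lit 0x2b82b82bb2b82bc2b92bc2b8) (nat_lit 0x6db725858998617512627) .nil)⟩,
  ⟨nat_lit 1918, (nat_lit 899), (.m (nat_lit 0x4a0) (nat_lit 0x2ba2b82b82b82b82bb2bb) (nat_lit 0x66399859895795a51c61c) .nil), (.m (nat_lit 0x4a0) (nat_lit 0x2b82b82bc2bc2b82b82ba2b8) (nat_lit 0x6df75975d8e28595926d8) .nil), (.m (nat_lit 0x6bc) (nat_lit 0x2bd2ba2bc2bb2bd) (nat_lit 0x5db65b75785675b592917) .nil)⟩,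
  ⟨nat_lit 628, (nat_lit 912), (.m (nat_lit 0x453) (nat_lit 0x2ba2bc2ba2ba2bd) (nat_lit 0x61c5e565a71859c596494598) .nil), (.m (nat_lit 0x4f2) (nat_lit 0x2b92bd2bd2bd2bb) (nat_lit 0x65a85a5965a6759512624) .nil), (.m (nat_lit 0x4f2) (nat_lit 0x2b92bd2bd2bb2bc2bc) (nat_lit 0x69d99861c7dc59669649a815) .nil)⟩,
  ⟨nat_lit 1142, (nat_lit 331), (.m (nat_lit 0x4b7) (nat_lit 0x2b82bd2b82bd2bb) (nat_lit 0x179998dd5d9666612512512) .nil), (.m (nat_lit 0x504) (nat_lit 0x2b82bc2bc2bc2bb) (nat_lit 0x2671f6a05e05d24a4) .nil), (.m (nat_lit 0x596) (nat_lit 0x2ba2bc2bb2bd2ba) (nat_lit 0x1a5987176e38a0756494667) .nil)⟩,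
  ⟨nat_lit 748, (nat_lit 0x2346), (.m (nat_lit 0x4f4) (nat_lit 0x2b92b92bd2bd2bd) (nat_lit 0x188dc7db65c99a4a0559) .nil), (.m (nat_lit 0x495) (nat_lit 0x2b82b82ba2bd2b92bc) (nat_lit 0x236d96656595dd512894) .nil), (.m (nat_lit 0x4f4) (nat_lit 0x2b92ba2bd2ba2b8) (nat_lit 0x69a99659a5967574926db) .nil)⟩,
  ⟨nat_lit 854, (nat_lit 976), (.m (nat_lit 0x662) (nat_lit 0x2bc2b92ba2b82bb) (nat_lit 0x2095869a59d6656d2612) .nil), (.m (nat_lit 0x510) (nat_lit 0x2b82ba2bd2ba2bc) (nat_lit 0x197626965a16d799649459f) .nil), (.m (nat_lit 0x4b5) (nat_lit 0x2ba2b92bd2bd2bd) (nat_lit 0x59a6a08dc9625964d7755) .nil)⟩,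
  ⟨nat_lit 821, (nat_lit 900), (.m (nat_lit 0x50b) (nat_lit 0x2b92bb2bc2ba2bd) (nat_lit 0x8656605d87dc5d2499) .nil), (.m (nat_lit 0x6d5) (nat_lit 0x2b82ba2bc2bc2bb2bd) (nat_lit 0x6177e671c860496555) .nil), (.m (nat_lit 0x48f) (nat_lit 0x2b92bd2bb2b92b9) (nat_lit 0x89b66369d6db5d9494496) .nil)⟩,
  ⟨nat_lit 894, (nat_lit 0xf20e), (.m (nat_lit 0x676) (nat_lit 0x2b82bc2b9) (nat_lit 0x59659c69d69a6a2616512652) .nil), (.m (nat_lit 0x50e) (nat_lit 0x2b82bb2bc2bb2bc) (nat_lit 0x61d6996618967d749a59c) .nil), (.m (nat_lit 0x50e) (nat_lit 0x2b82b82bb2bb2bc2bc) (nat_lit 0x6dc69a71a66381f512662) .nil)⟩,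
  ⟨nat_lit 924, (nat_lit 0x23a2), (.m (nat_lit 738) (nat_lit 0x2b82b82bd2b92ba) (nat_lit 0x59661859d5a565a59649559c492) .nil), (.m (nat_lit 0x4ca) (nat_lit 0x2b82bd2b82bc) (nat_lit 0x176dd8db59c5d849471c) .nil), (.m (nat_lit 738) (nat_lit 0x2b82bb2bd) (nat_lit 0x166db6e375d99b8d749451c) .nil)⟩,
  ⟨nat_lit 1762, (nat_lit 643), (.m (nat_lit 0x4e7) (nat_lit 0x2b82bc2bc2b82b8) (nat_lit 0x175dc5988577d6596495654) .nil), (.m (nat_lit 0x4e7) (nat_lit 0x2b82bd2b92bd2bb) (nat_lit 0x1a65f75b75d5db7564925e7) .nil), (.m (nat_lit 0x445) (nat_lit 0x2b82ba2bc2b9) (nat_lit 0x697758859957527) .nil)⟩,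
  ⟨nat_lit 5783, (nat_lit 0x628f), (.m (nat_lit 0x507) (nat_lit 0x2bb2bd2b82bd) (nat_lit 0x6226d871c957699495763) .nil), (.m (nat_lit 0x508) (nat_lit 0x2bc2b82b82ba) (nat_lit 0x6db7176986166d9498557) .nil), (.m (nat_lit 0x508) (nat_lit 0x2b82bd2bb) (nat_lit 0x61685695859c6d949581b) .nil)⟩,
  ⟨nat_lit 1572, (nat_lit 0xe410), (.m (nat_lit 0x5dd) (nat_lit 0x2b82bb2b82b82bd) (nat_lit 0x167d676065f6186965926d8893) .nil), (.m (nat_lit 0x491) (nat_lit 0x2b82ba2b92bd) (nat_lit 0x6218dc6db61b7126df) .nil), (.m (nat_lit 968) (nat_lit 0x2b82bb2bd2b8) (nat_lit 0x1671b6205dd8d86d6494857) .nil)⟩,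
  ⟨nat_lit 5567, (nat_lit 0x9244), (.m (nat_lit 0x503) (nat_lit 0x2bc2b82b82ba) (nat_lit 0x1b7dc5a66228dd65652459c) .nil), (.m (nat_lit 0x503) (nat_lit 0x2ba2bc2b82bc2bb) (nat_lit 0x185a071672265a4d7626) .nil), (.m (nat_lit 0x6c1) (nat_lit 0x2b92bd2b92ba2b9) (nat_lit 0x165967d85e161b65649889d) .nil)⟩,
  ⟨nat_lit 2277, (nat_lit 0x7108), (.m (nat_lit 0x6d8) (nat_lit 0x2ba2ba2bd2ba2b9) (nat_lit 0x185987165a0758616494697) .nil), (.m (nat_lit 0x6d8) (nat_lit 0x2bd2b82ba) (nat_lit 0x187da5986998df5d75125d8) .nil), (.m (nat_lit 965) (nat_lit 0x2b82b82ba) (nat_lit 0x6667186166e6616512867) .nil)⟩,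
  ⟨nat_lit 3828, (nat_lit 0x610e), (.m (nat_lit 869) (nat_lit 0x2b92bb2bc2b9) (nat_lit 0x66561c5da898725494621) .nil), (.m (nat_lit 0x4b9) (nat_lit 0x2b82bb2b82bc) (nat_lit 0x1761f6a15e57d95d74946dd) .nil), (.m (nat_lit 0x4b9) (nat_lit 0x2b92ba2bd2ba2ba) (nat_lit 0x1786271c720599752492696) .nil)⟩,
  ⟨nat_lit 3769, (nat_lit 0xa20a5), (.m (nat_lit 959) (nat_lit 0x2b82ba2b82b8) (nat_lit 0x69675965f59a69a5d26a2) .nil), (.m (nat_lit 0x636) (nat_lit 0x2b92ba2b8) (nat_lit 0x1d61b71a6a275d5944d7694) .nil), (.m (nat_lit 0x524) (nat_lit 0x2b82bb2bb) (nat_lit 0x195d78dd5db6255d255d) .nil)⟩]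
theorem hsd35_1 : allL (CX.seedOK AL (nat_lit 0xffc003fffc) (nat_lit 966) (nat_lit 0x1f80cf7000035f) (nat_lit 40) (nat_lit 0xa27) (nat_lit 35)) sd35_1 = true := by decide +kernel
theorem cov35 : CovOK CX AL (nat_lit 30) (nat_lit 0xffc003fffc) (nat_lit 137632) (nat_lit 966) (nat_lit 0x1f80cf7000035f) (nat_lit 40) (nat_lit 0xa27) (nat_lit 35) :=
  ⟨[sd35_0, sd35_1], [nat_lit 348, nat_lit 349, nat_lit 350], [nat_lit 0x28d78a3a14108e214e14e24f344, nat_lit 0x258512e13de1422868088c8, nat_lit 0xa88e7cd38d81f382402284944203], [nat_lit 0, nat_lit 2, nat_lit 4, nat_lit 0, nat_lit 2, nat_lit 4, nat_lit 0, nat_lit 2, nat_lit 4, nat_lit 0, nat_lit 2, nat_lit 4, nat_lit 0, nat_lit 2, nat_lit 4, nat_lit 0, nat_lit 2, nat_lit 4, nat_lit 0, nat_lit 2, nat_lit 0], allc hsd35_0 <| all1 hsd35_1, by decide +kernel, by decide +kernel⟩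
def T35_0 : Lev := ⟨nat_lit 255, nat_lit 21504, [nat_lit 0x28d78a3a14108e214e14e24f344, nat_lit 0x258512e13de1422868088c8, nat_lit 0xa88e7cd38d81f382402284944203], [nat_lit 0, nat_lit 2, nat_lit 4, nat_lit 0, nat_lit 2, nat_lit 4, nat_lit 0, nat_lit 2, nat_lit 4, nat_lit 0, nat_lit 2, nat_lit 4, nat_lit 0, nat_lit 2, nat_lit 4, nat_lit 0, nat_lit 2, nat_lit 4, nat_lit 0, nat_lit 2, nat_lit 0]⟩
theorem hT35_0 : levOK AL (nat_lit 30) (nat_lit 0xffc003fffc) T35_0 = true := by decide +kernel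
theorem chT35 : ChOK CX AL (nat_lit 30) (nat_lit 0xffc003fffc) (nat_lit 966) (nat_lit 35) (nat_lit 21504) :=
  ⟨[T35_0], [nat_lit 348, nat_lit 349, nat_lit 350], by decide +kernel, all1 hT35_0, by decide +kernel, by decide +kernel⟩
def sd38_0 : List Seed := [⟨nat_lit 0, (nat_lit 0), (.m (nat_lit 455) (nat_lit 0) (nat_lit 0) .nil), (.m (nat_lit 0x528) (nat_lit 0x1ee1f01ef1f1) (nat_lit 0x166dd76665c7255d2518813) .nil), (.m (nat_lit 0x528) (nat_lit 0x1d41ee1ee1f1) (nat_lit 0x1659861d6596d6699495598) .nil)⟩,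
  ⟨nat_lit 3, (nat_lit 12), (.m (nat_lit 0x664) (nat_lit 0x1ef1ef1f01d41ee1ee) (nat_lit 0x6576239597258d75d251b752) .nil), (.m (nat_lit 0x4b4) (nat_lit 0x1f11ef1d51f11d41ee) (nat_lit 0x6dc71a8dd9975dd593593613) .nil), (.m (nat_lit 0x4b4) (nat_lit 0x1f11d41d41f11d51ee) (nat_lit 0x99d5db5a359d656494857) .nil)⟩,
  ⟨nat_lit 4, (nat_lit 10), (.m (nat_lit 0x625) (nat_lit 0x1ee1ee1f11d41ef1d4) (nat_lit 0x207d66dd7668586d255a) .nil), (.m (nat_lit 812) (nat_lit 0x1d41f11ee1d51ef) (nat_lit 0x1c71c72659b89749565a) .nil), (.m (nat_lit 812) (nat_lit 0x1f01f01d41ef1d4) (nat_lit 0x1959c9996615a1596495612) .nil)⟩,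
  ⟨nat_lit 21, (nat_lit 8), (.m (nat_lit 0x674) (nat_lit 0x1ee1f11d41ef1f01d5) (nat_lit 0x1b8dd5db75f75249b) .nil), (.m (nat_lit 788) (nat_lit 0x1ef1f01f01d51ee) (nat_lit 0x1a5dd75681b75f69251f752) .nil), (.m (nat_lit 788) (nat_lit 0x1d41f01d41ef) (nat_lit 0x186d76175e769861255d5d2) .nil)⟩,
  ⟨nat_lit 163, (nat_lit 583), (.m (nat_lit 0x660) (nat_lit 0x1d41f01d41f1) (nat_lit 0x5995d989a61f598494913) .nil), (.m (nat_lit 774) (nat_lit 0x1d41ef1f11d41d41ef1d4) (nat_lit 0x1a7205e295781749a65b) .nil), (.m (nat_lit 774) (nat_lit 0x1ee1f11ef1d41f11ee1ee) (nat_lit 0x166e17236db75859449a) .nil)⟩,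
  ⟨nat_lit 1397, (nat_lit 450), (.m (nat_lit 0x628) (nat_lit 0x1f11d41d41ee) (nat_lit 0x59872561f5986a1513699) .nil), (.m (nat_lit 0x3f6) (nat_lit 0x1ee1f01f0) (nat_lit 0x5a69567dc89f65661649555d) .nil), (.m (nat_lit 784) (nat_lit 0x1f01ee1ee1ee) (nat_lit 0x1a65c5d98975dc6d6495) .nil)⟩,
  ⟨nat_lit 144, (nat_lit 138), (.m (nat_lit 0x5c0) (nat_lit 0x1ee1d41f11d51f11ef) (nat_lit 0x1a7206186d669761849b61c) .nil), (.m (nat_lit 0x45c) (nat_lit 0x1ef1d51f01ef1f01d41ee) (nat_lit 0x5d969f65a8985964d7626) .nil), (.m (nat_lit 0x48c) (nat_lit 0x1d41f11d41f11ef) (nat_lit 0x5e66d75e195f65c49285a) .nil)⟩,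
  ⟨nat_lit 4226, (nat_lit 389), (.m (nat_lit 0x578) (nat_lit 0x1ee1d51f11ee1f11ef1d5) (nat_lit 0x65959f6e66d99a359269a892) .nil), (.m (nat_lit 771) (nat_lit 0x1d51f01d51f11d41ef) (nat_lit 0x1965c6215e55d84d9593) .nil), (.m (nat_lit 0x41a) (nat_lit 0x1ee1f11d41f01f01ef1f11ef) (nat_lit 0x1b5dc69c5a659c7164d7612) .nil)⟩,
  ⟨nat_lit 307, (nat_lit 2), (.m (nat_lit 0x667) (nat_lit 0x1ef1d41f01f01d4) (nat_lit 0x69f72669c61862049451c) .nil), (.m (nat_lit 776) (nat_lit 0x1d41ef1f11d51f11ef) (nat_lit 0x6168177da9d85a05936d3653) .nil), (.m (nat_lit 778) (nat_lit 0x1f01ee1d41d41f11ee) (nat_lit 0x5d85a05a575b6d85924a1) .nil)⟩,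
  ⟨nat_lit 223, (nat_lit 5), (.m (nat_lit 0x489) (nat_lit 0x1d41ef1ef1d41f01d51ee1ee) (nat_lit 0x1771a5dc59a69f4948d2) .nil), (.m (nat_lit 0x489) (nat_lit 0x1f11ef1ef1d51f11ee) (nat_lit 0x5e089d7666db5dc527) .nil), (.m (nat_lit 0x489) (nat_lit 0x1ef1f01d51ef1f0) (nat_lit 0x176597166598d67174925e7) .nil)⟩,
  ⟨nat_lit 218, (nat_lit 165), (.m (nat_lit 0x498) (nat_lit 0x1ee1f11d41f11ee1f0) (nat_lit 0x6575e276361a817495757) .nil), (.m (nat_lit 0x498) (nat_lit 0x1f11ef1f01f01d41d4) (nat_lit 0x59965c7dc7d77524925d2) .nil), (.m (nat_lit 0x6ea) (nat_lit 0x1d41ee1ee1f01f0) (nat_lit 0x1a71a59d6d86dd9974d9593) .nil)⟩,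
  ⟨nat_lit 901, (nat_lit 398), (.m (nat_lit 949) (nat_lit 0x1ee1f11ee1ee) (nat_lit 0x267176577586d895471c9d2) .nil), (.m (nat_lit 786) (nat_lit 0x1f01d51f01ee) (nat_lit 0x8187da61b6d75e44d5) .nil), (.m (nat_lit 786) (nat_lit 0x1d41d41f11ee1ee) (nat_lit 0x81f5d77e169d6db494596) .nil)⟩,
  ⟨nat_lit 13527, (nat_lit 335), (.m (nat_lit 928) (nat_lit 0x1ee1d41f11ee1ee1f01ef) (nat_lit 0x196606609977586d649a759) .nil), (.m (nat_lit 928) (nat_lit 0x1ef1ef1d41f01ee1d41ee) (nat_lit 0x1f5dd61c7d78584da) .nil), (.m (nat_lit 928) (nat_lit 0x1ee1d41ef1ef1d51ee1d51f1) (nat_lit 0x1982565d6df6d681251f914) .nil)⟩,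
  ⟨nat_lit 11100, (nat_lit 0x3403), (.m (nat_lit 604) (nat_lit 0x1ee1f01ee1d5) (nat_lit 0x66181895a719652517752) .nil), (.m (nat_lit 0x6aa) (nat_lit 0x1f01f01d51ee1f0) (nat_lit 0x65d8177d765b8d859649491b) .nil), (.m (nat_lit 0x6aa) (nat_lit 0x1d51f01ee1f11ee) (nat_lit 0x61c5e56667668e0592559552) .nil)⟩,
  ⟨nat_lit 11137, (nat_lit 0x445), (.m (nat_lit 0x5c9) (nat_lit 0x1d41ee1d51ee1f1) (nat_lit 0x1a5989568a56665d7492499) .nil), (.m (nat_lit 780) (nat_lit 0x1ef1f11d51f11d51f1) (nat_lit 0x1f5db61c8987567135d4492) .nil), (.m (nat_lit 772) (nat_lit 0x1ee1f11d51f01d41f1) (nat_lit 0x2296169d8d96d38e4) .nil)⟩,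
  ⟨nat_lit 24781, (nat_lit 0x18a40e), (.m (nat_lit 0x608) (nat_lit 0) (nat_lit 0x185a166565c59661749a592) .nil), (.m (nat_lit 0x692) (nat_lit 468) (nat_lit 0x59b71b8186d661b592696912) .nil), (.m (nat_lit 0x692) (nat_lit 0x1f01ee) (nat_lit 0x7dc65a75869d6964a0) .nil)⟩]
theorem hsd38_0 : allL (CX.seedOK AL (nat_lit 0xffc003fffc) (nat_lit 966) (nat_lit 0x1f80cf7000035f) (nat_lit 40) (nat_lit 0xa27) (nat_lit 38)) sd38_0 = true := by decide +kernel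
theorem cov38 : CovOK CX AL (nat_lit 30) (nat_lit 0xffc003fffc) (nat_lit 137632) (nat_lit 966) (nat_lit 0x1f80cf7000035f) (nat_lit 40) (nat_lit 0xa27) (nat_lit 38) :=
  ⟨[sd38_0], [nat_lit 247, nat_lit 234, nat_lit 248], [nat_lit 0xa7e13e33e694d3c220f98e, nat_lit 0x40c3d085128e28228839f, nat_lit 0xc3a139f79099e34234890c], [nat_lit 0, nat_lit 2, nat_lit 4, nat_lit 0, nat_lit 2, nat_lit 4, nat_lit 0, nat_lit 2, nat_lit 4, nat_lit 0, nat_lit 2, nat_lit 4, nat_lit 0, nat_lit 2, nat_lit 4, nat_lit 0, nat_lit 2, nat_lit 4, nat_lit 0, nat_lit 2, nat_lit 4, nat_lit 0], all1 hsd38_0, by decide +kernel, by decide +kernel⟩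
def T38_0 : Lev := ⟨nat_lit 64, nat_lit 47520, [nat_lit 0xa7e13e33e694d3c220f98e, nat_lit 0x40c3d085128e28228839f, nat_lit 0xc3a139f79099e34234890c], [nat_lit 0, nat_lit 2, nat_lit 4, nat_lit 0, nat_lit 2, nat_lit 4, nat_lit 0, nat_lit 2, nat_lit 4, nat_lit 0, nat_lit 2, nat_lit 4, nat_lit 0, nat_lit 2, nat_lit 4, nat_lit 0, nat_lit 2, nat_lit 4, nat_lit 0, nat_lit 2, nat_lit 4, nat_lit 0]⟩
theorem hT38_0 : levOK AL (nat_lit 30) (nat_lit 0xffc003fffc) T38_0 = true := by decide +kernel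
def T38_1 : Lev := ⟨nat_lit 0, nat_lit 4, [nat_lit 0x2912e02a340b, nat_lit 0xa8ce39f2cb8de2c228d20e], [nat_lit 0, nat_lit 2]⟩
theorem hT38_1 : levOK AL (nat_lit 30) (nat_lit 0xffc003fffc) T38_1 = true := by decide +kernel
theorem chT38 : ChOK CX AL (nat_lit 30) (nat_lit 0xffc003fffc) (nat_lit 966) (nat_lit 38) (nat_lit 190080) :=
  ⟨[T38_0, T38_1], [nat_lit 247, nat_lit 234, nat_lit 248, nat_lit 940, nat_lit 941], by decide +kernel, allc hT38_0 <| all1 hT38_1, by decide +kernel, by decide +kernel⟩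
end H46.P1
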