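import Cfsg.Agent.H46.P1C
import Cfsg.Agent.H46.P1E
import Cfsg.Agent.H46.P1G
/-! Covering of the neighbours and orders of the stabilisers. -/
set_option maxRecDepth 1000000
set_option Elab.async false
namespace H46.P1
open H71
def sd39_0 : List Seed := [⟨nat_lit 0, (nat_lit 0), (.m (nat_lit 473) (nat_lit 0) (nat_lit 0) .nil), (.m (nat_lit 900) (nat_lit 0x1fc1fc1ff1fc) (nat_lit 0x6609596e375f6125146d2) .nil), (.m (nat_lit 900) (nat_lit 0x1fc2001ff1fc) (nat_lit 0x6dc6db66099c918) .nil)⟩,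
  ⟨nat_lit 1, (nat_lit 13), (.m (nat_lit 0x5ae) (nat_lit 0x1fe1fe2011fd1ff200) (nat_lit 0x1769669a75a71f6965934d5) .nil), (.m (nat_lit 856) (nat_lit 0x2011fe2001fe200) (nat_lit 0x1b61669d6565a0617494598) .nil), (.m (nat_lit 874) (nat_lit 0x1fe1fc1fc2001fc201) (nat_lit 0x62375b5a359c59659649251f) .nil)⟩,
  ⟨nat_lit 3, (nat_lit 12), (.m (nat_lit 0x648) (nat_lit 0x1fc1fc2001ff1fd1fd) (nat_lit 0x1675675761b85b616494599) .nil), (.m (nat_lit 806) (nat_lit 0x1fd1ff2001fc2011fc) (nat_lit 0x61b7595967256d7624614594) .nil), (.m (nat_lit 600) (nat_lit 0x1fc1fe1fd1ff1fc1fc) (nat_lit 0x1c65b596818864614) .nil)⟩,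
  ⟨nat_lit 21, (nat_lit 8), (.m (nat_lit 0x62c) (nat_lit 0x1fe2001fe1fe) (nat_lit 0x6e19567566a075b4a7514) .nil), (.m (nat_lit 886) (nat_lit 0x1fc2002001fc1ff) (nat_lit 0x61d6dd6e059689a4a05da) .nil), (.m (nat_lit 800) (nat_lit 0x2001fd) (nat_lit 0x1b65d7e3766617492514) .nil)⟩,
  ⟨nat_lit 8, (nat_lit 3), (.m (nat_lit 0x5a4) (nat_lit 0x1fc1fe1fd2011fc2001fd) (nat_lit 0x1b62371872069f5d3695) .nil), (.m (nat_lit 0x4b6) (nat_lit 0x1ff2002001fe200200) (nat_lit 0x59689c6db6d89565925666d3) .nil), (.m (nat_lit 0x4b6) (nat_lit 0x1fe2011fd2001fd1fd) (nat_lit 0x69c69c95966161c913) .nil)⟩,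
  ⟨nat_lit 13, (nat_lit 204), (.m (nat_lit 0x65c) (nat_lit 0x1ff1fd1fd1ff201) (nat_lit 0x6626998d66dc5d4714) .nil), (.m (nat_lit 0x50f) (nat_lit 0x1fc1fe2001ff200) (nat_lit 0x6a062585971a71c4984d6) .nil), (.m (nat_lit 872) (nat_lit 0x2011fc2001ff) (nat_lit 0x5e295d5dc7216a25944d6) .nil)⟩,
  ⟨nat_lit 307, (nat_lit 2), (.m (nat_lit 0x584) (nat_lit 0x1fd2011ff1fd2001fe) (nat_lit 0x6609986d889a5985d2596492) .nil), (.m (nat_lit 828) (nat_lit 0x1fc2011fe2001fd201) (nat_lit 0x7d685669976649471b) .nil), (.m (nat_lit 880) (nat_lit 0x1fc2011fc2011fd1ff) (nat_lit 0x1a7575e18197595d7497654) .nil)⟩,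
  ⟨nat_lit 23, (nat_lit 994), (.m (nat_lit 0x587) (nat_lit 0x1fd2001ff2002001fd201) (nat_lit 0x188da7577279a36d6496918) .nil), (.m (nat_lit 808) (nat_lit 0x1fe1fd1fd2001fe200) (nat_lit 0x169598177665d84d9655) .nil), (.m (nat_lit 808) (nat_lit 0x2011fe2011ff1fd201) (nat_lit 0x1675671762261d4984d7) .nil)⟩,
  ⟨nat_lit 34, (nat_lit 931), (.m (nat_lit 0x57b) (nat_lit 0x2001fc1ff2011fe1fc) (nat_lit 0x1b62369662371f65649265a) .nil), (.m (nat_lit 834) (nat_lit 0x1fe1fd1fd2001fe2011fe) (nat_lit 0x1a7d66977615d76d649285a) .nil), (.m (nat_lit 655) (nat_lit 0x2011fc2011fe2011fc1fc) (nat_lit 0x6d76d95df8175df5925d5852) .nil)⟩,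
  ⟨nat_lit 223, (nat_lit 5), (.m (nat_lit 794) (nat_lit 0x2001ff1fc1ff2011fe200) (nat_lit 0x66675789b9635994945db) .nil), (.m (nat_lit 848) (nat_lit 0x2001fc1fe2001fe1fd) (nat_lit 0x6dc69a69f5a07db592595753) .nil), (.m (nat_lit 864) (nat_lit 0x1fd2011fe2001fd1fe1fd) (nat_lit 0x69971c7176dd6e25d25149da) .nil)⟩,
  ⟨nat_lit 416, (nat_lit 162), (.m (nat_lit 0x571) (nat_lit 0x1fe1fd200) (nat_lit 0x186d665969871f612519) .nil), (.m (nat_lit 892) (nat_lit 0x1fd2001fc1ff) (nat_lit 0x2375b5d75d9816592694) .nil), (.m (nat_lit 0x6da) (nat_lit 0x1fc1ff2011fe) (nat_lit 0x1b6225df7676d8699492499) .nil)⟩,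
  ⟨nat_lit 65, (nat_lit 774), (.m (nat_lit 912) (nat_lit 0x1fc2001fe2001ff) (nat_lit 0x1a65c81b59c69c613593) .nil), (.m (nat_lit 0x6b0) (nat_lit 0x1fe2011fd1fe2001ff) (nat_lit 0x1a6a08a175d6256d6492696) .nil), (.m (nat_lit 878) (nat_lit 0x1ff1fd2011fd1fd1fe) (nat_lit 0x65b86371b61d5d9652817652) .nil)⟩,
  ⟨nat_lit 1243, (nat_lit 142), (.m (nat_lit 910) (nat_lit 0x2001ff1fc1ff2011fd201) (nat_lit 0x59c6d782669d85a59259b) .nil), (.m (nat_lit 910) (nat_lit 0x1fc1fc1ff1fc1fc1fe) (nat_lit 0x65d99b66659b5df4945dd) .nil), (.m (nat_lit 652) (nat_lit 0x1fc1fc2001fe1fc1fe1fe) (nat_lit 0x65c7236d669d6db5944df) .nil)⟩,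
  ⟨nat_lit 73, (nat_lit 0x2127), (.m (nat_lit 0x6a0) (nat_lit 0x1fe1fd) (nat_lit 0x6597655a569d5df59261c492) .nil), (.m (nat_lit 964) (nat_lit 0x2002001ff200) (nat_lit 0x1a59859c81c5da5924947d7) .nil), (.m (nat_lit 0x6a0) (nat_lit 0x1fd1fe1fe1fd1fe201) (nat_lit 0x1b5d771a61d75b618494627) .nil)⟩,
  ⟨nat_lit 912, (nat_lit 517), (.m (nat_lit 610) (nat_lit 0x1fd2011ff2011fc1fe) (nat_lit 0x65769d961996618696492692) .nil), (.m (nat_lit 826) (nat_lit 0x1fc1ff1fc2011fd1fd201) (nat_lit 0x7606dd61871a5964946a6) .nil), (.m (nat_lit 826) (nat_lit 0x1fc1ff1fc1fc1fe2001ff) (nat_lit 0x59d89a6599628d649a598) .nil)⟩,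
  ⟨nat_lit 97, (nat_lit 0x22a2), (.m (nat_lit 796) (nat_lit 0) (nat_lit 0x1a6a065789b59c61651c61a) .nil), (.m (nat_lit 850) (nat_lit 0x2001fe2011ff2011fd) (nat_lit 0x5967dc61f95d5d949b612) .nil), (.m (nat_lit 804) (nat_lit 0x1fe1fd2001fc1fc201) (nat_lit 0x1859d5df69671a69649549c) .nil)⟩,
  ⟨nat_lit 98, (nat_lit 582), (.m (nat_lit 0x671) (nat_lit 0x1ff2011fd) (nat_lit 0x66175f59c596616596495716) .nil), (.m (nat_lit 0x559) (nat_lit 0x1fc2001fc1fe) (nat_lit 0x1b75f75965d8167584945db) .nil), (.m (nat_lit 898) (nat_lit 0x2011ff) (nat_lit 0x1661a85869659a5d749459f) .nil)⟩,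
  ⟨nat_lit 259, (nat_lit 529), (.m (nat_lit 917) (nat_lit 0x1fc1fc1fe2001fe2001ff) (nat_lit 0x6db7d67d67606664946e1) .nil), (.m (nat_lit 846) (nat_lit 0x1fe2001ff2001ff) (nat_lit 0x1965d5a35a689c492494) .nil), (.m (nat_lit 744) (nat_lit 0x1fc1fe1fe2011fd1fe) (nat_lit 0x1999b657622659594499492) .nil)⟩,
  ⟨nat_lit 957, (nat_lit 516), (.m (nat_lit 862) (nat_lit 0x1ff2011fc) (nat_lit 0x1969c5a165c8575d24a4) .nil), (.m (nat_lit 0x6b9) (nat_lit 0x2001fc2011fd1ff1fc) (nat_lit 0x5d999a5df69675649491a) .nil), (.m (nat_lit 752) (nat_lit 0x1fc1ff2011ff2001fc) (nat_lit 0x69f95669d6e5756495565) .nil)⟩,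
  ⟨nat_lit 388, (nat_lit 159), (.m (nat_lit 0x567) (nat_lit 0x1fc1fe2001fd1fd) (nat_lit 0x6968177586258d859649a49b) .nil), (.m (nat_lit 866) (nat_lit 0x1fc2001fe200) (nat_lit 0x5d985a6605e66a0592525513) .nil), (.m (nat_lit 860) (nat_lit 0x2001ff2001fe201) (nat_lit 0x177178e2660656492524) .nil)⟩,
  ⟨nat_lit 310, (nat_lit 358), (.m (nat_lit 907) (nat_lit 0x1fc2001fc2011fe201) (nat_lit 0x1c71665c5d79984a061d) .nil), (.m (nat_lit 0x6ad) (nat_lit 0x2011fd2001fe1fc1fc) (nat_lit 0x65b8605dd6db99949489d) .nil), (.m (nat_lit 0x6ad) (nat_lit 0x2001fe1fd2011ff) (nat_lit 0x61b7195e25d9592616) .nil)⟩,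
  ⟨nat_lit 153, (nat_lit 359), (.m (nat_lit 830) (nat_lit 0) (nat_lit 0x5a395d65989a6985964947d2) .nil), (.m (nat_lit 830) (nat_lit 0x1fc1fc2011fd1fe201) (nat_lit 0x5a062275689d8d84984e2) .nil), (.m (nat_lit 0x4e4) (nat_lit 0x1fd1fd1fe1fc1fc) (nat_lit 0x176dd6219986df65649b5e2) .nil)⟩,
  ⟨nat_lit 255, (nat_lit 0x41cb), (.m (nat_lit 810) (nat_lit 0x1fc2001fe) (nat_lit 0x1665b6db9576d7698592918692) .nil), (.m (nat_lit 902) (nat_lit 0x1fc2011fc1fc) (nat_lit 0x6d78db6dd89981f59255d592) .nil), (.m (nat_lit 961) (nat_lit 0x2001ff1fc) (nat_lit 0x175dd85661b5d7858494519) .nil)⟩,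
  ⟨nat_lit 261, (nat_lit 528), (.m (nat_lit 0x4bc) (nat_lit 0x1fc1ff2001fe1fd) (nat_lit 0x1c61a6996e665649549c) .nil), (.m (nat_lit 0x6af) (nat_lit 0x1ff1fd2011fe200) (nat_lit 0x19717659758960494667) .nil), (.m (nat_lit 951) (nat_lit 0x1fd1fe2011ff1fd) (nat_lit 0x17618699659763616495655) .nil)⟩,
  ⟨nat_lit 1597, (nat_lit 0x44e), (.m (nat_lit 0x5d2) (nat_lit 0x1fe2002001fe1fd) (nat_lit 0x197226d97e27597564954a4) .nil), (.m (nat_lit 896) (nat_lit 0x1fc2011fd200) (nat_lit 0x1b5d765c61c957997492615) .nil), (.m (nat_lit 842) (nat_lit 0x1fd2001ff1fc1fc) (nat_lit 0x8667587265da592519) .nil)⟩,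
  ⟨nat_lit 29762, (nat_lit 143), (.m (nat_lit 840) (nat_lit 0x1fe2001fc1fc1fe) (nat_lit 0x1989c71b6268175d2556596) .nil), (.m (nat_lit 894) (nat_lit 0x2011fc1fe2011ff) (nat_lit 0x6597da59862281d4984d7) .nil), (.m (nat_lit 838) (nat_lit 0x2002001ff200) (nat_lit 0x62559a61d61c95649491a) .nil)⟩,
  ⟨nat_lit 430, (nat_lit 0x5343), (.m (nat_lit 0x5e5) (nat_lit 0x1fc1ff1fd2001ff) (nat_lit 0x6a37188dc5a181659249d) .nil), (.m (nat_lit 0x6d6) (nat_lit 0x1fd1fd2011fd) (nat_lit 0x1671899b866719696495556) .nil), (.m (nat_lit 893) (nat_lit 0x2001fc1ff1fc200) (nat_lit 0x1b5db6167596a2697512867) .nil)⟩,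
  ⟨nat_lit 552, (nat_lit 0x231f), (.m (nat_lit 844) (nat_lit 0) (nat_lit 0x5e369971c7176205d25d7) .nil), (.m (nat_lit 0x5a9) (nat_lit 0x2011ff1fc2001fd) (nat_lit 0x1661f8da6595d7616495595) .nil), (.m (nat_lit 854) (nat_lit 0x1fd2001ff2001ff201) (nat_lit 0x59c89b8199da7184945d4) .nil)⟩]
theorem hsd39_0 : allL (CX.seedOK AL (nat_lit 0xffc003fffc) (nat_lit 966) (nat_lit 0x1f80cf7000035f) (nat_lit 40) (nat_lit 0xa27) (nat_lit 39)) sd39_0 = true := by decide +kernel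
def sd39_1 : List Seed := [⟨nat_lit 628, (nat_lit 912), (.m (nat_lit 0x64a) (nat_lit 0x1fc1ff2001fc201) (nat_lit 0x1a75965c81c6dd4945e1) .nil), (.m (nat_lit 779) (nat_lit 0x1ff2002001fd) (nat_lit 0x6968178996d96d2566552) .nil), (.m (nat_lit 884) (nat_lit 0x1fc1fe1fc1fc2011fe) (nat_lit 0x1b7185966177586d251d552) .nil)⟩,
  ⟨nat_lit 3217, (nat_lit 387), (.m (nat_lit 0x5b2) (nat_lit 0x1fc1ff2011fe201) (nat_lit 0x1b62675d9a76205d269f712) .nil), (.m (nat_lit 890) (nat_lit 0x1fc1fe1fc1fe201) (nat_lit 0x8d669d6df5966d269f) .nil), (.m (nat_lit 888) (nat_lit 0x1fc2011fe2001fc) (nat_lit 0x75b99b61665c594494) .nil)⟩,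
  ⟨nat_lit 16066, (nat_lit 0x6148), (.m (nat_lit 0x53d) (nat_lit 0x1fe1fd2001ff) (nat_lit 0x61871a5a16df59b5926d2) .nil), (.m (nat_lit 802) (nat_lit 0x1fd2011fe200) (nat_lit 0x185e671861c89b8574a05da) .nil), (.m (nat_lit 802) (nat_lit 0x1fc2001ff1fc201) (nat_lit 0x176d985c8a76d8494516) .nil)⟩,
  ⟨nat_lit 2502, (nat_lit 0x2951), (.m (nat_lit 858) (nat_lit 0x1fe1fe) (nat_lit 0x1886369a7d66d7692694) .nil), (.m (nat_lit 868) (nat_lit 0x1fc1fe1fd1ff1fd) (nat_lit 0x59d5d95db7626604a061d) .nil), (.m (nat_lit 858) (nat_lit 0x1fd2001fd201) (nat_lit 0x71b8e665d616652553853) .nil)⟩,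
  ⟨nat_lit 2970, (nat_lit 0x53a7), (.m (nat_lit 0x5cd) (nat_lit 0x1fc2011fd1fe) (nat_lit 0x5e0661997759696592514) .nil), (.m (nat_lit 0x5cd) (nat_lit 0x2002001fc201) (nat_lit 0x69761b75b61c6a05925189d2) .nil), (.m (nat_lit 0x3f0) (nat_lit 0x1fc1fe2011fd201) (nat_lit 0x1965975b5a16d861649855d) .nil)⟩]
theorem hsd39_1 : allL (CX.seedOK AL (nat_lit 0xffc003fffc) (nat_lit 966) (nat_lit 0x1f80cf7000035f) (nat_lit 40) (nat_lit 0xa27) (nat_lit 39)) sd39_1 = true := by decide +kernel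
theorem cov39 : CovOK CX AL (nat_lit 30) (nat_lit 0xffc003fffc) (nat_lit 137632) (nat_lit 966) (nat_lit 0x1f80cf7000035f) (nat_lit 40) (nat_lit 0xa27) (nat_lit 39) :=
  ⟨[sd39_0, sd39_1], [nat_lit 254, nat_lit 255, nat_lit 256], [nat_lit 0x2cc31099084b8d010a3a340e084, nat_lit 0xb7a628d2d098f344891087903, nat_lit 0x2098c3e040f78b10744e8a1186], [nat_lit 0, nat_lit 2, nat_lit 4, nat_lit 0, nat_lit 2, nat_lit 4, nat_lit 0, nat_lit 2, nat_lit 4, nat_lit 0, nat_lit 2, nat_lit 4, nat_lit 0, nat_lit 2, nat_lit 4, nat_lit 0, nat_lit 2, nat_lit 4, nat_lit 0, nat_lit 0], allc hsd39_0 <| all1 hsd39_1, by decide +kernel, by decide +kernel⟩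
def T39_0 : Lev := ⟨nat_lit 43, nat_lit 15360, [nat_lit 0x2cc31099084b8d010a3a340e084, nat_lit 0xb7a628d2d098f344891087903, nat_lit 0x2098c3e040f78b10744e8a1186], [nat_lit 0, nat_lit 2, nat_lit 4, nat_lit 0, nat_lit 2, nat_lit 4, nat_lit 0, nat_lit 2, nat_lit 4, nat_lit 0, nat_lit 2, nat_lit 4, nat_lit 0, nat_lit 2, nat_lit 4, nat_lit 0, nat_lit 2, nat_lit 4, nat_lit 0, nat_lit 2]⟩
theorem hT39_0 : levOK AL (nat_lit 30) (nat_lit 0xffc003fffc) T39_0 = true := by decide +kernel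
def T39_1 : Lev := ⟨nat_lit 0, nat_lit 2, [nat_lit 0xb8a198e84c88c2c514545f1e4, nat_lit 0xb8a198e84c88c2c514545f1e4], [nat_lit 0]⟩
theorem hT39_1 : levOK AL (nat_lit 30) (nat_lit 0xffc003fffc) T39_1 = true := by decide +kernel
theorem chT39 : ChOK CX AL (nat_lit 30) (nat_lit 0xffc003fffc) (nat_lit 966) (nat_lit 39) (nat_lit 30720) :=
  ⟨[T39_0, T39_1], [nat_lit 254, nat_lit 255, nat_lit 256, nat_lit 942, nat_lit 943], by decide +kernel, allc hT39_0 <| all1 hT39_1, by decide +kernel, by decide +kernel⟩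
def sd47_0 : List Seed := [⟨nat_lit 0, (nat_lit 0), (.m (nat_lit 0x533) (nat_lit 0) (nat_lit 0) .nil), (.m (nat_lit 0x5b8) (nat_lit 0x54253a542) (nat_lit 0x5d76627606d781b592692) .nil), (.m (nat_lit 0x5b8) (nat_lit 0x53a543545) (nat_lit 0x59b59c5a576175b59255d5d3) .nil)⟩,
  ⟨nat_lit 1, (nat_lit 13), (.m (nat_lit 0x54a) (nat_lit 0x54253a53a545542) (nat_lit 0x6966d68e56996d8512698) .nil), (.m (nat_lit 0x5ea) (nat_lit 0x54453a543545542544) (nat_lit 0x61b75f7565a15925149da) .nil), (.m (nat_lit 0x556) (nat_lit 0x54554353b545542) (nat_lit 0x61a75d7597dd620594497) .nil)⟩,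
  ⟨nat_lit 2, (nat_lit 4), (.m (nat_lit 0x53c) (nat_lit 0x53a54453a53a545545545) (nat_lit 0x5d97656666a059d5e4615) .nil), (.m (nat_lit 0x551) (nat_lit 0x54353b54354553a543545545) (nat_lit 0x61b6e66d75e66635926a2) .nil), (.m (nat_lit 0x551) (nat_lit 0x54454454254454453a54353a) (nat_lit 0x76085a75d5df81749b499) .nil)⟩,
  ⟨nat_lit 5, (nat_lit 196), (.m (nat_lit 0x549) (nat_lit 0x53a53a53a53a543544) (nat_lit 0x69a99965c6228dd5924a1512) .nil), (.m (nat_lit 0x554) (nat_lit 0x54254554554553b543545) (nat_lit 0x1b5e06d76989976544a6) .nil), (.m (nat_lit 0x554) (nat_lit 0x54254454253b54453a) (nat_lit 0x168215df75971a8164945a4) .nil)⟩,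
  ⟨nat_lit 11, (nat_lit 7), (.m (nat_lit 0x547) (nat_lit 0x54354553b543544542542) (nat_lit 0x1a7587dc71c6d6594713596) .nil), (.m (nat_lit 0x547) (nat_lit 0x53a54554253b54254553a543) (nat_lit 0x1761f8225dc7225d35d8) .nil), (.m (nat_lit 0x54e) (nat_lit 0x54254254454253a53a543) (nat_lit 0x9597dd75769a71c495756) .nil)⟩,
  ⟨nat_lit 6921, (nat_lit 336), (.m (nat_lit 0x552) (nat_lit 0x54254453a544544) (nat_lit 0x1771c6a57605a0616496) .nil), (.m (nat_lit 0x552) (nat_lit 0x54354554553b) (nat_lit 0x1859c6605da7dc5d2553613) .nil), (.m (nat_lit 0x68d) (nat_lit 0x54453b) (nat_lit 0x1b6dc61662661a616513699) .nil)⟩,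
  ⟨nat_lit 3217, (nat_lit 387), (.m (nat_lit 0x67e) (nat_lit 0x54254454354453a545) (nat_lit 0x65f5dd59c6d871f5925d9852) .nil), (.m (nat_lit 0x558) (nat_lit 0x54554553a54253b544542) (nat_lit 0x1789d59959c9986d261f595) .nil), (.m (nat_lit 0x558) (nat_lit 0x54354454254454453a544) (nat_lit 0x1859a7da6578566564d75d3) .nil)⟩,
  ⟨nat_lit 32360, (nat_lit 0x21e7), (.m (nat_lit 0x54d) (nat_lit 0x542542545542) (nat_lit 0x1a5985a271659d6d4916) .nil), (.m (nat_lit 0x639) (nat_lit 0x54254554353b) (nat_lit 0x59b81b65a7606d2555) .nil), (.m (nat_lit 0x54d) (nat_lit 0x54254453b542) (nat_lit 0x5a07da5a375d752695) .nil)⟩]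
theorem hsd47_0 : allL (CX.seedOK AL (nat_lit 0xffc003fffc) (nat_lit 966) (nat_lit 0x1f80cf7000035f) (nat_lit 40) (nat_lit 0xa27) (nat_lit 47)) sd47_0 = true := by decide +kernel
theorem cov47 : CovOK CX AL (nat_lit 30) (nat_lit 0xffc003fffc) (nat_lit 137632) (nat_lit 966) (nat_lit 0x1f80cf7000035f) (nat_lit 40) (nat_lit 0xa27) (nat_lit 47) :=
  ⟨[sd47_0], [nat_lit 673, nat_lit 669, nat_lit 674], [nat_lit 0x2cb34a8ce79111e20231e14b, nat_lit 0xb41041f3e344a10830578c, nat_lit 0xb98f3218a68ce2c3185190883], [nat_lit 0, nat_lit 4, nat_lit 2, nat_lit 0, nat_lit 4, nat_lit 2, nat_lit 0, nat_lit 4, nat_lit 2, nat_lit 0, nat_lit 4, nat_lit 2, nat_lit 0, nat_lit 4, nat_lit 2, nat_lit 0, nat_lit 4, nat_lit 2, nat_lit 0, nat_lit 4, nat_lit 2, nat_lit 0, nat_lit 0], all1 hsd47_0, by decide +kernel, by decide +kernel⟩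
def T47_0 : Lev := ⟨nat_lit 11, nat_lit 73920, [nat_lit 0x2cb34a8ce79111e20231e14b, nat_lit 0xb41041f3e344a10830578c, nat_lit 0xb98f3218a68ce2c3185190883], [nat_lit 0, nat_lit 2, nat_lit 4, nat_lit 0, nat_lit 2, nat_lit 4, nat_lit 0, nat_lit 2, nat_lit 4, nat_lit 0, nat_lit 2, nat_lit 4, nat_lit 0, nat_lit 2, nat_lit 4, nat_lit 0, nat_lit 2, nat_lit 4, nat_lit 0, nat_lit 2, nat_lit 4, nat_lit 0, nat_lit 2]⟩
theorem hT47_0 : levOK AL (nat_lit 30) (nat_lit 0xffc003fffc) T47_0 = true := by decide +kernel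
def T47_1 : Lev := ⟨nat_lit 2, nat_lit 48, [nat_lit 0xb2ce44f42534f8053cc18620a, nat_lit 0x202e339f94f28c14638e16208f, nat_lit 0xb3a534f8a33113c40c714b1039c4], [nat_lit 0, nat_lit 2, nat_lit 4, nat_lit 0, nat_lit 2, nat_lit 0, nat_lit 2, nat_lit 0, nat_lit 0]⟩
theorem hT47_1 : levOK AL (nat_lit 30) (nat_lit 0xffc003fffc) T47_1 = true := by decide +kernel
theorem chT47 : ChOK CX AL (nat_lit 30) (nat_lit 0xffc003fffc) (nat_lit 966) (nat_lit 47) (nat_lit 3548160) :=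
  ⟨[T47_0, T47_1], [nat_lit 673, nat_lit 669, nat_lit 674, nat_lit 944, nat_lit 945, nat_lit 946], by decide +kernel, allc hT47_0 <| all1 hT47_1, by decide +kernel, by decide +kernel⟩
def sd48_0 : List Seed := [⟨nat_lit 0, (nat_lit 0), (.m (nat_lit 0x55b) (nat_lit 0) (nat_lit 0) .nil), (.m (nat_lit 0x5f0) (nat_lit 0) (nat_lit 0x59a6a15d789b5db494599) .nil), (.m (nat_lit 0x5b9) (nat_lit 0) (nat_lit 0x6567228db81d5995d25d75d3) .nil)⟩,
  ⟨nat_lit 1, (nat_lit 13), (.m (nat_lit 0x56b) (nat_lit 0x562561563) (nat_lit 0x1b81681f59b61749265a) .nil), (.m (nat_lit 0x5e1) (nat_lit 0x564561565) (nat_lit 0x65d7e159c8176db9134d8) .nil), (.m (nat_lit 0x5e6) (nat_lit 0x563565563) (nat_lit 0x71789b75b959998512497) .nil)⟩,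
  ⟨nat_lit 2, (nat_lit 4), (.m (nat_lit 0x56f) (nat_lit 0x560565562560562565) (nat_lit 0x1999d75889769c59649b5d9) .nil), (.m (nat_lit 0x59d) (nat_lit 0x564563564563560563) (nat_lit 0x6266169597167d74987d2) .nil), (.m (nat_lit 0x5c3) (nat_lit 0x560562561562560563) (nat_lit 0x6e059a99659d75949461f) .nil)⟩,
  ⟨nat_lit 3, (nat_lit 12), (.m (nat_lit 0x570) (nat_lit 0x560565561563560) (nat_lit 0x95985c9a76d649559c) .nil), (.m (nat_lit 0x6e0) (nat_lit 0x560564564561561564) (nat_lit 0x1b8168195d7717497656) .nil), (.m (nat_lit 0x5e4) (nat_lit 0x562565561565) (nat_lit 0x1a89c61a7636d659859255d612) .nil)⟩,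
  ⟨nat_lit 4, (nat_lit 10), (.m (nat_lit 0x566) (nat_lit 0x560560564564561561) (nat_lit 0x5df9577236989564e3) .nil), (.m (nat_lit 0x599) (nat_lit 0x563564563560563) (nat_lit 0x1672675d65d62659649451d) .nil), (.m (nat_lit 0x57d) (nat_lit 0x565560560565565563) (nat_lit 0x59c61a75b7d9696592556596) .nil)⟩,
  ⟨nat_lit 9, (nat_lit 456), (.m (nat_lit 0x59b) (nat_lit 0x560563564563) (nat_lit 0x6966dd626699859592492614) .nil), (.m (nat_lit 0x5ec) (nat_lit 0x560560564564) (nat_lit 0x61d7dd5da59c7165935d8552) .nil), (.m (nat_lit 0x5e9) (nat_lit 0x561565563) (nat_lit 0x5d859f8a16d975d5d249b592) .nil)⟩,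
  ⟨nat_lit 38, (nat_lit 909), (.m (nat_lit 0x575) (nat_lit 0x560560565561563) (nat_lit 0x6a061a89b759858593593) .nil), (.m (nat_lit 0x5b3) (nat_lit 0x562565560560562561) (nat_lit 0x6d67666e16e66216d6494492) .nil), (.m (nat_lit 0x5d5) (nat_lit 0x563564564562562) (nat_lit 0x186967da66175b6d9592518) .nil)⟩,
  ⟨nat_lit 459, (nat_lit 270), (.m (nat_lit 0x573) (nat_lit 0x560563561563561) (nat_lit 0x69c71a5a07d795c4925d3) .nil), (.m (nat_lit 0x5ca) (nat_lit 0x561563565565560) (nat_lit 0x196e05e17197d6596497654) .nil), (.m (nat_lit 0x5d3) (nat_lit 0x563564562565) (nat_lit 0x5e371769662599a61649849a) .nil)⟩,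
  ⟨nat_lit 52, (nat_lit 991), (.m (nat_lit 0x588) (nat_lit 0x562562560) (nat_lit 0x185da59a85a99b7d9495813) .nil), (.m (nat_lit 0x581) (nat_lit 0x564564564561564) (nat_lit 0x185d76e05e265a598497) .nil), (.m (nat_lit 0x6ed) (nat_lit 0x560562561565560) (nat_lit 0x61f5df6d75d98dd494666) .nil)⟩,
  ⟨nat_lit 1205, (nat_lit 399), (.m (nat_lit 0x569) (nat_lit 0x560565561) (nat_lit 0x5df8636db65c71b4944db) .nil), (.m (nat_lit 0x5eb) (nat_lit 0x562564563561) (nat_lit 0x1675d6d86a15db7584974e0) .nil), (.m (nat_lit 0x5b0) (nat_lit 0x562565561) (nat_lit 0x185a0596661596616494716) .nil)⟩,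
  ⟨nat_lit 128, (nat_lit 323), (.m (nat_lit 0x5b6) (nat_lit 0x560563563565560) (nat_lit 0x195dd99675d7577d2492612) .nil), (.m (nat_lit 0x5df) (nat_lit 0x564561565562565) (nat_lit 0x1b61b65a7d785a7d64da553) .nil), (.m (nat_lit 0x5c8) (nat_lit 0x561562564560560) (nat_lit 0x5d975b65f6d6856494724) .nil)⟩,
  ⟨nat_lit 242, (nat_lit 0x449), (.m (nat_lit 0x5bf) (nat_lit 0x565563564) (nat_lit 0x89a5d761669a599495618) .nil), (.m (nat_lit 0x5c7) (nat_lit 0x564563563560) (nat_lit 0x59c59689a8167184925d7) .nil), (.m (nat_lit 0x6ef) (nat_lit 0x565560560) (nat_lit 0x5e07dc7d861a6995d25d4) .nil)⟩,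
  ⟨nat_lit 1079, (nat_lit 905), (.m (nat_lit 0x593) (nat_lit 0x563563563560564562) (nat_lit 0x61875799b59681c4925d5) .nil), (.m (nat_lit 0x5ad) (nat_lit 0x561564564563563561) (nat_lit 0x2059c71765d5d849b5d9) .nil), (.m (nat_lit 0x5af) (nat_lit 0x565560563563565561564) (nat_lit 0x65a8dd99b6e661d5d2494912) .nil)⟩,
  ⟨nat_lit 1597, (nat_lit 0x44e), (.m (nat_lit 0x5a8) (nat_lit 0x565562562560564560) (nat_lit 0x65969675d6186e4593) .nil), (.m (nat_lit 0x5ce) (nat_lit 0x565560562565565) (nat_lit 0x2062585b9db5e0524594) .nil), (.m (nat_lit 0x5a8) (nat_lit 0x560560560560562564) (nat_lit 0x1669871965d75f6245997d3) .nil)⟩,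
  ⟨nat_lit 1762, (nat_lit 643), (.m (nat_lit 0x579) (nat_lit 0x560562561563563564563) (nat_lit 0x6598db85b9585dd49459a) .nil), (.m (nat_lit 0x5ab) (nat_lit 0x565565561562561564) (nat_lit 0x59d6d999b59a6574a04a4) .nil), (.m (nat_lit 0x58b) (nat_lit 0x561565565563561561) (nat_lit 0x59f5dd7d965959649491b) .nil)⟩,
  ⟨nat_lit 350, (nat_lit 0x410e), (.m (nat_lit 0x685) (nat_lit 0x561565563564) (nat_lit 0x5a169a5dc9586d8495656) .nil), (.m (nat_lit 0x58d) (nat_lit 0x562560560563) (nat_lit 0x6188e55a05d96d649a657) .nil), (.m (nat_lit 0x583) (nat_lit 0x565560) (nat_lit 0x166e05a169c5d749b5da) .nil)⟩,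
  ⟨nat_lit 1524, (nat_lit 139), (.m (nat_lit 0x5a5) (nat_lit 0x560562560563565560) (nat_lit 0x1f6e16d771a59b494666) .nil), (.m (nat_lit 0x597) (nat_lit 0x560560562561564562561) (nat_lit 0x1a75b6d889a72261649251c) .nil), (.m (nat_lit 0x597) (nat_lit 0x560563564560563564562) (nat_lit 0x1a7176967598594947d2) .nil)⟩,
  ⟨nat_lit 3965, (nat_lit 0x442), (.m (nat_lit 0x57f) (nat_lit 0x562565565562560563) (nat_lit 0x177576d88a76176d6494717) .nil), (.m (nat_lit 0x57a) (nat_lit 0x561561564562562561) (nat_lit 0x5998598dd8176965926d8492) .nil), (.m (nat_lit 0x58f) (nat_lit 0x564564564562562) (nat_lit 0x61c5da8998976d4718712) .nil)⟩,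
  ⟨nat_lit 478, (nat_lit 208), (.m (nat_lit 0x5cc) (nat_lit 0x561561565561564) (nat_lit 0x81b59f65b75d7d649a525) .nil), (.m (nat_lit 0x5b4) (nat_lit 0x561562562561) (nat_lit 0x61c61a7d9759759592519512) .nil), (.m (nat_lit 0x5a0) (nat_lit 0x560560560563560563) (nat_lit 0x186d77e165971a692814) .nil)⟩,
  ⟨nat_lit 29762, (nat_lit 143), (.m (nat_lit 0x595) (nat_lit 0x560564563560564560) (nat_lit 0x59a65c7226d969f594756512) .nil), (.m (nat_lit 0x5c1) (nat_lit 0x565561561564564) (nat_lit 0x6d86265e559d5d859249d595) .nil), (.m (nat_lit 0x5bd) (nat_lit 0x564564564564560) (nat_lit 0x61a59f85c7d65984944a7) .nil)⟩,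
  ⟨nat_lit 1221, (nat_lit 969), (.m (nat_lit 0x585) (nat_lit 0x563560560562562562) (nat_lit 0x65a66085a8dc71f5944e5) .nil), (.m (nat_lit 0x5a7) (nat_lit 0x561564561561565562562) (nat_lit 0x1a99889b6e161d652517752) .nil), (.m (nat_lit 0x585) (nat_lit 0x560562560562565) (nat_lit 0x186d65969a781659251f8d2) .nil)⟩,
  ⟨nat_lit 30653, (nat_lit 0x51e5), (.m (nat_lit 0x5dc) (nat_lit 0x560560564563565) (nat_lit 0x59c59a8da698756492923) .nil), (.m (nat_lit 0x5a2) (nat_lit 0x563560564561562) (nat_lit 0x59975b89b65a659494496) .nil), (.m (nat_lit 0x5bb) (nat_lit 0x563561561564561) (nat_lit 0x186d885b65c5dd6125666d3) .nil)⟩,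
  ⟨nat_lit 6784, (nat_lit 527), (.m (nat_lit 0x591) (nat_lit 0x561563563563561565) (nat_lit 0x6e159c7186e18985d4717) .nil), (.m (nat_lit 0x586) (nat_lit 0x560562564562561564) (nat_lit 0x61f6a671f81b65c4945a7) .nil), (.m (nat_lit 0x591) (nat_lit 0x563561565563561) (nat_lit 0x1659d6dc5d77d7816512652) .nil)⟩,
  ⟨nat_lit 2884, (nat_lit 144), (.m (nat_lit 0x577) (nat_lit 0x560563564563561) (nat_lit 0x209576d859669c65449b) .nil), (.m (nat_lit 0x5d0) (nat_lit 0x560565560565565560) (nat_lit 0x69f82359d65a5d849a753) .nil), (.m (nat_lit 0x5d6) (nat_lit 0x564564560564563) (nat_lit 0x5db5d965c59665a497563) .nil)⟩,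
  ⟨nat_lit 2381, (nat_lit 0xa0e1), (.m (nat_lit 0x59e) (nat_lit 0x560564564561565) (nat_lit 0x178a16228db59681751249a) .nil), (.m (nat_lit 0x5da) (nat_lit 0x560564564561562) (nat_lit 0x1a65f75899659d49a757) .nil), (.m (nat_lit 0x5c4) (nat_lit 0x560562565565) (nat_lit 0x1a8195db6265d76944a3) .nil)⟩,
  ⟨nat_lit 22202, (nat_lit 0x2347), (.m (nat_lit 0x5e3) (nat_lit 0x562561565) (nat_lit 0x177185da72559c6164947e3) .nil), (.m (nat_lit 0x5d9) (nat_lit 0x560560565) (nat_lit 0x6996d95db9987da5964946d2) .nil), (.m (nat_lit 0x5d9) (nat_lit 0x561561565565561) (nat_lit 0x6d771a6607d67595e44d5) .nil)⟩,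
  ⟨nat_lit 16559, (nat_lit 0x20c451), (.m (nat_lit 0x630) (nat_lit 0x563) (nat_lit 0x1b5d775f7675a06525d5) .nil), (.m (nat_lit 0x56d) (nat_lit 0x560562560) (nat_lit 0x5e375d819659999497) .nil), (.m (nat_lit 0x5ee) (nat_lit 0x564) (nat_lit 0x7d86968dc59695b494524) .nil)⟩]
theorem hsd48_0 : allL (CX.seedOK AL (nat_lit 0xffc003fffc) (nat_lit 966) (nat_lit 0x1f80cf7000035f) (nat_lit 40) (nat_lit 0xa27) (nat_lit 48)) sd48_0 = true := by decide +kernel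
theorem cov48 : CovOK CX AL (nat_lit 30) (nat_lit 0xffc003fffc) (nat_lit 137632) (nat_lit 966) (nat_lit 0x1f80cf7000035f) (nat_lit 40) (nat_lit 0xa27) (nat_lit 48) :=
  ⟨[sd48_0], [nat_lit 688, nat_lit 689, nat_lit 690], [nat_lit 0xb3d129144d86230a08232328a145, nat_lit 0x213653e08ce28c0c420c98f, nat_lit 0xb80e40a8257903021e33107ca], [nat_lit 0, nat_lit 2, nat_lit 4, nat_lit 0, nat_lit 2, nat_lit 4, nat_lit 0, nat_lit 2, nat_lit 4, nat_lit 0, nat_lit 2, nat_lit 4, nat_lit 0, nat_lit 2, nat_lit 4, nat_lit 0, nat_lit 2, nat_lit 4, nat_lit 0, nat_lit 2, nat_lit 0], all1 hsd48_0, by decide +kernel, by decide +kernel⟩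
def T48_0 : Lev := ⟨nat_lit 255, nat_lit 20160, [nat_lit 0xb3d129144d86230a08232328a145, nat_lit 0x213653e08ce28c0c420c98f, nat_lit 0xb80e40a8257903021e33107ca], [nat_lit 0, nat_lit 2, nat_lit 4, nat_lit 0, nat_lit 2, nat_lit 4, nat_lit 0, nat_lit 2, nat_lit 4, nat_lit 0, nat_lit 2, nat_lit 4, nat_lit 0, nat_lit 2, nat_lit 4, nat_lit 0, nat_lit 2, nat_lit 4, nat_lit 0, nat_lit 2, nat_lit 0]⟩
theorem hT48_0 : levOK AL (nat_lit 30) (nat_lit 0xffc003fffc) T48_0 = true := by decide +kernel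
def T48_1 : Lev := ⟨nat_lit 1, nat_lit 4, [nat_lit 0x8ca3e5410111288445, nat_lit 0x30f34b3cc38a7ce10b104351], [nat_lit 0, nat_lit 2]⟩
theorem hT48_1 : levOK AL (nat_lit 30) (nat_lit 0xffc003fffc) T48_1 = true := by decide +kernel
theorem chT48 : ChOK CX AL (nat_lit 30) (nat_lit 0xffc003fffc) (nat_lit 966) (nat_lit 48) (nat_lit 80640) :=
  ⟨[T48_0, T48_1], [nat_lit 688, nat_lit 689, nat_lit 690, nat_lit 947, nat_lit 948], by decide +kernel, allc hT48_0 <| all1 hT48_1, by decide +kernel, by decide +kernel⟩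
def sd49_0 : List Seed := [⟨nat_lit 0, (nat_lit 0), (.m (nat_lit 0x5f3) (nat_lit 0) (nat_lit 0) .nil), (.m (nat_lit 0x60a) (nat_lit 0x604603604603604) (nat_lit 0x1976665c99d757714494953) .nil), (.m (nat_lit 0x60a) (nat_lit 0x600600600602605601) (nat_lit 0x1869f61b5a16d8616494652) .nil)⟩,
  ⟨nat_lit 2, (nat_lit 4), (.m (nat_lit 0x609) (nat_lit 0x603604604604603601604) (nat_lit 0x61b62071f8565a25a4593552) .nil), (.m (nat_lit 0x6f7) (nat_lit 0x600604600605603601605) (nat_lit 0x1775771772669a99649451a) .nil), (.m (nat_lit 0x6f7) (nat_lit 0x604600602605600600604) (nat_lit 0x1b61c69c959657752523892) .nil)⟩,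
  ⟨nat_lit 223, (nat_lit 5), (.m (nat_lit 0x5fe) (nat_lit 0x604601605602605602604601) (nat_lit 0x167195a08dc6a05d2559692) .nil), (.m (nat_lit 0x5fe) (nat_lit 0x603605600605601605602605601604) (nat_lit 0x1a95a59a89971b616512621) .nil), (.m (nat_lit 0x5fe) (nat_lit 0x604601605600605600600604603604) (nat_lit 0x66561c6e66d76574946a4) .nil)⟩,
  ⟨nat_lit 2240, (nat_lit 642), (.m (nat_lit 0x607) (nat_lit 0x600603604603605600602604601) (nat_lit 0x99b89c69795969c49a755) .nil), (.m (nat_lit 0x607) (nat_lit 0x601604603601601) (nat_lit 0x207177578987255d2596) .nil), (.m (nat_lit 0x607) (nat_lit 0x600603605605603600) (nat_lit 0x5e065965b616896593696) .nil)⟩]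
theorem hsd49_0 : allL (CX.seedOK AL (nat_lit 0xffc003fffc) (nat_lit 966) (nat_lit 0x1f80cf7000035f) (nat_lit 40) (nat_lit 0xa27) (nat_lit 49)) sd49_0 = true := by decide +kernel
theorem cov49 : CovOK CX AL (nat_lit 30) (nat_lit 0xffc003fffc) (nat_lit 137632) (nat_lit 966) (nat_lit 0x1f80cf7000035f) (nat_lit 40) (nat_lit 0xa27) (nat_lit 49) :=
  ⟨[sd49_0], [nat_lit 768, nat_lit 769, nat_lit 770], [nat_lit 0x38d2a644a88a40220f791, nat_lit 0xb9a546539078a0883c21a1, nat_lit 0xb8502e138e34e28228694d], [nat_lit 0, nat_lit 4, nat_lit 2, nat_lit 0, nat_lit 4, nat_lit 2, nat_lit 0, nat_lit 4, nat_lit 2, nat_lit 0, nat_lit 4, nat_lit 2, nat_lit 0, nat_lit 4, nat_lit 2, nat_lit 0, nat_lit 4, nat_lit 2, nat_lit 0, nat_lit 4, nat_lit 2, nat_lit 0, nat_lit 4, nat_lit 2, nat_lit 0], all1 hsd49_0, by decide +kernel, by decide +kernel⟩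
def T49_0 : Lev := ⟨nat_lit 15, nat_lit 93600, [nat_lit 0x38d2a644a88a40220f791, nat_lit 0xb9a546539078a0883c21a1, nat_lit 0xb8502e138e34e28228694d], [nat_lit 0, nat_lit 2, nat_lit 4, nat_lit 0, nat_lit 2, nat_lit 4, nat_lit 0, nat_lit 2, nat_lit 4, nat_lit 0, nat_lit 2, nat_lit 4, nat_lit 0, nat_lit 2, nat_lit 4, nat_lit 0, nat_lit 2, nat_lit 4, nat_lit 0, nat_lit 2, nat_lit 4, nat_lit 0, nat_lit 2, nat_lit 0]⟩
theorem hT49_0 : levOK AL (nat_lit 30) (nat_lit 0xffc003fffc) T49_0 = true := by decide +kernel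
def T49_1 : Lev := ⟨nat_lit 6, nat_lit 384, [nat_lit 0xe84d7e33cc30b0883cb1e7, nat_lit 0xc88b40e41f2902c730e1a4], [nat_lit 0, nat_lit 2, nat_lit 0, nat_lit 2, nat_lit 0, nat_lit 2, nat_lit 0, nat_lit 2, nat_lit 0, nat_lit 2, nat_lit 0, nat_lit 2, nat_lit 0, nat_lit 2]⟩
theorem hT49_1 : levOK AL (nat_lit 30) (nat_lit 0xffc003fffc) T49_1 = true := by decide +kernel
theorem chT49 : ChOK CX AL (nat_lit 30) (nat_lit 0xffc003fffc) (nat_lit 966) (nat_lit 49) (nat_lit 35942400) :=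
  ⟨[T49_0, T49_1], [nat_lit 768, nat_lit 769, nat_lit 770, nat_lit 949, nat_lit 950], by decide +kernel, allc hT49_0 <| all1 hT49_1, by decide +kernel, by decide +kernel⟩
def sd50_0 : List Seed := [⟨nat_lit 0, (nat_lit 0), (.m (nat_lit 0x60d) (nat_lit 0) (nat_lit 0) .nil), (.m (nat_lit 0x631) (nat_lit 0x61f62362061f61f) (nat_lit 0x1b61b7216a35a64a06e1) .nil), (.m (nat_lit 0x631) (nat_lit 0x61f61f620) (nat_lit 0x195df65a7606d9652517492) .nil)⟩,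
  ⟨nat_lit 6, (nat_lit 9), (.m (nat_lit 0x627) (nat_lit 0x62061f61f) (nat_lit 0x81b8996595e1956512521) .nil), (.m (nat_lit 0x637) (nat_lit 0x62262061f62262161f) (nat_lit 0x19759817767596954916512) .nil), (.m (nat_lit 0x637) (nat_lit 0x61e61e62062061f61f) (nat_lit 0x2085861b9e36e6498998) .nil)⟩,
  ⟨nat_lit 35, (nat_lit 15), (.m (nat_lit 0x61a) (nat_lit 0x62062362161f62362361e) (nat_lit 0x61c61871859b5d849a51b) .nil), (.m (nat_lit 0x62a) (nat_lit 0x62262162261f62262261f) (nat_lit 0x6658565a565f5d849b5d9) .nil), (.m (nat_lit 0x62a) (nat_lit 0x62162261e621621623) (nat_lit 0x6a159c7e25d86d651d594) .nil)⟩,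
  ⟨nat_lit 29762, (nat_lit 143), (.m (nat_lit 0x633) (nat_lit 0x61e61e61e62161f61f623) (nat_lit 0x1871a99d858617696512894) .nil), (.m (nat_lit 0x62f) (nat_lit 0x62361f62061f621622) (nat_lit 0x185967255e58db65a49581b) .nil), (.m (nat_lit 0x629) (nat_lit 0x62161f62161e622620622) (nat_lit 0x6e089b65a5e55d9592492612) .nil)⟩,
  ⟨nat_lit 3965, (nat_lit 0x442), (.m (nat_lit 0x624) (nat_lit 0x62162262061f62361e622) (nat_lit 0x6dc69a76059c6db59649b49f) .nil), (.m (nat_lit 0x62d) (nat_lit 0x62361e62362061e621622) (nat_lit 0x1a61b6d96e35996564945d7) .nil), (.m (nat_lit 0x62d) (nat_lit 0x62362062261f62361e) (nat_lit 0x166985d97637596d251f492) .nil)⟩,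
  ⟨nat_lit 388, (nat_lit 159), (.m (nat_lit 0x635) (nat_lit 0x62062361f621622) (nat_lit 0x6db9976e175a69a61649b4d6) .nil), (.m (nat_lit 0x635) (nat_lit 0x62061e62062061e) (nat_lit 0x59895671f6e15dc592492612) .nil), (.m (nat_lit 0x638) (nat_lit 0x62162261f623) (nat_lit 0x69859d75b6e281749a7d5) .nil)⟩]
theorem hsd50_0 : allL (CX.seedOK AL (nat_lit 0xffc003fffc) (nat_lit 966) (nat_lit 0x1f80cf7000035f) (nat_lit 40) (nat_lit 0xa27) (nat_lit 50)) sd50_0 = true := by decide +kernel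
theorem cov50 : CovOK CX AL (nat_lit 30) (nat_lit 0xffc003fffc) (nat_lit 137632) (nat_lit 966) (nat_lit 0x1f80cf7000035f) (nat_lit 40) (nat_lit 0xa27) (nat_lit 50) :=
  ⟨[sd50_0], [nat_lit 783, nat_lit 784, nat_lit 785], [nat_lit 0x30a88f78a88c40b10340f205302, nat_lit 0xa7902e538e8902890d0, nat_lit 0xc3a694e46634a802310948], [nat_lit 0, nat_lit 2, nat_lit 4, nat_lit 0, nat_lit 2, nat_lit 4, nat_lit 0, nat_lit 2, nat_lit 4, nat_lit 0, nat_lit 2, nat_lit 4, nat_lit 0, nat_lit 2, nat_lit 4, nat_lit 0, nat_lit 2, nat_lit 4, nat_lit 0, nat_lit 2, nat_lit 4, nat_lit 0, nat_lit 0], all1 hsd50_0, by decide +kernel, by decide +kernel⟩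
def T50_0 : Lev := ⟨nat_lit 243, nat_lit 67584, [nat_lit 0x30a88f78a88c40b10340f205302, nat_lit 0xa7902e538e8902890d0, nat_lit 0xc3a694e46634a802310948], [nat_lit 0, nat_lit 2, nat_lit 4, nat_lit 0, nat_lit 2, nat_lit 4, nat_lit 0, nat_lit 2, nat_lit 4, nat_lit 0, nat_lit 2, nat_lit 4, nat_lit 0, nat_lit 2, nat_lit 4, nat_lit 0, nat_lit 2, nat_lit 4, nat_lit 0, nat_lit 2, nat_lit 4, nat_lit 0, nat_lit 0]⟩
theorem hT50_0 : levOK AL (nat_lit 30) (nat_lit 0xffc003fffc) T50_0 = true := by decide +kernel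
def T50_1 : Lev := ⟨nat_lit 32, nat_lit 120, [nat_lit 0x32540d7e284e8a434a, nat_lit 0x1e30b98f41084a091190], [nat_lit 0, nat_lit 2, nat_lit 0, nat_lit 2, nat_lit 0, nat_lit 2, nat_lit 0, nat_lit 2, nat_lit 0, nat_lit 2, nat_lit 0, nat_lit 2]⟩
theorem hT50_1 : levOK AL (nat_lit 30) (nat_lit 0xffc003fffc) T50_1 = true := by decide +kernel
theorem chT50 : ChOK CX AL (nat_lit 30) (nat_lit 0xffc003fffc) (nat_lit 966) (nat_lit 50) (nat_lit 8110080) :=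
  ⟨[T50_0, T50_1], [nat_lit 783, nat_lit 784, nat_lit 785, nat_lit 951, nat_lit 952], by decide +kernel, allc hT50_0 <| all1 hT50_1, by decide +kernel, by decide +kernel⟩
def sd51_0 : List Seed := [⟨nat_lit 0, (nat_lit 0), (.m (nat_lit 0x63b) (nat_lit 0) (nat_lit 0) .nil), (.m (nat_lit 0x63b) (nat_lit 0x64e64e65365064e) (nat_lit 0x6a561d65d5dc99959649b61f) .nil), (.m (nat_lit 0x68c) (nat_lit 0x65065364f) (nat_lit 0x7d871a5a76255d251f712) .nil)⟩,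
  ⟨nat_lit 1, (nat_lit 13), (.m (nat_lit 0x689) (nat_lit 0x65164e65364e651) (nat_lit 0x167e175b7d76967174956dc) .nil), (.m (nat_lit 0x684) (nat_lit 0x650653651652650) (nat_lit 0x1661a6655da7196d26e3) .nil), (.m (nat_lit 0x679) (nat_lit 0x64e64e653653653) (nat_lit 0x6636e161a85f65d59471c9d2) .nil)⟩,
  ⟨nat_lit 2, (nat_lit 4), (.m (nat_lit 0x66d) (nat_lit 0x64e65164f652) (nat_lit 0x1a65b5d769d5e5656494857) .nil), (.m (nat_lit 0x658) (nat_lit 0x64e64e65265264e653651) (nat_lit 0x69971a9989da89d49a652) .nil), (.m (nat_lit 0x658) (nat_lit 0x64e65165265265064e64e652) (nat_lit 0x62371b62575b6d861649a815) .nil)⟩,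
  ⟨nat_lit 3, (nat_lit 12), (.m (nat_lit 0x65b) (nat_lit 0x65065364f652) (nat_lit 0x85d5a38996d96926a0) .nil), (.m (nat_lit 0x675) (nat_lit 0x64e64e64e650652651653) (nat_lit 0x1899975d7e365a75649269a) .nil), (.m (nat_lit 0x65b) (nat_lit 0x64f65165364f64f653) (nat_lit 0x1b65a5a16577186d255d753) .nil)⟩,
  ⟨nat_lit 4, (nat_lit 10), (.m (nat_lit 0x649) (nat_lit 0x64e65264e65264e651653651) (nat_lit 0x65f8dd6d689d5d2496) .nil), (.m (nat_lit 0x649) (nat_lit 0x64e65265265265264e65164f652) (nat_lit 0x61a86665c61c6d7612694752) .nil), (.m (nat_lit 0x654) (nat_lit 0x64f65064f652651652652652) (nat_lit 0x5d76d871b7599564926a7) .nil)⟩,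
  ⟨nat_lit 9, (nat_lit 456), (.m (nat_lit 0x669) (nat_lit 0x64f65164f65365165264e) (nat_lit 0x8a17175dd5da596497656) .nil), (.m (nat_lit 0x669) (nat_lit 0x64e65265265065064f64f) (nat_lit 0x6d975795799859659251f852) .nil), (.m (nat_lit 0x66b) (nat_lit 0x65065364f64f65364f) (nat_lit 0x89d7606597da992518813) .nil)⟩,
  ⟨nat_lit 26, (nat_lit 14), (.m (nat_lit 0x670) (nat_lit 0x64f65264e65064f651) (nat_lit 0x189996dd75d59b592517952) .nil), (.m (nat_lit 0x670) (nat_lit 0x65064e65164f64f) (nat_lit 0x178186d985d6dd5926d8993) .nil), (.m (nat_lit 0x67f) (nat_lit 0x65264e650) (nat_lit 0x1971c5e55e785b596495612) .nil)⟩,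
  ⟨nat_lit 307, (nat_lit 2), (.m (nat_lit 0x661) (nat_lit 0x65164e65265165264e) (nat_lit 0x6dd6d77575d86d7494955) .nil), (.m (nat_lit 0x656) (nat_lit 0x64e65064f65065064f64f) (nat_lit 0x621758697696718513696) .nil), (.m (nat_lit 0x656) (nat_lit 0x64e65365165265264f653650) (nat_lit 0x6175d999795a71651c712) .nil)⟩,
  ⟨nat_lit 223, (nat_lit 5), (.m (nat_lit 0x666) (nat_lit 0x65065364f653653) (nat_lit 0x1a71b61b8e77dc6965925168d2) .nil), (.m (nat_lit 0x64b) (nat_lit 0x65065365065264e652) (nat_lit 0x1a85d6607186184a0852) .nil), (.m (nat_lit 0x673) (nat_lit 0x64e64e65064f650650) (nat_lit 0x1669a61c7207da8125179d2) .nil)⟩,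
  ⟨nat_lit 36, (nat_lit 0x460), (.m (nat_lit 0x65d) (nat_lit 0x64e64e64e64e65364e65264e) (nat_lit 0x196e099871a8189965124a7) .nil), (.m (nat_lit 0x65d) (nat_lit 0x65364f64f653) (nat_lit 0x167166a065f699495693) .nil), (.m (nat_lit 0x677) (nat_lit 0x652650653651) (nat_lit 0x166e566181c89b49459a) .nil)⟩,
  ⟨nat_lit 57, (nat_lit 263), (.m (nat_lit 0x663) (nat_lit 0x64f65064e65165265064f) (nat_lit 0x1869869a75a5d86184954e2) .nil), (.m (nat_lit 0x663) (nat_lit 0x64f65265165364f65264f) (nat_lit 0x176db62295775889a4954dc) .nil), (.m (nat_lit 0x665) (nat_lit 0x64e64e651652652650653) (nat_lit 0x6976229986167575d25d75d3) .nil)⟩,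
  ⟨nat_lit 86, (nat_lit 784), (.m (nat_lit 0x683) (nat_lit 0x65064f65364f653650) (nat_lit 0x69c6986995df81749495d) .nil), (.m (nat_lit 0x66e) (nat_lit 0x65365364f64f64f651) (nat_lit 0x59a7577dc9d771b5925d2) .nil), (.m (nat_lit 0x65f) (nat_lit 0x64e64e65065265164f) (nat_lit 0x177208e26db8d969649a755) .nil)⟩,
  ⟨nat_lit 90, (nat_lit 0x3208), (.m (nat_lit 0x6fb) (nat_lit 0x65165365065364f) (nat_lit 0x61871659c5e66994d3) .nil), (.m (nat_lit 0x6fb) (nat_lit 0x64e64e652651) (nat_lit 0x6606df65659c8d949251d) .nil), (.m (nat_lit 0x67d) (nat_lit 0x64f64f653651) (nat_lit 0x1965772665a5968964a06e1) .nil)⟩,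
  ⟨nat_lit 109, (nat_lit 0x91e5), (.m (nat_lit 0x68b) (nat_lit 0x64f64f65164e) (nat_lit 0x1661d5a15d761d49a555) .nil), (.m (nat_lit 0x67b) (nat_lit 0x65164f65364f) (nat_lit 0x189565a569c99c4a0852) .nil), (.m (nat_lit 0x68b) (nat_lit 0x64f64f64f653650) (nat_lit 0x62175b6d869c7da5d4718592) .nil)⟩,
  ⟨nat_lit 1819, (nat_lit 0x88466), (.m (nat_lit 0x68f) (nat_lit 0x65264e64e) (nat_lit 0x176167d76986975d84947dc) .nil), (.m (nat_lit 0x690) (nat_lit 0x65064f) (nat_lit 0x166187177e6596618492527) .nil), (.m (nat_lit 0x690) (nat_lit 0x65264e651) (nat_lit 0x19716661725659756492498) .nil)⟩,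
  ⟨nat_lit 2946, (nat_lit 0xf18d), (.m (nat_lit 0x687) (nat_lit 0x65364e65264e) (nat_lit 0x1969861f75699b7d6492595) .nil), (.m (nat_lit 0x687) (nat_lit 0x64f65364f653) (nat_lit 0x1a65d89999d618596916498) .nil), (.m (nat_lit 0x681) (nat_lit 0x652650653651) (nat_lit 0x6576df95d9db99b59651c615) .nil)⟩]
theorem hsd51_0 : allL (CX.seedOK AL (nat_lit 0xffc003fffc) (nat_lit 966) (nat_lit 0x1f80cf7000035f) (nat_lit 40) (nat_lit 0xa27) (nat_lit 51)) sd51_0 = true := by decide +kernel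
theorem cov51 : CovOK CX AL (nat_lit 30) (nat_lit 0xffc003fffc) (nat_lit 137632) (nat_lit 966) (nat_lit 0x1f80cf7000035f) (nat_lit 40) (nat_lit 0xa27) (nat_lit 51) :=
  ⟨[sd51_0], [nat_lit 807, nat_lit 808, nat_lit 809], [nat_lit 0x2cf32032284e2cd0d110a1a2842, nat_lit 0x2cb94f34a94c44480734b086, nat_lit 0x28e2913603cc84d10b7c21822c7], [nat_lit 0, nat_lit 4, nat_lit 2, nat_lit 0, nat_lit 4, nat_lit 2, nat_lit 0, nat_lit 4, nat_lit 2, nat_lit 0, nat_lit 4, nat_lit 2, nat_lit 0, nat_lit 4, nat_lit 2, nat_lit 0, nat_lit 4, nat_lit 2, nat_lit 0, nat_lit 4, nat_lit 2, nat_lit 0], all1 hsd51_0, by decide +kernel, by decide +kernel⟩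
def T51_0 : Lev := ⟨nat_lit 4, nat_lit 40320, [nat_lit 0x2cf32032284e2cd0d110a1a2842, nat_lit 0x2cb94f34a94c44480734b086, nat_lit 0x28e2913603cc84d10b7c21822c7], [nat_lit 0, nat_lit 2, nat_lit 4, nat_lit 0, nat_lit 2, nat_lit 4, nat_lit 0, nat_lit 2, nat_lit 4, nat_lit 0, nat_lit 2, nat_lit 4, nat_lit 0, nat_lit 2, nat_lit 4, nat_lit 0, nat_lit 2, nat_lit 4, nat_lit 0, nat_lit 2, nat_lit 4, nat_lit 0]⟩
theorem hT51_0 : levOK AL (nat_lit 30) (nat_lit 0xffc003fffc) T51_0 = true := by decide +kernel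
def T51_1 : Lev := ⟨nat_lit 1, nat_lit 8, [nat_lit 0xb78d98a34e94e40a14320c1422c7, nat_lit 0x29136146031040f08f30e10f182], [nat_lit 0, nat_lit 2, nat_lit 0, nat_lit 0]⟩
theorem hT51_1 : levOK AL (nat_lit 30) (nat_lit 0xffc003fffc) T51_1 = true := by decide +kernel
theorem chT51 : ChOK CX AL (nat_lit 30) (nat_lit 0xffc003fffc) (nat_lit 966) (nat_lit 51) (nat_lit 322560) :=
  ⟨[T51_0, T51_1], [nat_lit 807, nat_lit 808, nat_lit 809, nat_lit 953, nat_lit 954], by decide +kernel, allc hT51_0 <| all1 hT51_1, by decide +kernel, by decide +kernel⟩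
def sd52_0 : List Seed := [⟨nat_lit 0, (nat_lit 0), (.m (nat_lit 0x693) (nat_lit 0) (nat_lit 0) .nil), (.m (nat_lit 0x6f6) (nat_lit 0x6a669f6a7) (nat_lit 0x195a37575d97db5d8592699) .nil), (.m (nat_lit 0x710) (nat_lit 0x6a46a66a46a6) (nat_lit 0x5e175b61c61f5d95964a0613) .nil)⟩,
  ⟨nat_lit 1, (nat_lit 13), (.m (nat_lit 0x6c3) (nat_lit 0x6a46a6) (nat_lit 0x2061b7659978184956e1) .nil), (.m (nat_lit 0x6fa) (nat_lit 0x6a56a669f6a6) (nat_lit 0x195db59a8da69d8d651289b) .nil), (.m (nat_lit 0x708) (nat_lit 0x6a46a66a569e6a5) (nat_lit 0x1a65a5d77635d76975126d7) .nil)⟩,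
  ⟨nat_lit 2, (nat_lit 4), (.m (nat_lit 0x6eb) (nat_lit 0x6a46a46a669f6a7) (nat_lit 0x6dd5dd6666a371a4956e1) .nil), (.m (nat_lit 0x6bb) (nat_lit 0x6a46a46a66a46a469e) (nat_lit 0x1869c5a671765d49b5da) .nil), (.m (nat_lit 0x6bb) (nat_lit 0x6a46a46a669e6a76a769f) (nat_lit 0x1659885895a7186d65135da) .nil)⟩,
  ⟨nat_lit 223, (nat_lit 5), (.m (nat_lit 0x6a1) (nat_lit 0x6a46a66a469f6a5) (nat_lit 0x1959f6d96598597d64926dd) .nil), (.m (nat_lit 0x6d0) (nat_lit 0x69e6a56a669f69f) (nat_lit 0x186dc99c69c6226d64d7613) .nil), (.m (nat_lit 0x6d9) (nat_lit 0x69f6a669f6a76a7) (nat_lit 0x5e559a6a565d5e6592519) .nil)⟩,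
  ⟨nat_lit 10, (nat_lit 198), (.m (nat_lit 0x6ab) (nat_lit 0x6a66a66a56a6) (nat_lit 0x1671672361895b59849571b) .nil), (.m (nat_lit 0x70c) (nat_lit 0x6a469f69f6a7) (nat_lit 0x5dd5a565972565f592492712) .nil), (.m (nat_lit 0x6e7) (nat_lit 0x6a46a469e6a469e) (nat_lit 0x5dd75772199c5d249d6d6) .nil)⟩,
  ⟨nat_lit 11, (nat_lit 7), (.m (nat_lit 0x6cd) (nat_lit 0x6a469e6a669e6a7) (nat_lit 0x1969781871c6a05d2559656) .nil), (.m (nat_lit 0x706) (nat_lit 0x6a469e69e6a4) (nat_lit 0x1a59c6d98625da696496555) .nil), (.m (nat_lit 0x701) (nat_lit 0x6a46a769e) (nat_lit 0x1a897718627956616512817) .nil)⟩,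
  ⟨nat_lit 398, (nat_lit 392), (.m (nat_lit 0x6b1) (nat_lit 0x6a469e6a56a56a66a4) (nat_lit 0x1a6667168dc61769649251f) .nil), (.m (nat_lit 0x6c6) (nat_lit 0x6a66a469e6a56a5) (nat_lit 0x59a6986d785b4954e7) .nil), (.m (nat_lit 0x6a8) (nat_lit 0x6a56a569e6a56a56a569f) (nat_lit 0x5dc72669a5a66a0495756) .nil)⟩,
  ⟨nat_lit 20, (nat_lit 6), (.m (nat_lit 0x6b3) (nat_lit 0x6a76a469e6a669f) (nat_lit 0x2171a6a159d996712517514) .nil), (.m (nat_lit 0x6dd) (nat_lit 0x6a66a46a469f6a5) (nat_lit 0x1a71f69669d61f6964a7) .nil), (.m (nat_lit 0x704) (nat_lit 0x69f6a66a469e) (nat_lit 0x168a65da99a5a06d6512624) .nil)⟩,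
  ⟨nat_lit 30, (nat_lit 418), (.m (nat_lit 0x6c5) (nat_lit 0x6a569e6a469e6a56a669f) (nat_lit 0x1971c59c61f61a656498) .nil), (.m (nat_lit 0x6bf) (nat_lit 0x6a569e6a56a66a46a4) (nat_lit 0x61799d85675d59659291b) .nil), (.m (nat_lit 0x6b8) (nat_lit 0x6a56a56a669e6a569f69f) (nat_lit 0x5996e06dd5dc7d94925e7) .nil)⟩,
  ⟨nat_lit 406, (nat_lit 332), (.m (nat_lit 0x6bd) (nat_lit 0x6a56a669e6a56a769f6a6) (nat_lit 0x1761b7d669d8a15964a05da) .nil), (.m (nat_lit 0x6bd) (nat_lit 0x6a66a46a76a569f6a4) (nat_lit 0x6df5e36186d79975d2595552) .nil), (.m (nat_lit 0x6bd) (nat_lit 0x69e6a56a769e69e6a5) (nat_lit 0x5da7da65b6d6712696516) .nil)⟩,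
  ⟨nat_lit 388, (nat_lit 159), (.m (nat_lit 0x6ae) (nat_lit 0x6a669e6a46a6) (nat_lit 0x187167566206995d9494621) .nil), (.m (nat_lit 0x6f2) (nat_lit 0x6a46a669e6a7) (nat_lit 0x6a271c7dc5995985926969d2) .nil), (.m (nat_lit 0x6ff) (nat_lit 0x6a46a76a56a66a46a66a4) (nat_lit 0x5db75b7db6db7175d269d553) .nil)⟩,
  ⟨nat_lit 131, (nat_lit 134), (.m (nat_lit 0x6cb) (nat_lit 0x6a46a66a469f69f6a6) (nat_lit 0x1a8da71c5d7625696495760) .nil), (.m (nat_lit 0x6c0) (nat_lit 0x6a46a66a56a56a669f) (nat_lit 0x1671c69f69a5a25d35d8592) .nil), (.m (nat_lit 0x6cb) (nat_lit 0x6a569e6a56a569f6a7) (nat_lit 0x5987e375d5db65649549c) .nil)⟩,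
  ⟨nat_lit 234, (nat_lit 514), (.m (nat_lit 0x6b7) (nat_lit 0x6a46a66a56a569e69e) (nat_lit 0x65c5968168968a05d2552592) .nil), (.m (nat_lit 0x6b7) (nat_lit 0x6a46a469e6a769f6a66a5) (nat_lit 0x65d61d69959c59c4db4db) .nil), (.m (nat_lit 0x6f0) (nat_lit 0x69e6a769f) (nat_lit 0x1b7d95a56165a259255a) .nil)⟩,
  ⟨nat_lit 704, (nat_lit 145), (.m (nat_lit 0x6ac) (nat_lit 0x69e6a569f6a66a5) (nat_lit 0x6d885b99d65c957512623) .nil), (.m (nat_lit 0x6b5) (nat_lit 0x6a46a769e6a76a4) (nat_lit 0x1a62559665c69a9964a45dd) .nil), (.m (nat_lit 0x6d2) (nat_lit 0x6a469e6a569f6a46a7) (nat_lit 0x5df65d59869a8a3594) .nil)⟩,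
  ⟨nat_lit 369, (nat_lit 452), (.m (nat_lit 0x6ce) (nat_lit 0x6a46a669e69e) (nat_lit 0x6a199859659665649a599) .nil), (.m (nat_lit 0x6e5) (nat_lit 0x6a66a669f6a469f6a6) (nat_lit 0x9596977186d76a34a055b) .nil), (.m (nat_lit 0x6d4) (nat_lit 0x6a46a669f6a46a469f) (nat_lit 0x6988d671862661a613692) .nil)⟩,
  ⟨nat_lit 1397, (nat_lit 450), (.m (nat_lit 0x6c9) (nat_lit 0x6a66a669e6a46a6) (nat_lit 0x196dd5d87db6e3494657) .nil), (.m (nat_lit 0x6c9) (nat_lit 0x6a66a66a56a66a6) (nat_lit 0x59b75b6e65e1616592556) .nil), (.m (nat_lit 0x6c9) (nat_lit 0x6a46a46a769e6a769e6a7) (nat_lit 0x229976596577e0692695) .nil)⟩,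
  ⟨nat_lit 957, (nat_lit 516), (.m (nat_lit 0x6de) (nat_lit 0x69e6a56a669e6a769e) (nat_lit 0x1771965b95d59d8164947e3) .nil), (.m (nat_lit 0x6fd) (nat_lit 0x69f69f6a669f6a4) (nat_lit 0x65661d65d8d66a14926e1) .nil), (.m (nat_lit 0x703) (nat_lit 0x6a469e6a76a46a769e) (nat_lit 0x1a6568da61f6995d7494620) .nil)⟩,
  ⟨nat_lit 2240, (nat_lit 642), (.m (nat_lit 0x6e9) (nat_lit 0x6a46a669e6a569f6a6) (nat_lit 0x59a7e359d6d971a49b5d9) .nil), (.m (nat_lit 0x6ec) (nat_lit 0x6a469f6a769f6a5) (nat_lit 0x1b5dc9975d98dc596495760) .nil), (.m (nat_lit 0x6e2) (nat_lit 0x6a669e6a569e) (nat_lit 0x59681c59b8d76dd496923) .nil)⟩,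
  ⟨nat_lit 628, (nat_lit 912), (.m (nat_lit 0x6f5) (nat_lit 0x6a56a6) (nat_lit 0x1b59f618818865612821492) .nil), (.m (nat_lit 0x70e) (nat_lit 0x6a56a66a56a6) (nat_lit 0x1d6db6269e56135d8992) .nil), (.m (nat_lit 0x70e) (nat_lit 0x6a56a76a56a7) (nat_lit 0x1669a8568186d9496516) .nil)⟩,
  ⟨nat_lit 8460, (nat_lit 0x11111), (.m (nat_lit 0x6ee) (nat_lit 0x6a76a469e) (nat_lit 0x6e059b7dc59a59a49471c) .nil), (.m (nat_lit 0x6f9) (nat_lit 0x6a56a56a56a76a4) (nat_lit 0x69d5e56569dc69a494627) .nil), (.m (nat_lit 0x70a) (nat_lit 0x6a46a46a66a669f) (nat_lit 0x6a659a59c5d981649b613) .nil)⟩,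
  ⟨nat_lit 6565, (nat_lit 0x2084), (.m (nat_lit 0x6d7) (nat_lit 0x6a46a46a469e69e) (nat_lit 0x6d965d59a5a25dc616494717) .nil), (.m (nat_lit 0x6db) (nat_lit 0x69f6a46a769f) (nat_lit 0x69f8a66db6d875959269a652) .nil), (.m (nat_lit 0x6e1) (nat_lit 0x69e6a46a469e6a4) (nat_lit 0x6d78655e3956698594714) .nil)⟩]
theorem hsd52_0 : allL (CX.seedOK AL (nat_lit 0xffc003fffc) (nat_lit 966) (nat_lit 0x1f80cf7000035f) (nat_lit 40) (nat_lit 0xa27) (nat_lit 52)) sd52_0 = true := by decide +kernel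
theorem cov52 : CovOK CX AL (nat_lit 30) (nat_lit 0xffc003fffc) (nat_lit 137632) (nat_lit 966) (nat_lit 0x1f80cf7000035f) (nat_lit 40) (nat_lit 0xa27) (nat_lit 52) :=
  ⟨[sd52_0], [nat_lit 850, nat_lit 847, nat_lit 851], [nat_lit 0x42131135e34f2c324e84d, nat_lit 0x28a38c2d14652ce08a19f246, nat_lit 0x3202cf3213cd8ca09090d34a], [nat_lit 0, nat_lit 4, nat_lit 2, nat_lit 0, nat_lit 4, nat_lit 2, nat_lit 0, nat_lit 4, nat_lit 2, nat_lit 0, nat_lit 4, nat_lit 2, nat_lit 0, nat_lit 4, nat_lit 2, nat_lit 0, nat_lit 4, nat_lit 2, nat_lit 0, nat_lit 2, nat_lit 0], all1 hsd52_0, by decide +kernel, by decide +kernel⟩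
def T52_0 : Lev := ⟨nat_lit 15, nat_lit 23760, [nat_lit 0x42131135e34f2c324e84d, nat_lit 0x28a38c2d14652ce08a19f246, nat_lit 0x3202cf3213cd8ca09090d34a], [nat_lit 0, nat_lit 2, nat_lit 4, nat_lit 0, nat_lit 2, nat_lit 4, nat_lit 0, nat_lit 2, nat_lit 4, nat_lit 0, nat_lit 2, nat_lit 4, nat_lit 0, nat_lit 2, nat_lit 4, nat_lit 0, nat_lit 2, nat_lit 4, nat_lit 0, nat_lit 2, nat_lit 0]⟩
theorem hT52_0 : levOK AL (nat_lit 30) (nat_lit 0xffc003fffc) T52_0 = true := by decide +kernel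
def T52_1 : Lev := ⟨nat_lit 1, nat_lit 4, [nat_lit 0x208502cf2e188b11128c245, nat_lit 0xb30b38a8a17d010724734a], [nat_lit 0, nat_lit 2]⟩
theorem hT52_1 : levOK AL (nat_lit 30) (nat_lit 0xffc003fffc) T52_1 = true := by decide +kernel
theorem chT52 : ChOK CX AL (nat_lit 30) (nat_lit 0xffc003fffc) (nat_lit 966) (nat_lit 52) (nat_lit 95040) :=
  ⟨[T52_0, T52_1], [nat_lit 850, nat_lit 847, nat_lit 851, nat_lit 955, nat_lit 956], by decide +kernel, allc hT52_0 <| all1 hT52_1, by decide +kernel, by decide +kernel⟩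
end H46.P1
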