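import Cfsg.Agent.H34.R5Spec
import Cfsg.Agent.H30.PermChar
import Cfsg.Agent.H29.Burnside
import Cfsg.Agent.H28.CharKer
import Cfsg.Agent.H28.GenChar
import Cfsg.Agent.S0157

/-! Tower R5 (S3194), job EC: the permutation character on the cosets of a complement. -/

set_option autoImplicit false

open Cfsg Subgroup H28 Finset H34.R5
open scoped Classical

namespace H46.R5EC

universe u

theorem arith {f n j m : ℤ} (hf : 0 < f) (hn : 2 * f < n) (h : f = j * (f - m * n)) : m = 0 := by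
  have h1 : |f - m * n| ≤ f := Int.le_of_dvd hf ((abs_dvd _ _).2 (Dvd.intro_left j h.symm))
  rw [abs_le] at h1
  rcases lt_trichotomy m 0 with hm | hm | hm
  · nlinarith
  · exact hm
  · nlinarith

theorem irr_deg {G : Type*} [Group G] {χ : G → ℂ} (h : IsIrrCharacter G χ) :
    ∃ d : ℕ, 0 < d ∧ χ 1 = d := by
  obtain ⟨n, ρ, hρ, rfl⟩ := h
  exact ⟨_, H29.finrank_pos_of_isIrreducible ρ, ρ.char_one⟩

theorem sum_off {B : Type*} [Group B] [Fintype B] (φ ψ : B → ℂ) (ε c : ℂ)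
    (h : ∀ x, x ≠ 1 → φ x = ε * (ψ x + c)) :
    ∑ x, φ x = φ 1 + ε * (∑ x, ψ x - ψ 1 + ((Nat.card B : ℂ) - 1) * c) := by
  rw [← add_sum_erase univ φ (mem_univ 1), ← add_sum_erase univ ψ (mem_univ 1),
    sum_congr rfl fun x hx => h x (ne_of_mem_erase hx), ← mul_sum, sum_add_distrib, sum_const,
    card_erase_of_mem (mem_univ 1), card_univ, nsmul_eq_mul, Nat.cast_pred Fintype.card_pos,
    Nat.card_eq_fintype_card]
  ring

theorem res0 (e0 : JobE0.{u}) {G : Type u} [Group G] [Fintype G] {N P : Subgroup G} (hPN : P ≤ N)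
    (hn : N ≤ normalizer (P : Set G)) {ξ : N → ℂ} (hξ : IsIrrCharacter N ξ)
    (h : ∑ x : P, ξ ⟨x, hPN x.2⟩ ≠ 0) : ∀ k : N, (k : G) ∈ P → ξ k = ξ 1 := by
  refine e0 N (P.subgroupOf N) ξ ((normal_subgroupOf_iff_le_normalizer hPN).2 hn) hξ fun e => h ?_
  rw [← e]
  exact (Fintype.sum_equiv (subgroupOfEquivOfLe hPN).toEquiv _ _ fun _ => rfl).symm

theorem jobEC : JobEC.{u} := by
  intro e0 e1 e2 G _ _ _ _ A B hB ho hnp hI hc hA
  have := Fintype.ofFinite G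
  let Ω := G ⧸ A
  have cΩ : Nat.card Ω = Nat.card B := hA.symm
  obtain ⟨hf, ⟨P, P1, PB, PN⟩, -⟩ := e1 G B hB hnp hI
  obtain ⟨m, hm⟩ := e2 G B hB ho hnp hI
  set f := (B.subgroupOf (normalizer (B : Set G))).index with hfd
  have f0 : 0 < f := Nat.pos_of_ne_zero index_ne_zero_of_finite
  obtain ⟨n, hn⟩ : ∃ n, Nat.card B = n + 1 := ⟨Nat.card B - 1, by omega⟩
  have hnC : (Nat.card B : ℂ) - 1 = n := by rw [hn]; push_cast; ring
  obtain ⟨a, ha1, ha2⟩ := (H30.isCharacter_fixChar (G := G) Ω).exists_nat_coeffs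
  have hz : ∀ x ∈ B, x ≠ 1 → H30.fixChar G Ω x = 0 := fun x hB hx => by
    rw [H30.fixChar_apply, Nat.cast_eq_zero, Nat.card_eq_zero]
    refine Or.inl ⟨fun ⟨y, hy⟩ => ?_⟩
    obtain ⟨y, rfl⟩ := QuotientGroup.mk_surjective y
    have h1 : (x * y)⁻¹ * y ∈ A := QuotientGroup.eq.1 hy
    have h2 := A.orderOf_dvd_natCard (inv_mem h1)
    have h3 : orderOf (((x * y)⁻¹ * y)⁻¹) = orderOf x := by
      rw [show ((x * y)⁻¹ * y)⁻¹ = MulAut.conj y⁻¹ x by simp [mul_assoc], MulEquiv.orderOf_eq]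
    exact hx (orderOf_eq_one_iff.1 (Nat.eq_one_of_dvd_coprimes hc (h3 ▸ h2)
      (B.orderOf_dvd_natCard hB)))
  let one : IrrCharacter G := ⟨_, isIrrCharacter_one⟩
  have a1 : a one = 1 := by
    have := H30.classInner_fixChar_one_of_transitive (G := G) Ω
    exact_mod_cast (ha1 one).symm.trans this
  let S : Finset (IrrCharacter G) := {χ | χ ≠ one ∧ a χ ≠ 0}
  have mS : ∀ {χ}, χ ∈ S ↔ χ ≠ one ∧ a χ ≠ 0 := fun {χ} => by simp [S]
  have hπ : ∀ g, H30.fixChar G Ω g = 1 + ∑ χ ∈ S, (a χ : ℂ) * (χ : G → ℂ) g := fun g => by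
    rw [ha2, Finset.sum_apply, ← add_sum_erase _ _ (mem_univ one), a1]
    congr 1
    · simp [one]
    · refine (sum_subset (fun χ h => mem_erase.2 ⟨(mS.1 h).1, mem_univ _⟩) fun χ h h' => ?_).symm
      have : a χ = 0 := by_contra fun e => h' (mS.2 ⟨ne_of_mem_erase h, e⟩)
      simp [this]
  have hsum : ∀ Q : Subgroup G, Q ≤ B → (Nat.card B : ℂ) =
      Nat.card Q + ∑ χ ∈ S, (a χ : ℂ) * ∑ x : Q, (χ : G → ℂ) x := fun Q hQ => by
    have h1 : ∑ x : Q, H30.fixChar G Ω x = Nat.card B := by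
      rw [sum_eq_single (1 : Q) (fun x _ hx => hz x (hQ x.2) fun e => hx (Subtype.ext e)) (by simp),
        OneMemClass.coe_one, H30.fixChar_one, cΩ]
    rw [← h1, sum_congr rfl fun (x : Q) _ => hπ x, sum_add_distrib, sum_comm]
    simp [mul_sum]
  have z : ∀ χ ∈ S, ∑ x : B, (χ : G → ℂ) x = 0 := by
    have ht : ∀ χ : IrrCharacter G, ∃ t : ℕ, ∑ x : B, (χ : G → ℂ) x = Nat.card B * t := fun χ => by
      obtain ⟨t, ht⟩ := (χ.2.isCharacter.restrict B).classInner_nat isIrrCharacter_one.isCharacter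
      refine ⟨t, ?_⟩
      rw [← ht, card_mul_classInner]
      simp
    choose t ht using ht
    have h1 := hsum B le_rfl
    simp only [ht] at h1
    have h2 : ∑ χ ∈ S, a χ * (Nat.card B * t χ) = 0 := by exact_mod_cast left_eq_add.1 h1
    intro χ hχ
    have h3 := (Nat.mul_eq_zero.1 (sum_eq_zero_iff.1 h2 χ hχ)).resolve_left (mS.1 hχ).2
    rw [ht]
    exact_mod_cast h3
  choose deg d0 d1 using fun χ : IrrCharacter G => irr_deg χ.2
  have s1 : ∑ χ ∈ S, a χ * deg χ = n := by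
    have h1 := hπ 1
    rw [H30.fixChar_one, cΩ, hn] at h1
    simp only [d1] at h1
    have h2 : n + 1 = 1 + ∑ χ ∈ S, a χ * deg χ := by exact_mod_cast h1
    omega
  obtain ⟨⟨k, kP⟩, k1⟩ := ne_bot_iff_exists_ne_one.1 P1
  replace k1 : k ≠ 1 := fun e => k1 (Subtype.ext e)
  have kB : k ∈ B := PB.le kP
  by_cases hx : ∃ χ ∈ S, ∀ x ∈ B, ∀ y ∈ B, x ≠ 1 → y ≠ 1 → (χ : G → ℂ) x = (χ : G → ℂ) y
  · obtain ⟨χ, hχ, hx⟩ := hx
    have h1 := sum_off (fun x : B => (χ : G → ℂ) x) 0 1 ((χ : G → ℂ) k) fun x h => by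
      simpa using hx x x.2 k kB (fun e => h (Subtype.ext e)) k1
    rw [z χ hχ, hnC] at h1
    simp only [OneMemClass.coe_one, d1, Pi.zero_apply, sum_const_zero] at h1
    have n0 : n ≠ 0 := by omega
    have n0' : (n : ℂ) ≠ 0 := Nat.cast_ne_zero.2 n0
    have h2 : n ∣ deg χ := H29.dvd_of_isIntegral_div n0 (by
      rw [show (deg χ : ℂ) / n = -(χ : G → ℂ) k by field_simp; linear_combination -h1]
      exact (χ.2.isCharacter.isIntegral k).neg)
    have h3 := Nat.le_of_dvd (d0 χ) h2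
    have h4 := add_sum_erase S (fun χ => a χ * deg χ) hχ
    have h5 := Nat.pos_of_ne_zero (mS.1 hχ).2
    rw [s1] at h4
    have h6 : a χ = 1 := by
      have : a χ * deg χ ≤ 1 * deg χ := by omega
      have := Nat.le_of_mul_le_mul_right this (d0 χ)
      omega
    have h7 : S = {χ} := eq_singleton_iff_unique_mem.2 ⟨hχ, fun ψ hψ => by
      by_contra e
      have h8 : ∑ x ∈ S.erase χ, a x * deg x = 0 := by rw [h6] at h4; omega
      exact Nat.mul_ne_zero (mS.1 hψ).2 (d0 ψ).ne' (sum_eq_zero_iff.1 h8 ψ (mem_erase.2 ⟨e, hψ⟩))⟩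
    refine (Cfsg.Agent.S0157.result Ω (by rw [cΩ]; omega)).1 ?_
    have h8 : (fun g : G => (Nat.card (MulAction.fixedBy Ω g) : ℂ) - 1) = (χ : G → ℂ) := by
      funext g
      rw [← H30.fixChar_apply, hπ, h7, sum_singleton, h6]
      simp
    rw [h8]
    exact χ.2
  exfalso
  push Not at hx
  have f0' : (f : ℂ) ≠ 0 := Nat.cast_ne_zero.2 f0.ne'
  have key : ∀ χ : IrrCharacter G, ∃ (ξ : normalizer (B : Set G) → ℂ) (ε : ℤ) (e : ℕ), χ ∈ S →
      IsIrrCharacter _ ξ ∧ (ε = 1 ∨ ε = -1) ∧ 0 < e ∧ ξ 1 = e ∧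
      (f : ℤ) * deg χ = ε * e * (f - m * n) ∧
      ∀ x (hx : x ∈ B), x ≠ 1 → (χ : G → ℂ) x = ε * (ξ ⟨x, le_normalizer hx⟩ + m * e / f) := by
    intro χ
    by_cases hχ : χ ∈ S
    swap
    · exact ⟨0, 0, 0, fun h => absurd h hχ⟩
    obtain ⟨ξ, ⟨hξ, y, yB, hy⟩, ε, hε, h⟩ := hm χ χ.2 (hx χ hχ)
    obtain ⟨e, e0', he⟩ := irr_deg hξ
    have h' : ∀ x (hx : x ∈ B), x ≠ 1 →
        (χ : G → ℂ) x = ε * (ξ ⟨x, le_normalizer hx⟩ + m * e / f) := fun x hx x1 => by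
      rw [← he]
      exact h ⟨x, le_normalizer hx⟩ hx fun e => x1 (congrArg Subtype.val e)
    refine ⟨ξ, ε, e, fun _ => ⟨hξ, hε, e0', he, ?_, h'⟩⟩
    have h0 : ∑ x : B, ξ ⟨x, le_normalizer x.2⟩ = 0 := by
      by_contra h0
      exact hy (res0 e0 le_normalizer le_rfl hξ h0 y yB)
    have h1 := sum_off (fun x : B => (χ : G → ℂ) x) (fun x => ξ ⟨x, le_normalizer x.2⟩) ε
      (m * e / f) fun x hx => h' x x.2 fun e => hx (Subtype.ext e)
    rw [z χ hχ, h0, hnC] at h1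
    have h2 : (0 : ℂ) = deg χ + ε * (0 - e + n * (m * e / f)) := by
      have h1' : (0 : ℂ) = (χ : G → ℂ) 1 + ε * (0 - ξ 1 + n * (m * e / f)) := h1
      rwa [d1, he] at h1'
    have h3 : (f : ℂ) * deg χ = ε * e * (f - m * n) := by
      field_simp at h2
      linear_combination -h2
    exact_mod_cast h3
  choose ξ ε e hk using key
  set T : ℤ := ∑ χ ∈ S, a χ * (ε χ * e χ) with hT
  have t1 : (f : ℤ) * n = T * (f - m * n) := by
    rw [← s1, hT, sum_mul]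
    push_cast
    rw [mul_sum]
    refine sum_congr rfl fun χ hχ => ?_
    have := (hk χ hχ).2.2.2.2.1
    rw [← s1] at this
    push_cast at this
    linear_combination (a χ : ℤ) * this
  obtain ⟨j, hj⟩ : ∃ j : ℤ, ((f + m * T : ℤ) / f : ℚ) = j := by
    refine H29.exists_int_of_isIntegral_rat ?_
    have h1 := hπ k
    rw [hz k kB k1, sum_congr rfl fun χ hχ => by rw [(hk χ hχ).2.2.2.2.2 k kB k1]] at h1
    have h2 : ((((f + m * T : ℤ) / f : ℚ)) : ℂ) =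
        -∑ χ ∈ S, ((a χ * ε χ : ℤ) : ℂ) * ξ χ ⟨k, le_normalizer kB⟩ := by
      have h3 : ∑ χ ∈ S, (a χ : ℂ) * (ε χ * (ξ χ ⟨k, le_normalizer kB⟩ + m * e χ / f)) =
          ∑ χ ∈ S, ((a χ * ε χ : ℤ) : ℂ) * ξ χ ⟨k, le_normalizer kB⟩ + m * T / f := by
        rw [hT]
        push_cast
        rw [mul_sum, sum_div, ← sum_add_distrib]
        exact sum_congr rfl fun χ _ => by ring
      rw [h3] at h1
      push_cast at h1 ⊢
      rw [add_div, div_self f0']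
      linear_combination -h1
    rw [h2]
    exact (IsIntegral.sum _ fun χ hχ => (isIntegral_algebraMap (R := ℤ) (x := a χ * ε χ)).mul
      ((hk χ hχ).1.isCharacter.isIntegral _)).neg
  have t2 : (f : ℤ) + m * T = j * f := by
    have f0q : (f : ℚ) ≠ 0 := Nat.cast_ne_zero.2 f0.ne'
    rw [div_eq_iff f0q] at hj
    exact_mod_cast hj
  have fz : (0 : ℤ) < f := by exact_mod_cast f0
  have nz : 2 * (f : ℤ) < n := by omega
  have t3 : T = j * n := mul_left_cancel₀ fz.ne' (by linear_combination -t1 + n * t2)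
  have m0 : m = 0 := arith (j := j) fz nz
    (mul_right_cancel₀ (by omega : (n : ℤ) ≠ 0) (by rw [t1, t3]; ring))
  obtain ⟨χ, hχ, h0⟩ : ∃ χ ∈ S, ∑ x : P, (χ : G → ℂ) x ≠ 0 := by
    by_contra! h
    have h1 := hsum P PB.le
    rw [sum_eq_zero fun χ hχ => by rw [h χ hχ, mul_zero], add_zero, Nat.cast_inj] at h1
    exact PB.ne (eq_of_le_of_card_ge PB.le h1.le)
  obtain ⟨hξ, hε, e0', he, h1, h2⟩ := hk χ hχ
  rw [m0] at h1 h2
  have h3 : (deg χ : ℤ) = ε χ * e χ := mul_left_cancel₀ fz.ne' (by linear_combination h1)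
  have h4 : ε χ = 1 := hε.resolve_right fun h => by
    rw [h] at h3
    omega
  have h5 : ∀ x (hx : x ∈ B), (χ : G → ℂ) x = ξ χ ⟨x, le_normalizer hx⟩ := fun x hx => by
    by_cases x1 : x = 1
    · subst x1
      rw [h4, one_mul, Nat.cast_inj] at h3
      rw [d1, h3, ← he]
      rfl
    · rw [h2 x hx x1, h4]
      simp
  have h6 := res0 e0 (PB.le.trans le_normalizer) PN hξ
    (fun h => h0 ((sum_congr rfl fun (x : P) _ => h5 x (PB.le x.2)).trans h))
    ⟨k, le_normalizer kB⟩ kP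
  have h7 : k ∈ charKer (χ : G → ℂ) :=
    χ.2.mem_charKer.2 ((h5 k kB).trans (h6.trans (h5 1 B.one_mem).symm))
  rcases χ.2.charKer_normal.eq_bot_or_eq_top with h | h
  · exact k1 (mem_bot.1 (h ▸ h7))
  · exact (mS.1 hχ).1 (Subtype.ext (χ.2.charKer_eq_top_iff.1 h))

end H46.R5EC
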