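/- Rows S1415 - S1421 from the classes of Bender-Glauberman section 12 -/
import Cfsg.Agent.H46.Misc
import Cfsg.Agent.H46.Spec12
import Cfsg.Agent.H24.Kappa

open Cfsg hiding pRank
open Subgroup

namespace H46
open _root_.H46 H50

universe u
variable {G : Type u} [Group G] [Finite G] {M E A : Subgroup G} {p : ℕ}

theorem hall_of_compl [T10_2.{u}] (hG : IsMinSimpleOddOrder G) (hM : IsCoatom M)
    (hE : IsComplIn E (sigmaCore M) M) : IsPiHallOf (sigma M)ᶜ E M :=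
  H24.hall_compl_of_isComplIn hE (T10_2.Msigma_Hall hG hM)

theorem row1415 [T10_2.{u}] [T12_1.{u}] (hG : IsMinSimpleOddOrder G) (hM : IsCoatom M)
    (hE : IsComplIn E (sigmaCore M) M) :
    Group.IsNilpotent ↥⁅E, E⁆ ∧ (∀ E₁ : Subgroup G, IsPiHallOf (tau1 M) E₁ E → IsCyclic E₁) ∧
      ∀ E₃ : Subgroup G, IsPiHallOf (tau3 M) E₃ E → IsCyclic E₃ ∧ E₃ ≤ ⁅E, E⁆ ∧ E ≤ Nrm E₃ := by
  have h := hall_of_compl hG hM hE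
  have hs := H51.sub_mmax_sol hG hM h.le
  refine ⟨T12_1.der1_sigma_compl_nil hG hM h, fun E₁ h1 => ?_, fun E₃ h3 => ?_⟩
  · obtain ⟨E₃, h3⟩ := hall_exists (tau3 M) hs
    obtain ⟨E₂, h2⟩ := T12_1.ex_tau2_compl hG hM h h1 h3
    exact (T12_1.sigma_compl_context hG hM h2).2.2.1.1
  · obtain ⟨E₁, h1⟩ := hall_exists (tau1 M) hs
    obtain ⟨E₂, h2⟩ := T12_1.ex_tau2_compl hG hM h h1 h3
    obtain ⟨a, -, b, -⟩ := T12_1.sigma_compl_context hG hM h2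
    exact ⟨b.2, a.1, a.2.2⟩

theorem row1416 [T12_4.{u}] (hG : IsMinSimpleOddOrder G) (hM : IsCoatom M) (hp : p.Prime)
    (hA : ElemAb p 2 A M) : Cent A ≤ M ∧
      ((∀ A₀ : Subgroup G, A₀ ≤ A → Nat.card A₀ = p →
          ¬ (Nrm A₀ ≤ M ∧ ∀ L : Subgroup G, IsCoatom L → Nrm A₀ ≤ L → L = M)) →
        p ∈ sigma M ∧ alphaCore M = ⊥ ∧ Group.IsNilpotent (sigmaCore M)) :=
  ⟨(T12_4.out hG hM hp hA).1, fun h => (T12_4.out hG hM hp hA).2 fun A₀ h0 e =>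
    h A₀ h0.1 (H24.elemAb_card_one h0) e.2⟩

theorem row1417 [T12_5.{u}] [Fact p.Prime] (hG : IsMinSimpleOddOrder G) (hM : IsCoatom M) (hp : p ∈ tau2 M)
    (hA : ElemAb p 2 A M) : Group.IsNilpotent (sigmaCore M) ∧
      (∀ P : Sylow p M, IsMulCommutative (P : Subgroup M) ∧
        (A ≤ (P : Subgroup M).map M.subtype →
          (∀ x ∈ (P : Subgroup M).map M.subtype, x ^ p = 1 ↔ x ∈ A) ∧
          ¬ Nrm ((P : Subgroup M).map M.subtype) ≤ M)) ∧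
      M ≤ Nrm (sigmaCore M ⊔ A) ∧ sigmaCore M ⊓ Cent A = ⊥ ∧
      (∀ Mstar : Subgroup G, IsCoatom Mstar → Mstar ≠ M → A ≤ Mstar → sigmaCore M ⊓ Mstar = ⊥) ∧
      ∃ A₁ : Subgroup G, A₁ ≤ A ∧ Nat.card A₁ = p ∧ sigmaCore M ⊓ Cent A₁ = ⊥ := by
  obtain ⟨a, b, c, d, A₁, e, f⟩ := T12_5.tau2_context hG hM hp hA
  refine ⟨T12_5.tau2_Msigma_nil hG hM hp, fun P => ?_, b.2, c, fun L h1 h2 h3 => d L h1 h3 h2,
    A₁, e.1, H24.elemAb_card_one e, f⟩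
  obtain ⟨h1, h2⟩ := a _ (isSylowOf_map_subtype P)
  refine ⟨⟨⟨fun x y => Subtype.ext (Subtype.ext (congrArg (fun z : ↥((P : Subgroup M).map M.subtype) => (z : G))
    (h1.is_comm.comm ⟨x.1.1, x.1, x.2, rfl⟩ ⟨y.1.1, y.1, y.2, rfl⟩)))⟩⟩, fun hle => ⟨fun x hx => ?_, (h2 hle).2⟩⟩
  rw [← (h2 hle).1, mem_omegaOne_of_comm h1]
  exact ⟨fun h => ⟨hx, h⟩, fun h => h.2⟩

theorem row1418 [T10_2.{u}] [T12_6.{u}] (hG : IsMinSimpleOddOrder G) (hM : IsCoatom M)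
    (hE : IsComplIn E (sigmaCore M) M) (hq : p.Prime) (hp : p ∈ tau2 M) (hA : ElemAb p 2 A E) :
    (E ≤ Nrm A ∧ ∀ X : Subgroup G, X ≤ E → Nat.card X = p → X ≤ A) ∧
      (Cent A ≤ M ⊓ Nrm A ∧ M ⊓ Nrm A = E ∧ ¬ Nrm A ≤ M) ∧
      ∀ X : Subgroup G, X ≤ A → Nat.card X = p → sigmaCore M ⊓ Cent X ≠ ⊥ →
        (Cent X ≤ M ∧ ∀ L : Subgroup G, IsCoatom L → Cent X ≤ L → L = M) := by
  obtain ⟨⟨a, b⟩, ⟨c, d, e⟩, f, -⟩ := T12_6.tau2_compl_context hG hM (hall_of_compl hG hM hE) hp hA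
  exact ⟨⟨a.2, fun X h1 h2 => b X (H24.elemAb_one hq h1 h2)⟩, ⟨d ▸ c, d, e⟩,
    fun X h1 h2 h3 => (f X (H24.elemAb_one hq (h1.trans hA.1) h2) h3).2⟩

theorem row1419 [T10_2.{u}] [T12_7.{u}] [hq : Fact p.Prime] (hG : IsMinSimpleOddOrder G) (hM : IsCoatom M)
    (hE : IsComplIn E (sigmaCore M) M) (hp : p ∈ tau2 M) (hS : ∀ S : Sylow p G, ¬ IsMulCommutative (S : Subgroup G))
    (hA : ElemAb p 2 A E) : tau2 M = {p} ∧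
      (Nat.card ↥(A ⊓ Cent (sigmaCore M)) = p ∧ fittingOf M = sigmaCore M ⊔ (A ⊓ Cent (sigmaCore M))) ∧
      ∀ X : Subgroup G, X ≤ E → Nat.card X = p → X ≠ A ⊓ Cent (sigmaCore M) →
        sigmaCore M ⊓ Cent X = ⊥ ∧ ¬ Cent X ≤ M := by
  obtain ⟨S⟩ : Nonempty (Sylow p G) := inferInstance
  obtain ⟨a, ⟨b, c⟩, d, -⟩ := T12_7.out hG hM (hall_of_compl hG hM hE) hp hA S.isPGroup' (hS S)
  exact ⟨a, ⟨b, c.sup.symm⟩, fun X h1 h2 => d X (H24.elemAb_one hq.out h1 h2)⟩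

theorem row1420 [T10_2.{u}] [T12_10.{u}] (hG : IsMinSimpleOddOrder G) (hM : IsCoatom M)
    (hE : IsComplIn E (sigmaCore M) M) :
    (∀ N : Subgroup G, N ≤ M → Group.IsNilpotent N →
      (∀ p : ℕ, p.Prime → p ∣ Nat.card N → p ∉ sigma M) → IsMulCommutative N) ∧
      IsMulCommutative ↥⁅E, E⁆ ∧
      (∀ (p : ℕ) (P : Subgroup G), p ∈ sigma M → IsPGroup p P → P ≤ M → ¬ IsCyclic P → Nrm P ≤ M) ∧
      ∀ x ∈ M, x ≠ 1 → (∀ p : ℕ, p.Prime → p ∣ orderOf x → p ∈ tau2 M) → x ∈ sigmaHat M →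
        Cent1 x ≤ M ∧ ∀ L : Subgroup G, IsCoatom L → Cent1 x ≤ L → L = M :=
  ⟨fun _ h1 h2 h3 => T12_10.sigma'_nil_abelian hG hM h1 h3 h2,
    T12_10.der_mmax_compl_abelian hG hM (hall_of_compl hG hM hE),
    fun _ _ h1 h2 h3 h4 => T12_10.norm_noncyclic_sigma hG hM h1 h2 h3 h4,
    fun x h1 h2 h3 ⟨_, y, hy, hy1, e⟩ => (T12_10.cent1_nreg_sigma_uniq hG hM h1 h2 h3 fun e' =>
      hy1 (mem_bot.1 (e' ▸ mem_inf.2 ⟨hy, mem_centralizer_singleton_iff.2 e.symm⟩))).2⟩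

theorem row1421 [T10_2.{u}] [T12_12.{u}] (hG : IsMinSimpleOddOrder G) (hM : IsCoatom M)
    (hE : IsComplIn E (sigmaCore M) M)
    (h : ∀ e ∈ E, e ≠ 1 → (∀ p : ℕ, p.Prime → p ∣ orderOf e → p ∈ tau1 M ∪ tau3 M) →
      sigmaCore M ⊓ Cent1 e = ⊥) :
    (∃ A₀ : Subgroup G, A₀ ≤ E ∧ E ≤ Nrm A₀ ∧ IsMulCommutative A₀ ∧
        ∀ x ∈ sigmaCore M, x ≠ 1 → E ⊓ Cent1 x ≤ A₀) ∧
      ∃ E₀ : Subgroup G, E₀ ≤ E ∧ Monoid.exponent E₀ = Monoid.exponent E ∧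
        ∀ e ∈ E₀, e ≠ 1 → sigmaCore M ⊓ Cent1 e = ⊥ := by
  by_cases e : E = ⊥
  · subst e
    exact ⟨⟨⊥, le_rfl, bot_le, inferInstance, fun _ _ _ => inf_le_left⟩,
      ⊥, le_rfl, rfl, fun e he h1 => absurd (mem_bot.1 he) h1⟩
  obtain ⟨⟨A₀, a, b, c⟩, E₀, d, f, g⟩ := T12_12.out hG hM (hall_of_compl hG hM hE)
    ⟨le_rfl, by rw [relIndex_self]; exact Nat.coprime_one_right _⟩ ⟨le_rfl, le_nrm_self⟩ e h
  exact ⟨⟨A₀, a.1, a.2, b, c⟩, E₀, d, f, g.reg⟩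

end H46
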