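import Cfsg.Agent.H63.FoldF4b
import Cfsg.Agent.H63.Fix

/-! Characteristic two: `F₄` inside `E₆(K)` and inside the twisted group `²E₆`, as the fixed points of an
involutory automorphism; the root elements indexed by the roots of `F₄`. -/

set_option autoImplicit false
set_option linter.unusedSectionVars false

open Cfsg Cfsg.Lie H64 H65 H68 H63

namespace H46.SF

theorem fold_hom {D E : ChevalleyDatum} [RS D] [RS E] [Tab E] [Comm E] {K : Type*} [Field K]
    {O : ℕ → List (ℕ × ℤ)} {κ : ℕ → ℕ} (c : FoldOK D E O κ) (h : St D (fy E K O)) [Tab D] [Comm D]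
    (hc : cker D Kˣ = ⊥) : ∃ i : D.group K →* GL E.Idx K, Function.Injective i ∧
      ∀ (r : Rt D) t, i (xG D K r t) = fy E K O r t := by
  have h3 : R3 D (fy E K O) := h.stN.r3_of_simple fun i a b ha hb => by
    have := c.hh_eq i (Units.mk0 a ha * Units.mk0 b hb)
    rw [show a = Units.mk0 a ha from rfl, show b = Units.mk0 b hb from rfl, c.hh_eq, c.hh_eq,
      ← map_mul, ← Units.val_mul, c.hh_eq]
    congr 1; ext j; simp only [Pi.mul_apply]; split_ifs <;> simp
  obtain ⟨θ, hθ⟩ := exists_theta_group D K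
  have hz : Subgroup.center (D.SteinbergGroup K) = ⊥ := by
    rw [center_steinberg, hc, Subgroup.map_bot]
  have h1 : Function.Injective (h.groupHom h3) := (injective_iff_map_eq_one _).2 fun g hg => by
    rw [← Subgroup.mem_bot, ← hz, Subgroup.mem_center_iff]
    exact fun z => (st_stGen D K).comm_of_map_eq_one _ (h.groupHom_gen h3) (c.stB h)
      (by rw [GG_stGen]; trivial) hg (by rw [GG_stGen]; trivial)
  let e := MulEquiv.ofBijective θ ⟨by
    rw [← MonoidHom.ker_eq_bot_iff, (st_stGen D K).theta_ker (GG_stGen D K) θ hθ, hz],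
    theta_surjective (GG_stGen D K) θ hθ⟩
  refine ⟨(h.groupHom h3).comp e.symm.toMonoidHom, h1.comp e.symm.injective, fun r t => ?_⟩
  have : e.symm (xG D K r t) = D.stGen K r t := e.symm_apply_eq.2 (Subtype.ext (hθ r t).symm)
  simp only [MonoidHom.comp_apply, MulEquiv.toMonoidHom_eq_coe, MonoidHom.coe_coe, this]
  exact h.groupHom_gen h3 r t

theorem hom_ext_xG {D : ChevalleyDatum} [RS D] [Tab D] {K : Type*} [Field K] {G : Type*} [Group G]
    {φ ψ : D.group K →* G} (h : ∀ r < D.nroots, ∀ t, φ (xG D K r t) = ψ (xG D K r t)) : φ = ψ :=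
  MonoidHom.ext fun g => hom_ext_GG (x := xG D K) (fun r => h r r.2) (GG_xG (D := D) (F := K) ▸ Subgroup.mem_top g)

/-- the first root of `E₆` over a root of `F₄` -/
def o1 (r : ℕ) : ℕ := ((orbF4E6 r).getD 0 (0, 0)).1
/-- the second root of `E₆` over a root of `F₄` -/
def o2 (r : ℕ) : ℕ := rhoE6 (o1 r)
/-- the short roots of `F₄` -/
def sh (r : ℕ) : Bool := o1 r != o2 r

theorem o_facts : ∀ r < 48, o1 r < 72 ∧ o2 r < 72 ∧ rhoE6 (o2 r) = o1 r ∧
    o2 r ≠ chevE6.neg (o1 r) ∧ chevE6.commTerms (o1 r) (o2 r) = [] ∧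
    (orbF4E6 r).map (·.1) = (if sh r then [o1 r, o2 r] else [o1 r]) ∧
    ∀ p ∈ orbF4E6 r, p.2 = 1 ∨ p.2 = -1 := by decide +kernel

theorem o_surj : ∀ s < 72, ∃ r < 48, s = o1 r ∨ (sh r = true ∧ s = o2 r) := by decide +kernel

theorem rho_facts : ∀ s < 72, rhoE6 s < 72 ∧ rhoE6 (rhoE6 s) = s ∧ (gamE6 s = 1 ∨ gamE6 s = -1) := by
  decide +kernel

theorem o2_of_long {r : ℕ} (h : sh r = false) : o2 r = o1 r := by
  simp only [sh, bne_eq_false_iff_eq] at h; exact h.symm

variable (K : Type*) [Field K]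

/-- root elements of `E₆(K)` indexed by the roots of `F₄`, with parameters in `K × K` (short roots) or in `K`
(long roots: the second parameter is ignored) -/
noncomputable def yE (r : ℕ) (a b : K) : chevE6.group K :=
  if sh r then xG chevE6 K (o1 r) a * xG chevE6 K (o2 r) b else xG chevE6 K (o1 r) a

variable {K}

theorem yE_short {r : ℕ} (h : sh r = true) (a b : K) :
    yE K r a b = xG chevE6 K (o1 r) a * xG chevE6 K (o2 r) b := if_pos h

theorem yE_long {r : ℕ} (h : sh r = false) (a b : K) : yE K r a b = xG chevE6 K (o1 r) a :=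
  if_neg (by simp [h])

theorem xE_add (s : ℕ) (a b : K) : xG chevE6 K s (a + b) = xG chevE6 K s a * xG chevE6 K s b :=
  Subtype.ext ((mat chevE6 K).x_add s a b).symm

theorem xE_zero (s : ℕ) : xG chevE6 K s 0 = 1 := Subtype.ext ((mat chevE6 K).x_zero s)

theorem o_comm {r : ℕ} (hr : r < 48) (a b : K) :
    xG chevE6 K (o1 r) a * xG chevE6 K (o2 r) b = xG chevE6 K (o2 r) b * xG chevE6 K (o1 r) a := by
  obtain ⟨h1, h2, -, h4, h5, -⟩ := o_facts r hr
  exact Subtype.ext ((mat chevE6 K).x_comm h1 h2 h4 h5 a b).symm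

theorem yE_add {r : ℕ} (hr : r < 48) (a b a' b' : K) :
    yE K r (a + a') (b + b') = yE K r a b * yE K r a' b' := by
  cases h : sh r
  · simp only [yE_long h, xE_add]
  · simp only [yE_short h, xE_add]
    rw [mul_assoc, mul_assoc, ← mul_assoc (xG chevE6 K (o1 r) a'), o_comm hr, mul_assoc]

theorem yE_zero (r : ℕ) : yE K r 0 0 = 1 := by
  cases h : sh r
  · rw [yE_long h, xE_zero]
  · rw [yE_short h, xE_zero, xE_zero, mul_one]

theorem yE_left (r : ℕ) (a : K) : yE K r a 0 = xG chevE6 K (o1 r) a := by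
  cases h : sh r
  · rw [yE_long h]
  · rw [yE_short h, xE_zero, mul_one]

theorem yE_right {r : ℕ} (h : sh r = true) (b : K) : yE K r 0 b = xG chevE6 K (o2 r) b := by
  rw [yE_short h, xE_zero, one_mul]

theorem mapG_yE {L : Type*} [Field L] (φ : K →+* L) (r : ℕ) (a b : K) :
    mapG chevE6 φ (yE K r a b) = yE L r (φ a) (φ b) := by
  cases h : sh r
  · simp only [yE_long h, mapG_xG]
  · simp only [yE_short h, map_mul, mapG_xG]

/-- the elements `yE` generate `E₆(K)` -/
theorem yE_gen {A : Subgroup (chevE6.group K)} (h : ∀ r < 48, ∀ a b, yE K r a b ∈ A) : A = ⊤ := by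
  rw [eq_top_iff, ← GG_xG (D := chevE6) (F := K)]
  refine GG_le fun s t => ?_
  obtain ⟨r, hr, e | ⟨h1, e⟩⟩ := o_surj s s.2
  · rw [e, ← yE_left]; exact h r hr _ _
  · rw [e, ← yE_right h1]; exact h r hr _ _

variable [CharP K 2]

theorem sign_cast {z : ℤ} (h : z = 1 ∨ z = -1) : (z : K) = 1 := by
  rcases h with rfl | rfl <;> simp [CharTwo.neg_eq]

theorem fy_eq {r : ℕ} (hr : r < 48) (t : K) : fy chevE6 K orbF4E6 r t = yE K r t t := by
  obtain ⟨-, -, -, -, -, h6, h7⟩ := o_facts r hr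
  have : ((orbF4E6 r).map fun p => (p.1, (p.2 : K) * t)) = ((orbF4E6 r).map (·.1)).map fun s => (s, t) := by
    rw [List.map_map]
    exact List.map_congr_left fun p hp => by simp [sign_cast (K := K) (h7 p hp)]
  rw [fy, this, h6]
  cases h : sh r
  · simp [yE_long h]
  · simp [yE_short h]

variable (K) in
theorem exists_gE : ∃ g : MulAut (chevE6.group K), ∀ s < 72, ∀ t, g (xG chevE6 K s t) = xG chevE6 K (rhoE6 s) t := by
  obtain ⟨P, hP⟩ := graphE6.exists_conj K
  have h1 : ∀ s < 72, ∀ t, P * xU chevE6 K s t * P⁻¹ = xU chevE6 K (rhoE6 s) t := fun s hs t => by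
    rw [hP s hs, sign_cast (rho_facts s hs).2.2, one_mul]
  have h2 : ∀ g ∈ chevE6.group K, (MulAut.conj P).toMonoidHom g ∈ chevE6.group K := fun g hg => by
    rw [H64.group_eq] at hg
    refine GG_le (K := (chevE6.group K).comap (MulAut.conj P).toMonoidHom) (fun s t => ?_) hg
    change P * xU chevE6 K s t * P⁻¹ ∈ chevE6.group K
    rw [h1 s s.2 t]; exact H65.xU_mem_group _ _
  let f : chevE6.group K →* chevE6.group K :=
    ((MulAut.conj P).toMonoidHom.comp (chevE6.group K).subtype).codRestrict _ fun g => h2 g g.2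
  have h3 : ∀ s < 72, ∀ t, f (xG chevE6 K s t) = xG chevE6 K (rhoE6 s) t := fun s hs t =>
    Subtype.ext (h1 s hs t)
  have h4 : f.comp f = MonoidHom.id _ := hom_ext_xG fun s hs t => by
    rw [MonoidHom.comp_apply, h3 s hs, h3 _ (rho_facts s hs).1, (rho_facts s hs).2.1]; rfl
  exact ⟨MonoidHom.toMulEquiv f f h4 h4, h3⟩

variable (K) in
/-- the graph automorphism of `E₆(K)` -/
noncomputable def gE : MulAut (chevE6.group K) := (exists_gE K).choose

theorem gE_x {s : ℕ} (hs : s < 72) (t : K) : gE K (xG chevE6 K s t) = xG chevE6 K (rhoE6 s) t :=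
  (exists_gE K).choose_spec s hs t

theorem gE_gE (g : chevE6.group K) : gE K (gE K g) = g :=
  DFunLike.congr_fun (hom_ext_xG (φ := (gE K).toMonoidHom.comp (gE K).toMonoidHom) (ψ := MonoidHom.id _)
    fun s hs t => by
      change gE K (gE K _) = _
      rw [gE_x hs, gE_x (rho_facts s hs).1, (rho_facts s hs).2.1]; rfl) g

theorem gE_sq : gE K ^ 2 = 1 := by
  ext g; rw [pow_two, MulAut.mul_apply, gE_gE]; rfl

theorem gE_short {r : ℕ} (hr : r < 48) (h : sh r = true) (a b : K) : gE K (yE K r a b) = yE K r b a := by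
  obtain ⟨h1, h2, h3, -⟩ := o_facts r hr
  rw [yE_short h, yE_short h, map_mul, gE_x h1, gE_x h2, h3, o_comm hr]; rfl

theorem gE_long {r : ℕ} (hr : r < 48) (h : sh r = false) (a b : K) : gE K (yE K r a b) = yE K r a b := by
  rw [yE_long h, gE_x (o_facts r hr).1]
  exact congrArg (xG chevE6 K · a) (o2_of_long h)

theorem gE_diag {r : ℕ} (hr : r < 48) (a : K) : gE K (yE K r a a) = yE K r a a := by
  cases h : sh r
  exacts [gE_long hr h a a, gE_short hr h a a]

theorem gE_ne_one : gE K ≠ 1 := fun e => by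
  have h1 := gE_x (K := K) (s := 3) (by decide) 1
  rw [e] at h1
  have h2 := congrArg Subtype.val h1
  have h3 := (mat chevE6 K).wd_inj (w := [(3, 1), (5, 0)]) (w' := [(3, 0), (5, 1)]) [3, 5] rfl rfl (by decide)
    (Or.inr (by decide)) (by simpa [rhoE6] using h2)
  simp at h3

theorem gE_mapG {L : Type*} [Field L] [CharP L 2] (φ : K →+* L) (g : chevE6.group K) :
    gE L (mapG chevE6 φ g) = mapG chevE6 φ (gE K g) :=
  DFunLike.congr_fun (hom_ext_xG (φ := (gE L).toMonoidHom.comp (mapG chevE6 φ))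
    (ψ := (mapG chevE6 φ).comp (gE K).toMonoidHom) fun s hs t => by
      change gE L (mapG chevE6 φ _) = mapG chevE6 φ (gE K _)
      rw [mapG_xG, gE_x hs, gE_x hs, mapG_xG]) g

variable (K) in
theorem exists_iE : ∃ i : chevF4.group K →* chevE6.group K, Function.Injective i ∧
    ∀ r < 48, ∀ t, i (xG chevF4 K r t) = yE K r t t := by
  obtain ⟨i, h1, h2⟩ := fold_hom foldF4 (st_foldF4 K) (kerF4.cker_eq_bot _)
  have h3 : ∀ g, i g ∈ chevE6.group K := fun g =>
    GG_le (x := xG chevF4 K) (K := (chevE6.group K).comap i) (fun r t => by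
      rw [Subgroup.mem_comap, h2, fy_eq r.2]; exact Subtype.coe_prop _)
      (GG_xG (D := chevF4) (F := K) ▸ Subgroup.mem_top g)
  exact ⟨i.codRestrict _ h3, fun a b e => h1 (congrArg Subtype.val e), fun r hr t =>
    Subtype.ext ((h2 ⟨r, hr⟩ t).trans (fy_eq hr t))⟩

variable (K) in
/-- the embedding of `F₄(K)` into `E₆(K)` -/
noncomputable def iE : chevF4.group K →* chevE6.group K := (exists_iE K).choose

theorem iE_inj : Function.Injective (iE K) := (exists_iE K).choose_spec.1

theorem iE_x {r : ℕ} (hr : r < 48) (t : K) : iE K (xG chevF4 K r t) = yE K r t t :=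
  (exists_iE K).choose_spec.2 r hr t

theorem gE_iE (g : chevF4.group K) : gE K (iE K g) = iE K g :=
  DFunLike.congr_fun (hom_ext_xG (φ := (gE K).toMonoidHom.comp (iE K)) (ψ := iE K) fun r hr t => by
    change gE K (iE K _) = _
    rw [iE_x hr, gE_diag hr]) g

theorem iE_mapG {L : Type*} [Field L] [CharP L 2] (φ : K →+* L) (g : chevF4.group K) :
    iE L (mapG chevF4 φ g) = mapG chevE6 φ (iE K g) :=
  DFunLike.congr_fun (hom_ext_xG (φ := (iE L).comp (mapG chevF4 φ))
    (ψ := (mapG chevE6 φ).comp (iE K)) fun r hr t => by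
      change iE L (mapG chevF4 φ _) = mapG chevE6 φ (iE K _)
      rw [mapG_xG, iE_x hr, iE_x hr, mapG_yE]) g

/-- the fixed points of the graph automorphism -/
theorem mem_range_iE [Finite K] {g : chevE6.group K} : g ∈ (iE K).range ↔ gE K g = g := by
  obtain ⟨s, h1, h2⟩ := exists_graphE6 K
  have h3 : ∀ g, s g = gE K g := fun g => by
    have h4 : ∀ i < 6, chevE6.simple i < 72 ∧ chevE6.neg (chevE6.simple i) < 72 ∧
      rhoE6 (chevE6.simple i) = chevE6.simple (piE6 i) ∧
      rhoE6 (chevE6.neg (chevE6.simple i)) = chevE6.neg (chevE6.simple (piE6 i)) := by decide +kernel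
    refine GG_le (x := xG chevE6 K) (K := s.eqLocus (gE K).toMonoidHom)
      (x_mem_of_simple_neg (stB_xG matOK).toStN fun i t => ?_)
      (GG_xG (D := chevE6) (F := K) ▸ Subgroup.mem_top g)
    obtain ⟨c1, c2, c3, c4⟩ := h4 i i.2
    exact ⟨(h1 i t).1.trans (by rw [← c3]; exact (gE_x c1 t).symm),
      (h1 i t).2.trans (by rw [← c4]; exact (gE_x c2 t).symm)⟩
  obtain ⟨e⟩ := h2 ((gE K).toMonoidHom.eqLocus (MonoidHom.id _)) fun g => by rw [h3]; rfl
  have h5 : (iE K).range = (gE K).toMonoidHom.eqLocus (MonoidHom.id _) :=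
    Subgroup.eq_of_le_of_card_ge (by rintro _ ⟨a, rfl⟩; exact gE_iE a) (by
      rw [Nat.card_congr e.toEquiv, Nat.card_congr (MonoidHom.ofInjective iE_inj).toEquiv])
  rw [h5]; rfl

section tw

variable [Fintype K] {q : ℕ} (hq : IsPrimePow q) (hK : Fintype.card K = q ^ 2) {f : K →+* K}
  (hf : ∀ t, f t = t ^ q)
include hq hK

theorem tw_le : twistedE6 K q ≤ chevE6.group K := by
  rw [twistedE6_eq_Fix hq hK, ← mat_Gp]; exact TwG.Fix_le _

/-- the twisted group as a subgroup of `E₆(K)` -/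
noncomputable def inc : twistedE6 K q →* chevE6.group K := Subgroup.inclusion (tw_le hq hK)

theorem inc_inj : Function.Injective (inc hq hK) := Subgroup.inclusion_injective _

@[simp] theorem inc_val (g : twistedE6 K q) : (inc hq hK g : GL chevE6.Idx K) = g := rfl

include hf

omit hq [CharP K 2] in
theorem ff (t : K) : f (f t) = t := by rw [hf, hf, pow_pow_E6 hK]

theorem mem_tw {g : chevE6.group K} : (g : GL chevE6.Idx K) ∈ twistedE6 K q ↔ gE K (mapG chevE6 f g) = g := by
  have h1 : ∀ g : chevE6.group K, (smE6 hq hK).σ g = (gE K (mapG chevE6 f g) : chevE6.group K) := fun g => by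
    let σ : chevE6.group K →* GL chevE6.Idx K :=
      { toFun := fun g => (smE6 hq hK).σ g
        map_one' := (smE6 hq hK).map_one
        map_mul' := fun a b => (smE6 hq hK).map_mul _ (mat_Gp.ge a.2) _ (mat_Gp.ge b.2) }
    refine DFunLike.congr_fun (hom_ext_xG (φ := σ) (ψ := (chevE6.group K).subtype.comp
      ((gE K).toMonoidHom.comp (mapG chevE6 f))) fun s hs t => ?_) g
    change (smE6 hq hK).σ ((mat chevE6 K).x s t) = (gE K (mapG chevE6 f _) : chevE6.group K)
    rw [(smE6 hq hK).map_x s hs, mapG_xG, gE_x hs, smE6_ρ, smE6_γ, smE6_e, sign_cast (rho_facts s hs).2.2,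
      one_mul, hf]
    rfl
  rw [twistedE6_eq_Fix hq hK, TwG.mem_Fix]
  change _ ∧ (smE6 hq hK).σ g = g ↔ _
  rw [h1]
  exact ⟨fun h => Subtype.ext h.2, fun h => ⟨mat_Gp.ge g.2, congrArg Subtype.val h⟩⟩

theorem mem_range_inc {g : chevE6.group K} : g ∈ (inc hq hK).range ↔ gE K (mapG chevE6 f g) = g := by
  rw [← mem_tw hq hK hf]
  exact ⟨by rintro ⟨a, rfl⟩; exact a.2, fun h => ⟨⟨g, h⟩, rfl⟩⟩

theorem gE_inc (g : twistedE6 K q) : gE K (inc hq hK g) = mapG chevE6 f (inc hq hK g) := by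
  conv_lhs => rw [← (mem_range_inc hq hK hf).1 ⟨g, rfl⟩, gE_gE]

theorem yE_mem_short {r : ℕ} (hr : r < 48) (h : sh r = true) (a : K) :
    (yE K r a (f a) : GL chevE6.Idx K) ∈ twistedE6 K q := by
  rw [mem_tw hq hK hf, mapG_yE, gE_short hr h, ff hK hf]

theorem yE_mem_long {r : ℕ} (hr : r < 48) (h : sh r = false) {a : K} (ha : f a = a) (b : K) :
    (yE K r a b : GL chevE6.Idx K) ∈ twistedE6 K q := by
  rw [mem_tw hq hK hf, mapG_yE, gE_long hr h, ha, yE_long h, yE_long h]

omit hf in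
theorem gE_mem (g : twistedE6 K q) : (gE K (inc hq hK g) : GL chevE6.Idx K) ∈ twistedE6 K q := by
  obtain ⟨f, hf⟩ := exists_frob hq hK
  rw [mem_tw hq hK hf, ← gE_mapG, gE_gE, gE_inc hq hK hf]

omit hf in
/-- the involutory automorphism of the twisted group -/
noncomputable def tT : MulAut (twistedE6 K q) where
  toFun g := ⟨_, gE_mem hq hK g⟩
  invFun g := ⟨_, gE_mem hq hK g⟩
  left_inv g := inc_inj hq hK (gE_gE (inc hq hK g))
  right_inv g := inc_inj hq hK (gE_gE (inc hq hK g))
  map_mul' a b := Subtype.ext (by simp only [map_mul]; rfl)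

omit hf in
theorem inc_tT (g : twistedE6 K q) : inc hq hK (tT hq hK g) = gE K (inc hq hK g) := rfl

theorem inc_tT' (g : twistedE6 K q) : inc hq hK (tT hq hK g) = mapG chevE6 f (inc hq hK g) :=
  gE_inc hq hK hf g

omit hf in
theorem tT_tT (g : twistedE6 K q) : tT hq hK (tT hq hK g) = g := (tT hq hK).left_inv g

open Classical in
/-- root elements of the twisted group: all `a` for a short root, `f a = a` for a long root -/
noncomputable def yT (r : ℕ) (a : K) : twistedE6 K q :=
  if h : (yE K r a (f a) : GL chevE6.Idx K) ∈ twistedE6 K q then ⟨_, h⟩ else 1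

theorem inc_yT {r : ℕ} (hr : r < 48) {a : K} (h : sh r = true ∨ f a = a) :
    inc hq hK (yT (q := q) (f := f) r a) = yE K r a (f a) := by
  have : (yE K r a (f a) : GL chevE6.Idx K) ∈ twistedE6 K q := by
    cases h1 : sh r
    · exact yE_mem_long hq hK hf hr h1 (h.resolve_left (by simp [h1])) _
    · exact yE_mem_short hq hK hf hr h1 a
  rw [yT, dif_pos this]; rfl

theorem tT_yT {r : ℕ} (hr : r < 48) {a : K} (h : sh r = true ∨ f a = a) :
    tT hq hK (yT (q := q) (f := f) r a) = yT (q := q) (f := f) r (f a) := by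
  apply inc_inj hq hK
  rw [inc_tT' hq hK hf, inc_yT hq hK hf hr h, inc_yT hq hK hf hr (h.imp_right fun e => by rw [e, e]), mapG_yE]

theorem yT_add {r : ℕ} (hr : r < 48) {a b : K} (h : sh r = true ∨ (f a = a ∧ f b = b)) :
    yT (q := q) (f := f) r (a + b) = yT (q := q) (f := f) r a * yT (q := q) (f := f) r b := by
  apply inc_inj hq hK
  rw [map_mul, inc_yT hq hK hf hr (h.imp_right And.left), inc_yT hq hK hf hr (h.imp_right And.right),
    inc_yT hq hK hf hr (h.imp_right fun e => by rw [map_add, e.1, e.2]), map_add, yE_add hr]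

/-- the elements `yT` generate the twisted group -/
theorem yT_gen {A : Subgroup (twistedE6 K q)}
    (h : ∀ r < 48, ∀ a, (sh r = true ∨ f a = a) → yT (q := q) (f := f) r a ∈ A) : A = ⊤ := by
  have h1 : ∀ r < 48, ∀ a, (sh r = true ∨ f a = a) →
      (yE K r a (f a) : GL chevE6.Idx K) ∈ A.map (twistedE6 K q).subtype := fun r hr a ha =>
    ⟨_, h r hr a ha, congrArg Subtype.val (inc_yT hq hK hf hr ha)⟩
  have h2 : twistedE6 K q ≤ A.map (twistedE6 K q).subtype := by
    conv_lhs => rw [twistedE6, mat_genSubgroup]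
    rw [Subgroup.closure_le]
    rintro _ ⟨w, hw, rfl⟩
    have l : ∀ r < 48, sh r = false → ∀ t, t ^ q = t →
        (mat chevE6 K).wd [(o1 r, t)] ∈ A.map (twistedE6 K q).subtype := fun r hr hs t ht => by
      have := h1 r hr t (Or.inr ((hf t).trans ht))
      rw [yE_long hs] at this
      simpa using this
    have s : ∀ r < 48, sh r = true → ∀ t,
        (mat chevE6 K).wd [(o1 r, t), (o2 r, t ^ q)] ∈ A.map (twistedE6 K q).subtype := fun r hr hs t => by
      have := h1 r hr t (Or.inl hs)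
      rw [yE_short hs, hf] at this
      simpa using this
    rcases e6Words_cases hw with ⟨t, ht, rfl | rfl | rfl | rfl⟩ | ⟨t, rfl | rfl | rfl | rfl⟩
    exacts [l 24 (by decide) rfl t ht, l 23 (by decide) rfl t ht, l 25 (by decide) rfl t ht,
      l 22 (by decide) rfl t ht, s 33 (by decide) rfl t, s 14 (by decide) rfl t, s 27 (by decide) rfl t,
      s 20 (by decide) rfl t]
  rw [eq_top_iff]
  intro g _
  obtain ⟨a, ha, e⟩ := h2 g.2
  exact (Subtype.ext e : a = g) ▸ ha

variable {F : Type*} [Field F] [CharP F 2] {φ : F →+* K} (hφ : ∀ t, f t = t ↔ t ∈ φ.range)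
include hφ

omit hq hK hf [Fintype K] [CharP K 2] [CharP F 2] in
theorem f_phi (t : F) : f (φ t) = φ t := (hφ _).2 ⟨t, rfl⟩

theorem iE_mem (g : chevF4.group F) :
    (iE K (mapG chevF4 φ g) : GL chevE6.Idx K) ∈ twistedE6 K q := by
  have : mapG chevF4 f (mapG chevF4 φ g) = mapG chevF4 φ g :=
    (range_mapG matOK matOK (kerF4.cker_eq_bot _) φ f hφ).le ⟨g, rfl⟩
  rw [mem_tw hq hK hf, ← iE_mapG, this, gE_iE]

/-- the embedding of `F₄(F)` into the twisted group -/
noncomputable def iT : chevF4.group F →* twistedE6 K q :=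
  ((chevE6.group K).subtype.comp ((iE K).comp (mapG chevF4 φ))).codRestrict _ (iE_mem hq hK hf hφ)

theorem inc_iT (g : chevF4.group F) : inc hq hK (iT hq hK hf hφ g) = iE K (mapG chevF4 φ g) := rfl

theorem iT_inj : Function.Injective (iT hq hK hf hφ) := fun a b e => by
  have h1 := iE_inj ((inc_iT hq hK hf hφ a).symm.trans ((congrArg _ e).trans (inc_iT hq hK hf hφ b)))
  exact group_ext fun i j => φ.injective (congrArg (fun g : chevF4.group K =>
    ((g : GL chevF4.Idx K) : Matrix _ _ K) i j) h1)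

theorem iT_x {r : ℕ} (hr : r < 48) (t : F) :
    iT hq hK hf hφ (xG chevF4 F r t) = yT (q := q) (f := f) r (φ t) := by
  apply inc_inj hq hK
  rw [inc_iT, mapG_xG, iE_x hr, inc_yT hq hK hf hr (Or.inr (f_phi hφ t)), f_phi hφ]

/-- the fixed points of `tT` -/
theorem mem_range_iT {g : twistedE6 K q} : g ∈ (iT hq hK hf hφ).range ↔ tT hq hK g = g := by
  constructor
  · rintro ⟨a, rfl⟩
    apply inc_inj hq hK
    rw [inc_tT, inc_iT, gE_iE]
  · intro h
    have h1 := congrArg (inc hq hK) h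
    obtain ⟨b, hb⟩ := mem_range_iE.2 ((inc_tT hq hK g).symm.trans h1)
    rw [inc_tT' hq hK hf, ← hb, ← iE_mapG] at h1
    obtain ⟨a, rfl⟩ := (range_mapG matOK matOK (kerF4.cker_eq_bot _) φ f hφ).ge (iE_inj h1)
    exact ⟨a, inc_inj hq hK hb⟩

end tw

end H46.SF
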