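import Cfsg.Agent.H46.SFY0

/-! STD-F4: tables for `JobRE`, pairs of roots of `E₆` in terms of the roots of `F₄` below them. -/

set_option autoImplicit false
set_option synthInstance.maxSize 8000
set_option synthInstance.maxHeartbeats 400000

open Cfsg Cfsg.Lie H63 H65 H64 H64.SF
open H68 (rhoE6)

namespace H46.SF

/-- the root of `F₄` below a root of `E₆` -/
def fr (α : ℕ) : ℕ :=
  [0, 1, 2, 3, 7, 3, 4, 8, 5, 9, 11, 6, 10, 12, 13, 14, 7, 8, 15, 9, 16, 18, 11, 18, 21, 23, 10, 17, 19, 20,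
   12, 19, 22, 13, 20, 14, 33, 27, 34, 25, 28, 35, 27, 28, 30, 37, 24, 26, 29, 36, 29, 31, 38, 32, 39, 40,
   33, 34, 35, 37, 41, 36, 38, 42, 39, 43, 44, 40, 44, 45, 46, 47].getD α 0

/-- the roots `p1 r` -/
def sd (α : ℕ) : Bool :=
  [4, 5, 10, 13, 14, 17, 19, 23, 26, 31, 34, 35, 38, 41, 42, 43, 49, 50, 55, 56, 59, 62, 64, 68].contains α

theorem t_fr : ∀ α < 72, fr α < 48 ∧ (sh (fr α) = false → o1 (fr α) = α ∧ rhoE6 α = α) ∧
    fr (rhoE6 α) = fr α ∧ (sh (fr α) = true → sd (rhoE6 α) = !sd α) := by decide +kernel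

theorem t_fr' : ∀ r < 48, (sh r = false → fr (o1 r) = r) ∧ (sh r = true → fr (p1 r) = r ∧ sd (p1 r) = true ∧
    fr (p2 r) = r ∧ sd (p2 r) = false) := by decide +kernel

/-- the cases of a commuting pair -/
def TA (r s : ℕ) (i j : Bool) : Prop :=
  (sh r = false ∧ sh s = false) ∨ (sh r = true ∧ sh s = false ∧ 0 ≤ ip r s) ∨
    (sh r = false ∧ sh s = true ∧ 0 ≤ ip s r) ∨ (sh r = true ∧ sh s = true ∧
      (r = s ∨ ip r s = 2 ∨ (ip r s = -2 ∧ j = !i) ∨ (ip r s = 0 ∧ j = i) ∨ (s = 47 - r ∧ j = i)))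

/-- the cases of a pair whose sum is a root -/
def TB (r s u : ℕ) (i j k : Bool) : Prop :=
  (sh r = false ∧ sh s = false ∧ sh u = false) ∨
    (sh r = true ∧ sh s = false ∧ sh u = true ∧ ip r s < 0 ∧ ad r s = u ∧ k = i) ∨
    (sh r = false ∧ sh s = true ∧ sh u = true ∧ ip s r < 0 ∧ ad s r = u ∧ k = j) ∨
    (sh r = true ∧ sh s = true ∧ sh u = true ∧ ip r s = -2 ∧ ad r s = u ∧ j = i ∧ k = !i) ∨
    (sh r = true ∧ sh s = true ∧ sh u = false ∧ ip r s = 0 ∧ ad r s = u ∧ j = !i)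

instance (r s : ℕ) (i j : Bool) : Decidable (TA r s i j) := by unfold TA; infer_instance
instance (r s u : ℕ) (i j k : Bool) : Decidable (TB r s u i j k) := by unfold TB; infer_instance

theorem t_A : ∀ α < 72, ∀ β < 72, 0 ≤ chevE6.pairing α β → TA (fr α) (fr β) (sd α) (sd β) := by
  decide +kernel

theorem t_B : ∀ α < 72, ∀ β < 72, chevE6.pairing α β = -1 → c1 α β (r6 α β) ∧
    TB (fr α) (fr β) (fr (r6 α β)) (sd α) (sd β) (sd (r6 α β)) := by decide +kernel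

theorem t_C : ∀ r < 48, sh r = true → S (47 - r) ∧ ∃ u < 48, ∃ v < 48, sh u = true ∧ sh v = true ∧ ip u v = -2 ∧
    ad u v = r ∧ ip u (47 - r) = -2 ∧ ip v (47 - r) = -2 := by decide +kernel

end H46.SF
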