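import Cfsg.Agent.H46.SFR0

/-! STD-F4: tables for `JobRT`, the action of the fundamental reflections of `F₄`. -/

set_option autoImplicit false
set_option synthInstance.maxSize 8000
set_option synthInstance.maxHeartbeats 400000

open Cfsg Cfsg.Lie H63 H65 H64 H64.SF

namespace H46.SF

theorem t_rf : ∀ i < 4, chevF4.simple i ∈ [33, 27, 25, 24] ∧
    ∀ s < 48, chevF4.reflectRoot i s = rf (chevF4.simple i) s := by decide +kernel

theorem t_negF : ∀ s < 48, chevF4.neg s = 47 - s := by decide +kernel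

theorem t_posF : ∀ r : H63.Rt chevF4, Pos r ↔ 24 ≤ r.1 := by decide +kernel

theorem t_posE : ∀ α : H63.Rt chevE6, Pos α ↔ 24 ≤ fr α := by decide +kernel

theorem t_ad : ∀ a b : H63.Rt chevF4, ∀ h : ad a b < 48, ∀ i,
    rt (⟨ad a b, h⟩ : H63.Rt chevF4) i = rt a i + rt b i := by decide +kernel

theorem t_ipS : ∀ r < 48, ∀ s < 48, sh r = true → sh s = true →
    s = r ∨ s = 47 - r ∨ ip r s = 2 ∨ ip r s = 0 ∨ ip r s = -2 := by decide +kernel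

theorem t_s1 : ∀ r ∈ [33, 27], ∀ s < 48, sh s = true →
    (ip r s = -2 → rf r s = ad r s ∧ ip (47 - r) (ad r s) = -2 ∧ ad (47 - r) (ad r s) = s ∧
      ip r (ad r s) = 2 ∧ ip s (ad r s) = 2 ∧ ip (47 - r) s = 2) ∧
    (ip r s = 2 → S (rf r s) ∧ ip r (rf r s) = -2 ∧ ad r (rf r s) = s) := by decide +kernel

theorem t_s2 : ∀ r ∈ [33, 27], ∀ s < 48, sh s = true → ip r s = 2 ∨ ip r s = -2 ∨
    ∃ a < 48, S a ∧ S (lc 1 s (-1) a) ∧ ip a (lc 1 s (-1) a) = -2 ∧ ad a (lc 1 s (-1) a) = s ∧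
      (ip r a = 2 ∨ ip r a = -2) ∧ (ip r (lc 1 s (-1) a) = 2 ∨ ip r (lc 1 s (-1) a) = -2) ∧
      S (rf r a) ∧ S (rf r (lc 1 s (-1) a)) ∧ ip (rf r a) (rf r (lc 1 s (-1) a)) = -2 ∧
      ad (rf r a) (rf r (lc 1 s (-1) a)) = rf r s := by decide +kernel

theorem t_s3 : ∀ r ∈ [33, 27, 25, 24], ∀ s < 48, sh s = false →
    ∃ a < 48, S a ∧ S (lc 1 s (-1) a) ∧ ip a (lc 1 s (-1) a) = 0 ∧ ad a (lc 1 s (-1) a) = s ∧
      S (rf r a) ∧ S (rf r (lc 1 s (-1) a)) ∧ ip (rf r a) (rf r (lc 1 s (-1) a)) = 0 ∧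
      ad (rf r a) (rf r (lc 1 s (-1) a)) = rf r s := by decide +kernel

theorem t_sL : ∀ r ∈ [25, 24], ∀ s < 48, sh s = true →
    (ip s r = 0 → rf r s = s ∧ ip s (47 - r) = 0) ∧
    (ip s r < 0 → rf r s = ad s r ∧ ip (ad s r) (47 - r) < 0 ∧ ad (ad s r) (47 - r) = s ∧
      ad (ad s r) s = ad s (ad s r) ∧ 0 ≤ ip s (47 - r) ∧ c0 (o1 (ad s (ad s r))) (o1 (47 - r))) ∧
    (0 < ip s r → S (rf r s) ∧ ip (rf r s) r < 0 ∧ ad (rf r s) r = s) := by decide +kernel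

end H46.SF
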