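import Cfsg.Agent.H46.SFT0
import Cfsg.Agent.H46.SFRE

/-! STD-F4: root subgroups of a group with the relations `TY` over a field; the monomial elements of
the fundamental rank one subgroups permute them. -/

set_option autoImplicit false
set_option linter.unusedSectionVars false

open Cfsg Cfsg.Lie H63 H65 H64 H64.SF
open H67.SA (cm)
open H86.WR (XF)
open scoped commutatorElement

namespace H46.SF

universe u

variable {F : Type} [Field F] [CharP F 2] {G : Type u} [Group G] {K : Type} [Field K]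
  {e : XF F →* G} {θ : MulAut G} {ι : F →+* K} {σ : RingAut K} {η : K} {y : ℕ → K → G}

theorem conj_of_cm {a b z : G} (h : cm a b = z) : a * b * a⁻¹ = z * b := by rw [← h, cm]; group

theorem conj3 (u v g : G) : u * v * u * g * (u * v * u)⁻¹ = u * (v * (u * g * u⁻¹) * v⁻¹) * u⁻¹ := by group

theorem conj_of_comm {a b : G} (h : a * b = b * a) : a * b * a⁻¹ = b := by rw [h, mul_inv_cancel_right]

theorem mem_closure_range {A : Type*} [AddGroup A] {f : A → G} (h : ∀ a b, f a * f b = f (a + b)) {g : G} :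
    g ∈ Subgroup.closure (Set.range f) ↔ ∃ a, g = f a := by
  have h0 : f 0 = 1 := mul_eq_left.1 ((h 0 0).trans (by rw [add_zero]))
  refine ⟨fun hg => ?_, by rintro ⟨a, rfl⟩; exact Subgroup.subset_closure ⟨a, rfl⟩⟩
  induction hg using Subgroup.closure_induction with
  | mem g hg => obtain ⟨a, rfl⟩ := hg; exact ⟨a, rfl⟩
  | one => exact ⟨0, h0.symm⟩
  | mul a b _ _ ha hb => obtain ⟨a, rfl⟩ := ha; obtain ⟨b, rfl⟩ := hb; exact ⟨_, h a b⟩
  | inv a _ ha =>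
    obtain ⟨a, rfl⟩ := ha
    exact ⟨-a, inv_eq_of_mul_eq_one_right (by rw [h, add_neg_cancel, h0])⟩

variable (e y) in
/-- the root subgroups -/
def Yr (r : ℕ) : Subgroup G :=
  if sh r then Subgroup.closure (Set.range (y r)) else Subgroup.closure (Set.range fun c => e (x F r c))

theorem mem_YL {r : ℕ} (hr : L r) {g : G} : g ∈ Yr e y r ↔ ∃ c, g = e (x F r c) := by
  rw [Yr, if_neg (by simp [hr.2])]
  exact mem_closure_range fun a b => by rw [← map_mul, xF_add hr.1]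

theorem ex_sq {r : ℕ} (hr : r < 48) (c : F) : e (x F r c) * e (x F r c) = 1 := by
  rw [← map_mul, xF_add hr, CharTwo.add_self_eq_zero, xF_zero hr, map_one]

theorem ex_comm {r s : ℕ} (hr : L r) (hs : L s) (k : c0 (o1 r) (o1 s)) (a b : F) :
    e (x F r a) * e (x F s b) = e (x F s b) * e (x F r a) := by
  rw [← map_mul, ← map_mul]
  refine congrArg e (iE_inj ?_)
  rw [map_mul, map_mul, iE_L hr, iE_L hs]
  exact k.comm (stE F) a b

variable (σ y) in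
/-- the monomial elements at a short root -/
noncomputable def mS (r : ℕ) (c : K) : G := y r c * y (47 - r) (σ c)⁻¹ * y r c

variable (e) in
/-- the monomial elements at a long root -/
noncomputable def mL (r : ℕ) (c : F) : G := e (x F r c) * e (x F (47 - r) c⁻¹) * e (x F r c)

theorem sq3 {u v : G} (h1 : u * u = 1) (h2 : v * v = 1) : u * v * u * (u * v * u) = 1 := by
  calc u * v * u * (u * v * u) = u * (v * (u * u) * v) * u := by group
    _ = 1 := by rw [h1, mul_one, h2, mul_one, h1]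

theorem mL_sq {r : ℕ} (hr : r < 48) (c : F) : mL e r c * mL e r c = 1 :=
  sq3 (ex_sq hr c) (ex_sq (by omega) _)

theorem cj_swap {m : G} (h : m * m = 1) {A B : Subgroup G} (k : H98.cj m A = B) : H98.cj m B = A := by
  rw [← k, H98.cj_cj, h, H98.cj_one]

variable (h : TY e θ ι σ η y)
include h

theorem mem_YS {r : ℕ} (hr : S r) {g : G} : g ∈ Yr e y r ↔ ∃ a, g = y r a := by
  rw [Yr, if_pos hr.2]
  exact mem_closure_range (h.add r hr)

theorem y_mem {r : ℕ} (hr : S r) (a : K) : y r a ∈ Yr e y r := (mem_YS h hr).2 ⟨a, rfl⟩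

theorem ex_mem {r : ℕ} (hr : r < 48) (c : F) : e (x F r c) ∈ Yr e y r := by
  cases k : sh r
  · exact (mem_YL ⟨hr, k⟩).2 ⟨c, rfl⟩
  · rw [← h.yx r ⟨hr, k⟩]; exact y_mem h ⟨hr, k⟩ _

theorem y_sq {r : ℕ} (hr : S r) (a : K) : y r a * y r a = 1 := by
  rw [h.add r hr, two_R ι, y_zero h.toSY hr]

theorem mS_sq {r : ℕ} (hr : S r) (c : K) : mS σ y r c * mS σ y r c = 1 :=
  sq3 (y_sq h hr c) (y_sq h (t_C r hr.1 hr.2).1 _)

theorem cm120 {r s : ℕ} (hr : S r) (hs : S s) (k : ip r s = -2) (a b : K) :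
    cm (y r a) (y s b) = y (ad r s) (σ (a * b)) := h.c120 r s hr hs k a b

theorem ex_tr (a b : K) : ∃ c, ι c = a * σ b + σ a * b :=
  (h.rg.fix _).1 (by rw [map_add, map_mul, map_mul, h.rg.ss, h.rg.ss, add_comm])

theorem ex_nm (a : K) : ∃ c, ι c = a * σ a := (h.rg.fix _).1 (by rw [map_mul, h.rg.ss, mul_comm])

theorem cm90 {r s : ℕ} (hr : S r) (hs : S s) (k : ip r s = 0) {a b : K} {c : F}
    (hc : ι c = a * σ b + σ a * b) : cm (y r a) (y s b) = e (x F (ad r s) c) := h.c90 r s hr hs k a b c hc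

theorem Y120 {r s : ℕ} (hr : S r) (hs : S s) (k : ip r s = -2) :
    ⁅Yr e y r, Yr e y s⁆ = Yr e y (ad r s) := by
  have u := (t_120 r hr.1 s hs.1 hr.2 hs.2 k).1
  refine le_antisymm (Subgroup.commutator_le.2 fun a ha b hb => ?_) fun g hg => ?_
  · obtain ⟨a, rfl⟩ := (mem_YS h hr).1 ha
    obtain ⟨b, rfl⟩ := (mem_YS h hs).1 hb
    exact (congrArg (· ∈ _) (cm120 h hr hs k a b)).mpr (y_mem h ⟨u.1, u.2.1⟩ _)
  · obtain ⟨a, rfl⟩ := (mem_YS h ⟨u.1, u.2.1⟩).1 hg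
    have := cm120 h hr hs k (σ a) 1
    rw [mul_one, h.rg.ss] at this
    exact this ▸ Subgroup.commutator_mem_commutator (y_mem h hr _) (y_mem h hs _)

theorem Y90 {r s : ℕ} (hr : S r) (hs : S s) (k : ip r s = 0) :
    ⁅Yr e y r, Yr e y s⁆ = Yr e y (ad r s) := by
  have u := (t_90 r hr.1 s hs.1 hr.2 hs.2 k).1
  refine le_antisymm (Subgroup.commutator_le.2 fun a ha b hb => ?_) fun g hg => ?_
  · obtain ⟨a, rfl⟩ := (mem_YS h hr).1 ha
    obtain ⟨b, rfl⟩ := (mem_YS h hs).1 hb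
    obtain ⟨c, hc⟩ := ex_tr h a b
    exact (congrArg (· ∈ _) (cm90 h hr hs k hc)).mpr (ex_mem h u.1 _)
  · obtain ⟨c, rfl⟩ := (mem_YL ⟨u.1, u.2.1⟩).1 hg
    have := cm90 h hr hs k (a := η * ι c) (b := 1) (c := c) (by
      rw [map_one, map_mul, h.rg.eta, s_i h.toSY]; linear_combination -two_R ι (η * ι c))
    exact this ▸ Subgroup.commutator_mem_commutator (y_mem h hr _) (y_mem h hs _)

theorem cj_Y {m : G} {s t : ℕ} (hs : S s) (ht : S t) {f : K → K} (hf : Function.Surjective f)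
    (k : ∀ a, m * y s a * m⁻¹ = y t (f a)) : H98.cj m (Yr e y s) = Yr e y t := by
  refine le_antisymm ?_ fun g hg => ?_
  · rintro _ ⟨g, hg, rfl⟩
    obtain ⟨a, rfl⟩ := (mem_YS h hs).1 hg
    exact (congrArg (· ∈ _) (k a)).mpr (y_mem h ht _)
  · obtain ⟨a, rfl⟩ := (mem_YS h ht).1 hg
    obtain ⟨a, rfl⟩ := hf a
    exact k a ▸ H98.conj_mem_cj (y_mem h hs a)

theorem mS_120 {r s : ℕ} (hr : r ∈ [33, 27]) (hs : S s) (k : ip r s = -2) {c : K} (hc : c ≠ 0) :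
    H98.cj (mS σ y r c) (Yr e y s) = Yr e y (ad r s) := by
  have sr : S r := (by decide : ∀ r ∈ [33, 27], S r) r hr
  have sn := (t_C r sr.1 sr.2).1
  have u := (t_120 r sr.1 s hs.1 sr.2 hs.2 k).1
  have st : S (ad r s) := ⟨u.1, u.2.1⟩
  obtain ⟨-, k1, k2, k3, k4, k5⟩ := (t_s1 r hr s hs.1 hs.2).1 k
  refine cj_Y h hs st (f := fun b => σ (c * b)) (fun a => ⟨c⁻¹ * σ a, by
    simp only [mul_inv_cancel_left₀ hc, h.rg.ss]⟩) fun b => ?_
  rw [mS, conj3, conj_of_cm (cm120 h sr hs k c b), ← conj_mul (b := y (47 - r) _), conj_of_cm (cm120 h sn st k1 _ _), k2,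
    conj_of_comm (h.c60 _ _ sn hs k5 _ _), ← map_inv₀, ← map_mul, h.rg.ss, inv_mul_cancel_left₀ hc,
    h.c60 _ _ hs st k4, mul_assoc (y (ad r s) _), y_sq h hs, mul_one, conj_of_comm (h.c60 _ _ sr st k3 _ _)]

theorem mS_2 {r s : ℕ} (hr : r ∈ [33, 27]) (hs : S s) (k : ip r s = 2 ∨ ip r s = -2) {c : K} (hc : c ≠ 0) :
    H98.cj (mS σ y r c) (Yr e y s) = Yr e y (rf r s) := by
  obtain ⟨k1, k2⟩ := t_s1 r hr s hs.1 hs.2
  rcases k with k | k
  · obtain ⟨k3, k4, k5⟩ := k2 k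
    have := mS_120 h hr k3 k4 hc
    rw [k5] at this
    exact cj_swap (mS_sq h ((by decide : ∀ r ∈ [33, 27], S r) r hr) c) this
  · rw [(k1 k).1]; exact mS_120 h hr hs k hc

theorem cj_long {m : G} {r : ℕ} (hr : r ∈ [33, 27, 25, 24])
    (k : ∀ s, S s → H98.cj m (Yr e y s) = Yr e y (rf r s)) {s : ℕ} (hs : s < 48) :
    H98.cj m (Yr e y s) = Yr e y (rf r s) := by
  cases p : sh s
  · obtain ⟨a, -, k1, k2, k3, k4, k5, k6, k7, k8⟩ := t_s3 r hr s hs p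
    rw [← k8, ← Y90 h k5 k6 k7, ← k _ k1, ← k _ k2, ← H98.cj_commutator, Y90 h k1 k2 k3, k4]
  · exact k s ⟨hs, p⟩

theorem mS_cj {r s : ℕ} (hr : r ∈ [33, 27]) (hs : s < 48) {c : K} (hc : c ≠ 0) :
    H98.cj (mS σ y r c) (Yr e y s) = Yr e y (rf r s) := by
  refine cj_long h ((by decide : ∀ r ∈ [33, 27], r ∈ [33, 27, 25, 24]) r hr) (fun s hs => ?_) hs
  rcases t_s2 r hr s hs.1 hs.2 with k | k | ⟨a, -, k1, k2, k3, k4, k5, k6, k7, k8, k9, k10⟩
  · exact mS_2 h hr hs (Or.inl k) hc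
  · exact mS_2 h hr hs (Or.inr k) hc
  · rw [← k10, ← Y120 h k7 k8 k9, ← mS_2 h hr k1 k5 hc, ← mS_2 h hr k2 k6 hc, ← H98.cj_commutator,
      Y120 h k1 k2 k3, k4]

theorem x_conj {s l : ℕ} (hs : S s) (hl : L l) (k : ip s l < 0) (a : K) (c : F) {m : F} (hm : ι m = a * σ a) :
    e (x F l c) * y s a * (e (x F l c))⁻¹ =
      y s a * (y (ad s l) (a * ι c) * e (x F (ad s (ad s l)) (c * m))) := by
  rw [← h.cl s l hs hl k a c m hm, cm, y_inv h.toSY hs, ← mul_assoc, ← mul_assoc, ← mul_assoc, y_sq h hs,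
    one_mul]

theorem mL_neg {r s : ℕ} (hr : r ∈ [25, 24]) (hs : S s) (k : ip s r < 0) {c : F} (hc : c ≠ 0) :
    H98.cj (mL e r c) (Yr e y s) = Yr e y (ad s r) := by
  obtain ⟨lr, ln⟩ := (by decide : ∀ r ∈ [25, 24], L r ∧ L (47 - r)) r hr
  obtain ⟨⟨u1, u2, u3, u4⟩, -⟩ := t_l s hs.1 r lr.1 hs.2 lr.2 k
  have st : S (ad s r) := ⟨u1, u2⟩
  obtain ⟨⟨v1, v2, v3, v4⟩, -⟩ := t_90 s hs.1 _ u1 hs.2 u2 u3
  obtain ⟨-, k1, k2, k3, k4, k5⟩ := (t_sL r hr s hs.1 hs.2).2.1 k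
  have ic : ι c ≠ 0 := (map_ne_zero ι).2 hc
  refine cj_Y h hs st (f := fun a => a * ι c) (fun a => ⟨a * (ι c)⁻¹, inv_mul_cancel_right₀ ic a⟩) fun a => ?_
  obtain ⟨m, hm⟩ := ex_nm h a
  have e1 := x_conj h st ln k1 (a * ι c) c⁻¹ (m := c * c * m) (by
    rw [map_mul, map_mul, map_mul, hm, s_i h.toSY]; ring)
  rw [k2, k3, map_inv₀, mul_inv_cancel_right₀ ic, mul_assoc c, inv_mul_cancel_left₀ hc] at e1
  have e2 := conj_of_cm (cm90 h hs st u3 (a := a) (b := a * ι c) (c := 0) (by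
    rw [map_zero, map_mul, s_i h.toSY]; linear_combination -two_R ι (a * σ a * ι c)))
  rw [xF_zero v1, map_one, one_mul, y_inv h.toSY hs] at e2
  rw [mL, conj3, x_conj h hs lr k a c hm, ← conj_mul (b := e (x F (47 - r) _)), ← conj_mul (b := e (x F (47 - r) _)), e1,
    conj_of_comm (y_long h.toSY hs ln k4 _ _).symm, conj_of_comm (ex_comm ⟨v1, v2⟩ ln k5 _ _).symm,
    mul_assoc (y (ad s r) _), mul_assoc (y s a) (e _), ex_sq v1, mul_one, ← mul_assoc (y s a), e2,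
    conj_of_comm (y_long h.toSY st lr u4 _ _).symm]

theorem mL_cj {r s : ℕ} (hr : r ∈ [25, 24]) (hs : s < 48) {c : F} (hc : c ≠ 0) :
    H98.cj (mL e r c) (Yr e y s) = Yr e y (rf r s) := by
  refine cj_long h ((by decide : ∀ r ∈ [25, 24], r ∈ [33, 27, 25, 24]) r hr) (fun s hs => ?_) hs
  obtain ⟨lr, ln⟩ := (by decide : ∀ r ∈ [25, 24], L r ∧ L (47 - r)) r hr
  obtain ⟨k1, k2, k3⟩ := t_sL r hr s hs.1 hs.2
  rcases lt_trichotomy (ip s r) 0 with k | k | k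
  · rw [(k2 k).1]; exact mL_neg h hr hs k hc
  · rw [(k1 k).1]
    refine cj_Y h hs hs Function.surjective_id fun a => ?_
    rw [mL, conj3, conj_of_comm (y_long h.toSY hs lr k.ge _ _).symm,
      conj_of_comm (y_long h.toSY hs ln (k1 k).2.ge _ _).symm, conj_of_comm (y_long h.toSY hs lr k.ge _ _).symm,
      id]
  · obtain ⟨k4, k5, k6⟩ := k3 k
    have := mL_neg h hr k4 k5 hc
    rw [k6] at this
    exact cj_swap (mL_sq lr.1 c) this

omit h in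
theorem n_eq {r : ℕ} (hr : r < 48) : e (n F r) = mL e r 1 := by
  rw [n, nn_eq, map_mul, map_mul, t_negF r hr, CharTwo.neg_eq, mL]

theorem mS_one {r : ℕ} (hr : S r) : mS σ y r 1 = mL e r 1 := by
  rw [mS, mL, map_one, inv_one, inv_one, ← h.yx r hr, ← h.yx _ (t_C r hr.1 hr.2).1, map_one]

theorem n_cj {r s : ℕ} (hr : r ∈ [33, 27, 25, 24]) (hs : s < 48) :
    H98.cj (e (n F r)) (Yr e y s) = Yr e y (rf r s) := by
  rcases (by decide : ∀ r ∈ [33, 27, 25, 24], (S r ∧ r ∈ [33, 27]) ∨ (L r ∧ r ∈ [25, 24])) r hr with k | k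
  · rw [n_eq k.1.1, ← mS_one h k.1]; exact mS_cj h k.2 hs one_ne_zero
  · rw [n_eq k.1.1]; exact mL_cj h k.2 hs one_ne_zero

/-- Every root subgroup is a commutator subgroup of two root subgroups. -/
theorem Y_comm {s : ℕ} (hs : s < 48) : ∃ a < 48, ∃ b < 48, Yr e y s = ⁅Yr e y a, Yr e y b⁆ := by
  cases p : sh s
  · obtain ⟨a, -, k1, k2, k3, k4, -⟩ := t_s3 33 (by decide) s hs p
    exact ⟨_, k1.1, _, k2.1, by rw [Y90 h k1 k2 k3, k4]⟩
  · obtain ⟨-, a, ha, b, hb, k1, k2, k3, k4, -⟩ := t_C s hs p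
    exact ⟨a, ha, b, hb, by rw [Y120 h ⟨ha, k1⟩ ⟨hb, k2⟩ k3, k4]⟩

omit h in
theorem rt_ad {a b : H63.Rt chevF4} (k : ad a b < 48) :
    rt (⟨ad a b, k⟩ : H63.Rt chevF4) = rt a + rt b := funext (t_ad a b k)

theorem cm_SL {r l : H63.Rt chevF4} (hr : sh r = true) (hl : sh l = false) {T : Set (H63.Rt chevF4)}
    (hT : ∀ (c : H63.Rt chevF4) (i j : ℤ), 1 ≤ i → 1 ≤ j → rt c = i • rt r + j • rt l → c ∈ T)
    {a b : G} (ha : a ∈ Yr e y r) (hb : b ∈ Yr e y l) : cm a b ∈ gen (fun s : H63.Rt chevF4 => Yr e y s) T := by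
  obtain ⟨a, rfl⟩ := (mem_YS h ⟨r.2, hr⟩).1 ha
  obtain ⟨b, rfl⟩ := (mem_YL ⟨l.2, hl⟩).1 hb
  rcases lt_or_ge (ip r l) 0 with k | k
  · obtain ⟨m, hm⟩ := ex_nm h a
    obtain ⟨⟨u1, u2, u3, -⟩, -⟩ := t_l r r.2 l l.2 hr hl k
    obtain ⟨⟨v1, -⟩, -⟩ := t_90 r r.2 _ u1 hr u2 u3
    rw [h.cl r l ⟨r.2, hr⟩ ⟨l.2, hl⟩ k a b m hm]
    exact mul_mem (le_gen _ (hT ⟨_, u1⟩ 1 1 le_rfl le_rfl (by rw [rt_ad u1]; simp)) (y_mem h ⟨u1, u2⟩ _))
      (le_gen _ (hT ⟨_, v1⟩ 2 1 one_le_two le_rfl (by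
        rw [rt_ad (a := r) (b := ⟨_, u1⟩) v1, rt_ad u1]; module)) (ex_mem h v1 _))
  · rw [cm, y_long h.toSY ⟨r.2, hr⟩ ⟨l.2, hl⟩ k, mul_inv_cancel_right, mul_inv_cancel]; exact one_mem _

/-- The commutator relation for root subgroups. -/
theorem cm_mem {r s : H63.Rt chevF4} (h1 : s ≠ r) (h2 : s ≠ negR r) {T : Set (H63.Rt chevF4)}
    (hT : ∀ (c : H63.Rt chevF4) (i j : ℤ), 1 ≤ i → 1 ≤ j → rt c = i • rt r + j • rt s → c ∈ T)
    {a b : G} (ha : a ∈ Yr e y r) (hb : b ∈ Yr e y s) : cm a b ∈ gen (fun s : H63.Rt chevF4 => Yr e y s) T := by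
  cases p : sh r <;> cases q : sh s
  · obtain ⟨a, rfl⟩ := (mem_YL ⟨r.2, p⟩).1 ha
    obtain ⟨b, rfl⟩ := (mem_YL ⟨s.2, q⟩).1 hb
    have k := (H64.SG.ad chevF4 F).toStB.toStN.toSt.commutator_mem h1 h2 hT (x_mem_XR _ _ s b) (x_mem_XR _ _ r a)
    have k1 : gen (XR chevF4 (xG chevF4 F)) T ≤ (gen (fun s : H63.Rt chevF4 => Yr e y s) T).comap e :=
      gen_le fun c hc => (Subgroup.closure_le _).2 (by rintro _ ⟨d, rfl⟩; exact le_gen _ hc (ex_mem h c.2 d))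
    have k2 := Subgroup.mem_comap.1 (inv_mem (k1 k))
    rw [commutatorElement_inv, map_commutatorElement, commutatorElement_def] at k2
    exact k2
  · rw [cm_symm]
    exact inv_mem (cm_SL h q p (fun c i j hi hj k => hT c j i hj hi (k.trans (add_comm _ _))) hb ha)
  · exact cm_SL h p q hT ha hb
  have key : ∀ k : ad r s < 48, Yr e y (ad r s) ≤ gen (fun s : H63.Rt chevF4 => Yr e y s) T := fun k => by
    have := le_gen (fun s : H63.Rt chevF4 => Yr e y s)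
      (hT ⟨ad r s, k⟩ 1 1 le_rfl le_rfl (by rw [rt_ad k]; simp))
    exact this
  rcases t_ipS r r.2 s s.2 p q with k | k | k | k | k
  · exact absurd (Fin.ext k) h1
  · exact absurd (Fin.ext (k.trans (t_negF r r.2).symm)) h2
  · obtain ⟨a, rfl⟩ := (mem_YS h ⟨r.2, p⟩).1 ha
    obtain ⟨b, rfl⟩ := (mem_YS h ⟨s.2, q⟩).1 hb
    rw [cm, h.c60 _ _ ⟨r.2, p⟩ ⟨s.2, q⟩ k, mul_inv_cancel_right, mul_inv_cancel]; exact one_mem _
  · exact key (t_90 r r.2 s s.2 p q k).1.1 (Y90 h ⟨r.2, p⟩ ⟨s.2, q⟩ k ▸ Subgroup.commutator_mem_commutator ha hb)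
  · exact key (t_120 r r.2 s s.2 p q k).1.1
      (Y120 h ⟨r.2, p⟩ ⟨s.2, q⟩ k ▸ Subgroup.commutator_mem_commutator ha hb)

end H46.SF
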