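import Cfsg.Agent.H46.SFT1
import Cfsg.Agent.H57.LD
import Cfsg.Agent.H54.GRDTop

/-! STD-F4: a group with the relations `TY` over a field that maps to `E₆(K)` has a root group datum of
type `F₄`. -/

set_option autoImplicit false
set_option linter.unusedSectionVars false

open Cfsg Cfsg.Lie H63 H65 H64 H64.SF
open H67.SA (cm)
open H86.WR (XF)
open scoped commutatorElement

namespace H46.SF

universe u

variable {F : Type} [Field F] [CharP F 2] {G : Type u} [Group G] {K : Type} [Field K] [CharP K 2]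
  {e : XF F →* G} {θ : MulAut G} {ι : F →+* K} {σ : RingAut K} {η : K} {y : ℕ → K → G}

variable (K) in
/-- the root group datum of `E₆(K)` -/
noncomputable abbrev TE : RGD (H64.wdata chevE6) (chevE6.group K) := (H64.SG.ad chevE6 K).toStB.rgd

theorem yP_nn {s : ℕ} (h : S s) (a b : K) : yP K s (a, b) * yP K (47 - s) (b⁻¹, a⁻¹) * yP K s (a, b) =
    nn chevE6 (xG chevE6 K) (p1 s) a * nn chevE6 (xG chevE6 K) (p2 s) b := by
  obtain ⟨h1, h2, -, h3⟩ := t_neg s h.1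
  obtain ⟨h3, h4, h5, h6⟩ := h3 h.2
  have E := stE K
  have c1 := h5.comm E a b⁻¹
  have c2 := h6.comm E b a⁻¹
  have c3 := pp (K := K) h a b
  have c4 := pp (K := K) ⟨h1, h2.trans h.2⟩ b⁻¹ a⁻¹
  rw [h3, h4] at c4
  rw [nn_eq, nn_eq, ← t_negF s h.1, yP, yP, h3, h4, c4.eq, CharTwo.neg_eq, CharTwo.neg_eq]
  dsimp only
  generalize xG chevE6 K (p1 s) a = a1 at *
  generalize xG chevE6 K (p2 s) b = b1 at *
  generalize xG chevE6 K (chevE6.neg (p1 s)) a⁻¹ = a' at *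
  generalize xG chevE6 K (chevE6.neg (p2 s)) b⁻¹ = b' at *
  calc a1 * b1 * (a' * b') * (a1 * b1) = a1 * (b1 * a') * (b' * a1) * b1 := by group
    _ = a1 * a' * (b1 * a1) * b' * b1 := by rw [c2.eq, ← c1.eq]; group
    _ = _ := by rw [← c3.eq]; group

theorem nn_N {α : ℕ} (ha : α < 72) {a : K} (h : a ≠ 0) : nn chevE6 (xG chevE6 K) α a ∈ (TE K).N :=
  (H64.SG.ad chevE6 K).toStB.nn_mem_N ⟨α, ha⟩ h

theorem nn_H {α : ℕ} (ha : α < 72) {a : K} (h : a ≠ 0) :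
    (nn chevE6 (xG chevE6 K) α 1)⁻¹ * nn chevE6 (xG chevE6 K) α a ∈ (TE K).H := by
  rw [(stE K).nn_inv ⟨α, ha⟩]
  exact (stE K).nn_mul_nn_mem ⟨α, ha⟩ (neg_ne_zero.2 one_ne_zero) h

theorem xE_U {α : ℕ} (ha : α < 72) (h : 24 ≤ fr α) (a : K) : xG chevE6 K α a ∈ (TE K).U :=
  (TE K).X_le_U (r := ⟨α, ha⟩) ((t_posE ⟨α, ha⟩).2 h) (x_mem_XR chevE6 _ ⟨α, ha⟩ a)

theorem xE_V {α : ℕ} (ha : α < 72) (h : ¬ 24 ≤ fr α) (a : K) : xG chevE6 K α a ∈ (TE K).V :=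
  (TE K).X_le_V (r := ⟨α, ha⟩) (mt (t_posE ⟨α, ha⟩).1 h) (x_mem_XR chevE6 _ ⟨α, ha⟩ a)

theorem t_lt : ∀ r < 48, p1 r < 72 ∧ p2 r < 72 ∧ o1 r < 72 := by decide +kernel

/-- `f` maps the root elements to the root elements of the twisted group. -/
structure Ov (e : XF F →* G) (ι : F →+* K) (σ : RingAut K) (y : ℕ → K → G) (f : G →* chevE6.group K) :
    Prop where
  fe : ∀ r < 48, ∀ c, f (e (x F r c)) = iE K (x K r (ι c))
  fy : ∀ r, S r → ∀ a, f (y r a) = yP K r (a, σ a)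

variable {f : G →* chevE6.group K} (h : TY e θ ι σ η y) (o : Ov e ι σ y f)
include h o

theorem map_Y {r : ℕ} (hr : r < 48) {A : Subgroup (chevE6.group K)}
    (hA : ∀ α < 72, fr α = r → ∀ a, xG chevE6 K α a ∈ A) {g : G} (hg : g ∈ Yr e y r) : f g ∈ A := by
  obtain ⟨l1, l2, l3⟩ := t_lt r hr
  obtain ⟨k1, k2⟩ := t_fr' r hr
  cases p : sh r
  · obtain ⟨c, rfl⟩ := (mem_YL ⟨hr, p⟩).1 hg
    rw [o.fe r hr, iE_L ⟨hr, p⟩]; exact hA _ l3 (k1 p) _
  · obtain ⟨c, rfl⟩ := (mem_YS h ⟨hr, p⟩).1 hg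
    rw [o.fy r ⟨hr, p⟩]; exact mul_mem (hA _ l1 (k2 p).1 _) (hA _ l2 (k2 p).2.2.1 _)

theorem map_U {r : H63.Rt chevF4} (hr : Pos r) {g : G} (hg : g ∈ Yr e y r) : f g ∈ (TE K).U :=
  map_Y h o r.2 (fun α ha k => xE_U ha (k ▸ (t_posF r).1 hr)) hg

omit h in
theorem fx_eq_one {r : ℕ} (hr : r < 48) {c : F} (k : f (e (x F r c)) = 1) : c = 0 := by
  rw [o.fe r hr, map_eq_one_iff _ iE_inj] at k
  exact (map_eq_zero ι).1 ((H64.SG.ad chevF4 K).toStB.eq_zero_of_x_eq_one ⟨r, hr⟩ k)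

theorem inj_Y {r : ℕ} (hr : r < 48) {g : G} (hg : g ∈ Yr e y r) (k : f g = 1) : g = 1 := by
  cases p : sh r
  · obtain ⟨c, rfl⟩ := (mem_YL ⟨hr, p⟩).1 hg
    rw [fx_eq_one o hr k, xF_zero hr, map_one]
  · obtain ⟨c, rfl⟩ := (mem_YS h ⟨hr, p⟩).1 hg
    rw [o.fy r ⟨hr, p⟩] at k
    rw [show c = 0 from congrArg Prod.fst (yP_inj ⟨hr, p⟩ k), y_zero h.toSY ⟨hr, p⟩]

omit h in
theorem f_mL {r : ℕ} (hr : L r) (c : F) : f (mL e r c) = nn chevE6 (xG chevE6 K) (o1 r) (ι c) := by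
  obtain ⟨h1, h2, h3, -⟩ := t_neg r hr.1
  rw [mL, map_mul, map_mul, ← t_negF r hr.1, o.fe r hr.1, o.fe _ h1, iE_L hr, iE_L ⟨h1, h2.trans hr.2⟩, h3 hr.2,
    nn_eq, CharTwo.neg_eq, map_inv₀]

theorem f_mS {r : ℕ} (hr : S r) (c : K) : f (mS σ y r c) =
    nn chevE6 (xG chevE6 K) (p1 r) c * nn chevE6 (xG chevE6 K) (p2 r) (σ c) := by
  rw [mS, map_mul, map_mul, o.fy r hr, o.fy _ (t_C r hr.1 hr.2).1, map_inv₀, h.rg.ss, yP_nn hr]

theorem f_n {r : ℕ} (hr : r < 48) : f (e (n F r)) ∈ (TE K).N := by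
  obtain ⟨l1, l2, l3⟩ := t_lt r hr
  rw [n_eq hr]
  cases p : sh r
  · rw [f_mL o ⟨hr, p⟩, map_one]; exact nn_N l3 one_ne_zero
  · rw [← mS_one h ⟨hr, p⟩, f_mS h o ⟨hr, p⟩, map_one]
    exact mul_mem (nn_N l1 one_ne_zero) (nn_N l2 one_ne_zero)

variable (e y f) in
/-- the torus -/
noncomputable def HT : Subgroup G :=
  (⨅ r : H63.Rt chevF4, Subgroup.normalizer (Yr e y r : Set G)) ⊓ (TE K).H.comap f

omit o in
theorem n_mul_mem {r : ℕ} (hr : r ∈ [33, 27, 25, 24]) {m : G}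
    (k : ∀ s < 48, H98.cj m (Yr e y s) = Yr e y (rf r s)) (k1 : (f (e (n F r)))⁻¹ * f m ∈ (TE K).H) :
    (e (n F r))⁻¹ * m ∈ HT e y f :=
  ⟨Subgroup.mem_iInf.2 fun s => H98.cj_eq_self_iff.1 (by
    rw [← H98.cj_cj, k s s.2, ← n_cj h hr s.2, H98.cj_inv_cj]), by
      change f _ ∈ (TE K).H
      rw [map_mul, map_inv]; exact k1⟩

theorem rank_one {r : ℕ} (hr : r ∈ [33, 27, 25, 24]) {g : G} (hg : g ∈ Yr e y (47 - r)) (h1 : g ≠ 1) :
    ∃ a ∈ Yr e y r, ∃ b ∈ Yr e y r, ∃ k ∈ HT e y f, g = a * e (n F r) * k * b := by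
  rcases (by decide : ∀ r ∈ [33, 27, 25, 24], (S r ∧ S (47 - r) ∧ r ∈ [33, 27]) ∨
    (L r ∧ L (47 - r) ∧ r ∈ [25, 24])) r hr with ⟨k1, k2, k3⟩ | ⟨k1, k2, k3⟩
  · obtain ⟨l1, l2, -⟩ := t_lt r k1.1
    obtain ⟨a, rfl⟩ := (mem_YS h k2).1 hg
    have ha : a ≠ 0 := by rintro rfl; exact h1 (y_zero h.toSY k2)
    have hc : (σ a)⁻¹ ≠ 0 := inv_ne_zero ((map_ne_zero σ).2 ha)
    refine ⟨_, y_mem h k1 (σ a)⁻¹, _, y_mem h k1 (σ a)⁻¹, _, n_mul_mem h hr (fun s hs => mS_cj h k3 hs hc) ?_, ?_⟩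
    · rw [n_eq k1.1, ← mS_one h k1, f_mS h o k1, f_mS h o k1, map_one]
      have e1 := (TE K).conj_H (inv_mem (nn_N l2 (one_ne_zero' K))) (nn_H l1 hc)
      have e2 := mul_mem e1 (nn_H l2 ((map_ne_zero σ).2 hc))
      convert e2 using 1; group
    · rw [mul_assoc (y r _), mul_inv_cancel_left, mS, map_inv₀, h.rg.ss, inv_inv, ← mul_assoc, ← mul_assoc,
        y_sq h k1, one_mul, mul_assoc, y_sq h k1, mul_one]
  · obtain ⟨a, rfl⟩ := (mem_YL k2).1 hg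
    have ha : a ≠ 0 := by rintro rfl; exact h1 (by rw [xF_zero k2.1, map_one])
    refine ⟨_, ex_mem h k1.1 a⁻¹, _, ex_mem h k1.1 a⁻¹, _,
      n_mul_mem h hr (fun s hs => mL_cj h k3 hs (inv_ne_zero ha)) ?_, ?_⟩
    · rw [n_eq k1.1, f_mL o k1, f_mL o k1, map_one]
      exact nn_H (t_lt r k1.1).2.2 ((map_ne_zero ι).2 (inv_ne_zero ha))
    · rw [mul_assoc (e _), mul_inv_cancel_left, mL, inv_inv, ← mul_assoc, ← mul_assoc,
        ex_sq k1.1, one_mul, mul_assoc, ex_sq k1.1, mul_one]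

omit o in
theorem n_cj' (i : Fin chevF4.rank) (s : H63.Rt chevF4) :
    H98.cj (e (n F (chevF4.simple i))) (Yr e y s) = Yr e y (sref i s) := by
  rw [sref_val, (t_rf i i.2).2 s s.2]; exact n_cj h (t_rf i i.2).1 s.2

omit h o in
theorem n_sq {r : ℕ} (hr : r < 48) : e (n F r) * e (n F r) = 1 := by rw [n_eq hr, mL_sq hr]

/-- The lifted root data. -/
noncomputable def ldT : H57.LD (H64.wdata chevF4) f (TE K).B (TE K).V (TE K).H where
  Y r := Yr e y r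
  H := HT e y f
  n i := e (n F (chevF4.simple i))
  h_conj g hg r _ hx := H98.conj_mem_of_mem_normalizer (Subgroup.mem_iInf.1 hg.1 r) hx
  n_conj i r _ hx := (n_cj' h i r).le (H98.conj_mem_cj hx)
  n_H i g hg := ⟨Subgroup.mem_iInf.2 fun s => H98.cj_eq_self_iff.1 (by
    have k := n_sq (e := e) (RS.simple_lt i)
    rw [inv_eq_of_mul_eq_one_right k, ← H98.cj_cj, ← H98.cj_cj, n_cj' h,
      H98.cj_eq_self (Subgroup.mem_iInf.1 hg.1 _), cj_swap k (n_cj' h i s)]), by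
        change f _ ∈ (TE K).H
        rw [map_mul, map_mul, map_inv]
        exact (TE K).conj_H (f_n h o (RS.simple_lt i)) hg.2⟩
  n_sq i := by rw [n_sq (RS.simple_lt i)]; exact one_mem _
  rank_one i g hg h1 := rank_one h o (t_rf i i.2).1 (t_negF _ (RS.simple_lt i) ▸ hg) h1
  nontriv i := ⟨_, ex_mem h (RS.simple_lt i) 1, fun k =>
    one_ne_zero (fx_eq_one o (RS.simple_lt i) (by rw [k, map_one]))⟩
  norm w i hi c hc hne a ha b hb := by
    rw [conj_of_cm rfl]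
    refine mul_mem (cm_mem h (r := simpleR i) (T := (H64.wdata chevF4).Inv w \ {simpleR i}) hne
      (fun k => pos_negR.1 (k ▸ hc.1) (pos_simpleR i))
      (fun d m n hm hn k => ⟨⟨fun j => ?_, not_pos_iff.2 fun j => ?_⟩, fun k1 => ?_⟩) ha hb)
      (le_gen (fun s : H63.Rt chevF4 => Yr e y s) (S := _ \ {_}) ⟨hc, hne⟩ hb)
    · have h1 := pos_simpleR i j
      have h2 := hc.1 j
      rw [k]; simp only [Pi.add_apply, Pi.smul_apply, smul_eq_mul]; positivity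
    · have h1 := not_pos_iff.1 hi.2 j
      have h2 := not_pos_iff.1 hc.2 j
      rw [rt_apply_of_eq w.2 k]; simp only [Pi.add_apply, Pi.smul_apply, smul_eq_mul]
      rw [H64.wdata_p] at h1
      nlinarith
    · have h1 := ht_of_eq k
      have h2 := pos_iff_ht.1 hc.1
      rw [show d = simpleR i from k1, ht_simpleR] at h1
      nlinarith
  map_pos r hr g hg := (TE K).U_le_B (map_U h o hr hg)
  map_neg r hr g hg := map_Y h o r.2 (fun α ha k => xE_V ha (k ▸ mt (t_posF r).2 hr)) hg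
  map_H g hg := hg.2
  Hm_le := (TE K).H_le_B
  n_Hm i g hg := (TE K).conj_H (f_n h o (RS.simple_lt i)) hg
  disj g := (TE K).eq_one_of_mem_B_V
  inj_p i g hg := inj_Y h o (RS.simple_lt i) hg

variable (e y) in
/-- the group generated by the root subgroups -/
abbrev GY : Subgroup G := gen (fun s : H63.Rt chevF4 => Yr e y s) Set.univ

theorem comm_of_ker {g : G} (hg : g ∈ GY e y) (k : f g = 1) {z : G} (hz : z ∈ GY e y) : z * g = g * z := by
  have h2 := (ldT h o).mem_H (Subgroup.mem_sup_left hg) (k ▸ one_mem _)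
  refine Subgroup.mem_centralizer_singleton_iff.1 (gen_le (fun r _ a ha => ?_) hz)
  have := inj_Y h o r.2 (mul_mem ((ldT h o).h_conj g h2 r a ha) (inv_mem ha)) (by simp [k])
  rw [mul_inv_eq_one, mul_inv_eq_iff_eq_mul] at this
  exact Subgroup.mem_centralizer_singleton_iff.2 this.symm

theorem odd_index [Finite G] [Finite K] (hf : Function.Injective f) (ht : GY e y = ⊤) :
    Odd (gen (fun s : H63.Rt chevF4 => Yr e y s) {r | Pos r}).index := by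
  rw [← Nat.not_even_iff_odd, even_iff_two_dvd]
  refine H54.not_dvd_index_U (ldT h o).grd (eq_top_iff.2 (ht.ge.trans le_sup_left)) ?_ fun k => ?_
  · exact (((H64.SG.ad chevE6 K).isPGroup_U 2).comap_of_injective f hf).to_le
      (gen_le fun r hr g hg => map_U h o hr hg)
  · obtain ⟨g, hg⟩ := exists_prime_orderOf_dvd_card' 2 k
    have h1 : (g : G) ^ 2 = 1 := by rw [← hg, ← Subgroup.coe_pow, pow_orderOf_eq_one]; rfl
    have h2 := (H64.SG.ad chevE6 K).eq_one_of_pow 2 (k := 1) g.2.2 (by rw [pow_one, ← map_pow, h1, map_one])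
    rw [Subtype.ext (hf (h2.trans (map_one f).symm) : (g : G) = (1 : (ldT h o).grd.H)), orderOf_one] at hg
    omega

omit o

omit h in
theorem Y_le {r : ℕ} (hr : r < 48) : Yr e y r ≤ GY e y := by
  have := le_gen (fun s : H63.Rt chevF4 => Yr e y s) (Set.mem_univ (⟨r, hr⟩ : H63.Rt chevF4))
  exact this

theorem GY_perf : GY e y ≤ ⁅GY e y, GY e y⁆ := gen_le fun s _ => by
  obtain ⟨a, ha, b, hb, k⟩ := Y_comm h s.2
  exact k.le.trans (Subgroup.commutator_mono (Y_le ha) (Y_le hb))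

theorem e_mem (g : XF F) : e g ∈ GY e y :=
  GG_le (x := xG chevF4 F) (K := (GY e y).comap e) (fun r c => Y_le r.2 (ex_mem h r.2 c))
    (GG_xG (D := chevF4) (F := F) ▸ Subgroup.mem_top g)

theorem th_mem {g : G} (hg : g ∈ GY e y) : θ g ∈ GY e y := by
  refine gen_le (K := (GY e y).comap θ.toMonoidHom) (fun r _ a ha => ?_) hg
  change θ a ∈ GY e y
  cases p : sh r
  · obtain ⟨c, rfl⟩ := (mem_YL ⟨r.2, p⟩).1 ha
    rw [h.te]; exact e_mem h _
  · obtain ⟨c, rfl⟩ := (mem_YS h ⟨r.2, p⟩).1 ha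
    rw [h.ty r ⟨r.2, p⟩]; exact Y_le r.2 (y_mem h ⟨r.2, p⟩ _)

omit h in
theorem map_Yr {G' : Type*} [Group G'] (ψ : G →* G') (r : ℕ) :
    (Yr e y r).map ψ = Yr (ψ.comp e) (fun r a => ψ (y r a)) r := by
  unfold Yr
  split_ifs <;> rw [MonoidHom.map_closure, ← Set.range_comp] <;> rfl

end H46.SF
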