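import Cfsg.Agent.H64.SFSpec
import Cfsg.Agent.H64.SGKit

/-! STD-F4: tables for the roots of `E₆` over the roots of `F₄`, in a coherent orientation. -/

set_option autoImplicit false
set_option linter.unusedSectionVars false
set_option synthInstance.maxSize 4000

open Cfsg Cfsg.Lie H63 H65 H64 H64.SF
open H64.SG (ET)
open H67.SA (cm)
open H63.TG (Rg)
open H68 (rhoE6)

namespace H46.SF

/-- the short roots at which the two roots of `E₆` are exchanged -/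
def sw (r : ℕ) : Bool := [3, 8, 9, 10, 14, 18, 19, 20, 28, 29, 37, 38, 39, 44].contains r
/-- the first root of `E₆` over `r`, in the coherent orientation -/
def p1 (r : ℕ) : ℕ := if sw r then o2 r else o1 r
/-- the second root of `E₆` over `r`, in the coherent orientation -/
def p2 (r : ℕ) : ℕ := if sw r then o1 r else o2 r

/-- the root subgroups at `α`, `β` commute -/
def c0 (α β : ℕ) : Prop := α < 72 ∧ β < 72 ∧ 0 ≤ chevE6.pairing α β
/-- `γ = α + β` -/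
def c1 (α β γ : ℕ) : Prop := α < 72 ∧ β < 72 ∧ γ < 72 ∧
  ∀ i < 6, co chevE6 γ i = co chevE6 α i + co chevE6 β i
/-- `γ` is the image of `β` under the reflection in `α` -/
def cr (α β γ : ℕ) : Prop := α < 72 ∧ β < 72 ∧ γ < 72 ∧
  ∀ i < 6, co chevE6 γ i = co chevE6 β i - chevE6.pairing α β * co chevE6 α i
/-- the image of `β` under the reflection in `α` -/
def r6 (α β : ℕ) : ℕ := (List.range 72).findIdx fun γ => (List.range 6).all fun i =>
  co chevE6 γ i == co chevE6 β i - chevE6.pairing α β * co chevE6 α i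

instance (α β : ℕ) : Decidable (c0 α β) := by unfold c0; infer_instance
instance (α β γ : ℕ) : Decidable (c1 α β γ) := by unfold c1; infer_instance
instance (α β γ : ℕ) : Decidable (cr α β γ) := by unfold cr; infer_instance

theorem etE6 : ET chevE6 := Or.inl rfl

theorem c1.rt {α β γ : ℕ} (h : c1 α β γ) :
    rt (⟨γ, h.2.2.1⟩ : H63.Rt chevE6) = rt (⟨α, h.1⟩ : H63.Rt chevE6) + rt (⟨β, h.2.1⟩ : H63.Rt chevE6) := by
  funext i
  simp only [Pi.add_apply, etE6.rt_eq]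
  exact h.2.2.2 i i.2

theorem cr.refl {α β γ : ℕ} (h : cr α β γ) :
    refl (⟨α, h.1⟩ : H63.Rt chevE6) ⟨β, h.2.1⟩ = ⟨γ, h.2.2.1⟩ := rt_inj (by
  rw [rt_refl]
  funext i
  simp only [Pi.sub_apply, Pi.smul_apply, etE6.rt_eq, smul_eq_mul]
  exact (h.2.2.2 i i.2).symm)

section St

variable {K : Type*} [Field K] [CharP K 2] {G : Type*} [Group G] {X : ℕ → K → G}

theorem c0.comm {α β : ℕ} (h : c0 α β) (hX : St chevE6 X) (a b : K) : Commute (X α a) (X β b) :=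
  etE6.comm_of_nonneg hX (r := ⟨α, h.1⟩) (s := ⟨β, h.2.1⟩) h.2.2 a b

theorem c1.comm {α β γ : ℕ} (h : c1 α β γ) (hX : St chevE6 X) (a b : K) :
    X α a * X β b = X β b * X α a * X γ (a * b) := etE6.comm_add hX h.rt a b

theorem cr.conj {α β γ : ℕ} (h : cr α β γ) (hX : St chevE6 X) (a : K) :
    nn chevE6 X α 1 * X β a * (nn chevE6 X α 1)⁻¹ = X γ a := by
  have := H64.SG.nn_conj2 hX.stN ⟨α, h.1⟩ ⟨β, h.2.1⟩ a
  rwa [h.refl] at this

end St

section Grp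

variable {G : Type*} [Group G]

theorem cm_of {a b z : G} (h : a * b = b * a * z) (h1 : Commute z a) (h2 : Commute z b) : cm a b = z := by
  rw [cm, h, ← (h2.mul_right h1).eq]; group

theorem cm22 {a1 a2 b1 b2 z1 z2 : G} (h1 : a1 * b1 = b1 * a1 * z1) (h2 : a2 * b2 = b2 * a2 * z2)
    (c12 : Commute a1 b2) (c21 : Commute a2 b1) (d1 : Commute z1 a1) (d2 : Commute z1 a2)
    (d3 : Commute z1 b1) (d4 : Commute z1 b2) (e1 : Commute z2 a1) (e2 : Commute z2 a2)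
    (e3 : Commute z2 b1) (e4 : Commute z2 b2) : cm (a1 * a2) (b1 * b2) = z1 * z2 := by
  refine cm_of ?_ ((d1.mul_right d2).mul_left (e1.mul_right e2))
    ((d3.mul_right d4).mul_left (e3.mul_right e4))
  calc a1 * a2 * (b1 * b2) = a1 * (a2 * b1) * b2 := by group
    _ = (a1 * b1) * (a2 * b2) := by rw [c21.eq]; group
    _ = b1 * a1 * (z1 * (b2 * a2)) * z2 := by rw [h1, h2]; group
    _ = b1 * (a1 * b2) * a2 * (z1 * z2) := by rw [(d4.mul_right d2).eq]; group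
    _ = _ := by rw [c12.eq]; group

theorem cm21 {a1 a2 b u1 u2 v : G} (h1 : a1 * b = b * a1 * u1) (h2 : a2 * b = b * a2 * u2)
    (h3 : a1 * u2 = u2 * a1 * v) (c1 : Commute a1 u1) (c2 : Commute a2 u2) (c3 : Commute a1 v)
    (d1 : Commute b u1) (d2 : Commute b u2) (d3 : Commute b v) : cm (a1 * a2) b = u1 * u2 * v := by
  calc cm (a1 * a2) b = a1 * (a2 * b) * a2⁻¹ * a1⁻¹ * b⁻¹ := by rw [cm]; group
    _ = (a1 * b) * (a2 * u2) * a2⁻¹ * a1⁻¹ * b⁻¹ := by rw [h2]; group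
    _ = b * (a1 * u1) * u2 * a1⁻¹ * b⁻¹ := by rw [h1, c2.eq]; group
    _ = b * u1 * (a1 * u2) * a1⁻¹ * b⁻¹ := by rw [c1.eq]; group
    _ = b * u1 * u2 * (a1 * v) * a1⁻¹ * b⁻¹ := by rw [h3]; group
    _ = b * (u1 * u2 * v) * b⁻¹ := by rw [c3.eq]; group
    _ = _ := by rw [((d1.mul_right d2).mul_right d3).eq]; group

end Grp

theorem t_p : ∀ r < 48, sh r = true → c0 (p1 r) (p2 r) ∧ p1 r ≠ p2 r ∧ rhoE6 (p1 r) = p2 r ∧
    rhoE6 (p2 r) = p1 r := by decide +kernel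

theorem t_60 : ∀ r < 48, ∀ s < 48, sh r = true → sh s = true → 0 < ip r s →
    c0 (p1 r) (p1 s) ∧ c0 (p1 r) (p2 s) ∧ c0 (p2 r) (p1 s) ∧ c0 (p2 r) (p2 s) := by decide +kernel

theorem t_l0 : ∀ r < 48, ∀ s < 48, sh r = true → sh s = false → 0 ≤ ip r s →
    c0 (p1 r) (o1 s) ∧ c0 (p2 r) (o1 s) := by decide +kernel

theorem t_120 : ∀ r < 48, ∀ s < 48, sh r = true → sh s = true → ip r s = -2 →
    (ad r s < 48 ∧ sh (ad r s) = true ∧ 0 < ip (ad r s) r ∧ 0 < ip (ad r s) s) ∧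
    c1 (p1 r) (p1 s) (p2 (ad r s)) ∧ c1 (p2 r) (p2 s) (p1 (ad r s)) ∧ c0 (p1 r) (p2 s) ∧
      c0 (p2 r) (p1 s) := by decide +kernel

theorem t_90 : ∀ r < 48, ∀ s < 48, sh r = true → sh s = true → ip r s = 0 →
    (ad r s < 48 ∧ sh (ad r s) = false ∧ 0 ≤ ip r (ad r s) ∧ 0 ≤ ip s (ad r s)) ∧
    c1 (p1 r) (p2 s) (o1 (ad r s)) ∧ c1 (p2 r) (p1 s) (o1 (ad r s)) ∧ c0 (p1 r) (p1 s) ∧
      c0 (p2 r) (p2 s) := by decide +kernel

theorem t_l : ∀ r < 48, ∀ l < 48, sh r = true → sh l = false → ip r l < 0 →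
    (ad r l < 48 ∧ sh (ad r l) = true ∧ ip r (ad r l) = 0 ∧ 0 ≤ ip (ad r l) l) ∧
    c1 (p1 r) (o1 l) (p1 (ad r l)) ∧ c1 (p2 r) (o1 l) (p2 (ad r l)) ∧
      c0 (o1 l) (o1 (ad r (ad r l))) := by decide +kernel

theorem t_neg : ∀ s < 48, chevF4.neg s < 48 ∧ sh (chevF4.neg s) = sh s ∧
    (sh s = false → o1 (chevF4.neg s) = chevE6.neg (o1 s)) ∧
    (sh s = true → p1 (chevF4.neg s) = chevE6.neg (p2 s) ∧ p2 (chevF4.neg s) = chevE6.neg (p1 s) ∧
      c0 (p1 s) (chevE6.neg (p2 s)) ∧ c0 (p2 s) (chevE6.neg (p1 s))) := by decide +kernel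

theorem t_nl : ∀ r < 48, ∀ s < 48, sh r = true → sh s = false → (rf s r < 48 ∧ sh (rf s r) = true) ∧
    cr (o1 s) (p1 r) (p1 (rf s r)) ∧ cr (o1 s) (p2 r) (p2 (rf s r)) := by decide +kernel

theorem t_ns : ∀ r < 48, ∀ s < 48, sh r = true → sh s = true → (rf s r < 48 ∧ sh (rf s r) = true) ∧
    cr (p2 s) (p1 r) (r6 (p2 s) (p1 r)) ∧ cr (p1 s) (r6 (p2 s) (p1 r)) (p2 (rf s r)) ∧
    cr (p2 s) (p2 r) (r6 (p2 s) (p2 r)) ∧ cr (p1 s) (r6 (p2 s) (p2 r)) (p1 (rf s r)) := by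
  decide +kernel

end H46.SF
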