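import Cfsg.Agent.H67.SPSpec

/-! STD-SP (row S3129), slot CF: the functional equation. -/

set_option autoImplicit false
set_option linter.unusedSectionVars false

open H67.UA H67.SP

namespace H46.SPCF

section Abs

variable {F W : Type} [Field F] [CharP F 2] [AddCommGroup W] [Module F W]

/-- The abstract setting. -/
structure St (B : W →ₗ[F] W →ₗ[F] F) (f : W → F) : Prop where
  alt : ∀ v, B v v = 0
  symm : ∀ v w, B v w = B w v
  two : ∀ v : W, v + v = 0
  dual : ∀ s p, (∀ a : F, p ≠ a • s) → ∃ u, B u s = 0 ∧ B u p = 1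
  sq : ∀ a : F, ∃ s, s ^ 2 = a
  big : ∀ s s', ∃ w, w ≠ 0 ∧ B w s = 0 ∧ B w s' = 0
  R : ∀ x y, x ≠ 0 → y ≠ 0 → f (x + B x y • y) = f x + B x y ^ 2 * f y

variable {B : W →ₗ[F] W →ₗ[F] F} {f : W → F}

theorem St.nel {x y : W} (h : B x y ≠ 0) : x ≠ 0 := fun e => h (by simp [e])
theorem St.ner {x y : W} (h : B x y ≠ 0) : y ≠ 0 := fun e => h (by simp [e])

theorem St.one (S : St B f) {y : W} (hy : y ≠ 0) : ∃ u, B u y = 1 := by
  obtain ⟨u, -, h⟩ := S.dual 0 y (fun a => by simpa using hy)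
  exact ⟨u, h⟩

theorem St.R1 (S : St B f) {x y : W} (h : B x y = 1) : f (x + y) = f x + f y := by
  have := S.R x y (St.nel (B := B) (y := y) (by simp [h])) (St.ner (B := B) (x := x) (by simp [h]))
  simpa [h] using this

/-- `φ (l; y)` -/
def ph (f : W → F) (l : F) (y : W) : F := f (l • y) + l ^ 2 * f y

theorem St.ph1 (S : St B f) {x y : W} (h : B x y = 1) {l : F} (hl : l ≠ 0) :
    ph f l x = ph f l y := by
  have hx : x ≠ 0 := St.nel (B := B) (y := y) (by simp [h])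
  have hy : y ≠ 0 := St.ner (B := B) (x := x) (by simp [h])
  have h1 := S.R (l • x) y (smul_ne_zero hl hx) hy
  have h2 := S.R (l • y) x (smul_ne_zero hl hy) hx
  have h3 : B y x = 1 := by rw [S.symm, h]
  simp only [map_smul, LinearMap.smul_apply, h, h3, smul_eq_mul, mul_one] at h1 h2
  rw [add_comm (l • y)] at h2
  unfold ph
  linear_combination h2 - h1 + (l ^ 2 * f x - l ^ 2 * f y) * two0 F

theorem St.ph2 (S : St B f) {y y' : W} (h : ∀ a : F, y ≠ a • y') (h' : ∀ a : F, y' ≠ a • y)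
    {l : F} (hl : l ≠ 0) : ph f l y = ph f l y' := by
  obtain ⟨u, a1, a2⟩ := S.dual y' y h
  obtain ⟨v, b1, b2⟩ := S.dual y y' h'
  rw [← S.ph1 (x := u + v) (y := y) (by simp [a2, b1]) hl,
    S.ph1 (x := u + v) (y := y') (by simp [a1, b2]) hl]

theorem St.ph3 (S : St B f) {y y' : W} (hy : y ≠ 0) (hy' : y' ≠ 0) {l : F} (hl : l ≠ 0) :
    ph f l y = ph f l y' := by
  by_cases h : ∀ a : F, y ≠ a • y'
  · refine S.ph2 h (fun a e => ?_) hl
    have ha : a ≠ 0 := fun e' => hy' (by rw [e, e', zero_smul])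
    exact h a⁻¹ (by rw [e, smul_smul, inv_mul_cancel₀ ha, one_smul])
  · push Not at h
    obtain ⟨a, e⟩ := h
    have ha : a ≠ 0 := fun e' => hy (by rw [e, e', zero_smul])
    obtain ⟨x, hx⟩ := S.one hy
    rw [← S.ph1 hx hl]
    refine S.ph2 (fun b e' => ?_) (fun b e' => ?_) hl
    · rw [e', e] at hx
      simp [S.alt] at hx
    · rw [e, e'] at hx
      simp [S.alt] at hx

/-- Non-perpendicular pairs. -/
theorem St.np (S : St B f) {c : F} (hc : ∀ l : F, l ≠ 0 → ∀ y, y ≠ 0 → ph f l y = c * (1 + l ^ 2))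
    {a b : W} (h : B a b ≠ 0) : f (a + b) = f a + f b + c * (1 + B a b) := by
  obtain ⟨s, hs⟩ := S.sq (B a b)
  have s0 : s ≠ 0 := fun e => h (by rw [← hs, e]; simp)
  have hb : s⁻¹ • b ≠ 0 := smul_ne_zero (inv_ne_zero s0) (St.ner h)
  have h1 := S.R a (s⁻¹ • b) (St.nel h) hb
  have h2 := hc s s0 _ hb
  have h3 : B a (s⁻¹ • b) = s := by
    rw [map_smul, ← hs, smul_eq_mul]; field_simp
  rw [h3, smul_smul, mul_inv_cancel₀ s0, one_smul] at h1
  rw [ph, smul_smul, mul_inv_cancel₀ s0, one_smul] at h2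
  rw [← hs]
  linear_combination h1 + h2 - (f b) * two0 F

theorem St.big_case (S : St B f) {m : F} (m0 : m ≠ 0) (m1 : m ≠ 1) :
    ∃ c, (∀ a b, a ≠ 0 → b ≠ 0 → a + b ≠ 0 → f (a + b) = f a + f b + c * (1 + B a b)) ∧
      ∀ l : F, l ≠ 0 → ∀ y, y ≠ 0 → ph f l y = c * (1 + l ^ 2) := by
  obtain ⟨w, w0, -⟩ := S.big 0 0
  have m2 : 1 + m ≠ 0 := fun e => m1 (by linear_combination e - two0 F)
  have m3 : 1 + m ^ 2 ≠ 0 := fun e => m2 (pow_eq_zero_iff (n := 2) (by decide) |>.1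
    (by linear_combination e + m * two0 F))
  have hc : ∀ l : F, l ≠ 0 → ∀ y, y ≠ 0 → ph f l y = ph f m w / (1 + m ^ 2) * (1 + l ^ 2) := by
    intro l l0 y y0
    have h1 := S.ph3 (smul_ne_zero m0 y0) y0 l0
    have h2 := S.ph3 (smul_ne_zero l0 y0) w0 m0
    have h3 := S.ph3 y0 w0 m0
    rw [div_mul_eq_mul_div, eq_div_iff m3]
    simp only [ph, smul_smul] at h1 h2 h3 ⊢
    rw [mul_comm m l] at h2
    linear_combination h1 + h2 + l ^ 2 * h3 + (f (l • y) + l ^ 2 * f y - f ((l * m) • y) -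
      l ^ 2 * f (m • y)) * two0 F
  refine ⟨_, fun a b a0 b0 ab => ?_, hc⟩
  generalize ph f m w / (1 + m ^ 2) = c at hc
  by_cases h : B a b = 0
  swap
  · exact S.np hc h
  obtain ⟨u, u1, u2, u3⟩ : ∃ u, B u a ≠ 0 ∧ B u b ≠ 0 ∧ B u (a + b) ≠ 0 := by
    by_cases k : ∀ r : F, b ≠ r • a
    · obtain ⟨u, a1, a2⟩ := S.dual a b k
      obtain ⟨v, b1, b2⟩ := S.dual b a (fun r e => by
        have r0 : r ≠ 0 := fun e' => a0 (by rw [e, e', zero_smul])
        exact k r⁻¹ (by rw [e, smul_smul, inv_mul_cancel₀ r0, one_smul]))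
      exact ⟨v + m • u, by simp [a1, b2], by simp [a2, b1, m0], by simp [a1, a2, b1, b2, m2]⟩
    · push Not at k
      obtain ⟨r, e⟩ := k
      obtain ⟨u, hu⟩ := S.one a0
      have r0 : r ≠ 0 := fun e' => b0 (by rw [e, e', zero_smul])
      have r1 : 1 + r ≠ 0 := fun e' => ab (by rw [e, ← one_smul F a, smul_smul, ← add_smul,
        mul_one, e', zero_smul])
      exact ⟨u, by simp [hu], by simp [e, hu, r0], by simp [e, hu, r1]⟩
  have k1 := S.np hc u1
  have k2 := S.np hc (a := u + a) (b := b) (by simpa [h] using u2)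
  have k3 := S.np hc u3
  rw [add_assoc] at k2
  simp only [map_add, LinearMap.add_apply, h] at k2 k3 ⊢
  linear_combination k1 + k2 - k3

/-- `D (p, s)` -/
def DD (f : W → F) (p s : W) : F := f (p + s) + f p + f s

theorem DD_symm (p s : W) : DD f p s = DD f s p := by
  rw [DD, DD, add_comm p s]; ring

theorem St.d1 (S : St B f) {s p p' : W} (h : B p s = 0) (h' : B p' s = 0) (e : B p' p = 1) :
    DD f p s = DD f p' s := by
  have h1 := S.R1 e
  have h2 := S.R1 (x := p' + p) (y := p + s) (by simp [h, h', e, S.alt])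
  rw [add_assoc, ← add_assoc p, S.two, zero_add] at h2
  unfold DD
  linear_combination -h1 - h2 - (f p') * two0 F

theorem St.d2 (S : St B f) (q : ∀ m : F, m = 0 ∨ m = 1) {s p p' : W} (h : B p s = 0)
    (h' : B p' s = 0) (p0 : p ≠ 0) (p1 : p ≠ s) (p0' : p' ≠ 0) (p1' : p' ≠ s) :
    DD f p s = DD f p' s := by
  obtain ⟨u, a1, a2⟩ := S.dual s p (fun r => by rcases q r with rfl | rfl <;> simpa)
  obtain ⟨v, b1, b2⟩ := S.dual s p' (fun r => by rcases q r with rfl | rfl <;> simpa)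
  obtain ⟨x, c1, c2, c3⟩ : ∃ x, B x s = 0 ∧ B x p = 1 ∧ B x p' = 1 := by
    rcases q (B u p') with k | k
    · rcases q (B v p) with k' | k'
      · exact ⟨u + v, by simp [a1, b1], by simp [a2, k'], by simp [k, b2]⟩
      · exact ⟨v, b1, k', b2⟩
    · exact ⟨u, a1, a2, k⟩
  rw [S.d1 h c1 c2, S.d1 h' c1 c3]

theorem St.small_case (S : St B f) (q : ∀ m : F, m = 0 ∨ m = 1) :
    ∃ c, (∀ a b, a ≠ 0 → b ≠ 0 → a + b ≠ 0 → f (a + b) = f a + f b + c * (1 + B a b)) ∧
      ∀ l : F, l ≠ 0 → ∀ y, y ≠ 0 → ph f l y = c * (1 + l ^ 2) := by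
  obtain ⟨c, hc⟩ : ∃ c, ∀ a b, a ≠ 0 → b ≠ 0 → a ≠ b → B a b = 0 → DD f a b = c := by
    by_cases k : ∃ a b : W, a ≠ 0 ∧ b ≠ 0 ∧ a ≠ b ∧ B a b = 0
    · obtain ⟨a', b', a0', b0', ab', h'⟩ := k
      refine ⟨DD f a' b', fun a b a0 b0 ab h => ?_⟩
      rcases q (B b b') with k | k
      · by_cases e : b = b'
        · subst e
          exact S.d2 q h h' a0 ab a0' ab'
        · rw [S.d2 q h (by rw [S.symm, k]) a0 ab b0' (Ne.symm e), DD_symm,
            S.d2 q k h' b0 e a0' ab']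
      · obtain ⟨w, w0, w1, w2⟩ := S.big b b'
        have e1 : w ≠ b := fun e => by rw [e, k] at w2; exact one_ne_zero w2
        have e2 : w ≠ b' := fun e => by rw [e, S.symm, k] at w1; exact one_ne_zero w1
        rw [S.d2 q h w1 a0 ab w0 e1, DD_symm, S.d2 q (p' := b') (by rw [S.symm, w1])
          (by rw [S.symm, w2]) b0 e1.symm b0' e2.symm, DD_symm, S.d2 q w2 h' w0 e2 a0' ab']
    · exact ⟨0, fun a b a0 b0 ab h => (k ⟨a, b, a0, b0, ab, h⟩).elim⟩
  refine ⟨c, fun a b a0 b0 ab => ?_, fun l l0 y y0 => ?_⟩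
  · rcases q (B a b) with k | k
    · have := hc a b a0 b0 (fun e => ab (by rw [e, S.two])) k
      rw [DD] at this
      rw [k]
      linear_combination this - (f a + f b) * two0 F
    · rw [S.R1 k, k]
      linear_combination -c * two0 F
  · obtain rfl := (q l).resolve_left l0
    rw [ph, one_smul]
    linear_combination (f y - c) * two0 F

theorem St.main (S : St B f) :
    ∃ c, (∀ a b, a ≠ 0 → b ≠ 0 → a + b ≠ 0 → f (a + b) = f a + f b + c * (1 + B a b)) ∧
      ∀ l : F, l ≠ 0 → ∀ y, y ≠ 0 → f (l • y) + l ^ 2 * f y = c * (1 + l ^ 2) := by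
  by_cases q : ∀ m : F, m = 0 ∨ m = 1
  · exact S.small_case q
  · push Not at q
    obtain ⟨m, m0, m1⟩ := q
    exact S.big_case m0 m1

end Abs

section Conc

variable {n : ℕ} {F : Type} [Field F] [StarRing F] [TrivialStar F] [CharP F 2] [Finite F]

theorem hf_comm (x y : Vn n F) : hf x y = hf y x := by rw [← star_hf, star_trivial]

variable (n F)

/-- The form as a bilinear map. -/
def hB : Vn n F →ₗ[F] Vn n F →ₗ[F] F :=
  LinearMap.mk₂ F hf hf_add_left hf_smul_left hf_add_right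
    (fun a x y => by rw [hf_smul_right, star_trivial, smul_eq_mul])

/-- `H` -/
def HH : Submodule F (Vn n F) where
  carrier := {y | Hy y}
  add_mem' := fun {a b} ha hb => ⟨by rw [hf_add_left, ha.1, hb.1, add_zero],
    by rw [hf_add_left, ha.2, hb.2, add_zero]⟩
  zero_mem' := ⟨by simp, by simp⟩
  smul_mem' := fun c x hx => ⟨by rw [hf_smul_left, hx.1, mul_zero],
    by rw [hf_smul_left, hx.2, mul_zero]⟩

variable {n F}

theorem rev_la : (H67.SA.la n).rev = 0 := by
  ext; simp [H67.SA.la]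

theorem rev_zero' : (0 : Fin (n + 1)).rev = H67.SA.la n := by
  rw [← rev_la, Fin.rev_rev]

theorem la_ne [H67.SP.Par n F] : H67.SA.la n ≠ 0 := by
  have := H67.SP.Par.five (n := n) (F := F)
  intro e
  have := congrArg Fin.val e
  simp [H67.SA.la] at this
  omega

/-- the projection to `H` -/
def pr (v : Vn n F) : Vn n F :=
  v + hf v (ev (H67.SA.la n)) • ev 0 + hf v (ev 0) • ev (H67.SA.la n)

theorem pr_mem [H67.SP.Par n F] (v : Vn n F) : Hy (pr v) := by
  have h := la_ne (n := n) (F := F)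
  constructor
  · simp only [pr, hf_add_left, hf_smul_left, hf_ev, rev_la, rev_zero', if_neg h.symm]
    simp [CharTwo.add_self_eq_zero]
  · simp only [pr, hf_add_left, hf_smul_left, hf_ev, rev_la, rev_zero', if_neg h]
    simp [CharTwo.add_self_eq_zero]

theorem hf_pr (v : Vn n F) {s : Vn n F} (hs : Hy s) : hf (pr v) s = hf v s := by
  simp only [pr, hf_add_left, hf_smul_left, hf_symm hs.1, hf_symm hs.2, mul_zero, add_zero]

theorem pr_eq {s : Vn n F} (hs : Hy s) : pr s = s := by simp [pr, hs.1, hs.2]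

theorem pr_add (v w : Vn n F) : pr (v + w) = pr v + pr w := by
  simp only [pr, hf_add_left, add_smul]; abel

theorem pr_smul (a : F) (v : Vn n F) : pr (a • v) = a • pr v := by
  simp only [pr, hf_smul_left, smul_add, smul_smul]

theorem st [H67.SP.Par n F] [Base n F] (f : Vn n F → F)
    (R : ∀ y y', Hy y → Hy y' → y ≠ 0 → y' ≠ 0 →
      f (y' + hf y' y • y) = f y' + hf y' y ^ 2 * f y) :
    St ((hB n F).compl₁₂ (HH n F).subtype (HH n F).subtype) (fun y : HH n F => f y) where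
  alt v := FV.iso (v : Vn n F)
  symm v w := hf_comm (v : Vn n F) w
  two v := Subtype.ext (v_add_self _)
  dual s p h := by
    obtain ⟨y, y1, y2⟩ : ∃ y : Vn n F, hf y s = 0 ∧ hf y p ≠ 0 := by
      by_contra k
      push Not at k
      by_cases s0 : (s : Vn n F) = 0
      · refine h 0 (Subtype.ext (eq_of_hf fun z => ?_))
        rw [hf_comm, k z (by simp [s0])]; simp
      · obtain ⟨a, e⟩ := FW.dual (s : Vn n F) p s0 k
        exact h a (Subtype.ext e)
    refine ⟨⟨pr ((hf y p)⁻¹ • y), pr_mem _⟩, ?_, ?_⟩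
    · change hf (pr _) (s : Vn n F) = 0
      rw [hf_pr _ s.2, hf_smul_left, y1, mul_zero]
    · change hf (pr _) (p : Vn n F) = 1
      rw [hf_pr _ p.2, hf_smul_left, inv_mul_cancel₀ y2]
  sq a := ⟨rt a, rt_sq a⟩
  big s s' := by
    let L : Vn n F →ₗ[F] (Fin 4 → F) := LinearMap.pi fun i =>
      (hB n F).flip (![ev 0, ev (H67.SA.la n), s, s'] i)
    have h5 := H67.SP.Par.five (n := n) (F := F)
    obtain ⟨w, w1, w0⟩ := (Submodule.ne_bot_iff _).1
      (LinearMap.ker_ne_bot_of_finrank_lt (f := L) (by simp; omega))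
    have k : ∀ i, hf w (![ev 0, ev (H67.SA.la n), s, s'] i) = 0 := fun i => congrFun w1 i
    exact ⟨⟨w, k 0, k 1⟩, fun e => w0 (congrArg Subtype.val e), k 2, k 3⟩
  R x y x0 y0 := R y x y.2 x.2 (fun e => y0 (Subtype.ext e)) (fun e => x0 (Subtype.ext e))

theorem jobCF : JobCF := by
  intro n F _ _ _ _ _ _ b f R
  classical
  obtain ⟨c, hA, hS⟩ := (st f R).main
  have hA' : ∀ a b : Vn n F, Hy a → Hy b → a ≠ 0 → b ≠ 0 → a + b ≠ 0 →
      f (a + b) = f a + f b + c * (1 + hf a b) := fun a b ha hb a0 b0 ab =>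
    hA ⟨a, ha⟩ ⟨b, hb⟩ (fun e => a0 (congrArg Subtype.val e)) (fun e => b0 (congrArg Subtype.val e))
      (fun e => ab (congrArg Subtype.val e))
  have hS' : ∀ l : F, l ≠ 0 → ∀ y : Vn n F, Hy y → y ≠ 0 →
      f (l • y) + l ^ 2 * f y = c * (1 + l ^ 2) := fun l l0 y hy y0 =>
    hS l l0 ⟨y, hy⟩ (fun e => y0 (congrArg Subtype.val e))
  let g : Vn n F → F := fun y => if y = 0 then 0 else f y + c * (1 + q0 y)
  have g0 : g 0 = 0 := if_pos rfl
  have g1 : ∀ y, y ≠ 0 → g y = f y + c * (1 + q0 y) := fun y h => if_neg h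
  have gA : ∀ a b, Hy a → Hy b → g (a + b) = g a + g b := by
    intro a b ha hb
    by_cases a0 : a = 0
    · rw [a0, zero_add, g0, zero_add]
    by_cases b0 : b = 0
    · rw [b0, add_zero, g0, add_zero]
    by_cases ab : a + b = 0
    · obtain rfl : a = b := by rw [← add_zero a, ← ab, ← add_assoc, v_add_self, zero_add]
      rw [ab, g0, CharTwo.add_self_eq_zero]
    rw [g1 _ ab, g1 _ a0, g1 _ b0, hA' a b ha hb a0 b0 ab, FV.q0_add]
    linear_combination (c * hf a b) * two0 F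
  have gS : ∀ (l : F) y, Hy y → g (l • y) = l ^ 2 * g y := by
    intro l y hy
    by_cases l0 : l = 0
    · rw [l0, zero_smul, g0]; simp
    by_cases y0 : y = 0
    · rw [y0, smul_zero, g0, mul_zero]
    rw [g1 _ (smul_ne_zero l0 y0), g1 _ y0, FV.q0_smul]
    linear_combination hS' l l0 y hy y0 + (c - l ^ 2 * f y) * two0 F
  let L : Vn n F →ₗ[F] F :=
    { toFun := fun v => rt (g (pr v))
      map_add' := fun v w => sq_inj (by
        rw [rt_sq, pr_add, gA _ _ (pr_mem v) (pr_mem w), CharTwo.add_sq, rt_sq, rt_sq])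
      map_smul' := fun a v => sq_inj (by
        rw [rt_sq, pr_smul, gS _ _ (pr_mem v), RingHom.id_apply, smul_eq_mul, mul_pow, rt_sq]) }
  have hL : ∀ y, hf (fun i => L (ev i.rev)) y = L y := by
    intro y
    rw [hf_comm, hf]
    conv_rhs => rw [pi_eq_sum_univ' y]
    simp only [map_sum, map_smul, Fin.rev_rev, star_trivial, smul_eq_mul]
    rfl
  have h := la_ne (n := n) (F := F)
  have rt0 : rt (0 : F) = 0 := sq_inj (by rw [rt_sq]; simp)
  refine ⟨rt c, fun i => L (ev i.rev), ⟨?_, ?_⟩, fun y hy y0 => ?_⟩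
  · rw [hL]
    change rt (g (pr _)) = 0
    have : pr (ev 0 : Vn n F) = 0 := by
      simp [pr, hf_ev, rev_la, rev_zero', h.symm]
    rw [this, g0, rt0]
  · rw [hL]
    change rt (g (pr _)) = 0
    have : pr (ev (H67.SA.la n) : Vn n F) = 0 := by
      simp [pr, hf_ev, rev_la, rev_zero', h]
    rw [this, g0, rt0]
  · rw [hL]
    change _ = _ + rt (g (pr y)) ^ 2
    rw [rt_sq, rt_sq, pr_eq hy, g1 y y0]
    linear_combination -(c * (1 + q0 y)) * two0 F

end Conc

end H46.SPCF
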